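import Mathlib.RingTheory.Flat.FaithfullyFlat.Basic
import Mathlib.RingTheory.Flat.FaithfullyFlat.Algebra
import Mathlib.RingTheory.Flat.FaithfullyFlat.Descent

/-!
Faithfully flat descent of elements (team sga3-a): for `R → S` faithfully flat and an `R`-module `N`,
`0 → N → S ⊗ N → S ⊗ (S ⊗ N)` is exact.
-/

open TensorProduct

namespace Groth.Agent.Sga3A.FFDescent

universe u v w

variable {R : Type u} {S : Type v} [CommRing R] [CommRing S] [Algebra R S] [Module.FaithfullyFlat R S]

/-- if `1 ⊗ n` lies in the range of `S ⊗ f` then `n` lies in the range of `f` -/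
theorem mem_range_of_tmul_mem_range {N : Type w} {P : Type*} [AddCommGroup N] [Module R N]
    [AddCommGroup P] [Module R P] (f : N →ₗ[R] P) (p : P)
    (h : (1 : S) ⊗ₜ[R] p ∈ LinearMap.range (f.lTensor S)) : p ∈ LinearMap.range f := by
  obtain ⟨x, hx⟩ := h
  have h1 : (LinearMap.range f).mkQ p = 0 := by
    apply Module.FaithfullyFlat.tensorProduct_mk_injective (A := R) (B := S)
      (P ⧸ LinearMap.range f)
    rw [map_zero]
    change (1 : S) ⊗ₜ[R] (LinearMap.range f).mkQ p = 0
    have : (1 : S) ⊗ₜ[R] (LinearMap.range f).mkQ p =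
        (LinearMap.range f).mkQ.lTensor S ((1 : S) ⊗ₜ[R] p) := by simp
    rw [this, ← hx, ← LinearMap.comp_apply, ← LinearMap.lTensor_comp]
    simp [LinearMap.range_mkQ_comp]
  simpa using h1

/-- Faithfully flat descent of elements. -/
theorem exists_eq_one_tmul {N : Type w} [AddCommGroup N] [Module R N] (x : S ⊗[R] N)
    (h : (1 : S) ⊗ₜ[R] x = (TensorProduct.mk R S N 1).lTensor S x) :
    ∃ n : N, (1 : S) ⊗ₜ[R] n = x := by
  have : x ∈ LinearMap.range (TensorProduct.mk R S N 1) := by
    apply mem_range_of_tmul_mem_range (S := S)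
    rw [h]
    exact ⟨x, rfl⟩
  exact this

theorem one_tmul_injective (N : Type w) [AddCommGroup N] [Module R N] :
    Function.Injective (fun n : N => (1 : S) ⊗ₜ[R] n) :=
  Module.FaithfullyFlat.tensorProduct_mk_injective (A := R) (B := S) N

end Groth.Agent.Sga3A.FFDescent
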