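import Mathlib.RingTheory.Smooth.Flat
import Mathlib.RingTheory.Smooth.IntegralClosure
import Mathlib.RingTheory.Unramified.LocalStructure
import Mathlib.RingTheory.Etale.Field
import Mathlib.RingTheory.SimpleModule.Basic
import Mathlib.RingTheory.Polynomial.UniqueFactorization
import Mathlib.RingTheory.Spectrum.Prime.Topology

/-!
# Smooth algebras over a field are locally domains
-/

set_option autoImplicit false

open TensorProduct

namespace Groth.Agent.Sga3A.SmoothDomain

universe u v w

/-- In an étale algebra over a field, if `x * y = 0` then there is an idempotent `c` with `c * x = x`, `c * y = 0`. -/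
theorem exists_idempotent_of_etale_field (L : Type u) [Field L] (T : Type v) [CommRing T] [Algebra L T]
    [Algebra.Etale L T] (x y : T) (hxy : x * y = 0) :
    ∃ c : T, IsIdempotentElem c ∧ c * x = x ∧ c * y = 0 := by
  have hfin : Module.Finite L T := Algebra.FormallyUnramified.finite_of_free L T
  have hred : IsReduced T := Algebra.FormallyUnramified.isReduced_of_field L T
  have hart : IsArtinianRing T := isArtinian_of_tower L inferInstance
  have hss : IsSemisimpleRing T := IsArtinianRing.isSemisimpleRing_of_isReduced T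
  obtain ⟨c, hc, hcx⟩ := IsSemisimpleRing.ideal_eq_span_idempotent (Ideal.span {x})
  have h1 : x ∈ Ideal.span {c} := by
    rw [← hcx]; exact Ideal.subset_span rfl
  have h2 : c ∈ Ideal.span {x} := by
    rw [hcx]; exact Ideal.subset_span rfl
  rw [Ideal.mem_span_singleton'] at h1 h2
  obtain ⟨a, ha⟩ := h1
  obtain ⟨d, hd⟩ := h2
  refine ⟨c, hc, ?_, ?_⟩
  · rw [← ha]
    calc c * (a * c) = a * (c * c) := by ring
      _ = a * c := by rw [hc.eq]
  · rw [← hd, mul_assoc, hxy, mul_zero]

/-- Same statement over a normal domain. -/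
theorem exists_idempotent_of_etale_normal (P : Type u) [CommRing P] [IsDomain P] [IsIntegrallyClosed P]
    (S : Type v) [CommRing S] [Algebra P S] [Algebra.Etale P S] (x y : S) (hxy : x * y = 0) :
    ∃ c : S, IsIdempotentElem c ∧ c * x = x ∧ c * y = 0 := by
  let L := FractionRing P
  obtain ⟨c', hc', hcx', hcy'⟩ := exists_idempotent_of_etale_field L (L ⊗[P] S) (1 ⊗ₜ x) (1 ⊗ₜ y)
    (by rw [Algebra.TensorProduct.tmul_mul_tmul, hxy, TensorProduct.tmul_zero])
  let ε : L ⊗[P] S ≃ₐ[P] S ⊗[P] L := Algebra.TensorProduct.comm P L S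
  have hinj : Function.Injective (Algebra.TensorProduct.includeLeft : S →ₐ[S] S ⊗[P] L) :=
    Algebra.TensorProduct.includeLeft_injective (IsFractionRing.injective P L)
  have hint : IsIntegral S (ε c') := by
    refine ⟨Polynomial.X ^ 2 - Polynomial.X, Polynomial.monic_X_pow_sub (by
      exact lt_of_le_of_lt Polynomial.degree_X_le (by norm_num)), ?_⟩
    have : ε c' * ε c' = ε c' := by rw [← map_mul, hc'.eq]
    simp [pow_two, this]
  have hbij := (TensorProduct.toIntegralClosure_bijective_of_smooth (R := P) (S := S) (B := L))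
  obtain ⟨z, hz⟩ := hbij.2 ⟨ε c', hint⟩
  have hz' : ∀ z : S ⊗[P] integralClosure P L, ∃ s : S, (TensorProduct.toIntegralClosure P S L z : S ⊗[P] L) = s ⊗ₜ 1 := by
    intro z
    induction z with
    | zero => exact ⟨0, by simp⟩
    | add a b ha hb =>
      obtain ⟨s, hs⟩ := ha
      obtain ⟨t, ht⟩ := hb
      exact ⟨s + t, by rw [map_add, AddMemClass.coe_add, hs, ht, TensorProduct.add_tmul]⟩
    | tmul a b =>
      obtain ⟨b, hb⟩ := b
      have hb' := hb
      rw [IsIntegrallyClosed.integralClosure_eq_bot P L, Algebra.mem_bot] at hb'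
      obtain ⟨p, rfl⟩ := hb'
      refine ⟨p • a, ?_⟩
      rw [TensorProduct.smul_tmul, Algebra.smul_def, mul_one]
      rfl
  obtain ⟨s, hs⟩ := hz' z
  rw [hz] at hs
  change ε c' = s ⊗ₜ 1 at hs
  refine ⟨s, ?_, ?_, ?_⟩
  · apply hinj
    change (s * s) ⊗ₜ[P] (1 : L) = s ⊗ₜ 1
    rw [← hs, ← hc'.eq, map_mul, hs, Algebra.TensorProduct.tmul_mul_tmul, one_mul]
  · apply hinj
    change (s * x) ⊗ₜ[P] (1 : L) = x ⊗ₜ 1
    have := congrArg ε hcx'
    rw [map_mul, hs] at this
    simpa [ε] using this
  · apply hinj
    change (s * y) ⊗ₜ[P] (1 : L) = 0 ⊗ₜ 1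
    have := congrArg ε hcy'
    rw [map_mul, hs] at this
    simpa [ε] using this

/-- A smooth algebra over a field is locally a domain. -/
theorem smooth_field_locally_domain (k : Type u) [Field k] (B : Type v) [CommRing B] [Algebra k B]
    [Algebra.Smooth k B] (q : Ideal B) [q.IsPrime] (x y : B) (hxy : x * y = 0) :
    (∃ s : B, s ∉ q ∧ s * x = 0) ∨ (∃ s : B, s ∉ q ∧ s * y = 0) := by
  have : Algebra.IsSmoothAt k q := inferInstance
  obtain ⟨f, hf, n, _, htower, hstd⟩ := Algebra.IsSmoothAt.exists_isStandardEtale_mvPolynomial (R := k) (S := B) (p := q)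
  obtain ⟨c, hc, hcx, hcy⟩ := exists_idempotent_of_etale_normal (MvPolynomial (Fin n) k) (Localization.Away f)
    (algebraMap B _ x) (algebraMap B _ y) (by rw [← map_mul, hxy, map_zero])
  obtain ⟨m, b, hb⟩ := IsLocalization.Away.surj f c
  have key : ∀ z : B, algebraMap B (Localization.Away f) z = 0 → ∃ k : ℕ, f ^ k * z = 0 := by
    intro z hz
    rw [← map_zero (algebraMap B (Localization.Away f))] at hz
    obtain ⟨⟨_, k, rfl⟩, hk⟩ := (IsLocalization.eq_iff_exists (Submonoid.powers f) (Localization.Away f)).mp hz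
    exact ⟨k, by simpa using hk⟩
  have hfq : ∀ k : ℕ, f ^ k ∉ q := fun k h => hf (Ideal.IsPrime.mem_of_pow_mem ‹_› k h)
  by_cases hbq : b ∈ q
  · left
    obtain ⟨k, hk⟩ := key ((f ^ m - b) * x) (by
      rw [map_mul, map_sub, ← hb, map_pow]
      calc (algebraMap B (Localization.Away f) f ^ m - c * algebraMap B (Localization.Away f) f ^ m) *
            algebraMap B (Localization.Away f) x
          = algebraMap B (Localization.Away f) f ^ m * (algebraMap B (Localization.Away f) x - c * algebraMap B (Localization.Away f) x) := by ring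
        _ = 0 := by rw [hcx, sub_self, mul_zero])
    refine ⟨f ^ k * (f ^ m - b), ?_, by rw [mul_assoc, hk]⟩
    intro h
    rcases Ideal.IsPrime.mem_or_mem ‹_› h with h | h
    · exact hfq k h
    · apply hfq m
      have := q.add_mem h hbq
      rwa [sub_add_cancel] at this
  · right
    obtain ⟨k, hk⟩ := key (b * y) (by
      rw [map_mul, ← hb]
      calc c * algebraMap B (Localization.Away f) f ^ m * algebraMap B (Localization.Away f) y
          = algebraMap B (Localization.Away f) f ^ m * (c * algebraMap B (Localization.Away f) y) := by ring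
        _ = 0 := by rw [hcy, mul_zero])
    refine ⟨f ^ k * b, ?_, by rw [mul_assoc, hk]⟩
    intro h
    rcases Ideal.IsPrime.mem_or_mem ‹_› h with h | h
    · exact hfq k h
    · exact hbq h

/-- Over a field, in a smooth algebra with connected spectrum: an element not vanishing at some point is a
nonzerodivisor. -/
theorem nonzerodivisor_of_connected (k : Type u) [Field k] (B : Type v) [CommRing B] [Algebra k B]
    [Algebra.Smooth k B] (hconn : ConnectedSpace (PrimeSpectrum B)) (b : B) (hb : ¬ IsNilpotent b)
    (y : B) (hy : b * y = 0) : y = 0 := by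
  have hN : IsNoetherianRing B := Algebra.FiniteType.isNoetherianRing k B
  let I : Ideal B := Submodule.annihilator (Ideal.span {b})
  let I' : Ideal B := Submodule.annihilator I
  have hI : ∀ x, x ∈ I ↔ x * b = 0 := by
    intro x
    simp only [I]
    rw [Submodule.mem_annihilator_span_singleton]
    rfl
  have hI' : ∀ x, x ∈ I' ↔ ∀ z ∈ I, x * z = 0 := by
    intro x
    simp only [I']
    rw [Submodule.mem_annihilator]
    rfl
  have htop : I ⊔ I' = ⊤ := by
    by_contra hne
    obtain ⟨q, hq, hle⟩ := Ideal.exists_le_maximal _ hne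
    have hqp := hq.isPrime
    have hIq : I ≤ q := le_sup_left.trans hle
    have hI'q : I' ≤ q := le_sup_right.trans hle
    -- every element of I is killed by something outside q
    have h1 : ∀ z ∈ I, ∃ s : B, s ∉ q ∧ s * z = 0 := by
      intro z hz
      rcases smooth_field_locally_domain k B q z b ((hI z).mp hz) with h | ⟨s, hs, hsb⟩
      · exact h
      · exact absurd (hIq ((hI s).mpr hsb)) hs
    have h2 : ∃ s : B, s ∉ q ∧ ∀ z ∈ I, s * z = 0 := by
      obtain ⟨S, hS⟩ := (IsNoetherian.noetherian I : I.FG)
      choose! g hg using h1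
      refine ⟨∏ z ∈ S, g z, ?_, ?_⟩
      · intro h
        obtain ⟨z, hz, hz'⟩ := (Ideal.IsPrime.prod_mem_iff (p := q)).mp h
        exact (hg z (by rw [← hS]; exact Ideal.subset_span hz)).1 hz'
      · intro z hz
        rw [← hS] at hz
        refine Submodule.span_induction (p := fun z _ => (∏ z ∈ S, g z) * z = 0) ?_ ?_ ?_ ?_ hz
        · intro w hw
          obtain ⟨t, ht⟩ := Finset.dvd_prod_of_mem g hw
          rw [ht, mul_assoc, mul_comm t, ← mul_assoc, (hg w (by rw [← hS]; exact Ideal.subset_span hw)).2, zero_mul]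
        · simp
        · intro a c _ _ ha hc
          rw [mul_add, ha, hc, add_zero]
        · intro a c _ hc
          rw [smul_eq_mul, mul_left_comm, hc, mul_zero]
    obtain ⟨s, hs, hsI⟩ := h2
    exact hs (hI'q ((hI' s).mpr hsI))
  obtain ⟨s, hs, t, ht, hst⟩ := Submodule.mem_sup.mp ((Ideal.eq_top_iff_one _).mp htop)
  have hts : t * s = 0 := (hI' t).mp ht s hs
  have hid : IsIdempotentElem s := by
    have : s * s = s * (s + t) := by rw [mul_add, mul_comm s t, hts, add_zero]
    rw [IsIdempotentElem, this, hst, mul_one]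
  have hs01 : s = 0 ∨ s = 1 := by
    have hclopen : IsClopen ((PrimeSpectrum.basicOpen s : TopologicalSpace.Opens (PrimeSpectrum B)) : Set (PrimeSpectrum B)) :=
      PrimeSpectrum.isClopen_basicOpen_of_mul_add s t (by rw [mul_comm, hts]) hst
    rcases isClopen_iff.mp hclopen with h | h
    · left
      refine PrimeSpectrum.basicOpen_injOn_isIdempotentElem hid IsIdempotentElem.zero ?_
      apply TopologicalSpace.Opens.ext
      rw [h]
      simp
    · right
      refine PrimeSpectrum.basicOpen_injOn_isIdempotentElem hid IsIdempotentElem.one ?_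
      apply TopologicalSpace.Opens.ext
      rw [h]
      simp
  rcases hs01 with h | h
  · rw [h, zero_add] at hst
    have := (hI' t).mp ht y ((hI y).mpr (by rw [mul_comm, hy]))
    rwa [hst, one_mul] at this
  · exfalso
    have := (hI s).mp hs
    rw [h, one_mul] at this
    exact hb (by rw [this]; exact IsNilpotent.zero)

end Groth.Agent.Sga3A.SmoothDomain
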