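import Mathlib.GroupTheory.Coxeter.Basic
import Mathlib.GroupTheory.OrderOfElement

/-!
# Words in involutions, the exchange condition and Matsumoto's theorem (abstract form)

`σ : B → W` a family of involutions in a group satisfying an exchange condition.  We show that words in `B`
which are reduced for `σ` and have the same `σ`-value have the same value for any other family of involutions
`τ : B → G` with `(τ i * τ j) ^ orderOf (σ i * σ j) = 1`, and we deduce the Coxeter presentation.
-/

namespace Groth.Agent.Sga3A.WordExchange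

variable {B : Type*} {W G : Type*} [Group W] [Group G]

/-- The product of a word. -/
def wp (σ : B → W) (ω : List B) : W := (ω.map σ).prod

@[simp] theorem wp_nil (σ : B → W) : wp σ [] = 1 := rfl

@[simp] theorem wp_cons (σ : B → W) (i : B) (ω : List B) : wp σ (i :: ω) = σ i * wp σ ω := by
  simp [wp]

@[simp] theorem wp_append (σ : B → W) (ω ω' : List B) : wp σ (ω ++ ω') = wp σ ω * wp σ ω' := by
  simp [wp]

theorem map_wp (σ : B → W) (f : W →* G) (ω : List B) : f (wp σ ω) = wp (fun i => f (σ i)) ω := by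
  induction ω with
  | nil => simp
  | cons i ω ih => simp [ih]

/-- A word is reduced if it is of minimal length among the words with the same product. -/
def Red (σ : B → W) (ω : List B) : Prop := ∀ ω', wp σ ω' = wp σ ω → ω.length ≤ ω'.length

theorem Red.of_length_eq {σ : B → W} {ω ω' : List B} (h : Red σ ω) (hl : ω'.length = ω.length)
    (hv : wp σ ω' = wp σ ω) : Red σ ω' := by
  intro υ hυ
  rw [hl]
  exact h υ (hυ.trans hv)

theorem Red.tail {σ : B → W} {i : B} {ω : List B} (h : Red σ (i :: ω)) : Red σ ω := by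
  intro υ hυ
  have := h (i :: υ) (by simp [hυ])
  simpa using this

theorem Red.init {σ : B → W} {j : B} {ω : List B} (h : Red σ (ω ++ [j])) : Red σ ω := by
  intro υ hυ
  have := h (υ ++ [j]) (by simp [hυ])
  simpa using this

/-- The alternating word `... x y x y` of length `n`, ending in `y`. -/
def alt (x y : B) : ℕ → List B
  | 0 => []
  | n + 1 => alt y x n ++ [y]

@[simp] theorem length_alt (x y : B) (n : ℕ) : (alt x y n).length = n := by
  induction n generalizing x y with
  | zero => rfl
  | succ n ih => simp [alt, ih]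

theorem wp_alt_two (σ : B → W) (x y : B) (n : ℕ) :
    wp σ (alt x y (n + 2)) = wp σ (alt x y n) * (σ x * σ y) := by
  simp [alt]

theorem wp_alt_even (σ : B → W) (x y : B) (k : ℕ) :
    wp σ (alt x y (2 * k)) = (σ x * σ y) ^ k := by
  induction k with
  | zero => simp [alt]
  | succ k ih =>
    rw [show 2 * (k + 1) = 2 * k + 2 by ring, wp_alt_two, ih, pow_succ]

theorem wp_alt_odd (σ : B → W) (x y : B) (k : ℕ) :
    wp σ (alt x y (2 * k + 1)) = σ y * (σ x * σ y) ^ k := by
  induction k with
  | zero => simp [alt]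
  | succ k ih =>
    rw [show 2 * (k + 1) + 1 = (2 * k + 1) + 2 by ring, wp_alt_two, ih, pow_succ, mul_assoc]

theorem inv_of_sq {σ : B → W} (hσ : ∀ i, σ i * σ i = 1) (i : B) : (σ i)⁻¹ = σ i :=
  inv_eq_of_mul_eq_one_left (hσ i)

theorem wp_reverse {σ : B → W} (hσ : ∀ i, σ i * σ i = 1) (ω : List B) :
    wp σ ω.reverse = (wp σ ω)⁻¹ := by
  induction ω with
  | nil => simp
  | cons j ω ih => simp [ih, inv_of_sq hσ]

theorem wp_alt_eq_iff {σ : B → W} (hσ : ∀ i, σ i * σ i = 1) (x y : B) (n : ℕ) :
    wp σ (alt x y n) = wp σ (alt y x n) ↔ (σ x * σ y) ^ n = 1 := by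
  have hinv : σ y * σ x = (σ x * σ y)⁻¹ := by
    rw [mul_inv_rev, inv_of_sq hσ, inv_of_sq hσ]
  rcases Nat.even_or_odd' n with ⟨k, rfl | rfl⟩
  · rw [wp_alt_even, wp_alt_even, hinv, inv_pow, eq_inv_iff_mul_eq_one, ← pow_add, two_mul]
  · rw [wp_alt_odd, wp_alt_odd, hinv, inv_pow]
    constructor
    · intro h
      have h2 : σ x * (σ y * (σ x * σ y) ^ k) = ((σ x * σ y) ^ k)⁻¹ := by
        rw [h, ← mul_assoc, hσ, one_mul]
      rw [← mul_assoc, eq_inv_iff_mul_eq_one, mul_assoc, ← pow_add, ← pow_succ'] at h2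
      rw [show 2 * k + 1 = k + k + 1 by ring]
      exact h2
    · intro h
      rw [show 2 * k + 1 = k + k + 1 by ring, pow_succ', pow_add, ← mul_assoc, ← eq_inv_iff_mul_eq_one,
        mul_assoc] at h
      rw [← h, ← mul_assoc (σ x), hσ, one_mul]

/-- The (right) exchange condition for a family of involutions, in a symmetric form. -/
def Exch (σ : B → W) : Prop := ∀ (ω : List B) (j : B),
  (∃ i < ω.length, wp σ ω * σ j = wp σ (ω.eraseIdx i)) ∨
  ∀ ω' : List B, wp σ ω' = wp σ ω * σ j → ∃ i < ω'.length, wp σ ω' * σ j = wp σ (ω'.eraseIdx i)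

theorem exch_of_red {σ : B → W} (hσ : ∀ i, σ i * σ i = 1) (hEx : Exch σ) {ω υ : List B} {j : B}
    (hω : Red σ ω) (hυ : wp σ ω = wp σ (υ ++ [j])) (hl : ω.length = υ.length + 1) :
    ∃ i < ω.length, wp σ ω * σ j = wp σ (ω.eraseIdx i) := by
  rcases hEx ω j with h | h
  · exact h
  · exfalso
    have h1 : wp σ υ = wp σ ω * σ j := by
      rw [hυ]; simp [mul_assoc, hσ]
    obtain ⟨i, hi, hi'⟩ := h υ h1
    rw [h1, mul_assoc, hσ, mul_one] at hi'
    have := hω _ hi'.symm
    rw [List.length_eraseIdx_of_lt hi] at this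
    omega

section Matsumoto

variable {σ : B → W} {τ : B → G}

/-- One step in the proof of Matsumoto's theorem. -/
theorem step (hσ : ∀ i, σ i * σ i = 1) (hEx : Exch σ) {q : ℕ}
    (IH : ∀ ω ω' : List B, ω.length = q → ω'.length = q → Red σ ω → Red σ ω' → wp σ ω = wp σ ω' →
      wp τ ω = wp τ ω')
    {c x : B} {ω υ : List B} (hω : Red σ (c :: ω)) (hυ : Red σ (υ ++ [x])) (hl : ω.length = q)
    (hl' : υ.length = q)
    (hv : wp σ (c :: ω) = wp σ (υ ++ [x])) (hne : wp τ (c :: ω) ≠ wp τ (υ ++ [x])) :
    wp σ (ω ++ [x]) = wp σ (c :: ω) ∧ Red σ (ω ++ [x]) ∧ wp τ (ω ++ [x]) ≠ wp τ (c :: ω) := by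
  obtain ⟨i, hi, hi'⟩ := exch_of_red hσ hEx hω hv (by simp [hl, hl'])
  set u := (c :: ω).eraseIdx i with hu
  have hulen : u.length = q := by
    rw [hu, List.length_eraseIdx_of_lt hi]; simp [hl]
  have hval : wp σ (u ++ [x]) = wp σ (c :: ω) := by
    rw [wp_append, ← hi']; simp [mul_assoc, hσ]
  have hred : Red σ (u ++ [x]) := hω.of_length_eq (by simp [hulen, hl]) hval
  have hτ : wp τ (u ++ [x]) = wp τ (υ ++ [x]) := by
    rw [wp_append, wp_append, IH u υ hulen hl' hred.init hυ.init]
    have := hval.trans hv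
    simpa using this
  rcases i with _ | i
  · have hu' : u = ω := by rw [hu]; rfl
    rw [hu'] at hval hred hτ
    exact ⟨hval, hred, by rw [hτ]; exact hne.symm⟩
  · exfalso
    have hu' : u = c :: ω.eraseIdx i := by rw [hu]; rfl
    apply hne
    rw [← hτ, hu', List.cons_append, wp_cons, wp_cons]
    congr 1
    rw [hu', List.cons_append] at hred hval
    refine (IH (ω.eraseIdx i ++ [x]) ω ?_ hl hred.tail hω.tail ?_).symm
    · have : u.length = (ω.eraseIdx i).length + 1 := by rw [hu']; simp
      simp; omega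
    · simpa using hval

theorem matsumoto (hσ : ∀ i, σ i * σ i = 1) (hτ : ∀ i, τ i * τ i = 1) (hEx : Exch σ)
    (hrel : ∀ i j, (τ i * τ j) ^ orderOf (σ i * σ j) = 1) :
    ∀ (q : ℕ) (ω ω' : List B), ω.length = q → ω'.length = q → Red σ ω → Red σ ω' → wp σ ω = wp σ ω' →
      wp τ ω = wp τ ω' := by
  intro q
  induction q with
  | zero =>
    intro ω ω' h h' _ _ _
    rw [List.length_eq_zero_iff] at h h'
    rw [h, h']
  | succ q IH =>
    intro ω ω' hl hl' hr hr' hv
    by_contra hne
    -- Invariant: after `n` steps, there is a pair of words `(υ ++ [x], u ++ alt x y (n+1))`.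
    have key : ∀ n ≤ q, ∃ (x y : B) (υ u : List B), Red σ (υ ++ [x]) ∧ Red σ (u ++ alt x y (n + 1)) ∧
        wp σ (u ++ alt x y (n + 1)) = wp σ (υ ++ [x]) ∧ (υ ++ [x]).length = q + 1 ∧
        (u ++ alt x y (n + 1)).length = q + 1 ∧
        wp τ (u ++ alt x y (n + 1)) ≠ wp τ (υ ++ [x]) := by
      intro n hn
      induction n with
      | zero =>
        have h1 : ω ≠ [] := by rintro rfl; simp at hl
        have h2 : ω' ≠ [] := by rintro rfl; simp at hl'
        refine ⟨ω'.getLast h2, ω.getLast h1, ω'.dropLast, ω.dropLast, ?_⟩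
        simp only [alt, List.nil_append, List.dropLast_append_getLast]
        exact ⟨hr', hr, hv, hl', hl, hne⟩
      | succ n ih =>
        obtain ⟨x, y, υ, u, h1, h2, h3, h4, h5, h6⟩ := ih (by omega)
        rcases u with _ | ⟨c, u⟩
        · exfalso
          simp at h5
          omega
        · rw [List.cons_append] at h2 h3 h5 h6
          have hs := step (q := q) (τ := τ) hσ hEx IH h2 h1 (by simpa using h5) (by simpa using h4) h3 h6
          -- new pair: old first word `c :: u ++ alt x y (n+1)`, new word `u ++ alt x y (n+1) ++ [x]`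
          refine ⟨y, x, c :: u ++ alt y x n, u, ?_, ?_, ?_, ?_, ?_, ?_⟩
          · have : c :: u ++ alt y x n ++ [y] = c :: (u ++ alt x y (n + 1)) := by simp [alt]
            rw [this]; exact h2
          · have : u ++ alt y x (n + 1 + 1) = u ++ alt x y (n + 1) ++ [x] := by simp [alt]
            rw [this]; exact hs.2.1
          · have e1 : c :: u ++ alt y x n ++ [y] = c :: (u ++ alt x y (n + 1)) := by simp [alt]
            have e2 : u ++ alt y x (n + 1 + 1) = u ++ alt x y (n + 1) ++ [x] := by simp [alt]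
            rw [e1, e2]; exact hs.1
          · have e1 : c :: u ++ alt y x n ++ [y] = c :: (u ++ alt x y (n + 1)) := by simp [alt]
            rw [e1]; exact h5
          · have e2 : u ++ alt y x (n + 1 + 1) = u ++ alt x y (n + 1) ++ [x] := by simp [alt]
            rw [e2]; simp at h5 ⊢; omega
          · have e1 : c :: u ++ alt y x n ++ [y] = c :: (u ++ alt x y (n + 1)) := by simp [alt]
            have e2 : u ++ alt y x (n + 1 + 1) = u ++ alt x y (n + 1) ++ [x] := by simp [alt]
            rw [e1, e2]; exact hs.2.2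
    obtain ⟨x, y, υ, u, h1, h2, h3, h4, h5, h6⟩ := key q le_rfl
    have hu : u = [] := by
      rw [List.length_append, length_alt] at h5
      rw [← List.length_eq_zero_iff]
      omega
    subst hu
    rw [List.nil_append] at h2 h3 h5 h6
    -- one more step
    obtain ⟨c, a, hca⟩ : ∃ c a, alt x y (q + 1) = c :: a := by
      rcases h : alt x y (q + 1) with _ | ⟨c, a⟩
      · rw [h] at h5; simp at h5
      · exact ⟨c, a, rfl⟩
    have hax : a ++ [x] = alt y x (q + 1) := by
      have : ∀ (n : ℕ) (x y c : B) (a : List B), alt x y (n + 1) = c :: a → a = alt x y n := by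
        intro n
        induction n with
        | zero => intro x y c a h; simp [alt] at h; rw [h.2]; rfl
        | succ n ih =>
          intro x y c a h
          rw [alt] at h
          rcases h' : alt y x (n + 1) with _ | ⟨c', a'⟩
          · have := length_alt y x (n + 1); rw [h'] at this; simp at this
          · rw [h', List.cons_append, List.cons.injEq] at h
            rw [← h.2, ih y x c' a' h']
            rfl
      rw [this q x y c a hca]
      rfl
    rw [hca] at h2 h3 h5 h6
    have hs := step (q := q) (τ := τ) hσ hEx IH h2 h1 (by simpa using h5) (by simpa using h4) h3 h6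
    rw [hax, ← hca] at hs
    apply hs.2.2
    have hpow : (σ y * σ x) ^ (q + 1) = 1 := (wp_alt_eq_iff hσ y x (q + 1)).1 hs.1
    rw [wp_alt_eq_iff hτ]
    obtain ⟨k, hk⟩ := orderOf_dvd_of_pow_eq_one hpow
    rw [hk, pow_mul, hrel, one_pow]

/-- Every word can be replaced by a reduced word with the same `σ`-value and the same `τ`-value. -/
theorem exists_red (hσ : ∀ i, σ i * σ i = 1) (hτ : ∀ i, τ i * τ i = 1) (hEx : Exch σ)
    (hrel : ∀ i j, (τ i * τ j) ^ orderOf (σ i * σ j) = 1) (ω : List B) :
    ∃ ω', Red σ ω' ∧ wp σ ω' = wp σ ω ∧ wp τ ω' = wp τ ω := by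
  induction ω using List.reverseRecOn with
  | nil => exact ⟨[], fun _ _ => by simp, rfl, rfl⟩
  | append_singleton v j ih =>
    obtain ⟨v', hr, hv, hv'⟩ := ih
    rcases hEx v' j with ⟨i, hi, hi'⟩ | h
    · set u := v'.eraseIdx i with hu
      have hul : u.length + 1 = v'.length := by
        rw [hu, List.length_eraseIdx_of_lt hi]; omega
      have hval : wp σ (u ++ [j]) = wp σ v' := by
        rw [wp_append, ← hi']; simp [mul_assoc, hσ]
      have hred : Red σ (u ++ [j]) := hr.of_length_eq (by simp [hul]) hval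
      have hτv : wp τ (u ++ [j]) = wp τ v' :=
        matsumoto hσ hτ hEx hrel v'.length _ _ (by simp [hul]) rfl hred hr hval
      refine ⟨u, hred.init, ?_, ?_⟩
      · rw [← hi', hv]; simp
      · have : wp τ u = wp τ (u ++ [j]) * τ j := by simp [mul_assoc, hτ]
        rw [this, hτv, hv']; simp
    · refine ⟨v' ++ [j], ?_, by simp [hv], by simp [hv']⟩
      intro ω' hω'
      obtain ⟨i, hi, hi'⟩ := h ω' (by simpa using hω')
      have h2 : wp σ (ω'.eraseIdx i) = wp σ v' := by
        rw [← hi', hω']; simp [mul_assoc, hσ]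
      have h3 := hr _ h2
      rw [List.length_eraseIdx_of_lt hi] at h3
      simp
      omega

theorem wp_eq_one (hσ : ∀ i, σ i * σ i = 1) (hτ : ∀ i, τ i * τ i = 1) (hEx : Exch σ)
    (hrel : ∀ i j, (τ i * τ j) ^ orderOf (σ i * σ j) = 1) (ω : List B) (h : wp σ ω = 1) :
    wp τ ω = 1 := by
  obtain ⟨ω', h1, h2, h3⟩ := exists_red hσ hτ hEx hrel ω
  have : ω'.length ≤ ([] : List B).length := h1 [] (by rw [h2, h]; rfl)
  have h4 : ω' = [] := by simpa using this
  rw [← h3, h4]; rfl

end Matsumoto

/-- The Coxeter matrix of orders of products. -/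
noncomputable def coxMatrix (σ : B → W) (hσ : ∀ i, σ i * σ i = 1) (hinj : Function.Injective σ) : CoxeterMatrix B where
  M := Matrix.of fun i j => orderOf (σ i * σ j)
  isSymm := by
    ext i j
    simp only [Matrix.transpose_apply, Matrix.of_apply]
    rw [← orderOf_inv, mul_inv_rev, inv_of_sq hσ, inv_of_sq hσ]
  diagonal i := by simp [hσ]
  off_diagonal i j hij := by
    simp only [Matrix.of_apply, ne_eq, orderOf_eq_one_iff]
    intro h
    apply hij
    apply hinj
    rw [mul_eq_one_iff_eq_inv, inv_of_sq hσ] at h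
    exact h

theorem exists_coxeterSystem (σ : B → W) (hσ : ∀ i, σ i * σ i = 1) (hinj : Function.Injective σ)
    (hEx : Exch σ) (hgen : Subgroup.closure (Set.range σ) = ⊤) :
    ∃ cs : CoxeterSystem (coxMatrix σ hσ hinj) W, ∀ i, cs.simple i = σ i := by
  set C := coxMatrix σ hσ hinj
  let cs₀ := C.toCoxeterSystem
  have hlift : C.IsLiftable σ := by
    intro i j
    exact pow_orderOf_eq_one (σ i * σ j)
  let φ : C.Group →* W := cs₀.lift ⟨σ, hlift⟩
  have hφ : ∀ i, φ (cs₀.simple i) = σ i := fun i => cs₀.lift_apply_simple hlift i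
  have hτ : ∀ i, cs₀.simple i * cs₀.simple i = 1 := cs₀.simple_mul_simple_self
  have hφw : ∀ ω : List B, φ (wp cs₀.simple ω) = wp σ ω := by
    intro ω
    rw [map_wp]
    simp [hφ]
  have hinjφ : Function.Injective φ := by
    rw [injective_iff_map_eq_one]
    intro g hg
    obtain ⟨ω, rfl⟩ := cs₀.wordProd_surjective g
    have e : cs₀.wordProd ω = wp cs₀.simple ω := rfl
    rw [e] at hg ⊢
    rw [hφw] at hg
    exact wp_eq_one hσ hτ hEx (fun i j => cs₀.simple_mul_simple_pow i j) ω hg
  have hsurj : Function.Surjective φ := by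
    rw [← MonoidHom.range_eq_top, eq_top_iff, ← hgen, Subgroup.closure_le]
    rintro _ ⟨i, rfl⟩
    exact ⟨cs₀.simple i, hφ i⟩
  let e : C.Group ≃* W := MulEquiv.ofBijective φ ⟨hinjφ, hsurj⟩
  refine ⟨cs₀.map e, fun i => ?_⟩
  rw [CoxeterSystem.map_simple]
  exact hφ i

end Groth.Agent.Sga3A.WordExchange
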