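import Mathlib.LinearAlgebra.RootSystem.Base
import Mathlib.LinearAlgebra.RootSystem.WeylGroup
import Mathlib.LinearAlgebra.RootSystem.Hom
import Mathlib.LinearAlgebra.RootSystem.Reduced
import Groth.Agent.Sga3A.WordExchange

/-!
# The Weyl group of a finite reduced crystallographic root pairing with a base

Generation by simple reflections, exchange condition, action on positive roots, transitivity on bases.
-/

set_option autoImplicit false

open RootPairing Groth.Agent.Sga3A.WordExchange

namespace Groth.Agent.Sga3A.Weyl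

section Basic

variable {ι R M N : Type*} [CommRing R] [AddCommGroup M] [Module R M]
    [AddCommGroup N] [Module R N] (P : RootPairing ι R M N)

theorem root_smul (g : P.Aut) (i : ι) : P.root (g • i) = g • P.root i :=
  Equiv.root_indexEquiv_eq_smul P i g

theorem reflection_smul_idx (j i : ι) : Equiv.reflection P j • i = P.reflectionPerm j i := rfl

theorem reflection_mul_self (j : ι) : Equiv.reflection P j * Equiv.reflection P j = 1 := by
  rw [mul_eq_one_iff_eq_inv, Equiv.reflection_inv]

theorem smul_toLin (g : P.Aut) (m : M) (i : ι) :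
    P.toLinearMap (g • m) (P.coroot (g • i)) = P.toLinearMap m (P.coroot i) := by
  have h1 := LinearMap.congr_fun (Hom.weight_coweight_transpose_apply P P (P.coroot (g • i)) g.toHom) m
  have h2 : g.toHom.coweightMap (P.coroot (g • i)) = P.coroot i := by
    have := congr_fun g.coroot_coweightMap (g • i)
    simp only [Function.comp_apply] at this
    rw [this]
    congr 1
    exact g.indexEquiv.symm_apply_apply i
  rw [h2] at h1
  exact h1

theorem conj_reflection (g : P.Aut) (i : ι) :
    g * Equiv.reflection P i * g⁻¹ = Equiv.reflection P (g • i) := by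
  apply Equiv.weightHom_injective P
  ext m
  change g • (Equiv.reflection P i • (g⁻¹ • m)) = Equiv.reflection P (g • i) • m
  rw [Equiv.reflection_smul, Equiv.reflection_smul, reflection_apply, reflection_apply, smul_sub,
    smul_inv_smul, smul_comm, ← root_smul]
  congr 2
  have := smul_toLin P g (g⁻¹ • m) i
  rw [smul_inv_smul] at this
  exact this.symm

theorem mul_reflection (g : P.Aut) (i : ι) :
    g * Equiv.reflection P i = Equiv.reflection P (g • i) * g := by
  rw [← conj_reflection]; group

theorem smul_neg_idx (g : P.Aut) (i : ι) :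
    g • (P.reflectionPerm i i) = P.reflectionPerm (g • i) (g • i) := by
  apply P.root.injective
  rw [root_smul, root_reflectionPerm, root_reflectionPerm, reflection_apply_self, reflection_apply_self,
    root_smul, smul_neg]

end Basic

section Base

variable {ι R M N : Type*} [CommRing R] [CharZero R] [AddCommGroup M] [Module R M]
    [AddCommGroup N] [Module R N] {P : RootPairing ι R M N} (b : P.Base)

theorem not_isPos_neg_iff (i : ι) : ¬ b.IsPos (P.reflectionPerm i i) ↔ b.IsPos i := by
  have := Base.IsPos.neg_iff_not b i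
  have h : b.IsPos (P.reflectionPerm i i) ↔ ¬ b.IsPos i := this
  tauto

theorem isPos_neg_iff (i : ι) : b.IsPos (P.reflectionPerm i i) ↔ ¬ b.IsPos i := by
  have := not_isPos_neg_iff b i
  tauto

theorem height_comb {i j k : ι} {x y : ℤ} (hk : P.root k = x • P.root i + y • P.root j) :
    b.height k = x * b.height i + y * b.height j := by
  obtain ⟨f, -, -, hf⟩ := b.exists_root_eq_sum_int i
  obtain ⟨g, -, -, hg⟩ := b.exists_root_eq_sum_int j
  have hfg : P.root k = ∑ l ∈ b.support, (x * f l + y * g l) • P.root l := by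
    simp_rw [add_smul, mul_smul, Finset.sum_add_distrib, ← Finset.smul_sum, ← hf, ← hg, hk]
  rw [Base.height_eq_sum hf, Base.height_eq_sum hg, Base.height_eq_sum hfg, Finset.sum_add_distrib,
    Finset.mul_sum, Finset.mul_sum]

variable [Finite ι] [IsDomain R] [P.IsCrystallographic]

/-- The simple roots are the indecomposable positive roots. -/
theorem mem_support_iff (i : ι) : i ∈ b.support ↔
    b.IsPos i ∧ ¬ ∃ j k, b.IsPos j ∧ b.IsPos k ∧ P.root i = P.root j + P.root k := by
  constructor
  · intro hi
    refine ⟨b.isPos_of_mem_support hi, ?_⟩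
    rintro ⟨j, k, hj, hk, h⟩
    have h1 := b.height_add h
    rw [Base.height_one_of_mem_support hi] at h1
    rw [Base.isPos_iff] at hj hk
    omega
  · rintro ⟨hi, h⟩
    have : b.IsPos i ∧ (i ∈ b.support ∨ ∃ j k, b.IsPos j ∧ b.IsPos k ∧ P.root i = P.root j + P.root k) := by
      refine hi.induction_on_add (p := fun i => b.IsPos i ∧ (i ∈ b.support ∨ ∃ j k, b.IsPos j ∧ b.IsPos k ∧
        P.root i = P.root j + P.root k)) ?_ ?_
      · intro i hi
        exact ⟨b.isPos_of_mem_support hi, Or.inl hi⟩
      · rintro i j k hk ⟨hi, -⟩ hj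
        have hj' := b.isPos_of_mem_support hj
        exact ⟨hi.add hj' hk, Or.inr ⟨i, j, hi, hj', hk⟩⟩
    exact this.2.resolve_right h

/-- If `g` maps the simple roots of `b` to positive roots for `b'`, it maps positive roots to positive roots. -/
theorem isPos_smul_of_simple (b' : P.Base) (g : P.Aut) (h : ∀ j ∈ b.support, b'.IsPos (g • j)) {i : ι}
    (hi : b.IsPos i) : b'.IsPos (g • i) := by
  refine hi.induction_on_add (p := fun i => b'.IsPos (g • i)) h ?_
  intro i j k hk hi hj
  refine hi.add (h j hj) ?_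
  rw [root_smul, hk, smul_add, ← root_smul, ← root_smul]

theorem isPos_smul_iff (b' : P.Base) (g : P.Aut) (h : ∀ i, b.IsPos i → b'.IsPos (g • i)) (i : ι) :
    b'.IsPos (g • i) ↔ b.IsPos i := by
  constructor
  · intro hi
    by_contra hn
    have h1 := h _ ((isPos_neg_iff b i).2 hn)
    rw [smul_neg_idx, isPos_neg_iff] at h1
    exact h1 hi
  · exact h i

/-- If `g` maps positive roots for `b` to positive roots for `b'` it maps simple roots onto simple roots. -/
theorem image_support (b' : P.Base) (g : P.Aut) (h : ∀ i, b.IsPos i → b'.IsPos (g • i)) (i : ι) :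
    g • i ∈ b'.support ↔ i ∈ b.support := by
  have h0 := isPos_smul_iff b b' g h
  rw [mem_support_iff, mem_support_iff, h0]
  refine and_congr_right fun _ => not_congr ?_
  constructor
  · rintro ⟨j, k, hj, hk, e⟩
    refine ⟨g⁻¹ • j, g⁻¹ • k, ?_, ?_, ?_⟩
    · rw [← h0, smul_inv_smul]; exact hj
    · rw [← h0, smul_inv_smul]; exact hk
    · rw [root_smul, root_smul, ← smul_add, ← e, root_smul, inv_smul_smul]
  · rintro ⟨j, k, hj, hk, e⟩
    refine ⟨g • j, g • k, (h0 j).2 hj, (h0 k).2 hk, ?_⟩
    rw [root_smul, root_smul, root_smul, e, smul_add]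

end Base

section Reduced

variable {ι R M N : Type*} [CommRing R] [CharZero R] [IsDomain R] [AddCommGroup M] [Module R M]
    [AddCommGroup N] [Module R N] {P : RootPairing ι R M N} [Finite ι] [P.IsCrystallographic] [P.IsReduced]
    (b : P.Base)

theorem reflectionPerm_ne_self_of_isPos {i j : ι} (hi : b.IsPos i) (hj : b.IsPos j) :
    P.reflectionPerm j i ≠ j := by
  intro h
  have h1 : i = P.reflectionPerm j j := by
    have := P.reflectionPerm_involutive j i
    rw [h] at this
    exact this.symm
  rw [h1, isPos_neg_iff] at hi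
  exact hi hj

/-- Every root is conjugate to a simple root under the group generated by the simple reflections. -/
theorem exists_conj_simple (i : ι) :
    ∃ g ∈ Subgroup.closure ((fun i : ι => Equiv.reflection P i) '' (b.support : Set ι)),
      ∃ j ∈ b.support, g • j = i := by
  set H := Subgroup.closure ((fun i : ι => Equiv.reflection P i) '' (b.support : Set ι)) with hH
  have hmem : ∀ j ∈ b.support, Equiv.reflection P j ∈ H := fun j hj =>
    Subgroup.subset_closure ⟨j, hj, rfl⟩
  refine b.induction_reflect i (p := fun i => ∃ g ∈ H, ∃ j ∈ b.support, g • j = i) ?_ ?_ ?_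
  · rintro i ⟨g, hg, j, hj, rfl⟩
    refine ⟨g * Equiv.reflection P j, H.mul_mem hg (hmem j hj), j, hj, ?_⟩
    rw [mul_smul, reflection_smul_idx, smul_neg_idx]
  · intro i hi
    exact ⟨1, H.one_mem, i, hi, one_smul _ _⟩
  · rintro i j ⟨g, hg, k, hk, rfl⟩ hj
    exact ⟨Equiv.reflection P j * g, H.mul_mem (hmem j hj) hg, k, hk, by
      rw [mul_smul, reflection_smul_idx]⟩

/-- The Weyl group is generated by the simple reflections. -/
theorem closure_simple :
    Subgroup.closure ((fun i : ι => Equiv.reflection P i) '' (b.support : Set ι)) = P.weylGroup := by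
  apply le_antisymm
  · rw [Subgroup.closure_le]
    rintro _ ⟨i, -, rfl⟩
    exact P.reflection_mem_weylGroup i
  · rw [weylGroup, Subgroup.closure_le]
    rintro _ ⟨i, rfl⟩
    obtain ⟨g, hg, j, hj, rfl⟩ := exists_conj_simple b i
    rw [SetLike.mem_coe, ← conj_reflection]
    exact Subgroup.mul_mem _ (Subgroup.mul_mem _ hg (Subgroup.subset_closure ⟨j, hj, rfl⟩))
      (Subgroup.inv_mem _ hg)

/-- The simple reflections, as elements of the Weyl group. -/
def srefl (j : b.support) : P.weylGroup := weylGroup.ofIdx P (j : ι)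

theorem coe_srefl (j : b.support) : ((srefl b j : P.weylGroup) : P.Aut) = Equiv.reflection P (j : ι) := rfl

theorem srefl_smul (j : b.support) (i : ι) : srefl b j • i = P.reflectionPerm j i := rfl

theorem srefl_mul_self (j : b.support) : srefl b j * srefl b j = 1 := by
  apply Subtype.ext
  exact reflection_mul_self P (j : ι)

theorem srefl_injective : Function.Injective (srefl b) := by
  intro i j h
  have h1 : Equiv.reflection P (i : ι) = Equiv.reflection P (j : ι) := congrArg Subtype.val h
  have h2 : P.reflectionPerm i i = P.reflectionPerm j i := congrArg (fun g : P.Aut => g • (i : ι)) h1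
  by_contra hne
  have h3 := (Base.isPos_of_mem_support i.2).reflectionPerm j.2 (fun e => hne (Subtype.ext e))
  rw [← h2, isPos_neg_iff] at h3
  exact h3 (Base.isPos_of_mem_support i.2)

theorem closure_range_srefl : Subgroup.closure (Set.range (srefl b)) = ⊤ := by
  have h := closure_simple b
  apply Subgroup.map_injective P.weylGroup.subtype_injective
  rw [MonoidHom.map_closure, ← MonoidHom.range_eq_map, Subgroup.range_subtype]
  refine Eq.trans ?_ h
  congr 1
  ext g
  constructor
  · rintro ⟨_, ⟨j, rfl⟩, rfl⟩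
    exact ⟨j, j.2, rfl⟩
  · rintro ⟨j, hj, rfl⟩
    exact ⟨srefl b ⟨j, hj⟩, ⟨⟨j, hj⟩, rfl⟩, rfl⟩

theorem exists_word (w : P.weylGroup) : ∃ ω : List b.support, wp (srefl b) ω = w := by
  have hw : w ∈ Subgroup.closure (Set.range (srefl b)) := by rw [closure_range_srefl]; trivial
  induction hw using Subgroup.closure_induction with
  | mem x hx =>
    obtain ⟨j, rfl⟩ := hx
    exact ⟨[j], by simp⟩
  | one => exact ⟨[], rfl⟩
  | mul x y _ _ hx hy =>
    obtain ⟨ω, rfl⟩ := hx
    obtain ⟨υ, rfl⟩ := hy
    exact ⟨ω ++ υ, by simp⟩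
  | inv x _ hx =>
    obtain ⟨ω, rfl⟩ := hx
    exact ⟨ω.reverse, wp_reverse (srefl_mul_self b) ω⟩

theorem exists_red_word (w : P.weylGroup) : ∃ ω : List b.support, Red (srefl b) ω ∧ wp (srefl b) ω = w := by
  classical
  have h : ∃ n, ∃ ω : List b.support, ω.length = n ∧ wp (srefl b) ω = w := by
    obtain ⟨ω, hω⟩ := exists_word b w
    exact ⟨_, ω, rfl, hω⟩
  obtain ⟨ω, hω, hω'⟩ := Nat.find_spec h
  refine ⟨ω, ?_, hω'⟩
  intro υ hυ
  rw [hω]
  exact Nat.find_min' h ⟨υ, rfl, hυ.trans hω'⟩

theorem wsmul_def (w : P.weylGroup) (i : ι) : w • i = (w : P.Aut) • i := rfl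

theorem mul_srefl (w : P.weylGroup) (i j : b.support) (h : w • (i : ι) = j) :
    w * srefl b i = srefl b j * w := by
  apply Subtype.ext
  change (w : P.Aut) * Equiv.reflection P (i : ι) = Equiv.reflection P (j : ι) * (w : P.Aut)
  rw [mul_reflection]
  congr 2

theorem exch_aux (j : b.support) (ω : List b.support) (h : ¬ b.IsPos (wp (srefl b) ω • (j : ι))) :
    ∃ i < ω.length, wp (srefl b) ω * srefl b j = wp (srefl b) (ω.eraseIdx i) := by
  induction ω with
  | nil =>
    exfalso
    apply h
    rw [wp_nil, one_smul]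
    exact Base.isPos_of_mem_support j.2
  | cons c ω ih =>
    by_cases hp : b.IsPos (wp (srefl b) ω • (j : ι))
    · refine ⟨0, by simp, ?_⟩
      have hc : wp (srefl b) ω • (j : ι) = c := by
        by_contra hne
        apply h
        rw [wp_cons, mul_smul, srefl_smul]
        exact hp.reflectionPerm c.2 hne
      rw [wp_cons, mul_assoc, mul_srefl b _ j c hc, ← mul_assoc, srefl_mul_self, one_mul]
      rfl
    · obtain ⟨i, hi, hi'⟩ := ih hp
      refine ⟨i + 1, by simpa using hi, ?_⟩
      rw [wp_cons, mul_assoc, hi']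
      rfl

theorem isPos_mul_srefl (w : P.weylGroup) (j : b.support) :
    b.IsPos ((w * srefl b j) • (j : ι)) ↔ ¬ b.IsPos (w • (j : ι)) := by
  rw [mul_smul, srefl_smul, wsmul_def, smul_neg_idx, isPos_neg_iff]
  rfl

theorem exch : Exch (srefl b) := by
  intro ω j
  by_cases hp : b.IsPos (wp (srefl b) ω • (j : ι))
  · right
    intro ω' hω'
    apply exch_aux
    rw [hω', isPos_mul_srefl, not_not]
    exact hp
  · left
    exact exch_aux b j ω hp

theorem eq_one_of_preserves (w : P.weylGroup) (h : ∀ j ∈ b.support, b.IsPos (w • j)) : w = 1 := by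
  obtain ⟨ω, hr, rfl⟩ := exists_red_word b w
  rcases List.eq_nil_or_concat ω with rfl | ⟨υ, j, rfl⟩
  · rfl
  · exfalso
    rw [List.concat_eq_append] at hr h
    have h1 := h j j.2
    rw [wp_append, wp_cons, wp_nil, mul_one, isPos_mul_srefl] at h1
    obtain ⟨i, hi, hi'⟩ := exch_aux b j υ h1
    have h2 := hr (υ.eraseIdx i) (by rw [← hi']; simp)
    rw [List.length_eraseIdx_of_lt hi] at h2
    simp at h2
    omega

/-- The number of `b`-positive roots made `b'`-negative. -/
noncomputable def cnt (b' : P.Base) (w : P.Aut) : ℕ := Set.ncard {i | b.IsPos i ∧ ¬ b'.IsPos (w • i)}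

theorem cnt_lt (b' : P.Base) (w : P.Aut) {j : ι} (hj : j ∈ b.support) (h : ¬ b'.IsPos (w • j)) :
    cnt b b' (w * Equiv.reflection P j) < cnt b b' w := by
  have hjp := b.isPos_of_mem_support hj
  unfold cnt
  rw [← Set.ncard_image_of_injective _ (MulAction.injective (Equiv.reflection P j))]
  apply Set.ncard_lt_ncard _ (Set.toFinite _)
  rw [Set.ssubset_iff_of_subset]
  · refine ⟨j, ⟨hjp, h⟩, ?_⟩
    rintro ⟨i, ⟨hi, -⟩, e⟩
    exact reflectionPerm_ne_self_of_isPos b hi hjp e
  · rintro _ ⟨i, ⟨hi, hi'⟩, rfl⟩
    rw [mul_smul] at hi'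
    refine ⟨?_, hi'⟩
    by_cases hij : i = j
    · exfalso
      subst hij
      apply hi'
      rw [reflection_smul_idx, smul_neg_idx, isPos_neg_iff]
      exact h
    · exact hi.reflectionPerm hj hij

theorem exists_transport (b' : P.Base) :
    ∃ w ∈ P.weylGroup, ∀ i, b.IsPos i → b'.IsPos (w • i) := by
  suffices H : ∀ n, ∀ w ∈ P.weylGroup, cnt b b' w = n →
      ∃ w ∈ P.weylGroup, ∀ i, b.IsPos i → b'.IsPos (w • i) from H _ 1 (one_mem _) rfl
  intro n
  induction n using Nat.strong_induction_on with
  | _ n ih =>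
    intro w hw hn
    by_cases h : ∀ j ∈ b.support, b'.IsPos (w • j)
    · exact ⟨w, hw, fun i hi => isPos_smul_of_simple b b' w h hi⟩
    · push Not at h
      obtain ⟨j, hj, hj'⟩ := h
      exact ih _ (hn ▸ cnt_lt b b' w hj hj') _ (mul_mem hw (P.reflection_mem_weylGroup j)) rfl

end Reduced

end Groth.Agent.Sga3A.Weyl
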