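import Groth.Prelude.Def_SGA3b
import Mathlib.RingTheory.TensorProduct.MonoidAlgebra
import Mathlib.RingTheory.TensorProduct.Maps

/-!
Base change isomorphisms for bialgebras (team sga3-a).

* `scalarBialg R S M : S ⊗[R] R[M] ≃ₐc[S] S[M]`
* `cancelBialg R S T A : T ⊗[S] (S ⊗[R] A) ≃ₐc[T] T ⊗[R] A`
* `congrBialg S e : S ⊗[R] A ≃ₐc[S] S ⊗[R] B` for `e : A ≃ₐc[R] B`
* `mapBialg S f : S ⊗[R] A →ₐc[S] S ⊗[R] B` for `f : A →ₐc[R] B`
-/

open TensorProduct

namespace Groth.Agent.Sga3A.BCIso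

universe u v w x y

section scalar
variable (R : Type u) (S : Type v) [CommRing R] [CommRing S] [Algebra R S] (M : Type w) [CommMonoid M]

/-- `S ⊗[R] R[M] ≃ S[M]` as bialgebras over `S`. -/
noncomputable def scalarBialg : S ⊗[R] MonoidAlgebra R M ≃ₐc[S] MonoidAlgebra S M :=
  BialgEquiv.ofAlgEquiv (MonoidAlgebra.scalarTensorEquiv R S)
    (by
      apply Algebra.TensorProduct.ext
      · ext
      · ext m; simp)
    (by
      apply Algebra.TensorProduct.ext
      · ext
      · ext m; simp)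

@[simp]
theorem scalarBialg_tmul_single (s : S) (m : M) (r : R) :
    scalarBialg R S M (s ⊗ₜ MonoidAlgebra.single m r) = MonoidAlgebra.single m (s * algebraMap R S r) := by
  change MonoidAlgebra.scalarTensorEquiv R S _ = _
  simp

@[simp]
theorem scalarBialg_symm_single (s : S) (m : M) :
    (scalarBialg R S M).symm (MonoidAlgebra.single m s) = s ⊗ₜ MonoidAlgebra.single m 1 := by
  apply (EquivLike.injective (scalarBialg R S M))
  rw [BialgEquiv.apply_symm_apply]
  simp

end scalar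

section cancel

variable (R : Type u) (S : Type v) (T : Type w) (A : Type x) [CommRing R] [CommRing S] [CommRing T]
  [Algebra R S] [Algebra S T] [Algebra R T] [IsScalarTower R S T] [CommRing A] [Bialgebra R A]

/-- `T ⊗[S] (S ⊗[R] A) ≃ T ⊗[R] A` as bialgebras over `T`. -/
noncomputable def cancelBialg : T ⊗[S] (S ⊗[R] A) ≃ₐc[T] T ⊗[R] A :=
  BialgEquiv.ofAlgEquiv (Algebra.TensorProduct.cancelBaseChange R S T T A)
    (by
      apply Algebra.TensorProduct.ext
      · ext
      · ext a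
        simp [Algebra.smul_def])
    (by
      apply Algebra.TensorProduct.ext
      · ext
      · ext a
        simp
        generalize CoalgebraStruct.comul (R := R) a = z
        induction z using TensorProduct.induction_on with
        | zero => simp only [TensorProduct.tmul_zero, map_zero]
        | tmul x y => simp
        | add x y hx hy => simp only [TensorProduct.tmul_add, map_add, hx, hy])

@[simp]
theorem cancelBialg_tmul (t : T) (s : S) (a : A) :
    cancelBialg R S T A (t ⊗ₜ (s ⊗ₜ a)) = (t * algebraMap S T s) ⊗ₜ a := by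
  change Algebra.TensorProduct.cancelBaseChange R S T T A _ = _
  simp [Algebra.smul_def, mul_comm]

@[simp]
theorem cancelBialg_symm_tmul (t : T) (a : A) :
    (cancelBialg R S T A).symm (t ⊗ₜ a) = t ⊗ₜ (1 ⊗ₜ a) := by
  apply (EquivLike.injective (cancelBialg R S T A))
  rw [BialgEquiv.apply_symm_apply]
  simp

end cancel

section congr

variable {R : Type u} (S : Type v) [CommRing R] [CommRing S] [Algebra R S]
  {A : Type w} {B : Type x} {C : Type y} [CommRing A] [CommRing B] [CommRing C]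
  [Bialgebra R A] [Bialgebra R B] [Bialgebra R C]

/-- base change of a bialgebra hom -/
noncomputable def mapBialg (f : A →ₐc[R] B) : S ⊗[R] A →ₐc[S] S ⊗[R] B :=
  Bialgebra.TensorProduct.map (BialgHom.id S S) f

@[simp]
theorem mapBialg_tmul (f : A →ₐc[R] B) (s : S) (a : A) : mapBialg S f (s ⊗ₜ a) = s ⊗ₜ f a := rfl

theorem mapBialg_id : mapBialg S (BialgHom.id R A) = BialgHom.id S (S ⊗[R] A) := by
  ext x
  induction x using TensorProduct.induction_on with
  | zero => simp
  | tmul s a => simp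
  | add x y hx hy => rw [map_add, map_add, hx, hy]

theorem mapBialg_comp (g : B →ₐc[R] C) (f : A →ₐc[R] B) :
    mapBialg S (g.comp f) = (mapBialg S g).comp (mapBialg S f) := by
  ext x
  induction x using TensorProduct.induction_on with
  | zero => simp
  | tmul s a => simp
  | add x y hx hy => rw [map_add, map_add, hx, hy]

/-- base change of a bialgebra equiv -/
noncomputable def congrBialg (e : A ≃ₐc[R] B) : S ⊗[R] A ≃ₐc[S] S ⊗[R] B :=
  BialgEquiv.ofBialgHom (mapBialg S (e : A →ₐc[R] B)) (mapBialg S (e.symm : B →ₐc[R] A))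
    (by rw [← mapBialg_comp]; simp [mapBialg_id]) (by rw [← mapBialg_comp]; simp [mapBialg_id])

@[simp]
theorem congrBialg_tmul (e : A ≃ₐc[R] B) (s : S) (a : A) : congrBialg S e (s ⊗ₜ a) = s ⊗ₜ e a := rfl

@[simp]
theorem congrBialg_symm_tmul (e : A ≃ₐc[R] B) (s : S) (b : B) :
    (congrBialg S e).symm (s ⊗ₜ b) = s ⊗ₜ e.symm b := rfl

end congr


section IsDiag

open SGA3b

variable {R : Type u} [CommRing R] {A : Type u} [CommRing A] [HopfAlgebra R A]

theorem isDiag_congr {B : Type u} [CommRing B] [HopfAlgebra R B] (e : A ≃ₐc[R] B) (h : IsDiag R A) :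
    IsDiag R B := by
  obtain ⟨M, i, ⟨f⟩⟩ := h
  exact ⟨M, i, ⟨e.symm.trans f⟩⟩

theorem isDiagFT_congr {B : Type u} [CommRing B] [HopfAlgebra R B] (e : A ≃ₐc[R] B)
    (h : IsDiagFT R A) : IsDiagFT R B := by
  obtain ⟨M, i, hM, ⟨f⟩⟩ := h
  exact ⟨M, i, hM, ⟨e.symm.trans f⟩⟩

/-- base change of an isomorphism with a group algebra -/
noncomputable def bcMonoidAlgebra (S : Type u) [CommRing S] [Algebra R S] {M : Type u} [CommGroup M]
    (e : A ≃ₐc[R] MonoidAlgebra R M) : S ⊗[R] A ≃ₐc[S] MonoidAlgebra S M :=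
  (congrBialg S e).trans (scalarBialg R S M)

theorem isDiag_baseChange (S : Type u) [CommRing S] [Algebra R S] (h : IsDiag R A) :
    IsDiag S (S ⊗[R] A) := by
  obtain ⟨M, i, ⟨f⟩⟩ := h
  exact ⟨M, i, ⟨bcMonoidAlgebra S f⟩⟩

theorem isDiagFT_baseChange (S : Type u) [CommRing S] [Algebra R S] (h : IsDiagFT R A) :
    IsDiagFT S (S ⊗[R] A) := by
  obtain ⟨M, i, hM, ⟨f⟩⟩ := h
  exact ⟨M, i, hM, ⟨bcMonoidAlgebra S f⟩⟩

/-- `T ⊗[S] (S ⊗[R] A)` diagonalisable iff `T ⊗[R] A` is. -/
theorem isDiag_cancel_iff (S T : Type u) [CommRing S] [CommRing T] [Algebra R S] [Algebra S T]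
    [Algebra R T] [IsScalarTower R S T] :
    IsDiag T (T ⊗[S] (S ⊗[R] A)) ↔ IsDiag T (T ⊗[R] A) :=
  ⟨isDiag_congr (cancelBialg R S T A), isDiag_congr (cancelBialg R S T A).symm⟩

theorem isDiagFT_cancel_iff (S T : Type u) [CommRing S] [CommRing T] [Algebra R S] [Algebra S T]
    [Algebra R T] [IsScalarTower R S T] :
    IsDiagFT T (T ⊗[S] (S ⊗[R] A)) ↔ IsDiagFT T (T ⊗[R] A) :=
  ⟨isDiagFT_congr (cancelBialg R S T A), isDiagFT_congr (cancelBialg R S T A).symm⟩

/-- If `S ⊗[R] A` is diagonalisable, so is `T ⊗[R] A` for every `S`-algebra `T`. -/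
theorem isDiag_of_tower (S T : Type u) [CommRing S] [CommRing T] [Algebra R S] [Algebra S T]
    [Algebra R T] [IsScalarTower R S T] (h : IsDiag S (S ⊗[R] A)) : IsDiag T (T ⊗[R] A) :=
  (isDiag_cancel_iff S T).1 (isDiag_baseChange T h)

theorem isDiagFT_of_tower (S T : Type u) [CommRing S] [CommRing T] [Algebra R S] [Algebra S T]
    [Algebra R T] [IsScalarTower R S T] (h : IsDiagFT S (S ⊗[R] A)) : IsDiagFT T (T ⊗[R] A) :=
  (isDiagFT_cancel_iff S T).1 (isDiagFT_baseChange T h)

end IsDiag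

end Groth.Agent.Sga3A.BCIso
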