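import Groth.Agent.Sga3A.ComodUnip
import Mathlib.RingTheory.Flat.FaithfullyFlat.Basic

/-!
# Base change of the ascending filtration; group-like elements versus unipotence
-/

set_option autoImplicit false

universe u v w w'

open TensorProduct HopfRep

namespace Groth.Agent.Sga3A.ComodUnip

open Groth.Agent.Sga3A.ComodBasic

section BC

variable {k : Type u} {A : Type v} [Field k] [CommRing A] [Bialgebra k A]
variable (K : Type w) [Field K] [Algebra k K]

theorem contract_mem_span (W : Submodule k A) (g : (K ⊗[k] A) →ₗ[K] K) (t : A ⊗[k] A)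
    (ht : t ∈ LinearMap.range (W.subtype.rTensor A)) :
    TensorProduct.rid K (K ⊗[k] A) (LinearMap.lTensor (K ⊗[k] A) g
      (TensorProduct.AlgebraTensorModule.tensorTensorTensorComm k K k K K K A A
        (((1 : K) ⊗ₜ[K] (1 : K)) ⊗ₜ[k] t))) ∈
      Submodule.span K ((fun a : A => (1 : K) ⊗ₜ[k] a) '' (W : Set A)) := by
  obtain ⟨s, rfl⟩ := ht
  induction s with
  | zero => simp
  | add x y hx hy => simp only [map_add, TensorProduct.tmul_add]; exact add_mem hx hy
  | tmul w a =>
    simp only [LinearMap.rTensor_tmul, TensorProduct.AlgebraTensorModule.tensorTensorTensorComm_tmul,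
      LinearMap.lTensor_tmul, TensorProduct.rid_tmul]
    exact Submodule.smul_mem _ _ (Submodule.subset_span ⟨w, w.2, rfl⟩)

theorem baseChange_mem_soc (n : ℕ) (a : A) (ha : a ∈ soc k A A n) :
    (1 : K) ⊗ₜ[k] a ∈ soc K (K ⊗[k] A) (K ⊗[k] A) n := by
  induction n generalizing a with
  | zero => rw [mem_soc_zero] at ha ⊢; rw [ha, TensorProduct.tmul_zero]
  | succ n ih =>
    rw [mem_soc_succ]
    intro g
    have hle : Submodule.span K ((fun a : A => (1 : K) ⊗ₜ[k] a) '' (soc k A A n : Set A)) ≤
        soc K (K ⊗[k] A) (K ⊗[k] A) n := by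
      rw [Submodule.span_le]
      rintro _ ⟨b, hb, rfl⟩
      exact ih b hb
    apply hle
    have ht : CoalgebraStruct.comul (R := k) a - a ⊗ₜ[k] (1 : A) ∈
        LinearMap.range ((soc k A A n).subtype.rTensor A) := by
      rw [mem_range_rTensor_iff]
      intro f
      have h1 := (mem_soc_succ n a).mp ha f
      rw [T_apply] at h1
      rw [map_sub, map_sub]
      have e1 : (TensorProduct.rid k A) ((LinearMap.lTensor A f) (a ⊗ₜ[k] (1 : A))) = f 1 • a := by
        simp
      rw [e1]
      exact h1
    have h2 := contract_mem_span K (soc k A A n) g _ ht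
    convert h2 using 1
    rw [TensorProduct.tmul_sub, map_sub, map_sub, map_sub, T_apply]
    congr 1

/-- For a unipotent group over `k`, the filtration of `K ⊗ A` is exhaustive. -/
theorem exists_mem_soc_baseChange (hU : IsUnipotent k A) (x : K ⊗[k] A) :
    ∃ n, x ∈ soc K (K ⊗[k] A) (K ⊗[k] A) n := by
  induction x with
  | zero => exact ⟨0, zero_mem _⟩
  | add x y hx hy =>
    obtain ⟨n, hn⟩ := hx
    obtain ⟨m, hm⟩ := hy
    exact ⟨max n m, add_mem (soc_mono (le_max_left _ _) hn) (soc_mono (le_max_right _ _) hm)⟩
  | tmul c a =>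
    obtain ⟨n, hn⟩ := exists_mem_soc hU a
    refine ⟨n, ?_⟩
    have : c ⊗ₜ[k] a = c • ((1 : K) ⊗ₜ[k] a) := by
      rw [TensorProduct.smul_tmul', smul_eq_mul, mul_one]
    rw [this]
    exact Submodule.smul_mem _ _ (baseChange_mem_soc K n a hn)

end BC

section GpLike

variable {K : Type u} {B : Type v} [Field K] [CommRing B] [Bialgebra K B]

/-- A group-like element in the filtration is trivial. -/
theorem groupLike_eq_one_of_mem_soc (h : B) (hh : IsGroupLikeElem K h) (n : ℕ)
    (hn : h ∈ soc K B B n) : h = 1 := by
  have hT : ∀ g : B →ₗ[K] K, T B g h = g h • h := by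
    intro g
    rw [T_apply]
    change TensorProduct.rid K B (LinearMap.lTensor B g (CoalgebraStruct.comul (R := K) h)) = _
    rw [show CoalgebraStruct.comul (R := K) h = h ⊗ₜ[K] h from hh.comul_eq_tmul_self]
    simp
  induction n with
  | zero => exact absurd hn hh.ne_zero
  | succ n ih =>
    by_cases hn' : h ∈ soc K B B n
    · exact ih hn'
    · have h1 := (mem_soc_succ n h).mp hn
      have h2 : ∀ g : B →ₗ[K] K, g h = g 1 := by
        intro g
        have := h1 g
        rw [hT, ← sub_smul] at this
        by_contra hne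
        exact hn' ((Submodule.smul_mem_iff _ (sub_ne_zero.mpr hne)).mp this)
      have h3 : ∀ g : Module.Dual K B, g (h - 1) = 0 := fun g => by
        rw [map_sub, h2 g, sub_self]
      exact sub_eq_zero.mp ((Module.forall_dual_apply_eq_zero_iff K (h - 1)).mp h3)

/-- If the group-like elements span, the filtration is contained in the scalars. -/
theorem soc_le_of_isDiagonalizable (hM : IsDiagonalizable K B) (n : ℕ) (x : B)
    (hx : x ∈ soc K B B n) : ∃ c : K, x = c • (1 : B) := by
  classical
  -- the basis of group-likes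
  let S : Set B := {a : B | IsGroupLikeElem K a}
  have hli : LinearIndependent K (fun a : S => (a : B)) := linearIndepOn_isGroupLikeElem
  have hsp : ⊤ ≤ Submodule.span K (Set.range (fun a : S => (a : B))) := by
    rw [Subtype.range_coe]
    exact (hM : Submodule.span K S = ⊤).ge
  let b : Module.Basis S K B := Module.Basis.mk hli hsp
  have hb : ∀ h : S, b h = h := fun h => Module.Basis.mk_apply hli hsp h
  have hT0 : ∀ (g : B →ₗ[K] K) (h : S), T B g (h : B) = g h • (h : B) := by
    intro g h
    rw [T_apply]
    change TensorProduct.rid K B (LinearMap.lTensor B g (CoalgebraStruct.comul (R := K) (h : B))) = _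
    rw [show CoalgebraStruct.comul (R := K) (h : B) = (h : B) ⊗ₜ[K] (h : B) from
      h.2.comul_eq_tmul_self]
    simp
  have hT : ∀ (h : S) (x : B), T B (b.coord h) x = b.coord h x • (h : B) := by
    intro h x
    have : T B (b.coord h) = (LinearMap.toSpanSingleton K B (h : B)) ∘ₗ (b.coord h) := by
      apply b.ext
      intro j
      rw [hb, hT0, LinearMap.comp_apply, ← hb j]
      simp only [Module.Basis.coord_apply, Module.Basis.repr_self, LinearMap.toSpanSingleton_apply]
      by_cases hjh : j = h
      · subst hjh; rw [hb]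
      · rw [Finsupp.single_eq_of_ne (Ne.symm hjh), zero_smul, zero_smul]
    rw [this]
    rfl
  have h1S : (1 : B) ∈ S := IsGroupLikeElem.one
  let o : S := ⟨1, h1S⟩
  induction n generalizing x with
  | zero => exact ⟨0, by rw [mem_soc_zero] at hx; rw [hx, zero_smul]⟩
  | succ n ih =>
    have hzero : ∀ h : S, h ≠ o → b.coord h x = 0 := by
      intro h hne
      have hc1 : b.coord h 1 = 0 := by
        have : (1 : B) = b o := (hb o).symm
        rw [this]
        simp only [Module.Basis.coord_apply, Module.Basis.repr_self]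
        exact Finsupp.single_eq_of_ne hne
      have h1 := (mem_soc_succ n x).mp hx (b.coord h)
      rw [hc1, zero_smul, sub_zero] at h1
      obtain ⟨c, hc⟩ := ih _ h1
      have h2 := congrArg (b.coord h) hc
      rw [hT, map_smul, map_smul, hc1, smul_zero, ← hb h] at h2
      simpa using h2
    refine ⟨b.coord o x, ?_⟩
    have h1o : (1 : B) = b o := (hb o).symm
    apply b.ext_elem
    intro i
    rw [map_smul, h1o, Module.Basis.repr_self, Finsupp.smul_apply, Module.Basis.coord_apply]
    by_cases hi : i = o
    · subst hi; simp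
    · rw [Finsupp.single_eq_of_ne hi, smul_zero]
      exact hzero i hi

end GpLike

end Groth.Agent.Sga3A.ComodUnip
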