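import Groth.Agent.Sga3A.ComodBasic
import Mathlib.RingTheory.Bialgebra.GroupLike
import Mathlib.RingTheory.Bialgebra.TensorProduct
import Mathlib.RingTheory.Bialgebra.Hom

/-!
# The ascending filtration of a comodule by iterated fixed vectors, unipotence and group-likes
-/

set_option autoImplicit false

universe u v w w'

open TensorProduct HopfRep

namespace Groth.Agent.Sga3A.ComodUnip

open Groth.Agent.Sga3A.ComodBasic

section Filt

variable {k : Type u} {A : Type v} [Field k] [CommRing A] [Bialgebra k A]
variable {V : Type w} [AddCommGroup V] [Module k V] [Comod k A V]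
variable {V' : Type w'} [AddCommGroup V'] [Module k V'] [Comod k A V']

/-- The ascending filtration by iterated fixed vectors. -/
noncomputable def soc (k : Type u) (A : Type v) [Field k] [CommRing A] [Bialgebra k A]
    (V : Type w) [AddCommGroup V] [Module k V] [Comod k A V] : ℕ → Submodule k V
  | 0 => ⊥
  | n + 1 => ⨅ g : A →ₗ[k] k, (soc k A V n).comap (T V g - (g 1) • LinearMap.id)

theorem mem_soc_zero (v : V) : v ∈ soc k A V 0 ↔ v = 0 := Iff.rfl

theorem mem_soc_succ (n : ℕ) (v : V) :
    v ∈ soc k A V (n + 1) ↔ ∀ g : A →ₗ[k] k, T V g v - g 1 • v ∈ soc k A V n := by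
  simp only [soc, Submodule.mem_iInf, Submodule.mem_comap, LinearMap.sub_apply,
    LinearMap.smul_apply, LinearMap.id_apply]

theorem soc_le_succ (n : ℕ) : soc k A V n ≤ soc k A V (n + 1) := by
  induction n with
  | zero => intro v hv; rw [mem_soc_zero] at hv; subst hv; exact zero_mem _
  | succ n ih =>
    intro v hv
    rw [mem_soc_succ] at hv ⊢
    exact fun g => ih (hv g)

theorem soc_mono : Monotone (soc k A V) := monotone_nat_of_le_succ soc_le_succ

theorem conv_one (g f : A →ₗ[k] k) : conv g f 1 = g 1 * f 1 := by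
  simp [conv, Bialgebra.comul_one, Algebra.TensorProduct.one_def]

theorem soc_stable (n : ℕ) (f : A →ₗ[k] k) (v : V) (hv : v ∈ soc k A V n) :
    T V f v ∈ soc k A V n := by
  cases n with
  | zero => rw [mem_soc_zero] at hv ⊢; rw [hv, map_zero]
  | succ n =>
    rw [mem_soc_succ] at hv ⊢
    intro g
    have h1 := hv (conv g f)
    have h2 := hv f
    rw [conv_one] at h1
    have h3 : T V g (T V f v) - g 1 • T V f v =
        (T V (conv g f) v - (g 1 * f 1) • v) - g 1 • (T V f v - f 1 • v) := by
      rw [T_T, smul_sub, mul_smul]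
      abel
    rw [h3]
    exact sub_mem h1 (Submodule.smul_mem _ _ h2)

theorem isSubcomod_soc (n : ℕ) : IsSubcomod (k := k) (A := A) (soc k A V n) :=
  (isSubcomod_iff _).mpr fun f v hv => soc_stable n f v hv

/-- Comodule maps respect the operators. -/
theorem map_T (f : V →ₗ[k] V')
    (hf : (f.rTensor A) ∘ₗ Comod.coact (k := k) (A := A) = Comod.coact (k := k) (A := A) ∘ₗ f)
    (g : A →ₗ[k] k) (v : V) : f (T V g v) = T V' g (f v) := by
  have h : ∀ z : V ⊗[k] A, f (TensorProduct.rid k V (LinearMap.lTensor V g z)) =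
      TensorProduct.rid k V' (LinearMap.lTensor V' g (f.rTensor A z)) := by
    intro z
    induction z with
    | zero => simp
    | add x y hx hy => simp only [map_add, hx, hy]
    | tmul a b => simp
  rw [T_apply, T_apply, h]
  have := LinearMap.congr_fun hf v
  simp only [LinearMap.comp_apply] at this
  rw [this]

theorem map_soc (f : V →ₗ[k] V') (hf : ∀ (g : A →ₗ[k] k) (v : V), f (T V g v) = T V' g (f v))
    (n : ℕ) (v : V) (hv : v ∈ soc k A V n) : f v ∈ soc k A V' n := by
  induction n generalizing v with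
  | zero => rw [mem_soc_zero] at hv ⊢; rw [hv, map_zero]
  | succ n ih =>
    rw [mem_soc_succ] at hv ⊢
    intro g
    have := ih _ (hv g)
    rwa [map_sub, hf, map_smul] at this

end Filt

section Unip

variable {k : Type u} {A : Type v} [Field k] [CommRing A] [Bialgebra k A]

/-- For a unipotent group the filtration of a finite-dimensional comodule is exhaustive. -/
theorem exists_soc_eq_top (hU : IsUnipotent k A) (V : Type v) [AddCommGroup V] [Module k V]
    [Comod k A V] [Module.Finite k V] : ∃ n, soc k A V n = ⊤ := by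
  obtain ⟨n, hn⟩ := monotone_stabilizes_iff_noetherian.mpr (inferInstance : IsNoetherian k V)
    ⟨soc k A V, soc_mono⟩
  refine ⟨n, ?_⟩
  have hn1 : soc k A V n = soc k A V (n + 1) := hn (n + 1) (Nat.le_succ n)
  by_contra hne
  letI : Comod k A (V ⧸ soc k A V n) := quot (soc k A V n) (isSubcomod_soc n)
  haveI : Nontrivial (V ⧸ soc k A V n) := Submodule.Quotient.nontrivial_iff.mpr hne
  have hq : ∀ (g : A →ₗ[k] k) (v : V), (soc k A V n).mkQ (T V g v) =
      T (V ⧸ soc k A V n) g ((soc k A V n).mkQ v) := by
    apply map_T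
    change _ = quotCoact _ (isSubcomod_soc n) ∘ₗ _
    rw [quotCoact, Submodule.liftQ_mkQ]
  have h1 := hU (V ⧸ soc k A V n) inferInstance inferInstance
  obtain ⟨x, hx, hx0⟩ := Submodule.exists_mem_ne_zero_of_ne_bot h1
  obtain ⟨v, rfl⟩ := (soc k A V n).mkQ_surjective x
  have hx' : Comod.coact (k := k) (A := A) ((soc k A V n).mkQ v) =
    ((soc k A V n).mkQ v) ⊗ₜ[k] (1 : A) := hx
  apply hx0
  rw [Submodule.mkQ_apply, Submodule.Quotient.mk_eq_zero, hn1, mem_soc_succ]
  intro g
  rw [← Submodule.Quotient.mk_eq_zero, ← Submodule.mkQ_apply, map_sub, hq, map_smul, T_apply, hx']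
  simp

/-- For a unipotent group the filtration of any comodule is exhaustive. -/
theorem exists_mem_soc (hU : IsUnipotent k A) {V : Type v} [AddCommGroup V] [Module k V]
    [Comod k A V] (v : V) : ∃ n, v ∈ soc k A V n := by
  have hs : IsSubcomod (k := k) (A := A) (gen k A v) :=
    (isSubcomod_iff _).mpr fun g w hw => gen_stable v g w hw
  letI : Comod k A (gen k A v) := sub _ hs
  haveI : Module.Finite k (gen k A v) := gen_finite v
  obtain ⟨n, hn⟩ := exists_soc_eq_top hU (gen k A v)
  have hq : ∀ (g : A →ₗ[k] k) (x : gen k A v), (gen k A v).subtype (T (gen k A v) g x) =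
      T V g ((gen k A v).subtype x) := by
    apply map_T
    exact subCoact_spec _ hs
  refine ⟨n, ?_⟩
  exact map_soc (gen k A v).subtype hq n ⟨v, self_mem_gen v⟩ (by rw [hn]; trivial)

end Unip

end Groth.Agent.Sga3A.ComodUnip
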