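import Groth.Prelude.Def_SGA3b
import Mathlib.RingTheory.FiniteType
import Mathlib.RingTheory.Flat.FaithfullyFlat.Algebra
import Mathlib.RingTheory.LocalRing.RingHom.Basic
import Mathlib.RingTheory.Localization.AtPrime.Basic
import Mathlib.RingTheory.Flat.Localization
import Mathlib.RingTheory.TensorProduct.MonoidAlgebra

set_option autoImplicit false
universe u
open TensorProduct SGA3b Coalgebra

namespace Groth.Agent.Sga3A.MultBC

/-- Tower property of base change, as bialgebras. -/
noncomputable def bcTower (R S T A : Type*) [CommRing R] [CommRing S] [CommRing T] [CommRing A]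
    [Algebra R S] [Algebra S T] [Algebra R T] [IsScalarTower R S T] [Bialgebra R A] :
    T ⊗[S] (S ⊗[R] A) ≃ₐc[T] T ⊗[R] A :=
  BialgEquiv.ofAlgEquiv (Algebra.TensorProduct.cancelBaseChange R S T T A)
    (by ext a; simp [Algebra.algebraMap_eq_smul_one])
    (by
      ext a
      simp [← (ℛ R a).eq, TensorProduct.tmul_sum])

@[simp]
lemma bcTower_tmul_tmul {R S T A : Type*} [CommRing R] [CommRing S] [CommRing T] [CommRing A]
    [Algebra R S] [Algebra S T] [Algebra R T] [IsScalarTower R S T] [Bialgebra R A]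
    (t : T) (s : S) (a : A) : bcTower R S T A (t ⊗ₜ (s ⊗ₜ a)) = (s • t) ⊗ₜ a := by
  simp [bcTower]

@[simp]
lemma bcTower_symm_tmul {R S T A : Type*} [CommRing R] [CommRing S] [CommRing T] [CommRing A]
    [Algebra R S] [Algebra S T] [Algebra R T] [IsScalarTower R S T] [Bialgebra R A]
    (t : T) (a : A) : (bcTower R S T A).symm (t ⊗ₜ a) = t ⊗ₜ (1 ⊗ₜ a) := by
  change (bcTower R S T A).toEquiv.symm _ = _
  rw [Equiv.symm_apply_eq]
  change _ = bcTower R S T A (t ⊗ₜ (1 ⊗ₜ a))
  simp

/-- Base change of a monoid algebra, as bialgebras. -/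
noncomputable def bcMonoidAlgebra (R S M : Type*) [CommRing R] [CommRing S] [Algebra R S]
    [CommMonoid M] : S ⊗[R] MonoidAlgebra R M ≃ₐc[S] MonoidAlgebra S M :=
  BialgEquiv.ofAlgEquiv (MonoidAlgebra.scalarTensorEquiv R S)
    (by ext a; simp)
    (by ext a; simp)

@[simp]
lemma bcMonoidAlgebra_tmul_single {R S M : Type*} [CommRing R] [CommRing S] [Algebra R S]
    [CommMonoid M] (s : S) (m : M) (r : R) :
    bcMonoidAlgebra R S M (s ⊗ₜ MonoidAlgebra.single m r) =
      MonoidAlgebra.single m (s * algebraMap R S r) := by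
  simp [bcMonoidAlgebra]

@[simp]
lemma bcMonoidAlgebra_symm_single {R S M : Type*} [CommRing R] [CommRing S] [Algebra R S]
    [CommMonoid M] (m : M) (s : S) :
    (bcMonoidAlgebra R S M).symm (MonoidAlgebra.single m s) =
      s ⊗ₜ MonoidAlgebra.single m 1 := by
  change (bcMonoidAlgebra R S M).toEquiv.symm _ = _
  rw [Equiv.symm_apply_eq]
  change _ = bcMonoidAlgebra R S M (s ⊗ₜ MonoidAlgebra.single m 1)
  simp

/-- Base change of a bialgebra isomorphism. -/
noncomputable def bcCongr (R S : Type*) {A B : Type*} [CommRing R] [CommRing S] [Algebra R S]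
    [CommRing A] [CommRing B] [Bialgebra R A] [Bialgebra R B] (e : A ≃ₐc[R] B) :
    S ⊗[R] A ≃ₐc[S] S ⊗[R] B :=
  BialgEquiv.ofBijective
    (Bialgebra.TensorProduct.map (BialgHom.id S S) (e : A →ₐc[R] B))
    (Algebra.TensorProduct.congr (AlgEquiv.refl (R := S) (A₁ := S)) (e : A ≃ₐ[R] B)).bijective

@[simp]
lemma bcCongr_tmul {R S : Type*} {A B : Type*} [CommRing R] [CommRing S] [Algebra R S]
    [CommRing A] [CommRing B] [Bialgebra R A] [Bialgebra R B] (e : A ≃ₐc[R] B) (s : S) (a : A) :
    bcCongr R S e (s ⊗ₜ a) = s ⊗ₜ e a := rfl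

section Diag

variable {R S A B : Type u} [CommRing R] [CommRing S] [Algebra R S] [CommRing A] [CommRing B]
  [HopfAlgebra R A] [HopfAlgebra R B]

lemma IsDiag.of_equiv (e : A ≃ₐc[R] B) (h : IsDiag R B) : IsDiag R A := by
  obtain ⟨M, _, ⟨f⟩⟩ := h
  exact ⟨M, _, ⟨e.trans f⟩⟩

variable (S) in
lemma IsDiag.baseChange (h : IsDiag R A) : IsDiag S (S ⊗[R] A) := by
  obtain ⟨M, _, ⟨f⟩⟩ := h
  exact ⟨M, _, ⟨(bcCongr R S f).trans (bcMonoidAlgebra R S M)⟩⟩

/-- Over a tower `R → S → T`, diagonalisability of `T ⊗[S] (S ⊗[R] A)` is that of `T ⊗[R] A`. -/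
lemma isDiag_tower {T : Type u} [CommRing T] [Algebra S T] [Algebra R T] [IsScalarTower R S T]
    (h : IsDiag T (T ⊗[S] (S ⊗[R] A))) : IsDiag T (T ⊗[R] A) :=
  IsDiag.of_equiv (bcTower R S T A).symm h

lemma isDiag_tower' {T : Type u} [CommRing T] [Algebra S T] [Algebra R T] [IsScalarTower R S T]
    (h : IsDiag T (T ⊗[R] A)) : IsDiag T (T ⊗[S] (S ⊗[R] A)) :=
  IsDiag.of_equiv (bcTower R S T A) h

/-- Over a local ring, a group of multiplicative type has constant type. -/
lemma IsMultType.const_of_isLocalRing [IsLocalRing R] (h : IsMultType R A) :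
    IsMultTypeConst R A := by
  obtain ⟨s, hs, H⟩ := h
  obtain ⟨f, hf, hfu⟩ : ∃ f ∈ s, IsUnit f := by
    by_contra hcon
    push Not at hcon
    have : Ideal.span s ≤ IsLocalRing.maximalIdeal R := by
      rw [Ideal.span_le]
      intro x hx
      exact (IsLocalRing.mem_maximalIdeal x).mpr (hcon x hx)
    rw [hs] at this
    exact (IsLocalRing.maximalIdeal.isMaximal R).ne_top (top_le_iff.mp this)
  obtain ⟨R', _, _, hff, hd⟩ := H f hf
  let : Algebra R R' := ((algebraMap (Localization.Away f) R').comp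
    (algebraMap R (Localization.Away f))).toAlgebra
  have : IsScalarTower R (Localization.Away f) R' := IsScalarTower.of_algebraMap_eq (fun _ => rfl)
  refine ⟨R', _, inferInstance, ?_, isDiag_tower hd⟩
  have : Module.FaithfullyFlat R (Localization.Away f) := by
    have e : R ≃ₐ[R] Localization.Away f := IsLocalization.atUnit R _ f hfu
    exact Module.FaithfullyFlat.of_linearEquiv _ _ e.symm.toLinearEquiv
  exact Module.FaithfullyFlat.trans R (Localization.Away f) R'

/-- A constant type group of multiplicative type over a local ring becomes diagonalisable over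
a faithfully flat local algebra which is a local ring. -/
lemma IsMultTypeConst.exists_local [IsLocalRing R] (h : IsMultTypeConst R A) :
    ∃ (R' : Type u) (_ : CommRing R') (_ : Algebra R R') (_ : IsLocalRing R'),
      IsLocalHom (algebraMap R R') ∧ Module.FaithfullyFlat R R' ∧ IsDiag R' (R' ⊗[R] A) := by
  obtain ⟨R', _, _, hff, hd⟩ := h
  obtain ⟨q, hq, hqm⟩ := Ideal.exists_isPrime_liesOver_of_faithfullyFlat (A := R) (B := R')
    (IsLocalRing.maximalIdeal R)
  have hl : IsLocalHom (algebraMap R (Localization.AtPrime q)) := by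
    constructor
    intro a ha
    by_contra hna
    have h1 : a ∈ IsLocalRing.maximalIdeal R := (IsLocalRing.mem_maximalIdeal a).mpr hna
    have h2 : algebraMap R R' a ∈ q := by
      have := hqm.over
      rw [this] at h1
      exact h1
    rw [IsScalarTower.algebraMap_apply R R' (Localization.AtPrime q),
      IsLocalization.AtPrime.isUnit_to_map_iff (Localization.AtPrime q) q] at ha
    exact ha h2
  have hflat : Module.Flat R (Localization.AtPrime q) :=
    Module.Flat.trans R R' (Localization.AtPrime q)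
  exact ⟨Localization.AtPrime q, inferInstance, inferInstance, inferInstance, hl,
    Module.FaithfullyFlat.of_flat_of_isLocalHom, isDiag_tower (IsDiag.baseChange _ hd)⟩

end Diag

end Groth.Agent.Sga3A.MultBC
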