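import Groth.Agent.Sga3A.MTKey
import Groth.Agent.Sga3A.MultBC
import Mathlib.RingTheory.FiniteType
import Mathlib.RingTheory.Unramified.Field

/-!
# From multiplicative type to group-like bases
-/

set_option autoImplicit false

open TensorProduct

namespace Groth.Agent.Sga3A.MTConst

open MTBasis MTTorsion MTDual MTKey SGA3b

universe u

variable {R A : Type u} [CommRing R] [CommRing A] [HopfAlgebra R A]

lemma fg_of_gbasis [Nontrivial R] [Algebra.FiniteType R A] {M : Type*} [CommGroup M] (g : GBasis R A M) :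
    Group.FG M := by
  have : Algebra.FiniteType R (MonoidAlgebra R M) := 
    Algebra.FiniteType.equiv ‹_› (g.bialgEquiv.symm : A ≃ₐ[R] MonoidAlgebra R M)
  have : Monoid.FG M := MonoidAlgebra.finiteType_iff_fg.mp this
  exact Group.fg_iff_monoid_fg.mpr this

lemma exists_gbasis [Nontrivial R] [Algebra.FiniteType R A] (h : IsMultTypeConst R A) :
    ∃ (S : Type u) (_ : CommRing S) (_ : Algebra R S) (_ : Module.FaithfullyFlat R S) (M : Type u) (_ : CommGroup M)
      (_ : Group.FG M), Nonempty (GBasis S (S ⊗[R] A) M) := by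
  obtain ⟨S, _, _, _, M, _, ⟨e⟩⟩ := h
  have : Nontrivial S := (FaithfulSMul.algebraMap_injective R S).nontrivial
  let g := GBasis.ofBialgEquiv e
  exact ⟨S, _, _, ‹_›, M, _, fg_of_gbasis g, ⟨g⟩⟩

lemma isDiag_of_gbasis {M : Type u} [CommGroup M] (g : GBasis R A M) : IsDiag R A :=
  ⟨M, _, ⟨g.bialgEquiv.symm⟩⟩

lemma isDiagFT_of_gbasis {M : Type u} [CommGroup M] [Group.FG M] (g : GBasis R A M) : IsDiagFT R A :=
  ⟨M, _, ‹_›, ⟨g.bialgEquiv.symm⟩⟩

end Groth.Agent.Sga3A.MTConst
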