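import Groth.Agent.Sga3A.GLHom

/-!
A Hopf algebra of multiplicative type which is diagonalisable modulo a nil ideal is diagonalisable
(SGA 3 X 2.2, trivial case).
-/

open TensorProduct

namespace Groth.Agent.Sga3A.DiagNil

open BCIso GLBasic GLLift MTFamily GLHom SGA3b

universe u v w

section natural

variable {R : Type u} (S : Type v) (T : Type w) [CommRing R] [CommRing S] [CommRing T]
  [Algebra R S] [Algebra S T] [Algebra R T] [IsScalarTower R S T]
  {A B : Type*} [CommRing A] [Bialgebra R A] [CommRing B] [Bialgebra R B]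

theorem cancelBialg_mapBialg (f : A →ₐc[R] B) (x : T ⊗[S] (S ⊗[R] A)) :
    cancelBialg R S T B (mapBialg T (mapBialg S f) x) = mapBialg T f (cancelBialg R S T A x) := by
  induction x using TensorProduct.induction_on with
  | zero => simp only [map_zero]
  | add x y hx hy => simp only [map_add, hx, hy]
  | tmul t x =>
    induction x using TensorProduct.induction_on with
    | zero => simp only [TensorProduct.tmul_zero, map_zero]
    | add x y hx hy => simp only [TensorProduct.tmul_add, map_add, hx, hy]
    | tmul s a => simp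

theorem bijective_mapBialg_iff (f : A →ₐc[R] B) :
    Function.Bijective (mapBialg T (mapBialg S f)) ↔ Function.Bijective (mapBialg T f) := by
  have h : (mapBialg T f : T ⊗[R] A → T ⊗[R] B) ∘ (cancelBialg R S T A) =
      (cancelBialg R S T B) ∘ (mapBialg T (mapBialg S f)) := by
    funext x
    exact (cancelBialg_mapBialg S T f x).symm
  constructor
  · intro hb
    have h2 : Function.Bijective ((mapBialg T f : T ⊗[R] A → T ⊗[R] B) ∘ (cancelBialg R S T A)) := by
      rw [h]; exact (EquivLike.bijective _).comp hb
    exact (Function.Bijective.of_comp_iff _ (EquivLike.bijective (cancelBialg R S T A))).1 h2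
  · intro hb
    have h2 : Function.Bijective ((cancelBialg R S T B) ∘ (mapBialg T (mapBialg S f))) := by
      rw [← h]; exact hb.comp (EquivLike.bijective _)
    exact (Function.Bijective.of_comp_iff' (EquivLike.bijective (cancelBialg R S T B)) _).1 h2

theorem bijective_mapBialg_of_bijective (f : A →ₐc[R] B) (hf : Function.Bijective f) :
    Function.Bijective (mapBialg S f) :=
  EquivLike.bijective (congrBialg S (BialgEquiv.ofBijective f hf))

end natural

section

variable {R : Type u} [CommRing R]

theorem bijective_of_family {ι : Type u} {S : ι → Type u} [∀ i, CommRing (S i)]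
    [∀ i, Algebra R (S i)] (hS : JointlyPure R S) {N P : Type u} [AddCommGroup N] [Module R N]
    [AddCommGroup P] [Module R P] (f : N →ₗ[R] P)
    (h : ∀ i, Function.Bijective (f.lTensor (S i))) : Function.Bijective f := by
  constructor
  · rw [← LinearMap.ker_eq_bot, eq_bot_iff]
    intro n hn
    rw [Submodule.mem_bot]
    apply hS
    intro i
    apply (h i).1
    rw [LinearMap.lTensor_tmul, hn, TensorProduct.tmul_zero, map_zero]
  · intro p
    exact hS.mem_range f p fun i => (h i).2 _

variable {A : Type u} [CommRing A] [HopfAlgebra R A]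

/-- SGA 3 X 2.2, trivial case, with control of the type. -/
theorem exists_bialgEquiv_of_quot {I : Ideal R} (hI : ∀ x ∈ I, IsNilpotent x)
    (h : IsMultType R A) {M : Type u} [CommGroup M]
    (e0 : (R ⧸ I) ⊗[R] A ≃ₐc[R ⧸ I] MonoidAlgebra (R ⧸ I) M) :
    ∃ e : A ≃ₐc[R] MonoidAlgebra R M,
      ∀ m : M, (1 : R ⧸ I) ⊗ₜ[R] e.symm (MonoidAlgebra.single m 1) =
        e0.symm (MonoidAlgebra.single m 1) := by
  let g : M →* (R ⧸ I) ⊗[R] A :=
    { toFun := fun m => e0.symm (MonoidAlgebra.single m 1)
      map_one' := by rw [← MonoidAlgebra.one_def, map_one]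
      map_mul' := fun a b => by
        rw [← map_mul, MonoidAlgebra.single_mul_single, one_mul] }
  obtain ⟨G, hG, hGg⟩ := exists_lift_hom (glExist_of_isMultType h) (glUniq_of_isMultType h) hI g
    (fun n => (MonoidAlgebra.isGroupLikeElem_single_one n).map e0.symm)
  let φ : MonoidAlgebra R M →ₐc[R] A := liftMA G hG
  have hφ0 : Function.Bijective (mapBialg (R ⧸ I) φ) := by
    have key : ∀ x, mapBialg (R ⧸ I) φ x = e0.symm (scalarBialg R (R ⧸ I) M x) := by
      intro x
      induction x using TensorProduct.induction_on with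
      | zero => simp only [map_zero]
      | add x y hx hy => simp only [map_add, hx, hy]
      | tmul t x =>
        induction x using MonoidAlgebra.induction_linear with
        | zero => simp only [TensorProduct.tmul_zero, map_zero]
        | add x y hx hy => simp only [TensorProduct.tmul_add, map_add, hx, hy]
        | single m r =>
          rw [scalarBialg_tmul_single, mapBialg_tmul, liftMA_single]
          have h1 : MonoidAlgebra.single m (t * algebraMap R (R ⧸ I) r) =
              (t * algebraMap R (R ⧸ I) r) • MonoidAlgebra.single m (1 : R ⧸ I) := by simp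
          rw [h1, map_smul]
          change _ = (t * algebraMap R (R ⧸ I) r) • g m
          rw [← hGg m, TensorProduct.smul_tmul', TensorProduct.tmul_smul, TensorProduct.smul_tmul']
          congr 1
          rw [Algebra.smul_def, mul_comm, smul_eq_mul, mul_one]
    have : (mapBialg (R ⧸ I) φ : (R ⧸ I) ⊗[R] MonoidAlgebra R M → (R ⧸ I) ⊗[R] A) =
        e0.symm ∘ (scalarBialg R (R ⧸ I) M) := funext key
    rw [this]
    exact (EquivLike.bijective e0.symm).comp (EquivLike.bijective (scalarBialg R (R ⧸ I) M))
  obtain ⟨ι, _, S, _, _, hS, _, hd⟩ := exists_family h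
  have hφ : Function.Bijective φ := by
    refine bijective_of_family hS (φ : MonoidAlgebra R M →ₗ[R] A) fun i => ?_
    change Function.Bijective (mapBialg (S i) φ)
    obtain ⟨N, _, ⟨e'⟩⟩ := hd i
    refine bijective_of_quot (scalarBialg R (S i) M) e' (J := I.map (algebraMap R (S i)))
      (isNilpotent_of_mem_map hI) (mapBialg (S i) φ) ?_
    rw [bijective_mapBialg_iff, ← bijective_mapBialg_iff (R ⧸ I)]
    exact bijective_mapBialg_of_bijective _ _ hφ0
  refine ⟨(BialgEquiv.ofBijective φ hφ).symm, fun m => ?_⟩
  change (1 : R ⧸ I) ⊗ₜ[R] φ (MonoidAlgebra.single m 1) = g m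
  rw [← hGg m, liftMA_single, one_smul]

theorem isDiag_of_quot {I : Ideal R} (hI : ∀ x ∈ I, IsNilpotent x)
    (h : IsMultType R A) (h0 : IsDiag (R ⧸ I) ((R ⧸ I) ⊗[R] A)) : IsDiag R A := by
  obtain ⟨M, _, ⟨e0⟩⟩ := h0
  obtain ⟨e, -⟩ := exists_bialgEquiv_of_quot hI h e0
  exact ⟨M, _, ⟨e⟩⟩

end

end Groth.Agent.Sga3A.DiagNil
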