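import Groth.Agent.Sga3A.MultBC
import Groth.Agent.Proet.EtaleLiftLoc
import Mathlib.RingTheory.Etale.Basic
import Mathlib.RingTheory.Smooth.Flat

/-!
# Étale algebras along surjections with nil kernel, and the predicates of `SGA3b`

* `IsMultType.baseChange`
* `faithfullyFlat_of_nil`, `finite_of_nil`
* `isDiag_of_algHom`
-/

set_option autoImplicit false
universe u

open TensorProduct SGA3b

namespace Groth.Agent.Sga3A.NilDescent

open Groth.Agent.Sga3A.MultBC

section
variable {R : Type u} [CommRing R] {A : Type u} [CommRing A] [HopfAlgebra R A]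

/-- diagonalisability is preserved by a map of `R`-algebras -/
lemma isDiag_of_algHom {S S' : Type u} [CommRing S] [CommRing S'] [Algebra R S] [Algebra R S']
    (φ : S →ₐ[R] S') (h : IsDiag S (S ⊗[R] A)) : IsDiag S' (S' ⊗[R] A) := by
  let : Algebra S S' := φ.toRingHom.toAlgebra
  have : IsScalarTower R S S' := IsScalarTower.of_algebraMap_eq fun r => (φ.commutes r).symm
  exact isDiag_tower (IsDiag.baseChange S' h)

/-- base change of multiplicative type groups -/
lemma isMultType_baseChange (S : Type u) [CommRing S] [Algebra R S] (h : IsMultType R A) :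
    IsMultType S (S ⊗[R] A) := by
  obtain ⟨s, hs, H⟩ := h
  refine ⟨algebraMap R S '' s, ?_, ?_⟩
  · rw [← Ideal.map_span, hs, Ideal.map_top]
  · rintro _ ⟨f, hf, rfl⟩
    obtain ⟨R', _, _, hff, hd⟩ := H f hf
    have hu : IsUnit ((algebraMap S (Localization.Away (algebraMap R S f))).comp (algebraMap R S) f) :=
      IsLocalization.Away.algebraMap_isUnit (S := Localization.Away (algebraMap R S f)) (algebraMap R S f)
    let : Algebra (Localization.Away f) (Localization.Away (algebraMap R S f)) :=
      (IsLocalization.Away.lift (S := Localization.Away f) f hu).toAlgebra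
    have : IsScalarTower R (Localization.Away f) (Localization.Away (algebraMap R S f)) := by
      refine IsScalarTower.of_algebraMap_eq fun r => ?_
      change _ = IsLocalization.Away.lift (S := Localization.Away f) f hu (algebraMap R _ r)
      rw [IsLocalization.Away.lift_eq]
      rfl
    let : Algebra R R' := ((algebraMap (Localization.Away f) R').comp
      (algebraMap R (Localization.Away f))).toAlgebra
    have : IsScalarTower R (Localization.Away f) R' := IsScalarTower.of_algebraMap_eq (fun _ => rfl)
    refine ⟨Localization.Away (algebraMap R S f) ⊗[Localization.Away f] R', inferInstance, inferInstance,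
      inferInstance, ?_⟩
    have h1 : IsDiag R' (R' ⊗[R] A) := isDiag_tower hd
    let φ : R' →ₐ[R] (Localization.Away (algebraMap R S f) ⊗[Localization.Away f] R') :=
      (Algebra.TensorProduct.includeRight : R' →ₐ[Localization.Away f] _).restrictScalars R
    have h2 := isDiag_of_algHom φ h1
    exact isDiag_tower' (isDiag_tower' h2)

end

section
variable {R T : Type u} [CommRing R] [CommRing T] [Algebra R T]

lemma isUnit_of_nil (hn : ∀ x : R, algebraMap R T x = 0 → IsNilpotent x)
    (hs : Function.Surjective (algebraMap R T)) (x : R) (hx : IsUnit (algebraMap R T x)) : IsUnit x := by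
  obtain ⟨y, hy⟩ := hx.exists_right_inv
  obtain ⟨z, rfl⟩ := hs y
  have h1 : IsNilpotent (1 - x * z) := hn _ (by rw [map_sub, map_mul, hy, map_one, sub_self])
  have h2 : IsUnit (x * z) := by
    have := h1.isUnit_one_sub
    simpa using this
  exact isUnit_of_mul_isUnit_left h2

lemma ideal_eq_top_of_nil (hn : ∀ x : R, algebraMap R T x = 0 → IsNilpotent x)
    (hs : Function.Surjective (algebraMap R T)) (I : Ideal R) (hI : I.map (algebraMap R T) = ⊤) : I = ⊤ := by
  have h1 : (1 : T) ∈ I.map (algebraMap R T) := by rw [hI]; trivial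
  rw [Ideal.mem_map_iff_of_surjective _ hs] at h1
  obtain ⟨x, hx, hx1⟩ := h1
  exact Ideal.eq_top_of_isUnit_mem I hx (isUnit_of_nil hn hs x (by rw [hx1]; exact isUnit_one))

lemma faithfullyFlat_of_nil (hn : ∀ x : R, algebraMap R T x = 0 → IsNilpotent x)
    (hs : Function.Surjective (algebraMap R T)) (B : Type u) [CommRing B] [Algebra R B] [Module.Flat R B]
    (h : Module.FaithfullyFlat T (T ⊗[R] B)) : Module.FaithfullyFlat R B := by
  rw [Module.FaithfullyFlat.iff_flat_and_ideal_smul_eq_top]
  refine ⟨inferInstance, fun I hI => ideal_eq_top_of_nil hn hs I ?_⟩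
  have h2 := ((Module.FaithfullyFlat.iff_flat_and_ideal_smul_eq_top _ _).mp h).2
  apply h2
  rw [eq_top_iff]
  rintro x -
  induction x with
  | zero => exact Submodule.zero_mem _
  | add x y hx hy => exact Submodule.add_mem _ hx hy
  | tmul t b =>
    have hb : b ∈ I • (⊤ : Submodule R B) := by rw [hI]; trivial
    have h3 : ∀ b ∈ I • (⊤ : Submodule R B), t ⊗ₜ[R] b ∈
        I.map (algebraMap R T) • (⊤ : Submodule T (T ⊗[R] B)) := by
      intro b hb
      refine Submodule.smul_induction_on hb ?_ ?_
      · intro r hr n _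
        rw [TensorProduct.tmul_smul, ← algebraMap_smul T r]
        exact Submodule.smul_mem_smul (Ideal.mem_map_of_mem _ hr) trivial
      · intro x y hx hy
        rw [TensorProduct.tmul_add]
        exact Submodule.add_mem _ hx hy
    exact h3 b hb

lemma isNilpotent_of_one_tmul (hn : ∀ x : R, algebraMap R T x = 0 → IsNilpotent x)
    (hs : Function.Surjective (algebraMap R T)) {B : Type u} [CommRing B] [Algebra R B] (b : B)
    (h : (1 : T) ⊗ₜ[R] b = 0) : IsNilpotent b := by
  have h1 : (1 : R) ⊗ₜ[R] b ∈ RingHom.ker (Algebra.TensorProduct.map (Algebra.ofId R T) (AlgHom.id R B)) := by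
    rw [RingHom.mem_ker]
    simpa using h
  rw [Algebra.TensorProduct.rTensor_ker _ hs] at h1
  have h2 : (RingHom.ker (Algebra.ofId R T)).map (Algebra.TensorProduct.includeLeft : R →ₐ[R] R ⊗[R] B) ≤
      nilradical (R ⊗[R] B) := by
    rw [Ideal.map_le_iff_le_comap]
    intro x hx
    rw [Ideal.mem_comap, mem_nilradical]
    exact (hn x hx).map _
  have h3 : IsNilpotent ((1 : R) ⊗ₜ[R] b) := h2 h1
  have h4 := h3.map (Algebra.TensorProduct.lid R B)
  simpa using h4

lemma finite_of_nil (hn : ∀ x : R, algebraMap R T x = 0 → IsNilpotent x)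
    (hs : Function.Surjective (algebraMap R T)) (B : Type u) [CommRing B] [Algebra R B] [Algebra.FiniteType R B]
    (h : Module.Finite T (T ⊗[R] B)) : Module.Finite R B := by
  have hint : Algebra.IsIntegral R B := by
    constructor
    intro b
    have h1 : IsIntegral T ((1 : T) ⊗ₜ[R] b) := Algebra.IsIntegral.isIntegral _
    obtain ⟨p, hp, hp0⟩ := h1
    obtain ⟨q, hq, -, hqm⟩ := Polynomial.lifts_and_natDegree_eq_and_monic
      ((Polynomial.lifts_iff_coeff_lifts p).mpr fun n => hs _) hp
    have h2 : (1 : T) ⊗ₜ[R] (Polynomial.aeval b q) = 0 := by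
      have h3 : (Algebra.TensorProduct.includeRight : B →ₐ[R] T ⊗[R] B) (Polynomial.aeval b q) = 0 := by
        rw [← Polynomial.aeval_algHom_apply]
        rw [← hq, Polynomial.eval₂_map] at hp0
        convert hp0 using 1
        rw [Polynomial.aeval_def, IsScalarTower.algebraMap_eq R T (T ⊗[R] B)]
        rfl
      exact h3
    obtain ⟨n, hn'⟩ := isNilpotent_of_one_tmul hn hs _ h2
    refine ⟨q ^ n, hqm.pow n, ?_⟩
    rw [← Polynomial.aeval_def, map_pow, hn']
  exact Algebra.IsIntegral.finite

/-- étale algebras lift along surjections with nil kernel, keeping faithful flatness and finiteness, and there is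
an algebra map from the given algebra to the quotient of the lift. -/
lemma exists_etale_lift (hn : ∀ x : R, algebraMap R T x = 0 → IsNilpotent x)
    (hs : Function.Surjective (algebraMap R T)) (T₁ : Type u) [CommRing T₁] [Algebra T T₁] [Algebra R T₁]
    [IsScalarTower R T T₁] [Algebra.Etale T T₁] [Module.FaithfullyFlat T T₁] :
    ∃ (B : Type u) (_ : CommRing B) (_ : Algebra R B), Algebra.Etale R B ∧ Module.FaithfullyFlat R B ∧
      (Module.Finite T T₁ → Module.Finite R B) ∧ ∃ J : Ideal B, (∀ x ∈ J, IsNilpotent x) ∧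
        Nonempty (T₁ →ₐ[R] B ⧸ J) := by
  obtain ⟨B, _, _, hB, ⟨e⟩⟩ := Groth.Agent.Proet.EtaleLiftLoc.exists_etale_lift R T T₁
    (fun s => ⟨1, isUnit_one, fun x _ => by rw [one_mul]; exact hs x⟩)
  have hff : Module.FaithfullyFlat T (T ⊗[R] B) := Module.FaithfullyFlat.of_linearEquiv T _ e.toLinearEquiv
  refine ⟨B, _, _, hB, faithfullyFlat_of_nil hn hs B hff,
    fun hfin => finite_of_nil hn hs B (Module.Finite.equiv e.symm.toLinearEquiv),
    RingHom.ker (Algebra.TensorProduct.includeRight : B →ₐ[R] T ⊗[R] B),
    fun x hx => isNilpotent_of_one_tmul hn hs x hx, ⟨?_⟩⟩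
  have hsurj : Function.Surjective (Algebra.TensorProduct.includeRight : B →ₐ[R] T ⊗[R] B) := by
    intro x
    induction x with
    | zero => exact ⟨0, map_zero _⟩
    | add x y hx hy =>
      obtain ⟨a, ha⟩ := hx
      obtain ⟨b, hb⟩ := hy
      exact ⟨a + b, by rw [map_add, ha, hb]⟩
    | tmul t b =>
      obtain ⟨r, rfl⟩ := hs t
      refine ⟨r • b, ?_⟩
      simp [Algebra.algebraMap_eq_smul_one, TensorProduct.smul_tmul]
  exact ((Ideal.quotientKerAlgEquivOfSurjective hsurj).symm : T ⊗[R] B →ₐ[R] _).comp
    ((e.symm : T₁ →ₐ[T] T ⊗[R] B).restrictScalars R)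

end

end Groth.Agent.Sga3A.NilDescent
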