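import Groth.Agent.Sga3A.MTHens
import Groth.Agent.Sga3A.NilDescent

/-!
# Isotriviality over Noetherian henselian pairs (SGA 3 X 3.2 (ii))
-/

set_option autoImplicit false

open TensorProduct

namespace Groth.Agent.Sga3A.MTHens

open MTBasis MTTorsion MTDual MTKey MTConst SGA3b TypeLemma MultBC MTQuasi MTNormal

universe u

/-- constancy of the type in the presence of a basis over `T/I`, `I` inside the Jacobson radical -/
lemma exists_gbasis_of_jacobson {T : Type u} [CommRing T] {B : Type u} [CommRing B] [HopfAlgebra T B]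
    (h : IsMultType T B) {I : Ideal T} (hI : I ≤ Ideal.jacobson ⊥) {M : Type u} [CommGroup M]
    (g₀ : GBasis (T ⧸ I) ((T ⧸ I) ⊗[T] B) M) :
    ∃ (S : Type u) (_ : CommRing S) (_ : Algebra T S) (_ : Module.FaithfullyFlat T S),
      Nonempty (GBasis S (S ⊗[T] B) M) := by
  classical
  obtain ⟨ι, _, S, _, _, hflat, hsurj, hd⟩ := IsMultType.exists_family h
  choose X hX e using hd
  have hff := faithfullyFlat_pi S hsurj
  have key : ∀ i, Nontrivial (S i) → Nonempty (X i ≃* M) := by
    intro i hn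
    let ε : T := idem e i
    have hε : algebraMap T (∀ j, S j) ε = ind S X i := algebraMap_idem e i
    have hinj : Function.Injective (algebraMap T (∀ j, S j)) := FaithfulSMul.algebraMap_injective _ _
    have hidem : ε * ε = ε := by
      apply hinj
      rw [map_mul, hε]
      funext j
      simp only [Pi.mul_apply, ind]
      split_ifs <;> simp
    have hne : ε ≠ 0 := by
      intro h0
      rw [h0, map_zero] at hε
      have h1 := congrFun hε i
      simp only [Pi.zero_apply, ind] at h1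
      rw [if_pos ⟨MulEquiv.refl _⟩] at h1
      exact zero_ne_one h1
    obtain ⟨m, hm, hεm⟩ : ∃ m : Ideal T, m.IsMaximal ∧ ε ∉ m := by
      by_contra hcon
      push Not at hcon
      exact hne (idem_ext hidem (by simp) (fun Q hQ => by rw [sub_zero]; exact hcon Q hQ))
    obtain ⟨j, Q, hQ⟩ := hsurj ⟨m, hm.isPrime⟩
    have hQ' : Q.asIdeal.comap (algebraMap T (S j)) = m := congrArg PrimeSpectrum.asIdeal hQ
    have hij : Nonempty (X i ≃* X j) := by
      by_contra hcon
      have h1 := congrFun hε j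
      simp only [ind] at h1
      rw [if_neg hcon] at h1
      apply hεm
      rw [← hQ', Ideal.mem_comap]
      have h2 : algebraMap T (S j) ε = 0 := h1
      rw [h2]
      exact zero_mem _
    have hjM : Nonempty (X j ≃* M) := by
      let F := S j ⧸ Q.asIdeal
      have : Nontrivial F := Ideal.Quotient.nontrivial_iff.mpr Q.2.ne_top
      let f : S j →ₐ[T] F := Ideal.Quotient.mkₐ T Q.asIdeal
      let f' : (T ⧸ I) →ₐ[T] F := Ideal.Quotient.liftₐ I (Algebra.ofId T F) (by
        intro t ht
        change Ideal.Quotient.mk Q.asIdeal (algebraMap T (S j) t) = 0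
        rw [Ideal.Quotient.eq_zero_iff_mem]
        have h3 : t ∈ m := (Ideal.mem_sInf.mp (hI ht)) ⟨bot_le, hm⟩
        rw [← hQ'] at h3
        exact h3)
      exact mulEquiv_of_common (B := B) f f' (e j) ⟨g₀.bialgEquiv.symm⟩
    exact ⟨hij.some.trans hjM.some⟩
  have hX' : ∀ i, Nonempty (S i ⊗[T] B ≃ₐc[S i] MonoidAlgebra (S i) M) := by
    intro i
    obtain ⟨ei⟩ := e i
    cases subsingleton_or_nontrivial (S i) with
    | inl hs =>
      obtain ⟨e'⟩ := diag_of_subsingleton (S i) (X i) M
      exact ⟨ei.trans e'⟩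
    | inr hs =>
      obtain ⟨σ⟩ := key i hs
      exact ⟨((GBasis.ofBialgEquiv ei).reindex σ).bialgEquiv.symm⟩
  exact ⟨∀ i, S i, inferInstance, inferInstance, inferInstance,
    ⟨GBasis.ofBialgEquiv (DiagPi.diagPi fun i => (hX' i).some)⟩⟩

/-- a finite algebra over a henselian pair is a henselian pair -/
lemma henselianRing_of_finite {R : Type u} [CommRing R] {I : Ideal R} [HenselianRing R I] (T : Type u) [CommRing T]
    [Algebra R T] [Module.Finite R T] : HenselianRing T (I.map (algebraMap R T)) := by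
  apply (Groth.Agent.S0521.result T _).mpr
  intro C _ _ hC
  let _ : Algebra R C := ((algebraMap T C).comp (algebraMap R T)).toAlgebra
  have : IsScalarTower R T C := .of_algebraMap_eq' rfl
  have := Module.Finite.trans (R := R) T C
  have h := (Groth.Agent.S0521.result R I).mp inferInstance C inferInstance
  rw [IsScalarTower.algebraMap_eq R T C, ← Ideal.map_map] at h
  exact h

lemma isIsotrivial_of_subsingleton {R A : Type u} [CommRing R] [Subsingleton R] [CommRing A] [HopfAlgebra R A] :
    IsIsotrivial R A := by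
  refine ⟨R, inferInstance, inferInstance, inferInstance, inferInstance, inferInstance, PUnit, inferInstance, ?_⟩
  have h1 : Subsingleton (R ⊗[R] A) := RingHom.codomain_trivial (algebraMap R _)
  have h2 : Subsingleton (MonoidAlgebra R PUnit) := RingHom.codomain_trivial (algebraMap R _)
  exact ⟨BialgEquiv.ofBijective (Bialgebra.counitBialgHom R _ |> fun f =>
    (Bialgebra.unitBialgHom R (MonoidAlgebra R PUnit)).comp f)
    ⟨Function.injective_of_subsingleton _, fun y => ⟨0, Subsingleton.elim _ _⟩⟩⟩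

/-- SGA 3 X 3.2 (ii) for Noetherian henselian pairs. -/
theorem isIsotrivial_of_henselian {R A : Type u} [CommRing R] [CommRing A] [HopfAlgebra R A] [IsNoetherianRing R]
    (I : Ideal R) [HenselianRing R I] [Algebra.FiniteType R A] (h : IsMultType R A)
    (h0 : IsIsotrivial (R ⧸ I) ((R ⧸ I) ⊗[R] A)) : IsIsotrivial R A := by
  cases subsingleton_or_nontrivial R with
  | inl hs => exact isIsotrivial_of_subsingleton
  | inr hn =>
  have hI : I ≤ Ideal.jacobson ⊥ := HenselianRing.jac
  obtain ⟨T₀, _, _, _, _, _, M, _, ⟨e⟩⟩ := h0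
  obtain ⟨T, _, _, _, _, ⟨φ⟩⟩ := Groth.Agent.S0532.result R I T₀
  have hff : Module.FaithfullyFlat R T := by
    refine Groth.Agent.Sga3A.LiftHens.faithfullyFlat_of_le_jacobson I hI T (R' := T₀)
      (((φ : (R ⧸ I) ⊗[R] T →ₐ[R ⧸ I] T₀).toRingHom).comp
        (Algebra.TensorProduct.includeRight : T →ₐ[R] (R ⧸ I) ⊗[R] T).toRingHom) (fun p => ?_)
    change φ ((1 : R ⧸ I) ⊗ₜ[R] algebraMap R T p) = _
    rw [Algebra.algebraMap_eq_smul_one, ← TensorProduct.smul_tmul, ← Algebra.algebraMap_eq_smul_one]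
    exact φ.commutes (Ideal.Quotient.mk I p)
  have hnT : Nontrivial T := (FaithfulSMul.algebraMap_injective R T).nontrivial
  -- the basis over `(R/I) ⊗ T`
  let g₁ : GBasis ((R ⧸ I) ⊗[R] T) (((R ⧸ I) ⊗[R] T) ⊗[R] A) M :=
    ((GBasis.ofBialgEquiv e).bc (φ.symm : T₀ →ₐ[R ⧸ I] (R ⧸ I) ⊗[R] T)).map
      (cancelBC R (R ⧸ I) ((R ⧸ I) ⊗[R] T) A)
  -- push it to any `T`-algebra killed by `I`
  have hpush : ∀ (T₁ : Type u) [CommRing T₁] [Algebra R T₁] (f : T →ₐ[R] T₁),
      Nonempty (GBasis (T₁ ⧸ I.map (algebraMap R T₁)) ((T₁ ⧸ I.map (algebraMap R T₁)) ⊗[R] A) M) := by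
    intro T₁ _ _ f
    refine ⟨g₁.bc (Algebra.TensorProduct.lift
      (Ideal.Quotient.liftₐ I (Algebra.ofId R (T₁ ⧸ I.map (algebraMap R T₁))) ?_)
      ((Ideal.Quotient.mkₐ R _).comp f) (fun _ _ => .all _ _))⟩
    intro t ht
    change Ideal.Quotient.mk _ (algebraMap R T₁ t) = 0
    rw [Ideal.Quotient.eq_zero_iff_mem]
    exact Ideal.mem_map_of_mem _ ht
  have hmt : IsMultType T (T ⊗[R] A) := Groth.Agent.Sga3A.NilDescent.isMultType_baseChange T h
  have hHT : HenselianRing T (I.map (algebraMap R T)) := henselianRing_of_finite T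
  obtain ⟨gT⟩ := hpush T (AlgHom.id R T)
  obtain ⟨S, _, _, _, ⟨gS⟩⟩ := exists_gbasis_of_jacobson hmt (HenselianRing.jac (I := I.map (algebraMap R T)))
    (gT.map (cancelBC R T (T ⧸ I.map (algebraMap R T)) A).symm)
  have hnS : Nontrivial S := (FaithfulSMul.algebraMap_injective T S).nontrivial
  have hfg : Group.FG M := fg_of_gbasis gS
  have hflat : Module.Flat T (T ⊗[R] A) := flat_of_gbasis gS
  obtain ⟨T₁, _, _, _, _, _, hT₁⟩ := exists_etale_local' gS
  let _ : Algebra R T₁ := ((algebraMap T T₁).comp (algebraMap R T)).toAlgebra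
  have : IsScalarTower R T T₁ := .of_algebraMap_eq' rfl
  have : Module.Finite R T₁ := Module.Finite.trans T T₁
  have : Algebra.Etale R T₁ := Algebra.Etale.comp R T T₁
  have : Module.FaithfullyFlat R T₁ := Module.FaithfullyFlat.trans R T T₁
  have hHT₁ : HenselianRing T₁ (I.map (algebraMap R T₁)) := henselianRing_of_finite T₁
  have : IsNoetherianRing T₁ := IsNoetherianRing.of_finite R T₁
  obtain ⟨g₀⟩ := hpush T₁ (IsScalarTower.toAlgHom R T T₁)
  have hfl : Module.Flat T₁ (T₁ ⊗[R] A) := by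
    have h1 : Module.Flat T₁ (T₁ ⊗[T] (T ⊗[R] A)) := inferInstance
    exact Module.Flat.of_linearEquiv (cancelBC R T T₁ A).symm.toLinearEquiv
  have hd : IsDiag T₁ (T₁ ⊗[R] A) :=
    isDiag_of_henselian (T := T₁) (B := T₁ ⊗[R] A) (I := I.map (algebraMap R T₁)) (M := M)
      (g₀.map (cancelBC R T₁ (T₁ ⧸ I.map (algebraMap R T₁)) A).symm) (by
        intro q
        obtain ⟨w, hw, ⟨g⟩⟩ := hT₁ q
        refine ⟨w, hw, ⟨?_⟩⟩
        exact (g.map (cancelBC R T (Localization.Away w) A)).map
          (cancelBC R T₁ (Localization.Away w) A).symm)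
  exact ⟨T₁, inferInstance, inferInstance, inferInstance, inferInstance, inferInstance, hd⟩

end Groth.Agent.Sga3A.MTHens
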