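import Groth.Agent.Sga3A.MTBasis
import Groth.Agent.Sga3A.MultBC
import Mathlib.RingTheory.Localization.Away.Basic
import Mathlib.RingTheory.Localization.BaseChange
import Mathlib.RingTheory.FinitePresentation

/-!
# Spreading out a splitting from a localization
-/

set_option autoImplicit false

open TensorProduct

namespace Groth.Agent.Sga3A.MTSpread

open MTBasis

universe u

section lemmas

variable {T : Type u} [CommRing T]

/-- the unique algebra map from `T_w` -/
noncomputable def aw (w : T) (K : Type u) [CommRing K] [Algebra T K] (h : IsUnit (algebraMap T K w)) :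
    Localization.Away w →ₐ[T] K :=
  IsLocalization.liftAlgHom (M := Submonoid.powers w) (f := Algebra.ofId T K) (by
    rintro ⟨_, n, rfl⟩
    simp only [map_pow]
    exact h.pow n)

lemma algHom_away_ext (w : T) {K : Type u} [CommRing K] [Algebra T K] (f f' : Localization.Away w →ₐ[T] K) : f = f' := by
  apply IsLocalization.algHom_ext (Submonoid.powers w)
  ext

variable (W : Submonoid T)

/-- `T_w → W⁻¹T` -/
noncomputable def awL (w : T) (hw : w ∈ W) : Localization.Away w →ₐ[T] Localization W :=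
  aw w _ (IsLocalization.map_units (Localization W) (⟨w, hw⟩ : W))

/-- `T_w → T_{ww'}` -/
noncomputable def awM (w w' : T) (h : w ∣ w') : Localization.Away w →ₐ[T] Localization.Away w' :=
  aw w _ (isUnit_of_dvd_unit (map_dvd _ h) (IsLocalization.Away.algebraMap_isUnit w'))

variable {W} {N : Type u} [AddCommGroup N] [Module T N]

/-- the base change map on modules -/
noncomputable abbrev rT (N : Type u) [AddCommGroup N] [Module T N] {K K' : Type u} [CommRing K] [CommRing K']
    [Algebra T K] [Algebra T K'] (f : K →ₐ[T] K') : K ⊗[T] N →ₗ[T] K' ⊗[T] N := f.toLinearMap.rTensor N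

lemma rT_smul {K K' : Type u} [CommRing K] [CommRing K']
    [Algebra T K] [Algebra T K'] (f : K →ₐ[T] K') (k : K) (x : K ⊗[T] N) : rT N f (k • x) = f k • rT N f x := by
  induction x using TensorProduct.induction_on with
  | zero => simp
  | tmul s a => simp [TensorProduct.smul_tmul']
  | add x y hx hy => rw [smul_add, map_add, map_add, hx, hy, smul_add]

lemma exists_smul_eq (V : Submonoid T) (x : Localization V ⊗[T] N) : ∃ w ∈ V, ∃ n : N,
    (algebraMap T (Localization V) w) • x = (1 : Localization V) ⊗ₜ[T] n := by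
  induction x using TensorProduct.induction_on with
  | zero => exact ⟨1, V.one_mem, 0, by simp⟩
  | tmul s a =>
    obtain ⟨⟨t, v⟩, h⟩ := IsLocalization.surj V s
    refine ⟨v, v.2, t • a, ?_⟩
    rw [TensorProduct.smul_tmul', smul_eq_mul, mul_comm, h, ← TensorProduct.smul_tmul, Algebra.algebraMap_eq_smul_one]
  | add x y hx hy =>
    obtain ⟨w, hw, n, hn⟩ := hx
    obtain ⟨w', hw', n', hn'⟩ := hy
    refine ⟨w * w', V.mul_mem hw hw', w' • n + w • n', ?_⟩
    rw [smul_add, map_mul, mul_comm, mul_smul, hn, mul_comm, mul_smul, hn', TensorProduct.tmul_add,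
      TensorProduct.tmul_smul, TensorProduct.tmul_smul, algebraMap_smul, algebraMap_smul]

lemma exists_lift (x : Localization W ⊗[T] N) : ∃ (w : T) (hw : w ∈ W) (y : Localization.Away w ⊗[T] N),
    rT N (awL W w hw) y = x := by
  obtain ⟨w, hw, n, hn⟩ := exists_smul_eq W x
  refine ⟨w, hw, IsLocalization.Away.invSelf w ⊗ₜ n, ?_⟩
  have h1 : IsUnit (algebraMap T (Localization W) w) := IsLocalization.map_units (Localization W) (⟨w, hw⟩ : W)
  apply h1.smul_left_cancel.mp
  rw [hn]
  simp only [LinearMap.rTensor_tmul, AlgHom.toLinearMap_apply, TensorProduct.smul_tmul', smul_eq_mul]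
  rw [← AlgHom.commutes (awL W w hw), ← map_mul, IsLocalization.Away.mul_invSelf, map_one]

lemma exists_eq_zero (w : T) (hw : w ∈ W) (y : Localization.Away w ⊗[T] N) (hy : rT N (awL W w hw) y = 0) :
    ∃ (w' : T) (_ : w' ∈ W) (h : w ∣ w'), rT N (awM w w' h) y = 0 := by
  obtain ⟨_, ⟨k, rfl⟩, n, hn⟩ := exists_smul_eq (Submonoid.powers w) y
  have h1 : (1 : Localization W) ⊗ₜ[T] n = 0 := by
    have := congrArg (rT N (awL W w hw)) hn
    rw [rT_smul, hy, smul_zero] at this
    simpa using this.symm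
  have h2 : ∃ v ∈ W, v • n = 0 := by
    have hloc : IsLocalizedModule W (TensorProduct.mk T (Localization W) N 1) :=
      (isLocalizedModule_iff_isBaseChange W (Localization W) _).mpr (TensorProduct.isBaseChange T N (Localization W))
    obtain ⟨c, hc⟩ := (IsLocalizedModule.eq_zero_iff W (TensorProduct.mk T (Localization W) N 1)).mp h1
    exact ⟨c, c.2, hc⟩
  obtain ⟨v, hv, hvn⟩ := h2
  refine ⟨w * v, W.mul_mem hw hv, dvd_mul_right _ _, ?_⟩
  have h3 : IsUnit (algebraMap T (Localization.Away (w * v)) (w ^ k)) := by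
    rw [map_pow]
    exact (isUnit_of_dvd_unit (map_dvd _ (dvd_mul_right w v)) (IsLocalization.Away.algebraMap_isUnit (w * v))).pow k
  have h4 : IsUnit (algebraMap T (Localization.Away (w * v)) v) :=
    isUnit_of_dvd_unit (map_dvd _ (dvd_mul_left v w)) (IsLocalization.Away.algebraMap_isUnit (w * v))
  apply h4.smul_left_cancel.mp
  apply h3.smul_left_cancel.mp
  rw [smul_zero, smul_zero, smul_comm]
  have h5 := congrArg (rT N (awM w (w * v) (dvd_mul_right _ _))) hn
  rw [rT_smul, AlgHom.commutes] at h5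
  rw [h5]
  simp only [LinearMap.rTensor_tmul, AlgHom.toLinearMap_apply, map_one]
  rw [algebraMap_smul, ← TensorProduct.tmul_smul, hvn, TensorProduct.tmul_zero]

lemma aw_comp (w : T) (K K' : Type u) [CommRing K] [Algebra T K] [CommRing K'] [Algebra T K']
    (f : Localization.Away w →ₐ[T] K) (f' : K →ₐ[T] K') (f'' : Localization.Away w →ₐ[T] K') : f'.comp f = f'' :=
  algHom_away_ext w _ _

lemma rT_rT {K K' K'' : Type u} [CommRing K] [CommRing K'] [CommRing K''] [Algebra T K] [Algebra T K'] [Algebra T K'']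
    (f : K →ₐ[T] K') (f' : K' →ₐ[T] K'') (x : K ⊗[T] N) : rT N f' (rT N f x) = rT N (f'.comp f) x := by
  rw [rT, rT, rT, AlgHom.comp_toLinearMap, LinearMap.rTensor_comp, LinearMap.comp_apply]

/-- finitely many elements can be killed simultaneously -/
lemma exists_forall_eq_zero {ι : Type*} (F : Set ι) (hF : F.Finite) (w : T) (hw : w ∈ W)
    (y : ι → Localization.Away w ⊗[T] N) (hy : ∀ i ∈ F, rT N (awL W w hw) (y i) = 0) :
    ∃ (w' : T) (_ : w' ∈ W) (h : w ∣ w'), ∀ i ∈ F, rT N (awM w w' h) (y i) = 0 := by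
  induction F, hF using Set.Finite.induction_on with
  | empty => exact ⟨w, hw, dvd_rfl, by simp⟩
  | @insert a F _ _ ih =>
    obtain ⟨w', hw', h', H⟩ := ih (fun i hi => hy i (Set.mem_insert_of_mem _ hi))
    obtain ⟨w'', hw'', h'', H'⟩ := exists_eq_zero w' hw' (rT N (awM w w' h') (y a)) (by
      rw [rT_rT, aw_comp _ _ _ _ _ (awL W w hw)]
      exact hy a (Set.mem_insert _ _))
    refine ⟨w'', hw'', h'.trans h'', ?_⟩
    rintro i (rfl | hi)
    · rw [rT_rT, aw_comp _ _ _ _ _ (awM w w'' (h'.trans h''))] at H'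
      exact H'
    · have := congrArg (rT N (awM w' w'' h'')) (H i hi)
      rw [rT_rT, aw_comp _ _ _ _ _ (awM w w'' (h'.trans h'')), map_zero] at this
      exact this

lemma exists_forall_lift {ι : Type*} [Finite ι] (x : ι → Localization W ⊗[T] N) :
    ∃ (w : T) (hw : w ∈ W) (y : ι → Localization.Away w ⊗[T] N), ∀ i, rT N (awL W w hw) (y i) = x i := by
  classical
  cases nonempty_fintype ι
  choose w hw y hy using fun i => exists_lift (x i)
  refine ⟨∏ i, w i, Submonoid.prod_mem _ fun i _ => hw i,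
    fun i => rT N (awM (w i) _ (Finset.dvd_prod_of_mem w (Finset.mem_univ i))) (y i), fun i => ?_⟩
  rw [rT_rT, aw_comp _ _ _ _ _ (awL W (w i) (hw i)), hy]

end lemmas

section algebras

variable {T : Type u} [CommRing T] {W : Submonoid T} {B C : Type u} [CommRing B] [Bialgebra T B] [CommRing C] [Algebra T C]

lemma rT_eq_bc {K K' : Type u} [CommRing K] [CommRing K'] [Algebra T K] [Algebra T K'] (f : K →ₐ[T] K')
    (x : K ⊗[T] B) : rT B f x = bc B f x := rfl

/-- equality of algebra homomorphisms spreads out -/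
lemma exists_comp_eq [Algebra.FiniteType T C] (w : T) (hw : w ∈ W) (φ φ' : C →ₐ[T] Localization.Away w ⊗[T] B)
    (h : (bc B (awL W w hw)).comp φ = (bc B (awL W w hw)).comp φ') :
    ∃ (w' : T) (_ : w' ∈ W) (h : w ∣ w'), (bc B (awM w w' h)).comp φ = (bc B (awM w w' h)).comp φ' := by
  obtain ⟨s, hs⟩ := (Algebra.FiniteType.out : (⊤ : Subalgebra T C).FG)
  obtain ⟨w', hw', h', H⟩ := exists_forall_eq_zero (W := W) (s : Set C) s.finite_toSet w hw (fun c => φ c - φ' c) (by
    intro c _
    rw [map_sub, sub_eq_zero]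
    exact DFunLike.congr_fun h c)
  refine ⟨w', hw', h', ?_⟩
  apply AlgHom.ext_of_adjoin_eq_top hs
  intro c hc
  have := H c hc
  rw [map_sub, sub_eq_zero] at this
  exact this

/-- algebra homomorphisms from finitely presented algebras spread out -/
lemma exists_algHom [Algebra.FinitePresentation T C] (φ : C →ₐ[T] Localization W ⊗[T] B) :
    ∃ (w : T) (hw : w ∈ W) (φ' : C →ₐ[T] Localization.Away w ⊗[T] B), (bc B (awL W w hw)).comp φ' = φ := by
  obtain ⟨k, f, hf, r, hr⟩ := Algebra.FinitePresentation.out (R := T) (A := C)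
  obtain ⟨w, hw, y, hy⟩ := exists_forall_lift (W := W) (N := B) (fun i : Fin k => φ (f (MvPolynomial.X i)))
  let F : MvPolynomial (Fin k) T →ₐ[T] Localization.Away w ⊗[T] B := MvPolynomial.aeval y
  have hF : (bc B (awL W w hw)).comp F = φ.comp f := by
    ext i
    simp only [AlgHom.comp_apply, F, MvPolynomial.aeval_X]
    exact hy i
  obtain ⟨w', hw', h', H⟩ := exists_forall_eq_zero (W := W) (r : Set (MvPolynomial (Fin k) T)) r.finite_toSet w hw
    (fun c => F c) (by
      intro c hc
      have h1 : c ∈ RingHom.ker f.toRingHom := hr ▸ Ideal.subset_span hc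
      have h2 := DFunLike.congr_fun hF c
      rw [AlgHom.comp_apply, AlgHom.comp_apply, (show f c = 0 from h1), map_zero] at h2
      exact h2)
  let F' : MvPolynomial (Fin k) T →ₐ[T] Localization.Away w' ⊗[T] B := (bc B (awM w w' h')).comp F
  have hker : ∀ c, c ∈ RingHom.ker f.toRingHom → F' c = 0 := by
    have : RingHom.ker f.toRingHom ≤ RingHom.ker F'.toRingHom := by
      rw [← hr, Ideal.span_le]
      intro c hc
      exact H c hc
    intro c hc
    exact this hc
  let φ' : C →ₐ[T] Localization.Away w' ⊗[T] B :=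
    (Ideal.Quotient.liftₐ (RingHom.ker f) F' hker).comp (Ideal.quotientKerAlgEquivOfSurjective hf).symm.toAlgHom
  have hφ' : φ'.comp f = F' := by
    apply AlgHom.ext
    intro c
    have : (Ideal.quotientKerAlgEquivOfSurjective hf).symm (f c) = Ideal.Quotient.mk _ c := by
      rw [AlgEquiv.symm_apply_eq]
      rfl
    simp only [φ', AlgHom.comp_apply]
    change (Ideal.Quotient.liftₐ (RingHom.ker f) F' hker) ((Ideal.quotientKerAlgEquivOfSurjective hf).symm (f c)) = _
    rw [this]
    rfl
  refine ⟨w', hw', φ', ?_⟩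
  apply AlgHom.ext
  intro c
  obtain ⟨c, rfl⟩ := hf c
  have h3 : φ' (f c) = F' c := DFunLike.congr_fun hφ' c
  have h4 := DFunLike.congr_fun hF c
  rw [AlgHom.comp_apply, h3]
  simp only [F', AlgHom.comp_apply] at *
  rw [bc_bc, aw_comp _ _ _ _ _ (awL W w hw), h4]

/-- `K`-linear extension of an algebra map `C → K ⊗ B` -/
noncomputable def ex {K : Type u} [CommRing K] [Algebra T K] (φ : C →ₐ[T] K ⊗[T] B) : K ⊗[T] C →ₐ[K] K ⊗[T] B :=
  Algebra.TensorProduct.lift (Algebra.ofId K _) φ (fun _ _ => .all _ _)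

lemma ex_one_tmul {K : Type u} [CommRing K] [Algebra T K] (φ : C →ₐ[T] K ⊗[T] B) (c : C) : ex φ (1 ⊗ₜ c) = φ c := by
  simp only [ex, Algebra.TensorProduct.lift_tmul, map_one, one_mul]

lemma bc_ex {D : Type u} [CommRing D] [Bialgebra T D] {K K' : Type u} [CommRing K] [Algebra T K] [CommRing K'] [Algebra T K']
    (f : K →ₐ[T] K') (φ : D →ₐ[T] K ⊗[T] B) (y : K ⊗[T] D) :
    bc B f (ex φ y) = ex ((bc B f).comp φ) (bc D f y) := by
  induction y using TensorProduct.induction_on with
  | zero => simp
  | tmul s a =>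
    have h1 : s ⊗ₜ[T] a = s • ((1 : K) ⊗ₜ[T] a) := by simp [TensorProduct.smul_tmul']
    rw [h1, map_smul, bc_smul, bc_smul, map_smul, ex_one_tmul, bc_tmul, map_one, ex_one_tmul, AlgHom.comp_apply]
  | add x y hx hy => rw [map_add, map_add, map_add, map_add, hx, hy]

end algebras

section glike

variable {T : Type u} [CommRing T] {W : Submonoid T} {B : Type u} [CommRing B] [HopfAlgebra T B]

variable (B) in
/-- the defect of being group-like -/
noncomputable def dft {K : Type u} [CommRing K] [Algebra T K] (x : K ⊗[T] B) : K ⊗[T] (B ⊗[T] B) :=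
  (Algebra.TensorProduct.map (AlgHom.id K K) (Bialgebra.comulAlgHom T B)) x -
    (Algebra.TensorProduct.map (AlgHom.id K K) (Algebra.TensorProduct.includeLeft : B →ₐ[T] B ⊗[T] B)) x *
    (Algebra.TensorProduct.map (AlgHom.id K K) (Algebra.TensorProduct.includeRight : B →ₐ[T] B ⊗[T] B)) x

lemma map_natural {K K' : Type u} [CommRing K] [CommRing K'] [Algebra T K] [Algebra T K'] (f : K →ₐ[T] K')
    {C : Type u} [CommRing C] [Algebra T C] (h : B →ₐ[T] C) (x : K ⊗[T] B) :
    rT C f (Algebra.TensorProduct.map (AlgHom.id K K) h x) =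
      Algebra.TensorProduct.map (AlgHom.id K' K') h (bc B f x) := by
  induction x using TensorProduct.induction_on with
  | zero => simp
  | tmul s a => simp
  | add x y hx hy => rw [map_add, map_add, map_add, map_add, hx, hy]

lemma rT_mul {C : Type u} [CommRing C] [Algebra T C] {K K' : Type u} [CommRing K] [CommRing K'] [Algebra T K] [Algebra T K'] (f : K →ₐ[T] K')
    (x y : K ⊗[T] C) : rT C f (x * y) = rT C f x * rT C f y :=
  map_mul (Algebra.TensorProduct.map f (AlgHom.id T C)) x y

lemma rT_dft {K K' : Type u} [CommRing K] [CommRing K'] [Algebra T K] [Algebra T K'] (f : K →ₐ[T] K')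
    (x : K ⊗[T] B) : rT _ f (dft B x) = dft B (bc B f x) := by
  rw [dft, dft, map_sub, rT_mul, map_natural, map_natural, map_natural]

lemma counit_bc {K K' : Type u} [CommRing K] [CommRing K'] [Algebra T K] [Algebra T K'] (f : K →ₐ[T] K')
    (x : K ⊗[T] B) : Coalgebra.counit (R := K') (bc B f x) = f (Coalgebra.counit (R := K) x) := by
  induction x using TensorProduct.induction_on with
  | zero => simp
  | tmul s a => simp
  | add x y hx hy => rw [map_add, map_add, map_add, map_add, hx, hy]

lemma comul_eq {K : Type u} [CommRing K] [Algebra T K] (x : K ⊗[T] B) :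
    Coalgebra.comul (R := K) x = TensorProduct.AlgebraTensorModule.distribBaseChange T K B B
      (Algebra.TensorProduct.map (AlgHom.id K K) (Bialgebra.comulAlgHom T B) x) := by
  induction x using TensorProduct.induction_on with
  | zero => simp
  | tmul s a =>
    have h1 : s ⊗ₜ[T] a = s • ((1 : K) ⊗ₜ[T] a) := by simp [TensorProduct.smul_tmul']
    rw [h1, map_smul, map_smul, map_smul, comul_one_tmul]
    rfl
  | add x y hx hy => rw [map_add, map_add, map_add, hx, hy]

lemma tmul_eq {K : Type u} [CommRing K] [Algebra T K] (x y : K ⊗[T] B) :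
    x ⊗ₜ[K] y = TensorProduct.AlgebraTensorModule.distribBaseChange T K B B
      ((Algebra.TensorProduct.map (AlgHom.id K K) (Algebra.TensorProduct.includeLeft : B →ₐ[T] B ⊗[T] B)) x *
    (Algebra.TensorProduct.map (AlgHom.id K K) (Algebra.TensorProduct.includeRight : B →ₐ[T] B ⊗[T] B)) y) := by
  induction x using TensorProduct.induction_on with
  | zero => simp
  | tmul s a =>
    induction y using TensorProduct.induction_on with
    | zero => simp
    | tmul s' a' =>
      have h1 : (s * s') ⊗ₜ[T] a = s' • (s ⊗ₜ[T] a) := by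
        rw [TensorProduct.smul_tmul', smul_eq_mul, mul_comm]
      have h2 : s' ⊗ₜ[T] a' = s' • ((1 : K) ⊗ₜ[T] a') := by simp [TensorProduct.smul_tmul']
      simp only [Algebra.TensorProduct.map_tmul, AlgHom.id_apply, Algebra.TensorProduct.includeLeft_apply,
        Algebra.TensorProduct.includeRight_apply, Algebra.TensorProduct.tmul_mul_tmul, mul_one, one_mul,
        TensorProduct.AlgebraTensorModule.distribBaseChange_tmul]
      rw [h1, h2, TensorProduct.smul_tmul]
    | add x y hx hy => rw [map_add, mul_add, map_add, TensorProduct.tmul_add, hx, hy]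
  | add x y hx hy => rw [map_add, add_mul, map_add, TensorProduct.add_tmul, hx, hy]

lemma isGroupLikeElem_iff_dft {K : Type u} [CommRing K] [Algebra T K] (x : K ⊗[T] B) :
    IsGroupLikeElem K x ↔ Coalgebra.counit (R := K) x = 1 ∧ dft B x = 0 := by
  constructor
  · intro h
    refine ⟨h.counit_eq_one, ?_⟩
    rw [dft, sub_eq_zero]
    apply (TensorProduct.AlgebraTensorModule.distribBaseChange T K B B).injective
    rw [← comul_eq, ← tmul_eq, h.comul_eq_tmul_self]
  · rintro ⟨h1, h2⟩
    refine ⟨h1, ?_⟩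
    rw [comul_eq, tmul_eq]
    rw [dft, sub_eq_zero] at h2
    rw [h2]

/-- group-likeness spreads out -/
lemma exists_isGroupLikeElem {ι : Type*} (F : Set ι) (hF : F.Finite) (w : T) (hw : w ∈ W) (x : ι → Localization.Away w ⊗[T] B)
    (hx : ∀ i ∈ F, IsGroupLikeElem (Localization W) (bc B (awL W w hw) (x i))) :
    ∃ (w' : T) (_ : w' ∈ W) (h : w ∣ w'), ∀ i ∈ F, IsGroupLikeElem (Localization.Away w') (bc B (awM w w' h) (x i)) := by
  obtain ⟨w', hw', h', H⟩ := exists_forall_eq_zero (W := W) F hF w hw (fun i => dft B (x i)) (by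
    intro i hi
    rw [rT_dft]
    exact ((isGroupLikeElem_iff_dft _).mp (hx i hi)).2)
  obtain ⟨w'', hw'', h'', H'⟩ := exists_forall_eq_zero (W := W) (N := T) F hF w' hw'
    (fun i => (awM w w' h' (Coalgebra.counit (R := Localization.Away w) (x i)) - 1) ⊗ₜ[T] (1 : T)) (by
      intro i hi
      have h1 := ((isGroupLikeElem_iff_dft _).mp (hx i hi)).1
      rw [counit_bc] at h1
      simp only [LinearMap.rTensor_tmul, AlgHom.toLinearMap_apply, map_sub, map_one]
      rw [← AlgHom.comp_apply, aw_comp _ _ _ _ _ (awL W w hw), h1, sub_self, TensorProduct.zero_tmul])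
  refine ⟨w'', hw'', h'.trans h'', fun i hi => ?_⟩
  rw [isGroupLikeElem_iff_dft]
  constructor
  · have h1 := H' i hi
    simp only [LinearMap.rTensor_tmul, AlgHom.toLinearMap_apply, map_sub, map_one] at h1
    rw [← AlgHom.comp_apply, aw_comp _ _ _ _ _ (awM w w'' (h'.trans h''))] at h1
    have h2 := congrArg (TensorProduct.rid T _) h1
    rw [TensorProduct.rid_tmul, one_smul, map_zero, sub_eq_zero] at h2
    rw [counit_bc, h2]
  · have h1 := congrArg (rT _ (awM w' w'' h'')) (H i hi)
    rw [rT_rT, aw_comp _ _ _ _ _ (awM w w'' (h'.trans h'')), map_zero, rT_dft] at h1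
    exact h1

end glike

section main

/-- group algebras of finitely generated abelian groups are finitely presented -/
lemma finitePresentation_monoidAlgebra (T : Type u) [CommRing T] (M : Type u) [CommGroup M] [Group.FG M] :
    Algebra.FinitePresentation T (MonoidAlgebra T M) := by
  have : Monoid.FG M := Group.fg_iff_monoid_fg.mp ‹_›
  have h1 : Algebra.FiniteType ℤ (MonoidAlgebra ℤ M) := inferInstance
  have h2 : Algebra.FinitePresentation ℤ (MonoidAlgebra ℤ M) := Algebra.FinitePresentation.of_finiteType.mp h1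
  have h3 : Algebra.FinitePresentation T (T ⊗[ℤ] MonoidAlgebra ℤ M) := inferInstance
  exact Algebra.FinitePresentation.equiv (MonoidAlgebra.scalarTensorEquiv ℤ T)

lemma bcf_includeRight {T : Type u} [CommRing T] {K K' : Type u} [CommRing K] [Algebra T K] [CommRing K'] [Algebra T K']
    {B : Type u} [CommRing B] [Bialgebra T B] (f : K →ₐ[T] K') :
    (bc B f).comp (Algebra.TensorProduct.includeRight : B →ₐ[T] K ⊗[T] B) = Algebra.TensorProduct.includeRight := by
  ext b; simp

lemma ex_comp_includeRight {T : Type u} [CommRing T] {K : Type u} [CommRing K] [Algebra T K]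
    {B C : Type u} [CommRing B] [Bialgebra T B] [CommRing C] [Bialgebra T C] (f : K ⊗[T] C →ₐ[K] K ⊗[T] B) :
    ex ((f.restrictScalars T).comp Algebra.TensorProduct.includeRight) = f := by
  ext c
  simp [ex]

/-- base change of an algebra isomorphism -/
lemma exists_algEquiv_bc {T : Type u} [CommRing T] {K K' : Type u} [CommRing K] [Algebra T K] [CommRing K'] [Algebra T K']
    {B C : Type u} [CommRing B] [Bialgebra T B] [CommRing C] [Bialgebra T C] (h : K →ₐ[T] K')
    (e : K ⊗[T] C ≃ₐ[K] K ⊗[T] B) : ∃ e' : K' ⊗[T] C ≃ₐ[K'] K' ⊗[T] B, ∀ x, e' (bc C h x) = bc B h (e x) := by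
  let Φ : C →ₐ[T] K ⊗[T] B := (e.toAlgHom.restrictScalars T).comp Algebra.TensorProduct.includeRight
  let Ψ : B →ₐ[T] K ⊗[T] C := (e.symm.toAlgHom.restrictScalars T).comp Algebra.TensorProduct.includeRight
  have hΦ : ex Φ = e.toAlgHom := ex_comp_includeRight _
  have hΨ : ex Ψ = e.symm.toAlgHom := ex_comp_includeRight _
  refine ⟨AlgEquiv.ofAlgHom (ex ((bc B h).comp Φ)) (ex ((bc C h).comp Ψ)) ?_ ?_, ?_⟩
  · apply Algebra.TensorProduct.ext (by ext)
    apply AlgHom.ext
    intro b
    simp only [AlgHom.comp_apply, AlgHom.restrictScalars_apply, Algebra.TensorProduct.includeRight_apply,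
      AlgHom.id_apply]
    rw [ex_one_tmul, AlgHom.comp_apply, ← bc_ex, hΦ]
    have : e.toAlgHom (Ψ b) = 1 ⊗ₜ b := e.apply_symm_apply _
    rw [this, bc_tmul, map_one]
  · apply Algebra.TensorProduct.ext (by ext)
    apply AlgHom.ext
    intro b
    simp only [AlgHom.comp_apply, AlgHom.restrictScalars_apply, Algebra.TensorProduct.includeRight_apply,
      AlgHom.id_apply]
    rw [ex_one_tmul, AlgHom.comp_apply, ← bc_ex, hΨ]
    have : e.symm.toAlgHom (Φ b) = 1 ⊗ₜ b := e.symm_apply_apply _
    rw [this, bc_tmul, map_one]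
  · intro x
    change ex ((bc B h).comp Φ) (bc C h x) = _
    rw [← bc_ex, hΦ]
    rfl

/-- isomorphisms of finitely presented algebras spread out -/
theorem exists_algEquiv {T : Type u} [CommRing T] (W : Submonoid T) {B C : Type u} [CommRing B] [Bialgebra T B]
    [CommRing C] [Bialgebra T C] [Algebra.FinitePresentation T B] [Algebra.FinitePresentation T C]
    (f : Localization W ⊗[T] C ≃ₐ[Localization W] Localization W ⊗[T] B) :
    ∃ (w : T) (hw : w ∈ W) (e : Localization.Away w ⊗[T] C ≃ₐ[Localization.Away w] Localization.Away w ⊗[T] B),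
      ∀ x, bc B (awL W w hw) (e x) = f (bc C (awL W w hw) x) := by
  let Φ0 : C →ₐ[T] Localization W ⊗[T] B := (f.toAlgHom.restrictScalars T).comp Algebra.TensorProduct.includeRight
  let Ψ0 : B →ₐ[T] Localization W ⊗[T] C := (f.symm.toAlgHom.restrictScalars T).comp Algebra.TensorProduct.includeRight
  have hΦ0 : ex Φ0 = f.toAlgHom := ex_comp_includeRight _
  have hΨ0 : ex Ψ0 = f.symm.toAlgHom := ex_comp_includeRight _
  obtain ⟨w1, hw1, Φ1, hΦ1⟩ := exists_algHom (W := W) Φ0
  obtain ⟨w2, hw2, Ψ1, hΨ1⟩ := exists_algHom (W := W) Ψ0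
  have hw3 := W.mul_mem hw1 hw2
  let Φ2 := (bc B (awM w1 (w1 * w2) (dvd_mul_right _ _))).comp Φ1
  let Ψ2 := (bc C (awM w2 (w1 * w2) (dvd_mul_left _ _))).comp Ψ1
  have hΦ2 : (bc B (awL W _ hw3)).comp Φ2 = Φ0 := by
    rw [← AlgHom.comp_assoc, ← bc_comp, aw_comp _ _ _ _ _ (awL W w1 hw1), hΦ1]
  have hΨ2 : (bc C (awL W _ hw3)).comp Ψ2 = Ψ0 := by
    rw [← AlgHom.comp_assoc, ← bc_comp, aw_comp _ _ _ _ _ (awL W w2 hw2), hΨ1]
  have hΦ2' : ∀ c, bc B (awL W _ hw3) (Φ2 c) = f (1 ⊗ₜ c) := fun c => DFunLike.congr_fun hΦ2 c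
  have hΨ2' : ∀ c, bc C (awL W _ hw3) (Ψ2 c) = f.symm (1 ⊗ₜ c) := fun c => DFunLike.congr_fun hΨ2 c
  obtain ⟨w4, hw4, h4, H4⟩ := exists_comp_eq (W := W) (w1 * w2) hw3
    (((ex Ψ2).restrictScalars T).comp Φ2) Algebra.TensorProduct.includeRight (by
      rw [bcf_includeRight]
      apply AlgHom.ext
      intro c
      simp only [AlgHom.comp_apply, AlgHom.restrictScalars_apply]
      rw [bc_ex, hΨ2, hΨ0, hΦ2']
      exact f.symm_apply_apply _)
  have H4' : ∀ c, bc C (awM _ w4 h4) (ex Ψ2 (Φ2 c)) = 1 ⊗ₜ c := by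
    intro c
    have := DFunLike.congr_fun H4 c
    rw [bcf_includeRight] at this
    exact this
  obtain ⟨w5, hw5, h5, H5⟩ := exists_comp_eq (W := W) w4 hw4
    ((bc B (awM _ w4 h4)).comp (((ex Φ2).restrictScalars T).comp Ψ2))
    Algebra.TensorProduct.includeRight (by
      rw [bcf_includeRight]
      apply AlgHom.ext
      intro c
      simp only [AlgHom.comp_apply, AlgHom.restrictScalars_apply]
      rw [bc_bc, aw_comp _ _ _ _ _ (awL W _ hw3), bc_ex, hΦ2, hΦ0, hΨ2']
      exact f.apply_symm_apply _)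
  have h35 := h4.trans h5
  have H5' : ∀ c, bc B (awM _ w5 h35) (ex Φ2 (Ψ2 c)) = 1 ⊗ₜ c := by
    intro c
    have := DFunLike.congr_fun H5 c
    rw [bcf_includeRight] at this
    simp only [AlgHom.comp_apply, AlgHom.restrictScalars_apply] at this
    rw [bc_bc, aw_comp _ _ _ _ _ (awM _ w5 h35)] at this
    exact this
  have H4'' : ∀ c, bc C (awM _ w5 h35) (ex Ψ2 (Φ2 c)) = 1 ⊗ₜ c := by
    intro c
    have := congrArg (bc C (awM w4 w5 h5)) (H4' c)
    rw [bc_bc, aw_comp _ _ _ _ _ (awM _ w5 h35), bc_tmul, map_one] at this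
    exact this
  let Φ5 := (bc B (awM _ w5 h35)).comp Φ2
  let Ψ5 := (bc C (awM _ w5 h35)).comp Ψ2
  refine ⟨w5, hw5, AlgEquiv.ofAlgHom (ex Φ5) (ex Ψ5) ?_ ?_, ?_⟩
  · apply Algebra.TensorProduct.ext (by ext)
    apply AlgHom.ext
    intro b
    simp only [AlgHom.comp_apply, AlgHom.restrictScalars_apply, Algebra.TensorProduct.includeRight_apply,
      AlgHom.id_apply]
    rw [ex_one_tmul, AlgHom.comp_apply, ← bc_ex, H5']
  · apply Algebra.TensorProduct.ext (by ext)
    apply AlgHom.ext
    intro b
    simp only [AlgHom.comp_apply, AlgHom.restrictScalars_apply, Algebra.TensorProduct.includeRight_apply,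
      AlgHom.id_apply]
    rw [ex_one_tmul, AlgHom.comp_apply, ← bc_ex, H4'']
  · intro x
    change bc B _ (ex Φ5 x) = _
    rw [bc_ex]
    have : (bc B (awL W w5 hw5)).comp Φ5 = Φ0 := by
      rw [← AlgHom.comp_assoc, ← bc_comp, aw_comp _ _ _ _ _ (awL W _ hw3), hΦ2]
    rw [this, hΦ0]
    rfl

/-- **Spreading out.** A splitting over `W⁻¹T` of a finitely presented Hopf algebra exists over some `T_w`. -/
theorem exists_gbasis_away {T : Type u} [CommRing T] (W : Submonoid T) (B : Type u) [CommRing B] [HopfAlgebra T B]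
    [Algebra.FinitePresentation T B] (M : Type u) [CommGroup M] [Group.FG M]
    (g : GBasis (Localization W) (Localization W ⊗[T] B) M) :
    ∃ w ∈ W, Nonempty (GBasis (Localization.Away w) (Localization.Away w ⊗[T] B) M) := by
  have hfpC := finitePresentation_monoidAlgebra T M
  let f : Localization W ⊗[T] MonoidAlgebra T M ≃ₐ[Localization W] Localization W ⊗[T] B :=
    (MultBC.bcMonoidAlgebra T (Localization W) M : _ ≃ₐ[Localization W] MonoidAlgebra (Localization W) M).trans
      (g.bialgEquiv : _ ≃ₐ[Localization W] Localization W ⊗[T] B)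
  have hf : ∀ m, f (1 ⊗ₜ MonoidAlgebra.single m 1) = g.b m := by
    intro m
    change g.bialgEquiv (MultBC.bcMonoidAlgebra T (Localization W) M _) = _
    rw [MultBC.bcMonoidAlgebra_tmul_single]
    simp
  obtain ⟨w, hw, e, he⟩ := exists_algEquiv W f
  obtain ⟨X, hX⟩ := Group.fg_def.mp ‹Group.FG M›
  obtain ⟨w', hw', h', H⟩ := exists_isGroupLikeElem (W := W) (X : Set M) X.finite_toSet w hw
    (fun m => e (1 ⊗ₜ MonoidAlgebra.single m 1)) (by
      intro m _
      rw [he, bc_tmul, map_one, hf]
      exact g.gl m)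
  -- the monoid hom
  let γ : M →* Localization.Away w' ⊗[T] B :=
    { toFun := fun m => bc B (awM w w' h') (e (1 ⊗ₜ MonoidAlgebra.single m 1))
      map_one' := by
        rw [← MonoidAlgebra.one_def]
        have : (1 : Localization.Away w) ⊗ₜ[T] (1 : MonoidAlgebra T M) = 1 := rfl
        rw [this, map_one, map_one]
      map_mul' := fun m m' => by
        rw [← map_mul, ← map_mul, Algebra.TensorProduct.tmul_mul_tmul, MonoidAlgebra.single_mul_single, one_mul, one_mul] }
  have hgl : ∀ m, IsGroupLikeElem (Localization.Away w') (γ m) := by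
    let P : Subgroup M :=
      { carrier := {m | IsGroupLikeElem (Localization.Away w') (γ m)}
        one_mem' := by rw [Set.mem_ofPred_eq, map_one]; exact .one
        mul_mem' := fun {a b} ha hb => by
          rw [Set.mem_ofPred_eq] at *
          rw [map_mul]
          exact ha.mul hb
        inv_mem' := fun {a} ha => by
          rw [Set.mem_ofPred_eq] at *
          exact ha.of_mul_eq_one (by rw [← map_mul, mul_inv_cancel, map_one]) (by rw [← map_mul, inv_mul_cancel, map_one]) }
    have : P = ⊤ := by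
      rw [eq_top_iff, ← hX, Subgroup.closure_le]
      exact fun m hm => H m hm
    intro m
    exact (this ▸ Subgroup.mem_top m : m ∈ P)
  -- the basis
  obtain ⟨e', he''⟩ := exists_algEquiv_bc (awM w w' h') e
  have he' : ∀ m, e' (1 ⊗ₜ MonoidAlgebra.single m 1) = γ m := by
    intro m
    have := he'' (1 ⊗ₜ MonoidAlgebra.single m 1)
    rw [bc_tmul, map_one] at this
    exact this
  let bas : Module.Basis M (Localization.Away w') (Localization.Away w' ⊗[T] B) :=
    ((MonoidAlgebra.basis M T).baseChange (Localization.Away w')).map e'.toLinearEquiv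
  have hbas : ∀ m, bas m = γ m := by
    intro m
    rw [← he']
    simp [bas]
  exact ⟨w', hw', ⟨⟨bas, by rw [hbas, map_one], fun m n => by rw [hbas, hbas, hbas, map_mul], fun m => by
    rw [hbas]; exact hgl m⟩⟩⟩

end main

end Groth.Agent.Sga3A.MTSpread
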