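import Groth.Agent.Sga3A.DiagPi
import Mathlib.RingTheory.TensorProduct.IncludeLeftSubRight
import Mathlib.RingTheory.Etale.Pi
import Mathlib.RingTheory.Spectrum.Prime.Topology
import Mathlib.RingTheory.TensorProduct.Pi

/-!
# The type of a group of multiplicative type is locally constant

Main results:
* `faithfullyFlat_pi`: a finite product of flat algebras, jointly surjective on spectra, is faithfully flat;
* `mulEquiv_of_common`: if `S ⊗ B ≅ S[X]`, `S' ⊗ B ≅ S'[X']` and `S`, `S'` map to a common nonzero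
  algebra, then `X ≅ X'`;
* `isMultType_of_family`, `isQuasiIsotrivial_of_family`: a Hopf algebra `B` which is diagonalisable over
  each member `S i` (`i` in a finite set) of a family with `∏ S i` faithfully flat over `R`
  is of multiplicative type (quasi-isotrivial if the `S i` are etale);
* `isMultType_of_local`: same with Zariski-local diagonalisability over one faithfully flat algebra;
* `IsMultType.exists_family`: converse of the first.
-/

set_option autoImplicit false
universe u
open TensorProduct SGA3b Coalgebra Bialgebra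

namespace Groth.Agent.Sga3A.TypeLemma

open Groth.Agent.Sga3A.MultBC Groth.Agent.Sga3A.DiagPi

section FF

variable {R : Type*} [CommRing R] {ι : Type*} [Finite ι] (S : ι → Type*) [∀ i, CommRing (S i)]
  [∀ i, Algebra R (S i)]

lemma flat_pi [∀ i, Module.Flat R (S i)] : Module.Flat R (∀ i, S i) := by
  classical
  have := Fintype.ofFinite ι
  exact Module.Flat.of_linearEquiv (DirectSum.linearEquivFunOnFintype R ι S).symm

lemma faithfullyFlat_pi [∀ i, Module.Flat R (S i)]
    (h : ∀ p : PrimeSpectrum R, ∃ i, ∃ q : PrimeSpectrum (S i),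
      PrimeSpectrum.comap (algebraMap R (S i)) q = p) :
    Module.FaithfullyFlat R (∀ i, S i) := by
  have := flat_pi (R := R) S
  apply Module.FaithfullyFlat.of_comap_surjective
  intro p
  obtain ⟨i, q, hq⟩ := h p
  refine ⟨PrimeSpectrum.comap (Pi.evalRingHom S i) q, ?_⟩
  rw [← hq, ← PrimeSpectrum.comap_comp_apply]
  rfl

lemma exists_comap_eq_of_faithfullyFlat_pi [Module.FaithfullyFlat R (∀ i, S i)]
    (p : PrimeSpectrum R) : ∃ i, ∃ q : PrimeSpectrum (S i),
      PrimeSpectrum.comap (algebraMap R (S i)) q = p := by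
  obtain ⟨q, hq⟩ := PrimeSpectrum.comap_surjective_of_faithfullyFlat (A := R) (B := ∀ i, S i) p
  obtain ⟨i, q', hq'⟩ := PrimeSpectrum.exists_comap_evalRingHom_eq q
  refine ⟨i, q', ?_⟩
  rw [← hq, ← hq', ← PrimeSpectrum.comap_comp_apply]
  rfl

end FF

section Common

variable {R : Type*} [CommRing R] {B : Type*} [CommRing B] [Bialgebra R B]

/-- Push a diagonalisation forward along an algebra map. -/
lemma diag_of_algHom {S T X : Type*} [CommRing S] [CommRing T] [Algebra R S] [Algebra R T]
    [CommMonoid X] (f : S →ₐ[R] T) (h : Nonempty (S ⊗[R] B ≃ₐc[S] MonoidAlgebra S X)) :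
    Nonempty (T ⊗[R] B ≃ₐc[T] MonoidAlgebra T X) := by
  let _ : Algebra S T := f.toRingHom.toAlgebra
  have : IsScalarTower R S T := IsScalarTower.of_algebraMap_eq (fun r => (f.commutes r).symm)
  obtain ⟨e⟩ := h
  exact ⟨(bcTower R S T B).symm.trans ((bcCongr S T e).trans (bcMonoidAlgebra S T X))⟩

lemma mulEquiv_of_bialgEquiv {T X Y : Type*} [CommRing T] [Nontrivial T] [CommGroup X] [CommGroup Y]
    (e : MonoidAlgebra T X ≃ₐc[T] MonoidAlgebra T Y) : Nonempty (X ≃* Y) := by
  obtain ⟨𝔪, h𝔪⟩ := Ideal.exists_maximal T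
  let k := T ⧸ 𝔪
  let e' : MonoidAlgebra k X ≃ₐc[k] MonoidAlgebra k Y :=
    (bcMonoidAlgebra T k X).symm.trans ((bcCongr T k e).trans (bcMonoidAlgebra T k Y))
  have : IsDomain k := Ideal.Quotient.isDomain 𝔪
  refine ⟨MonoidHom.toMulEquiv
    (MonoidAlgebra.mapDomainOfBialgHom (e' : MonoidAlgebra k X →ₐc[k] MonoidAlgebra k Y))
    (MonoidAlgebra.mapDomainOfBialgHom (e'.symm : MonoidAlgebra k Y →ₐc[k] MonoidAlgebra k X))
    ?_ ?_⟩
  · rw [← MonoidAlgebra.mapDomainOfBialgHom_comp, ← MonoidAlgebra.mapDomainOfBialgHom_id (R := k)]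
    congr 1
    ext x
    simp
  · rw [← MonoidAlgebra.mapDomainOfBialgHom_comp, ← MonoidAlgebra.mapDomainOfBialgHom_id (R := k)]
    congr 1
    ext x
    simp

lemma mulEquiv_of_common {S S' T X X' : Type*} [CommRing S] [CommRing S'] [CommRing T]
    [Algebra R S] [Algebra R S'] [Algebra R T] [Nontrivial T]
    [CommGroup X] [CommGroup X'] (f : S →ₐ[R] T) (f' : S' →ₐ[R] T)
    (h : Nonempty (S ⊗[R] B ≃ₐc[S] MonoidAlgebra S X))
    (h' : Nonempty (S' ⊗[R] B ≃ₐc[S'] MonoidAlgebra S' X')) : Nonempty (X ≃* X') := by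
  obtain ⟨e⟩ := diag_of_algHom f h
  obtain ⟨e'⟩ := diag_of_algHom f' h'
  exact mulEquiv_of_bialgEquiv (e.symm.trans e')

/-- Over the zero ring everything is isomorphic. -/
lemma diag_of_subsingleton (T X Y : Type*) [CommRing T] [Subsingleton T] [CommGroup X]
    [CommGroup Y] : Nonempty (MonoidAlgebra T X ≃ₐc[T] MonoidAlgebra T Y) := by
  have h1 : Subsingleton (MonoidAlgebra T X) := RingHom.codomain_trivial (algebraMap T _)
  have h2 : Subsingleton (MonoidAlgebra T Y) := RingHom.codomain_trivial (algebraMap T _)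
  exact ⟨BialgEquiv.ofBijective (MonoidAlgebra.mapDomainBialgHom T (1 : X →* Y))
    ⟨Function.injective_of_subsingleton _, fun y => ⟨0, Subsingleton.elim _ _⟩⟩⟩

end Common

section Family

variable {R : Type u} [CommRing R] {B : Type u} [CommRing B] [HopfAlgebra R B]
  {ι : Type u} [Finite ι] {S : ι → Type u} [∀ i, CommRing (S i)] [∀ i, Algebra R (S i)]
  [Module.FaithfullyFlat R (∀ i, S i)]
  {X : ι → Type u} [∀ i, CommGroup (X i)]
  (h : ∀ i, Nonempty (S i ⊗[R] B ≃ₐc[S i] MonoidAlgebra (S i) (X i)))

open Classical in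
/-- The indicator function of the type of `X i` -/
noncomputable def ind (S : ι → Type u) [∀ i, CommRing (S i)] (X : ι → Type u)
    [∀ i, CommGroup (X i)] (i : ι) : ∀ j, S j :=
  fun j => if Nonempty (X i ≃* X j) then 1 else 0

omit [Module.FaithfullyFlat R (∀ i, S i)] in
include h in
lemma ind_tmul_one (i : ι) : (ind S X i) ⊗ₜ[R] (1 : ∀ j, S j) = 1 ⊗ₜ[R] (ind S X i) := by
  classical
  have := Fintype.ofFinite ι
  -- joint injectivity
  let E1 : (∀ j, S j) ⊗[R] (∀ j, S j) ≃ₐ[R] ∀ k, (∀ j, S j) ⊗[R] S k :=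
    Algebra.TensorProduct.piRight R R (∀ j, S j) S
  apply E1.injective
  funext k
  let E2 : S k ⊗[R] (∀ j, S j) ≃ₐ[R] ∀ j, S k ⊗[R] S j :=
    Algebra.TensorProduct.piRight R R (S k) S
  apply (Algebra.TensorProduct.comm R (∀ j, S j) (S k)).injective
  apply E2.injective
  funext j
  simp only [E1, E2, Algebra.TensorProduct.piRight_tmul, Algebra.TensorProduct.comm_tmul]
  by_cases hT : Nontrivial (S k ⊗[R] S j)
  · obtain ⟨m⟩ := mulEquiv_of_common (B := B)
      (Algebra.TensorProduct.includeLeft : S k →ₐ[R] S k ⊗[R] S j)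
      (Algebra.TensorProduct.includeRight : S j →ₐ[R] S k ⊗[R] S j) (h k) (h j)
    have hiff : Nonempty (X i ≃* X j) ↔ Nonempty (X i ≃* X k) :=
      ⟨fun ⟨a⟩ => ⟨a.trans m.symm⟩, fun ⟨a⟩ => ⟨a.trans m⟩⟩
    by_cases h1 : Nonempty (X i ≃* X k)
    · have h2 := hiff.mpr h1
      simp [ind, h1, h2]
    · have h2 := mt hiff.mp h1
      simp [ind, h1, h2]
  · have := not_nontrivial_iff_subsingleton.mp hT
    exact Subsingleton.elim _ _

include h in
lemma exists_idempotent (i : ι) : ∃ e : R, algebraMap R (∀ j, S j) e = ind S X i := by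
  have h1 := Algebra.IsEffective.eqLocus_includeLeft_includeRight
    (Algebra.IsEffective.of_faithfullyFlat R (∀ j, S j))
  have h2 : ind S X i ∈ (Set.range (algebraMap R (∀ j, S j))) := by
    rw [← h1]
    exact ind_tmul_one (R := R) h i
  exact h2

/-- The idempotent of `R` where `B` has type `X i`. -/
noncomputable def idem (i : ι) : R := (exists_idempotent h i).choose

lemma algebraMap_idem (i : ι) : algebraMap R (∀ j, S j) (idem h i) = ind S X i :=
  (exists_idempotent h i).choose_spec

lemma span_idem : Ideal.span (Set.range (idem h)) = ⊤ := by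
  classical
  have := Fintype.ofFinite ι
  apply Ideal.map_injective_of_faithfullyFlat (A := R) (B := ∀ j, S j)
  rw [Ideal.map_top, eq_top_iff]
  intro x _
  have h1 : x = ∑ i, (Pi.single i (x i)) * (algebraMap R (∀ j, S j) (idem h i)) := by
    funext j
    rw [Finset.sum_apply, Finset.sum_eq_single j]
    · rw [algebraMap_idem]
      simp only [Pi.mul_apply, Pi.single_eq_same, ind]
      rw [if_pos ⟨MulEquiv.refl _⟩, mul_one]
    · intro k _ hk
      simp [Pi.single_eq_of_ne' hk]
    · simp
  rw [h1]
  exact Ideal.sum_mem _ fun i _ => Ideal.mul_mem_left _ _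
    (Ideal.mem_map_of_mem _ (Ideal.subset_span ⟨i, rfl⟩))

/-- The localised family. -/
abbrev locS (R : Type u) [CommRing R] (e : R) (S : ι → Type u) [∀ i, CommRing (S i)]
    [∀ i, Algebra R (S i)] : ι → Type u :=
  fun j => Localization.Away e ⊗[R] S j

lemma faithfullyFlat_locS (e : R) :
    Module.FaithfullyFlat (Localization.Away e) (∀ j, locS R e S j) := by
  classical
  have := Fintype.ofFinite ι
  exact Module.FaithfullyFlat.of_linearEquiv _ _
    (TensorProduct.piRight R (Localization.Away e) (Localization.Away e) S).symm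

include h in
lemma isDiag_locS (i : ι) : IsDiag (∀ j, locS R (idem h i) S j)
    ((∀ j, locS R (idem h i) S j) ⊗[Localization.Away (idem h i)]
      (Localization.Away (idem h i) ⊗[R] B)) := by
  classical
  have key : ∀ j, Nonempty (locS R (idem h i) S j ⊗[R] B ≃ₐc[locS R (idem h i) S j]
      MonoidAlgebra (locS R (idem h i) S j) (X i)) := by
    intro j
    obtain ⟨e1⟩ := diag_of_algHom (Algebra.TensorProduct.includeRight :
      S j →ₐ[R] Localization.Away (idem h i) ⊗[R] S j) (h j)
    by_cases hij : Nonempty (X i ≃* X j)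
    · obtain ⟨m⟩ := hij
      exact ⟨e1.trans (MonoidAlgebra.domCongrBialgEquiv _ _ m.symm)⟩
    · have h0 : algebraMap R (S j) (idem h i) = 0 := by
        have := congrFun (algebraMap_idem h i) j
        simp only [Pi.algebraMap_apply, ind, if_neg hij] at this
        exact this
      have hsub : Subsingleton (locS R (idem h i) S j) := by
        rw [← not_nontrivial_iff_subsingleton]
        intro hn
        have h1 : IsUnit (algebraMap R (locS R (idem h i) S j) (idem h i)) := by
          rw [IsScalarTower.algebraMap_apply R (Localization.Away (idem h i))]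
          exact (IsLocalization.Away.algebraMap_isUnit (idem h i)).map _
        have h2 : algebraMap R (locS R (idem h i) S j) (idem h i) = 0 := by
          have : algebraMap R (locS R (idem h i) S j) (idem h i) =
            (Algebra.TensorProduct.includeRight :
              S j →ₐ[R] Localization.Away (idem h i) ⊗[R] S j) (algebraMap R (S j) (idem h i)) :=
            (AlgHom.commutes _ _).symm
          rw [this, h0, map_zero]
        rw [h2] at h1
        exact not_isUnit_zero h1
      obtain ⟨e2⟩ := diag_of_subsingleton (locS R (idem h i) S j) (X j) (X i)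
      exact ⟨e1.trans e2⟩
  have h3 : IsDiag (∀ j, locS R (idem h i) S j) ((∀ j, locS R (idem h i) S j) ⊗[R] B) :=
    ⟨X i, _, ⟨diagPi fun j => (key j).some⟩⟩
  exact isDiag_tower' h3

end Family

/-- **Type lemma.** A Hopf algebra which is diagonalisable over each member of a finite family of
algebras `S i` with `∏ S i` faithfully flat over `R` is of multiplicative type. -/
theorem isMultType_of_family {R : Type u} [CommRing R] {B : Type u} [CommRing B] [HopfAlgebra R B]
    {ι : Type u} [Finite ι] (S : ι → Type u) [∀ i, CommRing (S i)] [∀ i, Algebra R (S i)]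
    [Module.FaithfullyFlat R (∀ i, S i)] (h : ∀ i, IsDiag (S i) (S i ⊗[R] B)) :
    IsMultType R B := by
  choose X hX hh using h
  refine ⟨Set.range (idem hh), span_idem hh, ?_⟩
  rintro _ ⟨i, rfl⟩
  exact ⟨∀ j, locS R (idem hh i) S j, inferInstance, inferInstance, faithfullyFlat_locS _,
    isDiag_locS hh i⟩

/-- Etale version of the type lemma. -/
theorem isQuasiIsotrivial_of_family {R : Type u} [CommRing R] {B : Type u} [CommRing B]
    [HopfAlgebra R B]
    {ι : Type u} [Finite ι] (S : ι → Type u) [∀ i, CommRing (S i)] [∀ i, Algebra R (S i)]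
    [∀ i, Algebra.Etale R (S i)]
    [Module.FaithfullyFlat R (∀ i, S i)] (h : ∀ i, IsDiag (S i) (S i ⊗[R] B)) :
    IsQuasiIsotrivial R B := by
  choose X hX hh using h
  refine ⟨Set.range (idem hh), span_idem hh, ?_⟩
  rintro _ ⟨i, rfl⟩
  exact ⟨∀ j, locS R (idem hh i) S j, inferInstance, inferInstance, inferInstance,
    faithfullyFlat_locS _, isDiag_locS hh i⟩

section Local

variable {R : Type u} [CommRing R] {B : Type u} [CommRing B] [HopfAlgebra R B]

/-- Quasi-compactness: a ring over which `B` is locally diagonalisable has a finite cover by basic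
opens over which `B` is diagonalisable. -/
lemma exists_finset_of_local {R' : Type u} [CommRing R'] [Algebra R R']
    (h : ∀ p : PrimeSpectrum R', ∃ g ∉ p.asIdeal,
      IsDiag (Localization.Away g) (Localization.Away g ⊗[R] B)) :
    ∃ t : Finset R', (∀ g ∈ t, IsDiag (Localization.Away g) (Localization.Away g ⊗[R] B)) ∧
      ∀ p : PrimeSpectrum R', ∃ g : t, ∃ q : PrimeSpectrum (Localization.Away g.1),
        PrimeSpectrum.comap (algebraMap R' (Localization.Away g.1)) q = p := by
  classical
  let G : Set R' := {g | IsDiag (Localization.Away g) (Localization.Away g ⊗[R] B)}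
  have hG : Ideal.span G = ⊤ := by
    by_contra hne
    obtain ⟨𝔪, h𝔪, hle⟩ := Ideal.exists_le_maximal _ hne
    obtain ⟨g, hg, hd⟩ := h ⟨𝔪, h𝔪.isPrime⟩
    exact hg (hle (Ideal.subset_span hd))
  obtain ⟨t, htG, ht⟩ := (Ideal.span_eq_top_iff_finite G).mp hG
  refine ⟨t, fun g hg => htG hg, fun p => ?_⟩
  obtain ⟨g, hgt, hgp⟩ : ∃ g ∈ t, g ∉ p.asIdeal := by
    by_contra hcon
    push Not at hcon
    have : Ideal.span (t : Set R') ≤ p.asIdeal := Ideal.span_le.mpr hcon
    rw [ht] at this
    exact p.isPrime.ne_top (top_le_iff.mp this)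
  have hr : p ∈ Set.range (PrimeSpectrum.comap (algebraMap R' (Localization.Away g))) := by
    rw [PrimeSpectrum.localization_away_comap_range (Localization.Away g) g]
    exact hgp
  obtain ⟨q, hq⟩ := hr
  exact ⟨⟨g, hgt⟩, q, hq⟩

/-- **Type lemma**, most general form: a finite family of flat algebras, jointly surjective on
spectra, over each member of which `B` is Zariski-locally diagonalisable. -/
theorem isMultType_of_local_family {ι : Type u} [Finite ι] (S : ι → Type u)
    [∀ i, CommRing (S i)] [∀ i, Algebra R (S i)] [∀ i, Module.Flat R (S i)]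
    (hs : ∀ p : PrimeSpectrum R, ∃ i, ∃ q : PrimeSpectrum (S i),
      PrimeSpectrum.comap (algebraMap R (S i)) q = p)
    (h : ∀ i, ∀ p : PrimeSpectrum (S i), ∃ g ∉ p.asIdeal,
      IsDiag (Localization.Away g) (Localization.Away g ⊗[R] B)) :
    IsMultType R B := by
  choose t ht hsurj using fun i => exists_finset_of_local (h i)
  let κ : Type u := Σ i, t i
  let T : κ → Type u := fun k => Localization.Away k.2.1
  have : ∀ k, Module.Flat R (T k) := fun k => Module.Flat.trans R (S k.1) (T k)
  have : Module.FaithfullyFlat R (∀ k, T k) := by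
    apply faithfullyFlat_pi
    intro p
    obtain ⟨i, q, hq⟩ := hs p
    obtain ⟨g, r, hr⟩ := hsurj i q
    refine ⟨⟨i, g⟩, r, ?_⟩
    rw [← hq, ← hr, ← PrimeSpectrum.comap_comp_apply]
    rfl
  exact isMultType_of_family T fun k => ht k.1 k.2.1 k.2.2

theorem isMultType_of_local (R' : Type u) [CommRing R'] [Algebra R R'] [Module.FaithfullyFlat R R']
    (h : ∀ p : PrimeSpectrum R', ∃ g ∉ p.asIdeal,
      IsDiag (Localization.Away g) (Localization.Away g ⊗[R] B)) :
    IsMultType R B :=
  isMultType_of_local_family (ι := PUnit) (fun _ => R')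
    (fun p => ⟨⟨⟩, PrimeSpectrum.comap_surjective_of_faithfullyFlat p⟩) (fun _ => h)

/-- Etale version of `isMultType_of_local_family`. -/
theorem isQuasiIsotrivial_of_local_family {ι : Type u} [Finite ι] (S : ι → Type u)
    [∀ i, CommRing (S i)] [∀ i, Algebra R (S i)] [∀ i, Algebra.Etale R (S i)]
    [∀ i, Module.Flat R (S i)]
    (hs : ∀ p : PrimeSpectrum R, ∃ i, ∃ q : PrimeSpectrum (S i),
      PrimeSpectrum.comap (algebraMap R (S i)) q = p)
    (h : ∀ i, ∀ p : PrimeSpectrum (S i), ∃ g ∉ p.asIdeal,
      IsDiag (Localization.Away g) (Localization.Away g ⊗[R] B)) :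
    IsQuasiIsotrivial R B := by
  choose t ht hsurj using fun i => exists_finset_of_local (h i)
  let κ : Type u := Σ i, t i
  let T : κ → Type u := fun k => Localization.Away k.2.1
  have : ∀ k, Module.Flat R (T k) := fun k => Module.Flat.trans R (S k.1) (T k)
  have : ∀ k, Algebra.Etale R (T k) := fun k => by
    have : Algebra.Etale (S k.1) (T k) := Algebra.Etale.of_isLocalizationAway k.2.1
    exact Algebra.Etale.comp R (S k.1) (T k)
  have : Module.FaithfullyFlat R (∀ k, T k) := by
    apply faithfullyFlat_pi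
    intro p
    obtain ⟨i, q, hq⟩ := hs p
    obtain ⟨g, r, hr⟩ := hsurj i q
    refine ⟨⟨i, g⟩, r, ?_⟩
    rw [← hq, ← hr, ← PrimeSpectrum.comap_comp_apply]
    rfl
  exact isQuasiIsotrivial_of_family T fun k => ht k.1 k.2.1 k.2.2

/-- Converse of the type lemma. -/
theorem IsMultType.exists_family (h : IsMultType R B) :
    ∃ (ι : Type u) (_ : Finite ι) (S : ι → Type u) (_ : ∀ i, CommRing (S i))
      (_ : ∀ i, Algebra R (S i)), (∀ i, Module.Flat R (S i)) ∧
      (∀ p : PrimeSpectrum R, ∃ i, ∃ q : PrimeSpectrum (S i),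
        PrimeSpectrum.comap (algebraMap R (S i)) q = p) ∧ ∀ i, IsDiag (S i) (S i ⊗[R] B) := by
  classical
  obtain ⟨s, hs, H⟩ := h
  obtain ⟨t, hts, ht⟩ := (Ideal.span_eq_top_iff_finite s).mp hs
  have H' : ∀ f : t, IsMultTypeConst (Localization.Away f.1) (Localization.Away f.1 ⊗[R] B) :=
    fun f => H f.1 (hts f.2)
  choose S i1 i2 hff hd using H'
  let i3 : ∀ f, Algebra R (S f) := fun f => ((algebraMap (Localization.Away f.1) (S f)).comp
    (algebraMap R (Localization.Away f.1))).toAlgebra
  have i4 : ∀ f, IsScalarTower R (Localization.Away f.1) (S f) :=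
    fun f => IsScalarTower.of_algebraMap_eq (fun _ => rfl)
  refine ⟨t, inferInstance, S, i1, i3, fun f => ?_, fun p => ?_, fun f => isDiag_tower (hd f)⟩
  · have := hff f
    exact Module.Flat.trans R (Localization.Away f.1) (S f)
  · obtain ⟨f, hfp⟩ : ∃ f : t, f.1 ∉ p.asIdeal := by
      by_contra hcon
      push Not at hcon
      have : Ideal.span (t : Set R) ≤ p.asIdeal :=
        Ideal.span_le.mpr fun g hg => hcon ⟨g, hg⟩
      rw [ht] at this
      exact p.isPrime.ne_top (top_le_iff.mp this)
    have hr : p ∈ Set.range (PrimeSpectrum.comap (algebraMap R (Localization.Away f.1))) := by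
      rw [PrimeSpectrum.localization_away_comap_range (Localization.Away f.1) f.1]
      exact hfp
    obtain ⟨q, hq⟩ := hr
    have := hff f
    obtain ⟨r, hr⟩ := PrimeSpectrum.comap_surjective_of_faithfullyFlat
      (A := Localization.Away f.1) (B := S f) q
    refine ⟨f, r, ?_⟩
    rw [← hq, ← hr, ← PrimeSpectrum.comap_comp_apply]
    rfl

end Local

end Groth.Agent.Sga3A.TypeLemma
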