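import Groth.Agent.Sga3A.MTConst
import Groth.Agent.Sga3A.MTSpread
import Groth.Agent.Sga3A.TypeLemma

/-!
# Quasi-isotriviality
-/

set_option autoImplicit false

open TensorProduct

namespace Groth.Agent.Sga3A.MTQuasi

open MTBasis MTTorsion MTDual MTKey MTConst SGA3b TypeLemma MultBC

universe u

variable {R A : Type u} [CommRing R] [CommRing A] [HopfAlgebra R A]

lemma finitePresentation_of_gbasis {S : Type u} [CommRing S] [Algebra R S] [Module.FaithfullyFlat R S]
    {M : Type u} [CommGroup M] [Group.FG M] (g : GBasis S (S ⊗[R] A) M) : Algebra.FinitePresentation R A := by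
  have h1 : Algebra.FinitePresentation S (MonoidAlgebra S M) := MTSpread.finitePresentation_monoidAlgebra S M
  have h2 : Algebra.FinitePresentation S (S ⊗[R] A) :=
    Algebra.FinitePresentation.equiv (g.bialgEquiv : MonoidAlgebra S M ≃ₐ[S] S ⊗[R] A)
  exact Algebra.FinitePresentation.of_finitePresentation_tensorProduct_of_faithfullyFlat S

/-- From diagonalisability over a faithfully flat algebra to local diagonalisability over a finite
étale cover. -/
theorem exists_etale_local' {S : Type u} [CommRing S] [Algebra R S] [Module.FaithfullyFlat R S]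
    {M : Type u} [CommGroup M] [Group.FG M] (g : GBasis S (S ⊗[R] A) M) :
    ∃ (T : Type u) (_ : CommRing T) (_ : Algebra R T)
      (_ : Module.FaithfullyFlat R T) (_ : Module.Finite R T) (_ : Algebra.Etale R T),
      ∀ q : PrimeSpectrum T, ∃ w ∉ q.asIdeal,
        Nonempty (GBasis (Localization.Away w) (Localization.Away w ⊗[R] A) M) := by
  obtain ⟨T, i1, i2, i3, i4, i5, hT⟩ := exists_etale_cover g
  refine ⟨T, i1, i2, i3, i4, i5, fun q => ?_⟩
  have hfp := finitePresentation_of_gbasis g
  obtain ⟨g₁⟩ := hT (Localization.AtPrime q.asIdeal)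
  obtain ⟨w, hw, ⟨g₃⟩⟩ := MTSpread.exists_gbasis_away q.asIdeal.primeCompl (T ⊗[R] A) M
    (g₁.map (cancelBC R T (Localization.AtPrime q.asIdeal) A).symm)
  exact ⟨w, hw, ⟨g₃.map (cancelBC R T (Localization.Away w) A)⟩⟩

/-- A group of multiplicative type and finite type of constant type becomes locally diagonalisable over a
finite étale cover. -/
theorem exists_etale_local [Algebra.FiniteType R A] (h : IsMultTypeConst R A) :
    ∃ (T : Type u) (_ : CommRing T) (_ : Algebra R T)
      (_ : Module.FaithfullyFlat R T) (_ : Module.Finite R T) (_ : Algebra.Etale R T),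
      ∀ q : PrimeSpectrum T, ∃ w ∉ q.asIdeal,
        IsDiag (Localization.Away w) (Localization.Away w ⊗[R] A) := by
  cases subsingleton_or_nontrivial R with
  | inl hR =>
    refine ⟨R, _, _, inferInstance, inferInstance, inferInstance, fun q => ?_⟩
    exact absurd q.nontrivial (not_nontrivial_iff_subsingleton.mpr hR)
  | inr hR =>
    obtain ⟨S, _, _, _, M, _, _, ⟨g⟩⟩ := exists_gbasis h
    obtain ⟨T, i1, i2, i3, i4, i5, hT⟩ := exists_etale_local' g
    exact ⟨T, i1, i2, i3, i4, i5, fun q => (hT q).imp fun w hw => ⟨hw.1, hw.2.elim isDiag_of_gbasis⟩⟩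

/-- SGA 3 X 4.5. -/
theorem isQuasiIsotrivial_of_finiteType [Algebra.FiniteType R A] (h : IsMultType R A) :
    IsQuasiIsotrivial R A := by
  classical
  obtain ⟨s, hs, H⟩ := h
  obtain ⟨t, hts, ht⟩ := (Ideal.span_eq_top_iff_finite s).mp hs
  have H' : ∀ f : t, _ := fun f => exists_etale_local (H f.1 (hts f.2))
  choose T i1 i2 hff hfin het hT using H'
  let i3 : ∀ f, Algebra R (T f) := fun f => ((algebraMap (Localization.Away f.1) (T f)).comp
    (algebraMap R (Localization.Away f.1))).toAlgebra
  have i4 : ∀ f, IsScalarTower R (Localization.Away f.1) (T f) :=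
    fun f => IsScalarTower.of_algebraMap_eq (fun _ => rfl)
  have i5 : ∀ f, Algebra.Etale R (T f) := fun f => by
    have : Algebra.Etale R (Localization.Away f.1) := Algebra.Etale.of_isLocalizationAway f.1
    have := het f
    exact Algebra.Etale.comp R (Localization.Away f.1) (T f)
  have i6 : ∀ f, Module.Flat R (T f) := fun f => by
    have := hff f
    exact Module.Flat.trans R (Localization.Away f.1) (T f)
  refine isQuasiIsotrivial_of_local_family (ι := t) T (fun p => ?_) fun f q => ?_
  · obtain ⟨f, hfp⟩ : ∃ f : t, f.1 ∉ p.asIdeal := by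
      by_contra hcon
      push Not at hcon
      have : Ideal.span (t : Set R) ≤ p.asIdeal :=
        Ideal.span_le.mpr fun g hg => hcon ⟨g, hg⟩
      rw [ht] at this
      exact p.2.ne_top (top_le_iff.mp this)
    have hp0 : p ∈ Set.range (PrimeSpectrum.comap (algebraMap R (Localization.Away f.1))) := by
      rw [PrimeSpectrum.localization_away_comap_range (Localization.Away f.1) f.1]
      exact hfp
    obtain ⟨p', hp'⟩ := hp0
    have := hff f
    obtain ⟨q, hq⟩ := PrimeSpectrum.comap_surjective_of_faithfullyFlat (A := Localization.Away f.1) (B := T f) p'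
    refine ⟨f, q, ?_⟩
    rw [← hp', ← hq, ← PrimeSpectrum.comap_comp_apply]
    rfl
  · obtain ⟨w, hw, hd⟩ := hT f q
    exact ⟨w, hw, isDiag_tower hd⟩

end Groth.Agent.Sga3A.MTQuasi
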