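import Groth.Agent.Sga3A.SpreadDiag
import Groth.Agent.Sga3A.NilDescent
import Groth.Agent.Proet.EtaleLiftLoc
import Mathlib.RingTheory.Spectrum.Prime.Chevalley
import Mathlib.RingTheory.Flat.FaithfullyFlat.Algebra
import Mathlib.RingTheory.Smooth.Flat
import Mathlib.RingTheory.Etale.Basic
import Mathlib.RingTheory.FiniteType

/-!
# Spreading out quasi-isotrivial groups from the local rings of the base

* `exists_isDiag`: `B` a ring, `T` a submonoid, `L = T⁻¹ B`, `H` a finitely presented Hopf algebra over `B` with
  `L ⊗ H` diagonalisable ⇒ `B' ⊗ H` is diagonalisable for every `B`-algebra `B'` in which some `t ∈ T` is invertible.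
* `isQuasiIsotrivial_of_forall_localization`.
-/

set_option autoImplicit false
universe u
open TensorProduct SGA3b

namespace Groth.Agent.Sga3A.FibSpread

open Groth.Agent.Sga3A.BCIso Groth.Agent.Sga3A.SpreadDiag

lemma finitePresentation_monoidAlgebra (B M : Type u) [CommRing B] [CommGroup M] [Group.FG M] :
    Algebra.FinitePresentation B (MonoidAlgebra B M) := by
  have h0 : Monoid.FG M := Group.fg_iff_monoid_fg.mp inferInstance
  have h1 : Algebra.FiniteType ℤ (MonoidAlgebra ℤ M) := inferInstance
  have h2 : Algebra.FinitePresentation ℤ (MonoidAlgebra ℤ M) :=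
    Algebra.FinitePresentation.of_finiteType.mp h1
  exact Algebra.FinitePresentation.equiv (MonoidAlgebra.scalarTensorEquiv ℤ B (M := M))

/-- diagonalisability spreads out from a localization -/
theorem exists_isDiag {B : Type u} [CommRing B] (T : Submonoid B) (L : Type u) [CommRing L] [Algebra B L]
    [IsLocalization T L] [Nontrivial L] (H : Type u) [CommRing H] [HopfAlgebra B H] [Algebra.FinitePresentation B H]
    (hd : IsDiag L (L ⊗[B] H)) :
    ∃ (M : Type u) (_ : CommGroup M) (_ : Group.FG M) (t : B), t ∈ T ∧
      ∀ (B' : Type u) [CommRing B'] [Algebra B B'], IsUnit (algebraMap B B' t) →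
        Nonempty (B' ⊗[B] H ≃ₐc[B'] MonoidAlgebra B' M) := by
  obtain ⟨M, _, ⟨e⟩⟩ := hd
  have h1 : Algebra.FiniteType L (MonoidAlgebra L M) :=
    Algebra.FiniteType.equiv (inferInstance : Algebra.FiniteType L (L ⊗[B] H)) e.toAlgEquiv
  have hfg : Group.FG M := MonoidAlgebra.finiteType_iff_group_fg.mp h1
  have := finitePresentation_monoidAlgebra B M
  obtain ⟨t, ht, Ht⟩ := exists_bialgEquiv T L (X := H) (Y := MonoidAlgebra B M)
    ((scalarBialg B L M).trans e.symm)
  refine ⟨M, _, hfg, t, ht, fun B' _ _ hu => ?_⟩
  obtain ⟨E⟩ := Ht B' hu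
  exact ⟨E.trans (scalarBialg B B' M)⟩

/-- faithful flatness over a basic open -/
lemma faithfullyFlat_away {R B : Type u} [CommRing R] [CommRing B] [Algebra R B] [Module.Flat R B] (h : R)
    (H : ∀ p : PrimeSpectrum R, h ∉ p.asIdeal → p ∈ Set.range (PrimeSpectrum.comap (algebraMap R B))) :
    Module.FaithfullyFlat (Localization.Away h) (Localization.Away h ⊗[R] B) := by
  apply Module.FaithfullyFlat.of_comap_surjective
  intro q
  have hq : h ∉ (PrimeSpectrum.comap (algebraMap R (Localization.Away h)) q).asIdeal := by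
    intro hm
    exact q.isPrime.ne_top (Ideal.eq_top_of_isUnit_mem _ hm (IsLocalization.Away.algebraMap_isUnit h))
  obtain ⟨Q, hQ⟩ := H _ hq
  have hQh : IsUnit (algebraMap R Q.asIdeal.ResidueField h) := by
    rw [isUnit_iff_ne_zero, IsScalarTower.algebraMap_apply R B, Ne, Ideal.algebraMap_residueField_eq_zero]
    intro hm
    apply hq
    rw [← hQ]
    exact hm
  let a : Localization.Away h →ₐ[R] Q.asIdeal.ResidueField :=
    IsLocalization.liftAlgHom (M := Submonoid.powers h) (f := Algebra.ofId R _) (by
      rintro ⟨_, n, rfl⟩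
      change IsUnit (algebraMap R _ (h ^ n))
      rw [map_pow]
      exact hQh.pow n)
  let f : Localization.Away h ⊗[R] B →ₐ[R] Q.asIdeal.ResidueField :=
    Algebra.TensorProduct.lift a (IsScalarTower.toAlgHom R B _) (fun _ _ => .all _ _)
  refine ⟨PrimeSpectrum.comap f.toRingHom ⊥, ?_⟩
  apply PrimeSpectrum.localization_comap_injective (Localization.Away h) (Submonoid.powers h)
  rw [← hQ]
  rw [← PrimeSpectrum.comap_comp_apply, ← PrimeSpectrum.comap_comp_apply]
  have h1 : (f.toRingHom.comp ((algebraMap (Localization.Away h) (Localization.Away h ⊗[R] B)).comp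
      (algebraMap R (Localization.Away h)))) = (algebraMap B Q.asIdeal.ResidueField).comp (algebraMap R B) := by
    ext r
    simp [f, ← IsScalarTower.algebraMap_apply]
  have h2 : PrimeSpectrum.comap (algebraMap (Localization.Away h) (Localization.Away h ⊗[R] B))
      (PrimeSpectrum.comap f.toRingHom ⊥) = PrimeSpectrum.comap (f.toRingHom.comp
        (algebraMap (Localization.Away h) (Localization.Away h ⊗[R] B))) ⊥ := rfl
  have h3 : PrimeSpectrum.comap (algebraMap B Q.asIdeal.ResidueField) ⊥ = Q := by
    ext x
    change algebraMap B Q.asIdeal.ResidueField x = 0 ↔ _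
    rw [Ideal.algebraMap_residueField_eq_zero]
  have h4 : PrimeSpectrum.comap (f.toRingHom.comp
      ((algebraMap (Localization.Away h) (Localization.Away h ⊗[R] B)).comp (algebraMap R (Localization.Away h)))) ⊥ =
      PrimeSpectrum.comap (algebraMap R B) Q := by
    rw [h1, PrimeSpectrum.comap_comp_apply, h3]
  exact h4

/-- over a local ring, a quasi-isotrivial group has constant type -/
theorem const_of_isLocalRing (R A : Type u) [CommRing R] [IsLocalRing R] [CommRing A] [HopfAlgebra R A]
    (hp : IsQuasiIsotrivial R A) : IsQuasiIsotrivialConst R A := by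
  obtain ⟨s, hs, H⟩ := hp
  -- one member of the covering is a unit
  have hf : ∃ f ∈ s, IsUnit f := by
    by_contra hne
    push Not at hne
    have : Ideal.span s ≤ IsLocalRing.maximalIdeal R := by
      rw [Ideal.span_le]
      intro f hf
      exact (IsLocalRing.mem_maximalIdeal _).mpr (hne f hf)
    rw [hs, top_le_iff] at this
    exact (IsLocalRing.maximalIdeal.isMaximal _).ne_top this
  obtain ⟨f, hfs, hfu⟩ := hf
  obtain ⟨S, _, _, het, hff, hd⟩ := H f hfs
  let : Algebra R S := ((algebraMap (Localization.Away f) S).comp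
    (algebraMap R (Localization.Away f))).toAlgebra
  have : IsScalarTower R (Localization.Away f) S := IsScalarTower.of_algebraMap_eq (fun _ => rfl)
  have hffS : Module.FaithfullyFlat R S := by
    have h1 : Module.FaithfullyFlat R (Localization.Away f) :=
      Module.FaithfullyFlat.of_linearEquiv _ _ (IsLocalization.atUnit R _ f hfu).symm.toLinearEquiv
    exact Module.FaithfullyFlat.trans R (Localization.Away f) S
  have h1 : Algebra.Etale R (Localization.Away f) := Algebra.Etale.of_isLocalizationAway f
  exact ⟨S, _, _, Algebra.Etale.comp R (Localization.Away f) S, hffS, MultBC.isDiag_tower hd⟩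

/-- spreading out from a local ring of the base -/
theorem exists_away (R A : Type u) [CommRing R] [CommRing A] [HopfAlgebra R A] [Algebra.FinitePresentation R A]
    (p : Ideal R) [p.IsPrime]
    (hp : IsQuasiIsotrivial (Localization.AtPrime p) (Localization.AtPrime p ⊗[R] A)) :
    ∃ h : R, h ∉ p ∧ IsQuasiIsotrivialConst (Localization.Away h) (Localization.Away h ⊗[R] A) := by
  obtain ⟨S, _, _, hetS, hffS, hd⟩ := const_of_isLocalRing _ _ hp
  let : Algebra R S := ((algebraMap (Localization.AtPrime p) S).comp
    (algebraMap R (Localization.AtPrime p))).toAlgebra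
  have : IsScalarTower R (Localization.AtPrime p) S := IsScalarTower.of_algebraMap_eq (fun _ => rfl)
  have hdS : IsDiag S (S ⊗[R] A) := MultBC.isDiag_tower hd
  obtain ⟨B, _, _, hB, ⟨e⟩⟩ := Groth.Agent.Proet.EtaleLiftLoc.exists_etale_lift_of_isLocalization R
    (Localization.AtPrime p) S p.primeCompl
  let φ : S →ₐ[R] B ⊗[R] Localization.AtPrime p :=
    ((Algebra.TensorProduct.comm R (Localization.AtPrime p) B) : _ →ₐ[R] _).comp
      ((e.symm : S →ₐ[Localization.AtPrime p] Localization.AtPrime p ⊗[R] B).restrictScalars R)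
  have hdL : IsDiag (B ⊗[R] Localization.AtPrime p) ((B ⊗[R] Localization.AtPrime p) ⊗[B] (B ⊗[R] A)) :=
    MultBC.isDiag_tower' (NilDescent.isDiag_of_algHom φ hdS)
  have hnS : Nontrivial S := by
    obtain ⟨Q, -⟩ := PrimeSpectrum.comap_surjective_of_faithfullyFlat (A := Localization.AtPrime p) (B := S)
      (IsLocalRing.closedPoint _)
    refine nontrivial_of_ne (1 : S) 0 fun h => Q.isPrime.ne_top ((Ideal.eq_top_iff_one _).mpr ?_)
    rw [h]
    exact Q.asIdeal.zero_mem
  have hnL : Nontrivial (B ⊗[R] Localization.AtPrime p) :=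
    ((e.symm.toEquiv.trans (Algebra.TensorProduct.comm R (Localization.AtPrime p) B).toEquiv).symm).nontrivial
  obtain ⟨M, _, hMfg, t, ht, Ht⟩ := exists_isDiag (Algebra.algebraMapSubmonoid B p.primeCompl)
    (B ⊗[R] Localization.AtPrime p) (B ⊗[R] A) hdL
  obtain ⟨r, hr, rfl⟩ := ht
  -- the image of `Spec B → Spec R` is a neighbourhood of `p`
  have hopen : IsOpen (Set.range (PrimeSpectrum.comap (algebraMap R B))) :=
    (PrimeSpectrum.isOpenMap_comap_of_hasGoingDown_of_finitePresentation (R := R) (S := B)).isOpen_range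
  have hmem : (⟨p, inferInstance⟩ : PrimeSpectrum R) ∈ Set.range (PrimeSpectrum.comap (algebraMap R B)) := by
    obtain ⟨Q, hQ⟩ := PrimeSpectrum.comap_surjective_of_faithfullyFlat (A := Localization.AtPrime p) (B := S)
      (IsLocalRing.closedPoint _)
    let g : B →ₐ[R] S := ((e : Localization.AtPrime p ⊗[R] B →ₐ[Localization.AtPrime p] S).restrictScalars R).comp
      Algebra.TensorProduct.includeRight
    refine ⟨PrimeSpectrum.comap g.toRingHom Q, ?_⟩
    rw [← PrimeSpectrum.comap_comp_apply]
    have h1 : g.toRingHom.comp (algebraMap R B) = (algebraMap (Localization.AtPrime p) S).comp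
        (algebraMap R (Localization.AtPrime p)) := by
      ext x
      change g (algebraMap R B x) = _
      rw [AlgHom.commutes]
      rfl
    rw [h1, PrimeSpectrum.comap_comp_apply, hQ]
    ext x
    exact (IsLocalization.AtPrime.to_map_mem_maximal_iff (Localization.AtPrime p) p x)
  obtain ⟨_, ⟨g, rfl⟩, hg, hgU⟩ := PrimeSpectrum.isTopologicalBasis_basic_opens.exists_subset_of_mem_open hmem hopen
  refine ⟨r * g, ?_, ?_⟩
  · exact fun hm => ((inferInstance : p.IsPrime).mem_or_mem hm).elim hr hg
  · have hrg : IsUnit (algebraMap R (Localization.Away (r * g)) r) := by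
      have := IsLocalization.Away.algebraMap_isUnit (S := Localization.Away (r * g)) (r * g)
      rw [map_mul] at this
      exact isUnit_of_mul_isUnit_left this
    refine ⟨Localization.Away (r * g) ⊗[R] B, inferInstance, inferInstance, inferInstance,
      faithfullyFlat_away (r * g) ?_, ?_⟩
    · intro q hq
      exact hgU (fun hm => hq (q.asIdeal.mul_mem_left _ hm))
    · let : Algebra B (Localization.Away (r * g) ⊗[R] B) := Algebra.TensorProduct.rightAlgebra
      have : IsScalarTower R B (Localization.Away (r * g) ⊗[R] B) := inferInstance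
      have h1 : IsUnit (algebraMap B (Localization.Away (r * g) ⊗[R] B) (algebraMap R B r)) := by
        rw [← IsScalarTower.algebraMap_apply,
          IsScalarTower.algebraMap_apply R (Localization.Away (r * g)) (Localization.Away (r * g) ⊗[R] B)]
        exact hrg.map _
      have h2 : IsDiag (Localization.Away (r * g) ⊗[R] B)
          ((Localization.Away (r * g) ⊗[R] B) ⊗[B] (B ⊗[R] A)) := ⟨M, _, Ht _ h1⟩
      exact MultBC.isDiag_tower' (MultBC.isDiag_tower h2)

/-- quasi-isotrivial groups spread out from the local rings -/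
theorem isQuasiIsotrivial_of_forall_localization (R A : Type u) [CommRing R] [CommRing A] [HopfAlgebra R A]
    [Algebra.FinitePresentation R A]
    (h : ∀ (p : Ideal R) [p.IsPrime], IsQuasiIsotrivial (Localization.AtPrime p) (Localization.AtPrime p ⊗[R] A)) :
    IsQuasiIsotrivial R A := by
  refine ⟨{f | IsQuasiIsotrivialConst (Localization.Away f) (Localization.Away f ⊗[R] A)}, ?_, fun f hf => hf⟩
  by_contra hne
  obtain ⟨m, hm, hle⟩ := Ideal.exists_le_maximal _ hne
  obtain ⟨f, hf, hq⟩ := exists_away R A m (h m)
  exact hf (hle (Ideal.subset_span hq))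

lemma isMultTypeConst_of_isQuasiIsotrivialConst {R A : Type u} [CommRing R] [CommRing A] [HopfAlgebra R A]
    (h : IsQuasiIsotrivialConst R A) : IsMultTypeConst R A := by
  obtain ⟨R', _, _, -, hff, hd⟩ := h
  exact ⟨R', _, _, hff, hd⟩

lemma isMultType_of_isQuasiIsotrivial {R A : Type u} [CommRing R] [CommRing A] [HopfAlgebra R A]
    (h : IsQuasiIsotrivial R A) : IsMultType R A := by
  obtain ⟨s, hs, H⟩ := h
  exact ⟨s, hs, fun f hf => isMultTypeConst_of_isQuasiIsotrivialConst (H f hf)⟩

/-- S2973 over local rings + spreading out -/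
theorem isMultType_of_forall_localization' (R A : Type u) [CommRing R] [CommRing A] [HopfAlgebra R A]
    [Algebra.FinitePresentation R A]
    (H2973 : ∀ (R : Type u) [CommRing R] (A : Type u) [CommRing A] [HopfAlgebra R A],
      Algebra.FiniteType R A → IsMultType R A → IsQuasiIsotrivial R A)
    (h : ∀ (p : Ideal R) [p.IsPrime], IsMultType (Localization.AtPrime p) (Localization.AtPrime p ⊗[R] A)) :
    IsMultType R A :=
  isMultType_of_isQuasiIsotrivial
    (isQuasiIsotrivial_of_forall_localization R A fun p _ => H2973 _ _ inferInstance (h p))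

end Groth.Agent.Sga3A.FibSpread
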