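import Mathlib.RingTheory.Spectrum.Prime.Chevalley
import Mathlib.RingTheory.Jacobson.Ring
import Mathlib.LinearAlgebra.TensorProduct.Basis

/-!
# A connected affine scheme over a field with a rational point is geometrically connected (Stacks 04KV)
-/

set_option autoImplicit false
universe u v w

open TensorProduct

namespace Groth.Agent.Sga3A.GeomConn

/-- A ring with only trivial idempotents has connected spectrum. -/
theorem connectedSpace_of_idempotents (R : Type*) [CommRing R] [Nontrivial R]
    (h : ∀ e : R, IsIdempotentElem e → e = 0 ∨ e = 1) : ConnectedSpace (PrimeSpectrum R) := by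
  rw [connectedSpace_iff_clopen]
  refine ⟨inferInstance, fun s hs => ?_⟩
  obtain ⟨e, he, rfl⟩ := PrimeSpectrum.isClopen_iff.1 hs
  rcases h e he with rfl | rfl
  · left; simp
  · right; simp

variable {K : Type u} {L : Type v} {B : Type w} [Field K] [Field L] [Algebra K L] [CommRing B]
  [Algebra K B]

/-- specialisation at the rational point -/
noncomputable def sp (L : Type v) [CommRing L] [Algebra K L] (ε : B →ₐ[K] K) : L ⊗[K] B →ₐ[L] L :=
  Algebra.TensorProduct.lift (AlgHom.id L L) ((Algebra.ofId K L).comp ε) (fun _ _ => .all _ _)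

@[simp] theorem sp_tmul (L : Type v) [CommRing L] [Algebra K L] (ε : B →ₐ[K] K) (l : L) (b : B) :
    sp L ε (l ⊗ₜ b) = l * algebraMap K L (ε b) := by
  simp [sp, Algebra.ofId_apply]

/-- integral case -/
theorem eq_zero_of_isIntegral [Algebra.IsIntegral K L] [ConnectedSpace (PrimeSpectrum B)]
    (ε : B →ₐ[K] K) (f : L ⊗[K] B) (hf : IsIdempotentElem f) (h0 : sp L ε f = 0) : f = 0 := by
  let φ : B →+* L ⊗[K] B := (Algebra.TensorProduct.includeRight : B →ₐ[K] L ⊗[K] B).toRingHom
  let c : (B ⊗[K] L) ≃+* L ⊗[K] B := (Algebra.TensorProduct.comm K B L).toRingEquiv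
  have hφ : φ = (c : B ⊗[K] L →+* L ⊗[K] B).comp (algebraMap B (B ⊗[K] L)) := by
    ext b; rfl
  have hopen : IsOpenMap (PrimeSpectrum.comap φ) := by
    rw [hφ, PrimeSpectrum.comap_comp]
    exact (PrimeSpectrum.isOpenMap_comap_algebraMap_tensorProduct_of_field).comp
      (PrimeSpectrum.homeomorphOfRingEquiv c.symm).isOpenMap
  have hclosed : IsClosedMap (PrimeSpectrum.comap φ) := by
    rw [hφ, PrimeSpectrum.comap_comp]
    refine IsClosedMap.comp (PrimeSpectrum.isClosedMap_comap_of_isIntegral _ ?_)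
      (PrimeSpectrum.homeomorphOfRingEquiv c.symm).isClosedMap
    exact algebraMap_isIntegral_iff.mpr inferInstance
  have hD : IsClopen (PrimeSpectrum.basicOpen f : Set (PrimeSpectrum (L ⊗[K] B))) :=
    PrimeSpectrum.isClopen_iff.mpr ⟨f, hf, rfl⟩
  have himg : IsClopen (PrimeSpectrum.comap φ '' (PrimeSpectrum.basicOpen f)) :=
    ⟨hclosed _ hD.1, hopen _ hD.2⟩
  rcases isClopen_iff.mp himg with h1 | h1
  · rw [Set.image_eq_empty] at h1
    apply PrimeSpectrum.basicOpen_injOn_isIdempotentElem hf IsIdempotentElem.zero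
    ext1
    rw [h1, PrimeSpectrum.basicOpen_zero]; rfl
  · exfalso
    have hp : (RingHom.ker ε).IsPrime := RingHom.ker_isPrime ε
    have h2 : (⟨RingHom.ker ε, hp⟩ : PrimeSpectrum B) ∈
        PrimeSpectrum.comap φ '' (PrimeSpectrum.basicOpen f) := by rw [h1]; trivial
    obtain ⟨Q, hQf, hQ⟩ := h2
    have h3 : ∀ b, ε b = 0 → φ b ∈ Q.asIdeal := by
      intro b hb
      have h4 : b ∈ (PrimeSpectrum.comap φ Q).asIdeal := by
        rw [hQ]; exact hb
      exact h4
    have h4 : ∀ z : L ⊗[K] B, z - sp L ε z ⊗ₜ 1 ∈ Q.asIdeal := by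
      intro z
      induction z using TensorProduct.induction_on with
      | zero => simp
      | add x y hx hy =>
        have : x + y - sp L ε (x + y) ⊗ₜ[K] (1 : B) =
            (x - sp L ε x ⊗ₜ 1) + (y - sp L ε y ⊗ₜ 1) := by
          rw [map_add, TensorProduct.add_tmul]; ring
        rw [this]
        exact Q.asIdeal.add_mem hx hy
      | tmul l b =>
        have h5 : l ⊗ₜ[K] b - sp L ε (l ⊗ₜ b) ⊗ₜ[K] (1 : B) =
            (l ⊗ₜ[K] (1 : B)) * φ (b - algebraMap K B (ε b)) := by
          change _ = (l ⊗ₜ[K] (1 : B)) * ((1 : L) ⊗ₜ[K] (b - algebraMap K B (ε b)))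
          rw [Algebra.TensorProduct.tmul_mul_tmul, mul_one, one_mul, TensorProduct.tmul_sub, sp_tmul,
            mul_comm l, ← Algebra.smul_def, TensorProduct.smul_tmul, Algebra.algebraMap_eq_smul_one]
        rw [h5]
        exact Q.asIdeal.mul_mem_left _ (h3 _ (by simp))
    have h5 := h4 f
    rw [h0, TensorProduct.zero_tmul, sub_zero] at h5
    exact hQf h5

/-- elements of `L ⊗ B` are defined over a finitely generated subalgebra of `L` -/
theorem exists_fg (f : L ⊗[K] B) : ∃ C : Subalgebra K L, C.FG ∧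
    ∃ g : C ⊗[K] B, C.val.toLinearMap.rTensor B g = f := by
  induction f using TensorProduct.induction_on with
  | zero => exact ⟨⊥, Subalgebra.fg_bot, 0, map_zero _⟩
  | tmul l b =>
    refine ⟨Algebra.adjoin K (({l} : Finset L) : Set L), Subalgebra.fg_adjoin_finset _,
      ⟨l, Algebra.subset_adjoin (by simp)⟩ ⊗ₜ b, ?_⟩
    rw [LinearMap.rTensor_tmul]; rfl
  | add x y hx hy =>
    obtain ⟨C, hC, g, rfl⟩ := hx
    obtain ⟨D, hD, h, rfl⟩ := hy
    refine ⟨C ⊔ D, hC.sup hD,
      (Subalgebra.inclusion (le_sup_left : C ≤ C ⊔ D)).toLinearMap.rTensor B g +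
      (Subalgebra.inclusion (le_sup_right : D ≤ C ⊔ D)).toLinearMap.rTensor B h, ?_⟩
    rw [map_add, ← LinearMap.comp_apply, ← LinearMap.comp_apply, ← LinearMap.rTensor_comp,
      ← LinearMap.rTensor_comp]
    rfl

theorem sp_map {C D : Type*} [CommRing C] [CommRing D] [Algebra K C] [Algebra K D] (ε : B →ₐ[K] K)
    (ι : C →ₐ[K] D) (z : C ⊗[K] B) :
    sp D ε (Algebra.TensorProduct.map ι (AlgHom.id K B) z) = ι (sp C ε z) := by
  induction z using TensorProduct.induction_on with
  | zero => simp
  | add x y hx hy => simp only [map_add, hx, hy]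
  | tmul c b => simp

/-- general case -/
theorem eq_zero_of_sp_eq_zero [ConnectedSpace (PrimeSpectrum B)]
    (ε : B →ₐ[K] K) (f : L ⊗[K] B) (hf : IsIdempotentElem f) (h0 : sp L ε f = 0) : f = 0 := by
  classical
  obtain ⟨C, hC, g, rfl⟩ := exists_fg f
  have hft : Algebra.FiniteType K C := C.fg_iff_finiteType.mp hC
  let ι : C ⊗[K] B →ₐ[K] L ⊗[K] B := Algebra.TensorProduct.map C.val (AlgHom.id K B)
  have hι : Function.Injective ι :=
    Module.Flat.rTensor_preserves_injective_linearMap (M := B) C.val.toLinearMap Subtype.val_injective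
  have hg : IsIdempotentElem g := by
    apply hι
    rw [map_mul]
    exact hf
  have hg0 : sp C ε g = 0 := by
    apply Subtype.val_injective
    have := sp_map ε C.val g
    exact this.symm.trans h0
  let b := Module.Basis.ofVectorSpace K B
  have hjac : IsJacobsonRing C := isJacobsonRing_of_finiteType (A := K)
  have key : g = 0 := by
    apply (b.baseChange C).repr.injective
    ext i
    rw [map_zero, Finsupp.coe_zero, Pi.zero_apply]
    have h1 : (b.baseChange C).repr g i ∈ (⊥ : Ideal C).jacobson := by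
      rw [Ideal.jacobson, Ideal.mem_sInf]
      rintro m ⟨-, hm⟩
      let _ : Field (C ⧸ m) := Ideal.Quotient.field m
      have hfin : Module.Finite K (C ⧸ m) := finite_of_finite_type_of_isJacobsonRing K (C ⧸ m)
      have hint : Algebra.IsIntegral K (C ⧸ m) := inferInstance
      let π : C ⊗[K] B →ₐ[K] (C ⧸ m) ⊗[K] B :=
        Algebra.TensorProduct.map (Ideal.Quotient.mkₐ K m) (AlgHom.id K B)
      have h2 : π g = 0 := by
        apply eq_zero_of_isIntegral (L := C ⧸ m) ε
        · exact hg.map π
        · rw [sp_map, hg0, map_zero]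
      have h3 : ∀ z : C ⊗[K] B, (b.baseChange (C ⧸ m)).repr (π z) i =
          Ideal.Quotient.mk m ((b.baseChange C).repr z i) := by
        intro z
        induction z using TensorProduct.induction_on with
        | zero => simp
        | add x y hx hy => simp only [map_add, Finsupp.add_apply, hx, hy]
        | tmul c x =>
          change (b.baseChange (C ⧸ m)).repr (Ideal.Quotient.mk m c ⊗ₜ x) i = _
          rw [Module.Basis.baseChange_repr_tmul, Module.Basis.baseChange_repr_tmul]
          simp [Algebra.smul_def]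
      have h4 := h3 g
      rw [h2, map_zero, Finsupp.coe_zero, Pi.zero_apply] at h4
      exact Ideal.Quotient.eq_zero_iff_mem.mp h4.symm
    have h5 : (⊥ : Ideal C).jacobson = ⊥ := IsJacobsonRing.out hjac
      (Ideal.isPrime_bot (α := C)).isRadical
    rw [h5] at h1
    exact congrArg Subtype.val ((Ideal.mem_bot).mp h1)
  rw [key, map_zero]

theorem connectedSpace_tensor [ConnectedSpace (PrimeSpectrum B)] (ε : B →ₐ[K] K) :
    ConnectedSpace (PrimeSpectrum (L ⊗[K] B)) := by
  have hnt : Nontrivial (L ⊗[K] B) := (sp L ε : L ⊗[K] B →+* L).domain_nontrivial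
  refine connectedSpace_of_idempotents _ fun f hf => ?_
  have h1 : IsIdempotentElem (sp L ε f) := hf.map (sp L ε)
  rcases IsIdempotentElem.iff_eq_zero_or_one.mp h1 with h | h
  · exact Or.inl (eq_zero_of_sp_eq_zero ε f hf h)
  · right
    have h2 := eq_zero_of_sp_eq_zero ε (1 - f) hf.one_sub (by rw [map_sub, map_one, h, sub_self])
    exact (sub_eq_zero.mp h2).symm

end Groth.Agent.Sga3A.GeomConn
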