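import Groth.Agent.Sga3A.TypeLemma
import Groth.Agent.Sga3A.MultBC
import Mathlib.RingTheory.Spectrum.Prime.Topology
import Mathlib.RingTheory.Flat.FaithfullyFlat.Algebra
import Mathlib.Algebra.MonoidAlgebra.NoZeroDivisors
import Mathlib.RingTheory.LocalRing.ResidueField.Ideal

/-!
# Tori and groups of multiplicative type

* `isMultType_of_isTorus`;
* `connectedSpace_of_isTorus`: a torus over a field is connected;
* `isTorus_of_isMultType`: a group of multiplicative type whose fibres are tori is a torus.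
-/

set_option autoImplicit false
universe u
open TensorProduct SGA3b

namespace Groth.Agent.Sga3A.FibTorus

open Groth.Agent.Sga3A.MultBC Groth.Agent.Sga3A.TypeLemma

/-- group algebras of isomorphic groups -/
lemma exists_congr (T : Type*) [CommRing T] {X Y : Type*} [CommGroup X] [CommGroup Y] (e : X ≃* Y) :
    Nonempty (MonoidAlgebra T X ≃ₐc[T] MonoidAlgebra T Y) := by
  refine ⟨BialgEquiv.ofBialgHom (MonoidAlgebra.mapDomainBialgHom T (e : X →* Y))
    (MonoidAlgebra.mapDomainBialgHom T (e.symm : Y →* X)) ?_ ?_⟩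
  · rw [← MonoidAlgebra.mapDomainBialgHom_comp]
    have : ((e : X →* Y).comp (e.symm : Y →* X)) = MonoidHom.id Y := by ext x; simp
    rw [this, MonoidAlgebra.mapDomainBialgHom_id]
  · rw [← MonoidAlgebra.mapDomainBialgHom_comp]
    have : ((e.symm : Y →* X).comp (e : X →* Y)) = MonoidHom.id X := by ext x; simp
    rw [this, MonoidAlgebra.mapDomainBialgHom_id]

lemma isMultTypeConst_of_isTorusConst {R A : Type u} [CommRing R] [CommRing A] [HopfAlgebra R A]
    (h : IsTorusConst R A) : IsMultTypeConst R A := by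
  obtain ⟨R', _, _, hff, n, ⟨e⟩⟩ := h
  obtain ⟨e'⟩ := exists_congr R' (MulEquiv.ulift : ULift.{u} (Multiplicative (Fin n → ℤ)) ≃* _).symm
  exact ⟨R', _, _, hff, ULift.{u} (Multiplicative (Fin n → ℤ)), inferInstance, ⟨e.trans e'⟩⟩

lemma isMultType_of_isTorus {R A : Type u} [CommRing R] [CommRing A] [HopfAlgebra R A]
    (h : IsTorus R A) : IsMultType R A := by
  obtain ⟨s, hs, H⟩ := h
  exact ⟨s, hs, fun f hf => isMultTypeConst_of_isTorusConst (H f hf)⟩

/-- over a local ring, a torus has constant rank -/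
theorem const_of_isLocalRing (R A : Type u) [CommRing R] [IsLocalRing R] [CommRing A] [HopfAlgebra R A]
    (hp : IsTorus R A) : IsTorusConst R A := by
  obtain ⟨s, hs, H⟩ := hp
  have hf : ∃ f ∈ s, IsUnit f := by
    by_contra hne
    push Not at hne
    have : Ideal.span s ≤ IsLocalRing.maximalIdeal R := by
      rw [Ideal.span_le]
      intro f hf
      exact (IsLocalRing.mem_maximalIdeal _).mpr (hne f hf)
    rw [hs, top_le_iff] at this
    exact (IsLocalRing.maximalIdeal.isMaximal _).ne_top this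
  obtain ⟨f, hfs, hfu⟩ := hf
  obtain ⟨S, _, _, hff, n, ⟨e⟩⟩ := H f hfs
  let : Algebra R S := ((algebraMap (Localization.Away f) S).comp
    (algebraMap R (Localization.Away f))).toAlgebra
  have : IsScalarTower R (Localization.Away f) S := IsScalarTower.of_algebraMap_eq (fun _ => rfl)
  have hffS : Module.FaithfullyFlat R S := by
    have h1 : Module.FaithfullyFlat R (Localization.Away f) :=
      Module.FaithfullyFlat.of_linearEquiv _ _ (IsLocalization.atUnit R _ f hfu).symm.toLinearEquiv
    exact Module.FaithfullyFlat.trans R (Localization.Away f) S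
  exact ⟨S, _, _, hffS, n, ⟨(bcTower R (Localization.Away f) S A).symm.trans e⟩⟩

lemma nontrivial_of_ff (R S : Type*) [CommRing R] [CommRing S] [Algebra R S] [Nontrivial R]
    [Module.FaithfullyFlat R S] : Nontrivial S := by
  obtain ⟨m, hm⟩ := Ideal.exists_maximal R
  obtain ⟨Q, -⟩ := PrimeSpectrum.comap_surjective_of_faithfullyFlat (A := R) (B := S) ⟨m, hm.isPrime⟩
  refine nontrivial_of_ne (1 : S) 0 fun h => Q.isPrime.ne_top ((Ideal.eq_top_iff_one _).mpr ?_)
  rw [h]
  exact Q.asIdeal.zero_mem

/-- a torus over a field is integral, in particular connected -/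
lemma isDomain_of_isTorus {κ B : Type u} [Field κ] [CommRing B] [HopfAlgebra κ B] (h : IsTorus κ B) :
    IsDomain B := by
  obtain ⟨R', _, _, hff, n, ⟨e⟩⟩ := const_of_isLocalRing κ B h
  have : Nontrivial R' := nontrivial_of_ff κ R'
  obtain ⟨m, hm⟩ := Ideal.exists_maximal R'
  let : Field (R' ⧸ m) := Ideal.Quotient.field m
  obtain ⟨e'⟩ := diag_of_algHom (B := B) (T := R' ⧸ m) (IsScalarTower.toAlgHom κ R' (R' ⧸ m)) ⟨e⟩
  have h1 : IsDomain (MonoidAlgebra (R' ⧸ m) (Multiplicative (Fin n → ℤ))) := inferInstance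
  have h2 : IsDomain ((R' ⧸ m) ⊗[κ] B) := e'.toMulEquiv.isDomain _
  have h3 : Function.Injective (Algebra.TensorProduct.includeRight : B →ₐ[κ] (R' ⧸ m) ⊗[κ] B) :=
    Algebra.TensorProduct.includeRight_injective (algebraMap κ (R' ⧸ m)).injective
  exact h3.isDomain (Algebra.TensorProduct.includeRight : B →ₐ[κ] (R' ⧸ m) ⊗[κ] B).toRingHom

lemma connectedSpace_of_isTorus {κ B : Type u} [Field κ] [CommRing B] [HopfAlgebra κ B] (h : IsTorus κ B) :
    ConnectedSpace (PrimeSpectrum B) := by
  have := isDomain_of_isTorus h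
  have : IrreducibleSpace (PrimeSpectrum B) := inferInstance
  infer_instance

/-- a group of multiplicative type whose fibres are tori is a torus -/
theorem isTorus_of_isMultType {R A : Type u} [CommRing R] [CommRing A] [HopfAlgebra R A]
    (h : IsMultType R A)
    (hfib : ∀ (p : Ideal R) [p.IsPrime], IsTorus p.ResidueField (p.ResidueField ⊗[R] A)) : IsTorus R A := by
  obtain ⟨s, hs, H⟩ := h
  refine ⟨s, hs, fun f hf => ?_⟩
  obtain ⟨R', _, _, hff, M, _, ⟨e⟩⟩ := H f hf
  by_cases hR' : Subsingleton R'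
  · obtain ⟨e'⟩ := diag_of_subsingleton R' M (Multiplicative (Fin 0 → ℤ))
    exact ⟨R', _, _, hff, 0, ⟨e.trans e'⟩⟩
  rw [not_subsingleton_iff_nontrivial] at hR'
  suffices hM : ∃ n : ℕ, Nonempty (M ≃* Multiplicative (Fin n → ℤ)) by
    obtain ⟨n, ⟨g⟩⟩ := hM
    obtain ⟨e'⟩ := exists_congr R' g
    exact ⟨R', _, _, hff, n, ⟨e.trans e'⟩⟩
  let : Algebra R R' := ((algebraMap (Localization.Away f) R').comp
    (algebraMap R (Localization.Away f))).toAlgebra
  have : IsScalarTower R (Localization.Away f) R' := IsScalarTower.of_algebraMap_eq (fun _ => rfl)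
  obtain ⟨P, hP⟩ := Ideal.exists_maximal R'
  have hPp : P.IsPrime := hP.isPrime
  let p : Ideal R := P.comap (algebraMap R R')
  let ρ : p.ResidueField →ₐ[R] P.ResidueField := Ideal.ResidueField.mapₐ p P (Algebra.ofId R R') rfl
  let : Algebra p.ResidueField P.ResidueField := ρ.toRingHom.toAlgebra
  have : IsScalarTower R p.ResidueField P.ResidueField :=
    IsScalarTower.of_algebraMap_eq fun r => (ρ.commutes r).symm
  obtain ⟨R'', _, _, hff'', n, ⟨e''⟩⟩ := const_of_isLocalRing _ _ (hfib p)
  have hn : Nontrivial R'' := nontrivial_of_ff p.ResidueField R''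
  let : Algebra R R'' := ((algebraMap p.ResidueField R'').comp (algebraMap R p.ResidueField)).toAlgebra
  have : IsScalarTower R p.ResidueField R'' := IsScalarTower.of_algebraMap_eq (fun _ => rfl)
  have hT : Nontrivial (P.ResidueField ⊗[p.ResidueField] R'') := inferInstance
  refine ⟨n, mulEquiv_of_common (B := A) (S := R') (S' := R'') (T := P.ResidueField ⊗[p.ResidueField] R'')
    (((Algebra.TensorProduct.includeLeft : P.ResidueField →ₐ[p.ResidueField] _).restrictScalars R).comp
      (IsScalarTower.toAlgHom R R' P.ResidueField))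
    ((Algebra.TensorProduct.includeRight : R'' →ₐ[p.ResidueField] _).restrictScalars R)
    ⟨(bcTower R (Localization.Away f) R' A).symm.trans e⟩
    ⟨(bcTower R p.ResidueField R'' A).symm.trans e''⟩⟩

end Groth.Agent.Sga3A.FibTorus
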