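import Groth.Agent.Sga3A.MTConst
import Groth.Agent.Sga3A.TypeLemma
import Groth.Agent.Etcore.NormalEtale
import Mathlib.RingTheory.LocalProperties.Submodule

/-!
# Groups of multiplicative type over domains

* `const_of_isDomain`: over a domain the type is constant;
* `exists_gbasis_of_local`: a flat bialgebra over a domain with a group-like basis over all local algebras has one;
* `exists_domain_cover`: a finite etale faithfully flat algebra over an integrally closed domain
  has a quotient with the same properties which is a domain.
-/

set_option autoImplicit false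
universe u
open TensorProduct SGA3b

namespace Groth.Agent.Sga3A.MTNormal737

open MTBasis

section glue

lemma tmul_injective {R S N : Type*} [CommRing R] [CommRing S] [Algebra R S] [AddCommGroup N] [Module R N]
    [Module.Flat R N] (hinj : Function.Injective (algebraMap R S)) :
    Function.Injective (fun a : N => (1 : S) ⊗ₜ[R] a) := by
  have h := Module.Flat.rTensor_preserves_injective_linearMap (M := N) (Algebra.linearMap R S) hinj
  have h2 := h.comp (TensorProduct.lid R N).symm.injective
  convert h2 using 2 with a
  simp

lemma isGroupLikeElem_of_injective {R S A : Type*} [CommRing R] [CommRing S] [CommRing A] [Algebra R S]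
    [Bialgebra R A] [Module.Flat R A] (hinj : Function.Injective (algebraMap R S)) {a : A}
    (h : IsGroupLikeElem S ((1 : S) ⊗ₜ[R] a)) : IsGroupLikeElem R a where
  counit_eq_one := by
    have h1 := h.counit_eq_one
    rw [TensorProduct.counit_tmul, Bialgebra.counit_one, Algebra.smul_def, mul_one] at h1
    exact hinj (by rw [h1, map_one])
  comul_eq_tmul_self := by
    have h1 := h.comul_eq_tmul_self
    rw [comul_one_tmul] at h1
    have h2 : ((1 : S) ⊗ₜ[R] a) ⊗ₜ[S] ((1 : S) ⊗ₜ[R] a) =
      TensorProduct.AlgebraTensorModule.distribBaseChange R S A A (1 ⊗ₜ (a ⊗ₜ a)) := by simp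
    rw [h2] at h1
    exact tmul_injective (N := A ⊗[R] A) hinj ((LinearEquiv.injective _) h1)

/-- A flat bialgebra over a domain which has a group-like basis over all local algebras has one. -/
theorem exists_gbasis_of_local {T B : Type u} [CommRing T] [IsDomain T] [CommRing B] [Bialgebra T B]
    [Module.Flat T B] {M : Type u} [CommGroup M]
    (h : ∀ (T₁ : Type u) [CommRing T₁] [IsLocalRing T₁] [Algebra T T₁], Nonempty (GBasis T₁ (T₁ ⊗[T] B) M)) :
    Nonempty (GBasis T B M) := by
  classical
  obtain ⟨gK⟩ := h (FractionRing T)
  have hK : Function.Injective (algebraMap T (FractionRing T)) := IsFractionRing.injective T _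
  have hi : Function.Injective (fun a : B => (1 : FractionRing T) ⊗ₜ[T] a) := tmul_injective hK
  -- the localisations at maximal ideals
  have hφ : ∀ (p : Ideal T) [p.IsMaximal], ∃ φ : Localization.AtPrime p →ₐ[T] FractionRing T,
      Function.Injective φ := by
    intro p _
    let φ : Localization.AtPrime p →ₐ[T] FractionRing T :=
      IsLocalization.liftAlgHom (M := p.primeCompl) (f := Algebra.ofId T (FractionRing T)) (by
        intro y
        have hy : (y : T) ≠ 0 := fun h0 => y.2 (h0 ▸ p.zero_mem)
        exact IsUnit.mk0 _ (by
          change algebraMap T (FractionRing T) y ≠ 0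
          rw [Ne, map_eq_zero_iff _ hK]
          exact hy))
    refine ⟨φ, ?_⟩
    rw [injective_iff_map_eq_zero]
    intro x hx
    obtain ⟨⟨a, s⟩, hs⟩ := IsLocalization.surj p.primeCompl x
    have h1 : φ (algebraMap T _ a) = 0 := by rw [← hs, map_mul, hx, zero_mul]
    rw [AlgHom.commutes, map_eq_zero_iff _ hK] at h1
    rw [h1, map_zero] at hs
    exact (IsUnit.mul_left_eq_zero (IsLocalization.map_units _ s)).mp hs
  have key : ∀ m : M, ∃ a : B, (1 : FractionRing T) ⊗ₜ[T] a = gK.b m := by
    intro m
    let N : Submodule T (FractionRing T ⊗[T] B) := LinearMap.range (TensorProduct.mk T (FractionRing T) B 1)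
    suffices hN : gK.b m ∈ N by
      obtain ⟨a, ha⟩ := hN
      exact ⟨a, ha⟩
    let I : Ideal T := N.comap (LinearMap.toSpanSingleton T _ (gK.b m))
    suffices I = ⊤ by simpa [I] using I.eq_top_iff_one.mp this
    refine Not.imp_symm I.exists_le_maximal fun ⟨p, hp, le⟩ ↦ ?_
    obtain ⟨φ, hφi⟩ := hφ p
    obtain ⟨gp⟩ := h (Localization.AtPrime p)
    obtain ⟨m', hm'⟩ := (gp.bc φ).exists_eq (gK.gl m)
    rw [GBasis.bc_b] at hm'
    obtain ⟨⟨b, s⟩, hs⟩ := IsLocalizedModule.surj p.primeCompl
      (TensorProduct.mk T (Localization.AtPrime p) B 1) (gp.b m')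
    have h1 : (s : T) • gK.b m = (1 : FractionRing T) ⊗ₜ[T] b := by
      have h2 := congrArg (bc B φ) hs
      rw [Submonoid.smul_def, map_smul, ← hm'] at h2
      rw [h2]
      simp
    exact s.2 (le ⟨b, h1.symm⟩)
  choose a ha using key
  have hli : LinearIndependent T a := by
    rw [linearIndependent_iff]
    intro l hl
    have h1 : Finsupp.linearCombination (FractionRing T) gK.b
        (l.mapRange (algebraMap T (FractionRing T)) (map_zero _)) = 0 := by
      have h0 : (1 : FractionRing T) ⊗ₜ[T] (Finsupp.linearCombination T a l) = 0 := by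
        rw [hl, TensorProduct.tmul_zero]
      rw [Finsupp.linearCombination_apply, Finsupp.sum_mapRange_index (by simp)]
      rw [← h0, Finsupp.linearCombination_apply, Finsupp.sum, Finsupp.sum, TensorProduct.tmul_sum]
      refine Finset.sum_congr rfl fun m _ => ?_
      rw [← ha, TensorProduct.tmul_smul, algebraMap_smul]
    have h2 := (linearIndependent_iff.mp gK.b.linearIndependent) _ h1
    ext m
    have h3 := DFunLike.congr_fun h2 m
    simp only [Finsupp.mapRange_apply, Finsupp.coe_zero, Pi.zero_apply] at h3
    exact hK (by rw [h3, Finsupp.coe_zero, Pi.zero_apply, map_zero])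
  have hsp : Submodule.span T (Set.range a) = ⊤ := by
    rw [eq_top_iff]
    intro b _
    let f : ∀ (p : Ideal T) [p.IsMaximal], B →ₗ[T] Localization.AtPrime p ⊗[T] B :=
      fun p _ => TensorProduct.mk T (Localization.AtPrime p) B 1
    refine Submodule.mem_of_localization_maximal (fun p _ => Localization.AtPrime p ⊗[T] B) f b _ ?_
    intro p hp
    obtain ⟨φ, hφi⟩ := hφ p
    obtain ⟨gp⟩ := h (Localization.AtPrime p)
    have hinj : Function.Injective (bc B φ) := by
      have := Module.Flat.rTensor_preserves_injective_linearMap (M := B) φ.toLinearMap hφi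
      exact this
    have h1 : (Submodule.span T (Set.range a)).localized' (Localization.AtPrime p) p.primeCompl (f p) = ⊤ := by
      rw [Submodule.localized'_span, eq_top_iff, ← gp.b.span_eq]
      apply Submodule.span_mono
      rintro _ ⟨m', rfl⟩
      obtain ⟨m, hm⟩ := gK.exists_eq (isGroupLikeElem_bc φ (gp.gl m'))
      refine ⟨a m, ⟨m, rfl⟩, ?_⟩
      apply hinj
      rw [hm, ← ha]
      simp [f]
    have h2 : f p b ∈ (Submodule.span T (Set.range a)).localized' (Localization.AtPrime p) p.primeCompl (f p) := by
      rw [h1]; trivial
    rw [Submodule.mem_localized'] at h2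
    rw [Submodule.mem_localized₀]
    exact h2
  refine ⟨⟨Module.Basis.mk hli hsp.ge, ?_, ?_, ?_⟩⟩
  · apply hi
    simp only [Module.Basis.mk_apply, ha, gK.one]
    rfl
  · intro m n
    apply hi
    simp only [Module.Basis.mk_apply, ha, gK.mul]
    rw [← ha, ← ha, Algebra.TensorProduct.tmul_mul_tmul, one_mul]
  · intro m
    apply isGroupLikeElem_of_injective hK
    rw [Module.Basis.mk_apply, ha]
    exact gK.gl m

end glue

section const

open MultBC DiagPi TypeLemma

/-- Over a domain the type of a group of multiplicative type is constant. -/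
theorem const_of_isDomain {R : Type u} [CommRing R] [IsDomain R] {B : Type u} [CommRing B] [HopfAlgebra R B]
    (h : IsMultType R B) : IsMultTypeConst R B := by
  classical
  obtain ⟨ι, _, S, _, _, hfl, hs, hd⟩ := TypeLemma.IsMultType.exists_family h
  have := fun i => hfl i
  have hff : Module.FaithfullyFlat R (∀ i, S i) := faithfullyFlat_pi S hs
  choose X hX hh using hd
  have hspan := span_idem hh
  obtain ⟨i, hi⟩ : ∃ i, idem hh i ≠ 0 := by
    by_contra hcon
    push Not at hcon
    have : Ideal.span (Set.range (idem hh)) ≤ ⊥ := by
      rw [Ideal.span_le]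
      rintro _ ⟨i, rfl⟩
      exact hcon i
    rw [hspan] at this
    exact bot_ne_top (top_le_iff.mp this)
  have hinj : Function.Injective (algebraMap R (∀ i, S i)) := FaithfulSMul.algebraMap_injective R _
  have hid : idem hh i * idem hh i = idem hh i := by
    apply hinj
    rw [map_mul, algebraMap_idem]
    funext j
    simp only [Pi.mul_apply, ind]
    split_ifs <;> simp
  have h1 : idem hh i = 1 := mul_left_cancel₀ hi (by rw [hid, mul_one])
  have key : ∀ j, Nonempty (S j ⊗[R] B ≃ₐc[S j] MonoidAlgebra (S j) (X i)) := by
    intro j
    obtain ⟨e1⟩ := hh j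
    by_cases hij : Nonempty (X i ≃* X j)
    · obtain ⟨m⟩ := hij
      exact ⟨e1.trans (MonoidAlgebra.domCongrBialgEquiv _ _ m.symm)⟩
    · have h0 : (1 : S j) = 0 := by
        have := congrFun (algebraMap_idem hh i) j
        simp only [Pi.algebraMap_apply, ind, if_neg hij, h1, map_one] at this
        exact this
      have hsub : Subsingleton (S j) := subsingleton_of_zero_eq_one h0.symm
      obtain ⟨e2⟩ := diag_of_subsingleton (S j) (X j) (X i)
      exact ⟨e1.trans e2⟩
  exact ⟨∀ j, S j, inferInstance, inferInstance, hff, X i, _, ⟨diagPi fun j => (key j).some⟩⟩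

end const

section cover

/-- A finite etale faithfully flat algebra over an integrally closed domain
has a quotient with the same properties which is a domain. -/
theorem exists_domain_cover {R : Type u} [CommRing R] [IsDomain R] [IsIntegrallyClosed R] (T : Type u)
    [CommRing T] [Algebra R T] [Nontrivial T] [Module.Finite R T] [Algebra.Etale R T] :
    ∃ (T' : Type u) (_ : CommRing T') (_ : Algebra R T') (_ : Algebra T T') (_ : IsScalarTower R T T'),
      IsDomain T' ∧ Module.Finite R T' ∧ Algebra.Etale R T' ∧ Module.FaithfullyFlat R T' := by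
  obtain ⟨p, hp⟩ := Ideal.exists_maximal T
  obtain ⟨e, he, hep, hdom, _⟩ := Groth.Agent.Etcore.NormalEtale.exists_idempotent_notMem R T p
  have hsurj : Function.Surjective (algebraMap T (Localization.Away e)) := by
    intro x
    obtain ⟨⟨a, s⟩, hs⟩ := IsLocalization.surj (Submonoid.powers e) x
    have h1 : algebraMap T (Localization.Away e) e = 1 := by
      have hu : IsUnit (algebraMap T (Localization.Away e) e) := IsLocalization.Away.algebraMap_isUnit e
      exact hu.mul_left_cancel (by rw [← map_mul, he, mul_one])
    obtain ⟨n, hn⟩ := s.2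
    refine ⟨a, ?_⟩
    rw [← hs, ← hn, map_pow, h1, one_pow, mul_one]
  have hfin : Module.Finite T (Localization.Away e) :=
    Module.Finite.of_surjective (Algebra.linearMap T (Localization.Away e)) hsurj
  have hfin' : Module.Finite R (Localization.Away e) := Module.Finite.trans T _
  have het : Algebra.Etale T (Localization.Away e) := Algebra.Etale.of_isLocalizationAway e
  have het' : Algebra.Etale R (Localization.Away e) := Algebra.Etale.comp R T _
  have hflat : Module.Flat R (Localization.Away e) := inferInstance
  have hinj : Function.Injective (algebraMap R (Localization.Away e)) := by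
    have : Module.IsTorsionFree R (Localization.Away e) := Module.Flat.isTorsionFree
    exact FaithfulSMul.algebraMap_injective R _
  have hint : (algebraMap R (Localization.Away e)).IsIntegral := algebraMap_isIntegral_iff.mpr inferInstance
  have hff : Module.FaithfullyFlat R (Localization.Away e) := by
    apply Module.FaithfullyFlat.of_comap_surjective
    exact hint.comap_surjective hinj
  exact ⟨Localization.Away e, inferInstance, inferInstance, inferInstance, inferInstance, hdom, hfin', het', hff⟩

end cover

end Groth.Agent.Sga3A.MTNormal737
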