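import Groth.Agent.Sga3A.LiftMain
import Groth.Agent.Sga3A.NilDescent
import Mathlib.LinearAlgebra.DFinsupp

/-!
# Lifting along nil ideals: idempotents, faithful flatness (team sga3-a)
-/

set_option autoImplicit false
universe u v

open TensorProduct

namespace Groth.Agent.Sga3A.LiftNil

open NilDescent LiftIdem

lemma flat_pi {R : Type*} [CommRing R] {ι : Type*} [Finite ι] (M : ι → Type*) [∀ i, AddCommGroup (M i)]
    [∀ i, Module R (M i)] [∀ i, Module.Flat R (M i)] : Module.Flat R (∀ i, M i) := by
  classical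
  have := Fintype.ofFinite ι
  exact Module.Flat.of_linearEquiv (DFinsupp.linearEquivFunOnFintype (R := R) (M := M)).symm

/-- idempotents lift uniquely along surjections with nil kernel -/
lemma idemLift_of_nil {R R₀ : Type u} [CommRing R] [CommRing R₀] [Algebra R R₀]
    (hn : ∀ x : R, algebraMap R R₀ x = 0 → IsNilpotent x) (hs : Function.Surjective (algebraMap R R₀))
    (T : Type u) [CommRing T] [Algebra R T] : IdemLift R R₀ T := by
  have hk : ∀ x ∈ RingHom.ker (Algebra.TensorProduct.includeRight : T →ₐ[R] R₀ ⊗[R] T).toRingHom, IsNilpotent x :=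
    fun x hx => isNilpotent_of_one_tmul hn hs x hx
  have hsurj : Function.Surjective (Algebra.TensorProduct.includeRight : T →ₐ[R] R₀ ⊗[R] T) := by
    intro x
    induction x using TensorProduct.induction_on with
    | zero => exact ⟨0, map_zero _⟩
    | tmul r t =>
      obtain ⟨r, rfl⟩ := hs r
      exact ⟨r • t, by simp [Algebra.algebraMap_eq_smul_one, TensorProduct.smul_tmul]⟩
    | add x y hx hy =>
      obtain ⟨a, rfl⟩ := hx
      obtain ⟨b, rfl⟩ := hy
      exact ⟨a + b, map_add _ _ _⟩
  constructor
  · intro e he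
    obtain ⟨x, hx, hx'⟩ := exists_isIdempotentElem_eq_of_ker_isNilpotent _ hk e (hsurj e) he
    exact ⟨x, hx, hx'⟩
  · intro x y hx hy hxy
    apply eq_of_isNilpotent_sub_of_isIdempotentElem hx hy
    apply isNilpotent_of_one_tmul hn hs
    rw [TensorProduct.tmul_sub, hxy, sub_self]

/-- Faithful flatness from a commutative square whose left edge is surjective with nil kernel. -/
lemma faithfullyFlat_of_square {P Q B R' : Type*} [CommRing P] [CommRing Q] [CommRing B] [CommRing R']
    [Algebra P Q] [Algebra P B] [Algebra Q R'] (hn : ∀ x : P, algebraMap P Q x = 0 → IsNilpotent x)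
    (hs : Function.Surjective (algebraMap P Q)) [Module.Flat P B] [Module.FaithfullyFlat Q R']
    (ψ : B →+* R') (hψ : ∀ p, ψ (algebraMap P B p) = algebraMap Q R' (algebraMap P Q p)) :
    Module.FaithfullyFlat P B := by
  rw [Module.FaithfullyFlat.iff_flat_and_ideal_smul_eq_top]
  refine ⟨inferInstance, fun I hI => ?_⟩
  have h2 := ((Module.FaithfullyFlat.iff_flat_and_ideal_smul_eq_top Q R').mp inferInstance).2
    (I.map (algebraMap P Q))
  have hI' : I.map (algebraMap P B) = ⊤ := by
    rw [Ideal.smul_top_eq_map] at hI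
    exact (Submodule.restrictScalars_eq_top_iff P B _).mp hI
  have h3 : (I.map (algebraMap P Q)).map (algebraMap Q R') = ⊤ := by
    rw [Ideal.map_map]
    have : (algebraMap Q R').comp (algebraMap P Q) = ψ.comp (algebraMap P B) := by
      ext p; exact (hψ p).symm
    rw [this, ← Ideal.map_map, hI', Ideal.map_top]
  have h4 : I.map (algebraMap P Q) = ⊤ := by
    apply h2
    rw [Ideal.smul_top_eq_map, h3]
    rfl
  -- lift
  have h1 : (1 : Q) ∈ I.map (algebraMap P Q) := by rw [h4]; trivial
  rw [Ideal.mem_map_iff_of_surjective _ hs] at h1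
  obtain ⟨x, hx, hx1⟩ := h1
  have h5 : IsNilpotent (1 - x) := hn _ (by rw [map_sub, hx1, map_one, sub_self])
  have h6 : IsUnit x := by simpa using h5.isUnit_one_sub
  exact Ideal.eq_top_of_isUnit_mem I hx h6


section away

variable {R R₀ : Type u} [CommRing R] [CommRing R₀] [Algebra R R₀]

lemma awayMap_surjective (hs : Function.Surjective (algebraMap R R₀)) (r : R) :
    Function.Surjective (Localization.awayMap (algebraMap R R₀) r) := by
  rw [Localization.awayMap_surjective_iff]
  intro a
  obtain ⟨b, rfl⟩ := hs a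
  exact ⟨b, 0, by simp⟩

lemma awayMap_algebraMap (r x : R) : Localization.awayMap (algebraMap R R₀) r (algebraMap R _ x) =
    algebraMap R₀ _ (algebraMap R R₀ x) := by
  simp [Localization.awayMap, IsLocalization.Away.map]

lemma awayMap_nil (hn : ∀ x : R, algebraMap R R₀ x = 0 → IsNilpotent x) (r : R) (x : Localization.Away r)
    (hx : Localization.awayMap (algebraMap R R₀) r x = 0) : IsNilpotent x := by
  obtain ⟨n, a, hna⟩ := IsLocalization.Away.surj r x
  have h1 : algebraMap R₀ (Localization.Away (algebraMap R R₀ r)) (algebraMap R R₀ a) = 0 := by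
    rw [← awayMap_algebraMap, ← hna, map_mul, hx, zero_mul]
  rw [IsLocalization.map_eq_zero_iff (Submonoid.powers (algebraMap R R₀ r))] at h1
  obtain ⟨⟨_, m, rfl⟩, hm⟩ := h1
  have h2 : IsNilpotent (r ^ m * a) := hn _ (by rw [map_mul, map_pow]; exact hm)
  have h3 := h2.map (algebraMap R (Localization.Away r))
  rw [map_mul, ← hna, map_pow] at h3
  have hu : IsUnit (algebraMap R (Localization.Away r) r) := IsLocalization.Away.algebraMap_isUnit r
  have h4 : algebraMap R (Localization.Away r) r ^ m * (x * algebraMap R (Localization.Away r) r ^ n) =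
      (algebraMap R (Localization.Away r) r ^ (m + n)) * x := by ring
  rw [h4] at h3
  obtain ⟨v, hv⟩ := (hu.pow (m + n)).exists_left_inv
  have h5 : x = v * (algebraMap R (Localization.Away r) r ^ (m + n) * x) := by rw [← mul_assoc, hv, one_mul]
  rw [h5]
  exact (Commute.all _ _).isNilpotent_mul_left h3

/-- Local data at a member of the covering. -/
lemma exists_local_data (hn : ∀ x : R, algebraMap R R₀ x = 0 → IsNilpotent x)
    (hs : Function.Surjective (algebraMap R R₀)) {A₀ : Type u} [CommRing A₀] [HopfAlgebra R₀ A₀] (f : R₀)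
    (h : SGA3b.IsQuasiIsotrivialConst (Localization.Away f) (Localization.Away f ⊗[R₀] A₀)) :
    ∃ (r : R) (_ : algebraMap R R₀ r = f) (B : Type u) (_ : CommRing B) (_ : Algebra R B) (M : Type u)
      (_ : CommGroup M), Algebra.Etale R B ∧ Nonempty (MTBasis.GBasis (R₀ ⊗[R] B) ((R₀ ⊗[R] B) ⊗[R₀] A₀) M) ∧
      Module.FaithfullyFlat (Localization.Away r) (Localization.Away r ⊗[R] B) := by
  obtain ⟨r, rfl⟩ := hs f
  obtain ⟨R', iR', iA', hE, hF, M, iM, ⟨e⟩⟩ := h
  let : Algebra R₀ R' := ((algebraMap (Localization.Away (algebraMap R R₀ r)) R').comp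
    (algebraMap R₀ (Localization.Away (algebraMap R R₀ r)))).toAlgebra
  have : IsScalarTower R₀ (Localization.Away (algebraMap R R₀ r)) R' := IsScalarTower.of_algebraMap_eq fun _ => rfl
  let : Algebra R R' := ((algebraMap R₀ R').comp (algebraMap R R₀)).toAlgebra
  have : IsScalarTower R R₀ R' := IsScalarTower.of_algebraMap_eq fun _ => rfl
  have hE0 : Algebra.Etale R₀ (Localization.Away (algebraMap R R₀ r)) :=
    Algebra.Etale.of_isLocalizationAway (algebraMap R R₀ r)
  have hE' : Algebra.Etale R₀ R' := Algebra.Etale.comp R₀ (Localization.Away (algebraMap R R₀ r)) R'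
  obtain ⟨B, iB, iAB, hB, ⟨b⟩⟩ := Groth.Agent.Proet.EtaleLiftLoc.exists_etale_lift R R₀ R'
    (fun s => ⟨1, isUnit_one, fun x _ => by rw [one_mul]; exact hs x⟩)
  refine ⟨r, rfl, B, iB, iAB, M, iM, hB, ?_, ?_⟩
  · have g1 : MTBasis.GBasis R' (R' ⊗[R₀] A₀) M :=
      (MTBasis.GBasis.ofBialgEquiv e).map (MTBasis.cancelBC R₀ (Localization.Away (algebraMap R R₀ r)) R' A₀)
    exact ⟨g1.bc (b.symm : R' →ₐ[R₀] R₀ ⊗[R] B)⟩
  · let : Algebra (Localization.Away r) (Localization.Away (algebraMap R R₀ r)) :=
      (Localization.awayMap (algebraMap R R₀) r).toAlgebra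
    have hflat : Module.Flat R B := inferInstance
    let α : Localization.Away r →ₐ[R] R' :=
      { (algebraMap (Localization.Away (algebraMap R R₀ r)) R').comp (Localization.awayMap (algebraMap R R₀) r) with
        commutes' := fun x => by
          change (algebraMap (Localization.Away (algebraMap R R₀ r)) R')
            (Localization.awayMap (algebraMap R R₀) r (algebraMap R _ x)) = _
          rw [awayMap_algebraMap]; rfl }
    let β : B →ₐ[R] R' := ((b : R₀ ⊗[R] B →ₐ[R₀] R').restrictScalars R).comp Algebra.TensorProduct.includeRight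
    refine faithfullyFlat_of_square (Q := Localization.Away (algebraMap R R₀ r)) (R' := R')
      (awayMap_nil hn r) (awayMap_surjective hs r)
      (Algebra.TensorProduct.lift α β (fun _ _ => .all _ _)).toRingHom (fun p => ?_)
    change Algebra.TensorProduct.lift α β (fun _ _ => .all _ _) (p ⊗ₜ 1) = _
    rw [Algebra.TensorProduct.lift_tmul, map_one, mul_one]
    rfl

/-- global faithful flatness from a covering -/
lemma faithfullyFlat_pi_of_away {ι : Type v} [Finite ι] (r : ι → R) (hr : Ideal.span (Set.range r) = ⊤)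
    (B : ι → Type u) [∀ i, CommRing (B i)] [∀ i, Algebra R (B i)] [∀ i, Module.Flat R (B i)]
    [∀ i, Module.FaithfullyFlat (Localization.Away (r i)) (Localization.Away (r i) ⊗[R] B i)] :
    Module.FaithfullyFlat R (∀ i, B i) := by
  rw [Module.FaithfullyFlat.iff_flat_and_ideal_smul_eq_top]
  refine ⟨flat_pi B, fun J hJ => ?_⟩
  by_contra hne
  obtain ⟨m, hm, hJm⟩ := Ideal.exists_le_maximal J hne
  obtain ⟨i, hi⟩ : ∃ i, r i ∉ m := by
    by_contra hcon
    push Not at hcon
    apply hm.ne_top
    rw [eq_top_iff, ← hr, Ideal.span_le]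
    rintro _ ⟨i, rfl⟩
    exact hcon i
  have h1 : J.map (algebraMap R (B i)) = ⊤ := by
    have h2 : J.map (algebraMap R (∀ i, B i)) = ⊤ := by
      rw [Ideal.smul_top_eq_map] at hJ
      exact (Submodule.restrictScalars_eq_top_iff R (∀ i, B i) _).mp hJ
    have h3 := congrArg (Ideal.map (Pi.evalRingHom B i)) h2
    rw [Ideal.map_map, Ideal.map_top] at h3
    exact h3
  have h4 : (J.map (algebraMap R (Localization.Away (r i)))).map
      (algebraMap (Localization.Away (r i)) (Localization.Away (r i) ⊗[R] B i)) = ⊤ := by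
    rw [Ideal.map_map, ← IsScalarTower.algebraMap_eq]
    have : algebraMap R (Localization.Away (r i) ⊗[R] B i) =
        (Algebra.TensorProduct.includeRight : B i →ₐ[R] Localization.Away (r i) ⊗[R] B i).toRingHom.comp
          (algebraMap R (B i)) := by
      ext x
      exact (AlgHom.commutes (Algebra.TensorProduct.includeRight : B i →ₐ[R] Localization.Away (r i) ⊗[R] B i) x).symm
    rw [this, ← Ideal.map_map, h1, Ideal.map_top]
  have h5 : J.map (algebraMap R (Localization.Away (r i))) = ⊤ := by
    apply ((Module.FaithfullyFlat.iff_flat_and_ideal_smul_eq_top (Localization.Away (r i))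
      (Localization.Away (r i) ⊗[R] B i)).mp inferInstance).2
    rw [Ideal.smul_top_eq_map, h4]
    rfl
  have h6 := (IsLocalization.map_algebraMap_ne_top_iff_disjoint (Submonoid.powers (r i))
    (Localization.Away (r i)) J).not.mp (by simpa using h5)
  apply h6
  rw [Set.disjoint_left]
  rintro _ ⟨n, rfl⟩ hn
  exact hi (hm.isPrime.mem_of_pow_mem n (hJm hn))

end away

end Groth.Agent.Sga3A.LiftNil
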