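import Groth.Agent.Sga3A.LiftNil
import Groth.Agent.S0532
import Groth.Agent.S0521

/-!
# Lifting along henselian pairs (team sga3-a)
-/

set_option autoImplicit false
universe u v

open TensorProduct

namespace Groth.Agent.Sga3A.LiftHens

open LiftIdem

lemma idemLift_of_henselian (R : Type u) [CommRing R] (I : Ideal R) [HenselianRing R I]
    (T : Type u) [CommRing T] [Algebra R T] [Module.Finite R T] : IdemLift R (R ⧸ I) T := by
  have hb := (Groth.Agent.S0521.result R I).mp inferInstance T inferInstance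
  let e := Algebra.TensorProduct.quotIdealMapEquivQuotTensor T I
  have he : ∀ x : T, e (Ideal.Quotient.mk _ x) = (1 : R ⧸ I) ⊗ₜ[R] x := fun x => rfl
  constructor
  · intro y hy
    obtain ⟨x, hx, hxy⟩ := hb.surjOn (show e.symm y ∈ {e | IsIdempotentElem e} from hy.map e.symm)
    refine ⟨x, hx, ?_⟩
    rw [← he, hxy, AlgEquiv.apply_symm_apply]
  · intro x y hx hy hxy
    apply hb.injOn hx hy
    apply e.injective
    rw [he, he, hxy]

/-- Faithful flatness from the reduction modulo an ideal contained in the Jacobson radical. -/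
lemma faithfullyFlat_of_le_jacobson {P : Type*} [CommRing P] (I : Ideal P) (hI : I ≤ Ideal.jacobson ⊥)
    (B : Type*) [CommRing B] [Algebra P B] [Module.Flat P B]
    {R' : Type*} [CommRing R'] [Algebra (P ⧸ I) R'] [Module.FaithfullyFlat (P ⧸ I) R']
    (ψ : B →+* R') (hψ : ∀ p, ψ (algebraMap P B p) = algebraMap (P ⧸ I) R' (Ideal.Quotient.mk I p)) :
    Module.FaithfullyFlat P B := by
  rw [Module.FaithfullyFlat.iff_flat_and_ideal_smul_eq_top]
  refine ⟨inferInstance, fun J hJ => ?_⟩
  have h2 := ((Module.FaithfullyFlat.iff_flat_and_ideal_smul_eq_top (P ⧸ I) R').mp inferInstance).2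
    (J.map (Ideal.Quotient.mk I))
  have hJ' : J.map (algebraMap P B) = ⊤ := by
    rw [Ideal.smul_top_eq_map] at hJ
    exact (Submodule.restrictScalars_eq_top_iff P B _).mp hJ
  have h3 : (J.map (Ideal.Quotient.mk I)).map (algebraMap (P ⧸ I) R') = ⊤ := by
    rw [Ideal.map_map]
    have : (algebraMap (P ⧸ I) R').comp (Ideal.Quotient.mk I) = ψ.comp (algebraMap P B) := by
      ext p; exact (hψ p).symm
    rw [this, ← Ideal.map_map, hJ', Ideal.map_top]
  have h4 : J.map (Ideal.Quotient.mk I) = ⊤ := by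
    apply h2
    rw [Ideal.smul_top_eq_map, h3]
    rfl
  have h1 : (1 : P ⧸ I) ∈ J.map (Ideal.Quotient.mk I) := by rw [h4]; trivial
  rw [Ideal.mem_map_iff_of_surjective _ Ideal.Quotient.mk_surjective] at h1
  obtain ⟨x, hx, hx1⟩ := h1
  have h5 : 1 - x ∈ Ideal.jacobson (⊥ : Ideal P) := by
    apply hI
    rw [← Ideal.Quotient.eq_zero_iff_mem, map_sub, hx1, map_one, sub_self]
  have h6 : IsUnit x := by
    have := Ideal.mem_jacobson_bot.mp h5 (-1)
    simpa using this
  exact Ideal.eq_top_of_isUnit_mem J hx h6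

end Groth.Agent.Sga3A.LiftHens
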