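import Groth.Agent.Sga3A.PowConv
import Mathlib.RingTheory.Jacobson.Ring
import Mathlib.RingTheory.Ideal.Quotient.Index
import Mathlib.RingTheory.Filtration
import Mathlib.RingTheory.TensorProduct.MonoidAlgebra
import Mathlib.RingTheory.FiniteType
import Mathlib.RingTheory.Flat.FaithfullyFlat.Algebra
import Mathlib.GroupTheory.FiniteAbelian.Basic

/-!
# Schematic density of the torsion subgroups of a diagonalisable group (SGA 3 IX 4.7)

The key point: for a finitely generated `ℤ`-algebra `B` and a maximal ideal `𝔫`, all rings `B ⧸ 𝔫 ^ k`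
are finite.
-/

set_option autoImplicit false
universe u v w

open TensorProduct SGA3b Coalgebra Bialgebra

namespace Groth.Agent.Sga3A.TorsionDense

lemma isJacobsonRing_int : IsJacobsonRing ℤ := by
  rw [isJacobsonRing_iff_prime_eq]
  intro P hP
  by_cases h : P = ⊥
  · subst h
    rw [eq_bot_iff]
    intro x hx
    have h1 := (Ideal.mem_jacobson_bot.mp hx) x
    rw [Int.isUnit_iff] at h1
    rcases h1 with h1 | h1
    · have : x * x = 0 := by linarith
      simpa using this
    · nlinarith [mul_self_nonneg x]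
  · have := IsPrime.to_maximal_ideal h
    exact Ideal.jacobson_eq_self_of_isMaximal

/-- A field which is a finitely generated ring is finite. -/
lemma finite_of_finiteType_int (K : Type u) [CommRing K] (hK : IsField K) [inst : Algebra ℤ K]
    [h : Algebra.FiniteType ℤ K] : Finite K := by
  have := isJacobsonRing_int
  let F : Field K := hK.toField
  obtain rfl : inst = Ring.toIntAlgebra K := Subsingleton.elim _ _
  have hfin : Module.Finite ℤ K := finite_of_finite_type_of_isJacobsonRing ℤ K
  by_cases hinj : Function.Injective (algebraMap ℤ K)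
  · exfalso
    have : Algebra.IsIntegral ℤ K := inferInstance
    have h1 : IsField ℤ := isField_of_isIntegral_of_isField hinj hK
    exact Int.not_isField h1
  · obtain ⟨n, hn, hn0⟩ : ∃ n : ℤ, algebraMap ℤ K n = 0 ∧ n ≠ 0 := by
      rw [injective_iff_map_eq_zero] at hinj
      push Not at hinj
      exact hinj
    apply Module.finite_of_fg_torsion K
    intro x
    refine ⟨⟨n, mem_nonZeroDivisors_of_ne_zero hn0⟩, ?_⟩
    change n • x = 0
    rw [Algebra.smul_def, hn, zero_mul]

lemma finite_quotient_pow_int (B : Type u) [CommRing B] [Algebra ℤ B] [Algebra.FiniteType ℤ B]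
    (𝔫 : Ideal B) [h𝔫 : 𝔫.IsMaximal] (k : ℕ) : Finite (B ⧸ 𝔫 ^ k) := by
  have : IsNoetherianRing B := Algebra.FiniteType.isNoetherianRing ℤ B
  have h1 : Algebra.FiniteType ℤ (B ⧸ 𝔫) :=
    Algebra.FiniteType.of_surjective (Ideal.Quotient.mkₐ ℤ 𝔫) Ideal.Quotient.mk_surjective
  have : Finite (B ⧸ 𝔫) := @finite_of_finiteType_int _ _
    ((Ideal.Quotient.maximal_ideal_iff_isField_quotient 𝔫).mp h𝔫) _ h1
  exact Ideal.finite_quotient_pow (IsNoetherian.noetherian 𝔫) k

/-- The projection `R[M] → R[M/M^n]`. -/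
noncomputable def modPow (R : Type u) [CommRing R] (M : Type v) [CommGroup M] (n : ℕ) :
    MonoidAlgebra R M →ₐ[R] MonoidAlgebra R (M ⧸ (powMonoidHom n : M →* M).range) :=
  MonoidAlgebra.mapDomainAlgHom R R (QuotientGroup.mk' (powMonoidHom n : M →* M).range)

lemma modPow_single (R : Type u) [CommRing R] (M : Type v) [CommGroup M] (n : ℕ) (m : M) (r : R) :
    modPow R M n (MonoidAlgebra.single m r) =
      MonoidAlgebra.single (QuotientGroup.mk' (powMonoidHom n : M →* M).range m) r := by
  simp [modPow]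

/-- A ring homomorphism from a group algebra to a finite ring factors through `R[M/M^n]`
for `n` large enough. -/
lemma ker_modPow_le_of_finite {R : Type u} [CommRing R] {M : Type v} [CommGroup M]
    {Q : Type w} [CommRing Q] [Finite Q] (g : MonoidAlgebra R M →+* Q) :
    ∃ n : ℕ, 0 < n ∧ ∀ x, modPow R M n x = 0 → g x = 0 := by
  let _ : Algebra R Q := (g.comp (algebraMap R (MonoidAlgebra R M))).toAlgebra
  let g' : MonoidAlgebra R M →ₐ[R] Q := { g with commutes' := fun r => rfl }
  let u : M →* Qˣ := ((g' : MonoidAlgebra R M →* Q).comp (MonoidAlgebra.of R M)).toHomUnits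
  let n := Nat.card Qˣ
  have hn : 0 < n := Nat.card_pos
  have hker : (powMonoidHom n : M →* M).range ≤ u.ker := by
    rintro _ ⟨m, rfl⟩
    rw [MonoidHom.mem_ker, powMonoidHom_apply, map_pow]
    exact pow_card_eq_one'
  let v : M ⧸ (powMonoidHom n : M →* M).range →* Qˣ := QuotientGroup.lift _ u hker
  let g'' : MonoidAlgebra R (M ⧸ (powMonoidHom n : M →* M).range) →ₐ[R] Q :=
    MonoidAlgebra.lift R Q _ ((Units.coeHom Q).comp v)
  have hcomp : g' = g''.comp (modPow R M n) := by
    ext m
    simp only [AlgHom.coe_comp, Function.comp_apply, modPow_single, g'', MonoidAlgebra.lift_single]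
    simp [v, u]
  refine ⟨n, hn, fun x hx => ?_⟩
  change g' x = 0
  rw [hcomp, AlgHom.comp_apply, hx, map_zero]

/-- Density over a finitely generated ring. -/
lemma density_fg {R : Type u} [CommRing R] [inst : Algebra ℤ R] [hR : Algebra.FiniteType ℤ R]
    {M : Type v} [CommGroup M]
    [Group.FG M] (a y : MonoidAlgebra R M)
    (h : ∀ n : ℕ, 0 < n → ∃ N : ℕ, modPow R M n (a ^ N * y) = 0) : ∃ N : ℕ, a ^ N * y = 0 := by
  classical
  obtain rfl : inst = Ring.toIntAlgebra R := Subsingleton.elim _ _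
  let B := Localization.Away a
  have hft0 : Algebra.FiniteType R (MonoidAlgebra R M) := by
    rcases subsingleton_or_nontrivial R with hs | hn
    · have : Subsingleton (MonoidAlgebra R M) := RingHom.codomain_trivial (algebraMap R _)
      infer_instance
    · exact MonoidAlgebra.finiteType_iff_group_fg.mpr inferInstance
  have hft1 : Algebra.FiniteType ℤ (MonoidAlgebra R M) := Algebra.FiniteType.trans ‹_› hft0
  have hft2 : Algebra.FiniteType (MonoidAlgebra R M) B := IsLocalization.finiteType_of_monoid_fg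
    (Submonoid.powers a) _
  have hft : Algebra.FiniteType ℤ B := Algebra.FiniteType.trans hft1 hft2
  have hnoeth : IsNoetherianRing B := Algebra.FiniteType.isNoetherianRing ℤ B
  by_contra hcon
  push Not at hcon
  set y' : B := algebraMap (MonoidAlgebra R M) B y with hy'
  have hy0 : y' ≠ 0 := by
    intro h0
    rw [hy', IsLocalization.map_eq_zero_iff (Submonoid.powers a)] at h0
    obtain ⟨⟨_, N, rfl⟩, hN⟩ := h0
    exact hcon N hN
  -- the annihilator of `y'` is a proper ideal
  let I : Ideal B := Ideal.span {y'}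
  let An : Ideal B := Submodule.annihilator I
  have hmem : ∀ b : B, b ∈ An ↔ b * y' = 0 := by
    intro b
    simp only [An, I, Ideal.span]
    rw [Submodule.mem_annihilator_span_singleton, smul_eq_mul]
  have hann : An ≠ ⊤ := by
    intro h1
    have : (1 : B) ∈ An := h1 ▸ Submodule.mem_top
    rw [hmem, one_mul] at this
    exact hy0 this
  obtain ⟨𝔫, h𝔫, hle⟩ := Ideal.exists_le_maximal An hann
  have hall : y' ∈ (⨅ k : ℕ, 𝔫 ^ k • ⊤ : Submodule B B) := by
    rw [Submodule.mem_iInf]
    intro k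
    have hfinQ : Finite (B ⧸ 𝔫 ^ k) := @finite_quotient_pow_int B _ _ hft 𝔫 h𝔫 k
    let g : MonoidAlgebra R M →+* B ⧸ 𝔫 ^ k :=
      (Ideal.Quotient.mk (𝔫 ^ k)).comp (algebraMap (MonoidAlgebra R M) B)
    obtain ⟨n, hn, hg⟩ := ker_modPow_le_of_finite g
    obtain ⟨N, hN⟩ := h n hn
    have h2 := hg _ hN
    have h3 : (algebraMap (MonoidAlgebra R M) B a) ^ N * y' ∈ 𝔫 ^ k := by
      rw [← Ideal.Quotient.eq_zero_iff_mem]
      simpa [g, hy'] using h2
    have hu : IsUnit ((algebraMap (MonoidAlgebra R M) B a) ^ N) :=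
      (IsLocalization.Away.algebraMap_isUnit a).pow N
    have h4 : y' ∈ 𝔫 ^ k := (Ideal.unit_mul_mem_iff_mem _ hu).mp h3
    simpa using h4
  rw [Ideal.mem_iInf_smul_pow_eq_bot_iff] at hall
  obtain ⟨r, hr⟩ := hall
  have h5 : (1 - (r : B)) * y' = 0 := by
    have : (r : B) * y' = y' := hr
    rw [sub_mul, one_mul, this, sub_self]
  have h6 : 1 - (r : B) ∈ 𝔫 := hle ((hmem _).mpr h5)
  have h7 : (1 : B) ∈ 𝔫 := by
    have := 𝔫.add_mem h6 r.2
    simpa using this
  exact h𝔫.ne_top ((Ideal.eq_top_iff_one _).mpr h7)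

/-- Lifting elements of a group algebra to a subring containing their coefficients. -/
lemma exists_lift {R : Type u} [CommRing R] {M : Type v} (S : Subalgebra ℤ R)
    (x : MonoidAlgebra R M) (hx : ∀ m, x.coeff m ∈ S) :
    ∃ x0 : MonoidAlgebra S M, MonoidAlgebra.map (S.val : S →+* R) x0 = x := by
  classical
  refine ⟨MonoidAlgebra.ofCoeff
    (Finsupp.onFinset x.coeff.support (fun m => ⟨x.coeff m, hx m⟩) (by
      intro m hm
      rw [Finsupp.mem_support_iff]
      intro h0
      apply hm
      ext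
      exact h0)), ?_⟩
  ext m
  simp

/-- Density over an arbitrary ring. -/
lemma density {R : Type u} [CommRing R] {M : Type v} [CommGroup M]
    [Group.FG M] (a y : MonoidAlgebra R M)
    (h : ∀ n : ℕ, 0 < n → ∃ N : ℕ, modPow R M n (a ^ N * y) = 0) : ∃ N : ℕ, a ^ N * y = 0 := by
  classical
  let T : Set R := (Set.range fun m => a.coeff m) ∪ (Set.range fun m => y.coeff m)
  have hT : T.Finite := (Finsupp.finite_range _).union (Finsupp.finite_range _)
  let S : Subalgebra ℤ R := Algebra.adjoin ℤ T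
  have hS : Algebra.FiniteType ℤ S :=
    (Subalgebra.fg_iff_finiteType S).mp ((Subalgebra.fg_def).mpr ⟨T, hT, rfl⟩)
  obtain ⟨a0, ha0⟩ := exists_lift S a (fun m => Algebra.subset_adjoin (Or.inl ⟨m, rfl⟩))
  obtain ⟨y0, hy0⟩ := exists_lift S y (fun m => Algebra.subset_adjoin (Or.inr ⟨m, rfl⟩))
  have hinj : ∀ (M' : Type v), Function.Injective
      (MonoidAlgebra.map (S.val : S →+* R) : MonoidAlgebra S M' → MonoidAlgebra R M') := by
    intro M' x x' hxx
    ext m
    have := congr(($hxx).coeff m)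
    simpa using this
  let φ : MonoidAlgebra S M →+* MonoidAlgebra R M := MonoidAlgebra.mapRingHom M (S.val : S →+* R)
  have hφa : φ a0 = a := ha0
  have hφy : φ y0 = y := hy0
  let φn (n : ℕ) := MonoidAlgebra.mapRingHom (M ⧸ (powMonoidHom n : M →* M).range)
    (S.val : S →+* R)
  have hφn : ∀ n x, φn n (modPow S M n x) = modPow R M n (φ x) := by
    intro n x
    have : (φn n).comp (modPow S M n : MonoidAlgebra S M →+* _) =
        (modPow R M n : MonoidAlgebra R M →+* _).comp φ := by
      apply MonoidAlgebra.ringHom_ext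
      · intro r
        simp [φn, φ, modPow_single]
      · intro m
        simp [φn, φ, modPow_single]
    exact congr($this x)
  have h0 : ∀ n : ℕ, 0 < n → ∃ N : ℕ, modPow S M n (a0 ^ N * y0) = 0 := by
    intro n hn
    obtain ⟨N, hN⟩ := h n hn
    refine ⟨N, ?_⟩
    apply hinj
    have h1 := hφn n (a0 ^ N * y0)
    have h2 : φ (a0 ^ N * y0) = a ^ N * y := by rw [map_mul, map_pow, hφa, hφy]
    rw [h2, hN] at h1
    change φn n _ = φn n 0
    rw [h1, map_zero]
  obtain ⟨N, hN⟩ := density_fg a0 y0 h0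
  refine ⟨N, ?_⟩
  have := congrArg φ hN
  rwa [map_mul, map_pow, hφa, hφy, map_zero] at this

/-- Elementwise form of the density of the torsion subgroups. -/
def Dense (R : Type u) [CommRing R] (A : Type u) [CommRing A] [HopfAlgebra R A] : Prop :=
  ∀ a y : A, (∀ n : ℕ, 0 < n → ∃ N : ℕ, a ^ N * y ∈ torsionIdeal R A n) → ∃ N : ℕ, a ^ N * y = 0

section

variable (R : Type u) [CommRing R] (A : Type u) [CommRing A] [HopfAlgebra R A]

open Groth.Agent.Sga3A.PowConv

lemma torsionIdeal_le_ker_modPow (M : Type u) [CommGroup M] (n : ℕ) :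
    torsionIdeal R (MonoidAlgebra R M) n ≤ RingHom.ker (modPow R M n) := by
  rw [torsionIdeal, Ideal.map_le_iff_le_comap]
  intro x hx
  have h1 : (modPow R M n).comp (powConv R (MonoidAlgebra R M) n) =
      (Algebra.ofId R _).comp (counitAlgHom R (MonoidAlgebra R M)) := by
    ext m
    simp only [AlgHom.coe_comp, Function.comp_apply, powConv_single, modPow_single]
    have : (QuotientGroup.mk' (powMonoidHom n : M →* M).range) (m ^ n) = 1 :=
      (QuotientGroup.eq_one_iff _).mpr ⟨m, rfl⟩
    rw [this]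
    simp
  have h2 := congr($h1 x)
  rw [Ideal.mem_comap, RingHom.mem_ker]
  simp only [AlgHom.coe_comp, Function.comp_apply] at h2
  rw [h2]
  have h3 : counitAlgHom R (MonoidAlgebra R M) x = 0 := hx
  rw [h3, map_zero]

lemma torsionIdeal_le_comap {B : Type u} [CommRing B] [HopfAlgebra R B] (e : A →ₐc[R] B) (n : ℕ) :
    torsionIdeal R A n ≤ (torsionIdeal R B n).comap e := by
  rw [torsionIdeal, Ideal.map_le_iff_le_comap]
  intro x hx
  rw [Ideal.mem_comap, Ideal.mem_comap, ← powConv_map]
  apply Ideal.mem_map_of_mem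
  rw [RingHom.mem_ker]
  change counit (e x) = 0
  rw [CoalgHomClass.counit_comp_apply]
  exact hx

lemma torsionIdeal_le_comap_includeRight (R' : Type u) [CommRing R'] [Algebra R R'] (n : ℕ) :
    torsionIdeal R A n ≤ (torsionIdeal R' (R' ⊗[R] A) n).comap
      (Algebra.TensorProduct.includeRight : A →ₐ[R] R' ⊗[R] A) := by
  rw [torsionIdeal, Ideal.map_le_iff_le_comap]
  intro x hx
  rw [Ideal.mem_comap, Ideal.mem_comap]
  change (1 : R') ⊗ₜ[R] (powConv R A n x) ∈ _
  rw [← powConv_tmul]
  apply Ideal.mem_map_of_mem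
  rw [RingHom.mem_ker]
  change counit (R := R') ((1 : R') ⊗ₜ[R] x) = 0
  rw [TensorProduct.counit_tmul]
  have : counit (R := R) x = 0 := hx
  rw [this, zero_smul]

lemma dense_monoidAlgebra (M : Type u) [CommGroup M] [Group.FG M] :
    Dense R (MonoidAlgebra R M) := by
  intro a y h
  refine density a y fun n hn => ?_
  obtain ⟨N, hN⟩ := h n hn
  exact ⟨N, torsionIdeal_le_ker_modPow R M n hN⟩

variable {R A}

lemma Dense.of_equiv {B : Type u} [CommRing B] [HopfAlgebra R B] (e : A ≃ₐc[R] B)
    (h : Dense R B) : Dense R A := by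
  intro a y hay
  obtain ⟨N, hN⟩ := h (e a) (e y) (fun n hn => by
    obtain ⟨N, hN⟩ := hay n hn
    refine ⟨N, ?_⟩
    have := torsionIdeal_le_comap R A (e : A →ₐc[R] B) n hN
    rw [Ideal.mem_comap] at this
    have h2 : (e : A →ₐc[R] B) (a ^ N * y) = e a ^ N * e y := by
      change e (a ^ N * y) = _
      rw [map_mul, map_pow]
    rwa [h2] at this)
  refine ⟨N, ?_⟩
  apply EquivLike.injective e
  rw [map_mul, map_pow, hN, map_zero]

lemma Dense.exists_of_baseChange (R' : Type u) [CommRing R'] [Algebra R R']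
    (h : Dense R' (R' ⊗[R] A)) (a y : A)
    (hay : ∀ n : ℕ, 0 < n → ∃ N : ℕ, a ^ N * y ∈ torsionIdeal R A n) :
    ∃ N : ℕ, (1 : R') ⊗ₜ[R] (a ^ N * y) = 0 := by
  obtain ⟨N, hN⟩ := h (1 ⊗ₜ a) (1 ⊗ₜ y) (fun n hn => by
    obtain ⟨N, hN⟩ := hay n hn
    refine ⟨N, ?_⟩
    have := torsionIdeal_le_comap_includeRight R A R' n hN
    rw [Ideal.mem_comap] at this
    simpa using this)
  refine ⟨N, ?_⟩
  simpa using hN

lemma Dense.of_faithfullyFlat (R' : Type u) [CommRing R'] [Algebra R R']
    [Module.FaithfullyFlat R R'] (h : Dense R' (R' ⊗[R] A)) : Dense R A := by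
  intro a y hay
  obtain ⟨N, hN⟩ := h.exists_of_baseChange R' a y hay
  refine ⟨N, ?_⟩
  apply Module.FaithfullyFlat.tensorProduct_mk_injective (A := R) (B := R') A
  simpa using hN

lemma Dense.of_span {s : Set R} (hs : Ideal.span s = ⊤)
    (h : ∀ f ∈ s, Dense (Localization.Away f) (Localization.Away f ⊗[R] A)) : Dense R A := by
  classical
  intro a y hay
  -- the ideal of all `r` killing some `a ^ N * y`
  let I : Ideal R :=
    { carrier := {r | ∃ N : ℕ, r • (a ^ N * y) = 0}
      zero_mem' := ⟨0, by simp⟩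
      add_mem' := by
        rintro r r' ⟨N, hN⟩ ⟨N', hN'⟩
        refine ⟨N + N', ?_⟩
        have h1 : r • (a ^ (N + N') * y) = a ^ N' * (r • (a ^ N * y)) := by
          rw [mul_smul_comm, pow_add]; congr 1; ring
        have h2 : r' • (a ^ (N + N') * y) = a ^ N * (r' • (a ^ N' * y)) := by
          rw [mul_smul_comm, pow_add]; congr 1; ring
        rw [add_smul, h1, h2, hN, hN']; simp
      smul_mem' := by
        rintro c r ⟨N, hN⟩
        exact ⟨N, by rw [smul_eq_mul, mul_smul, hN, smul_zero]⟩ }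
  have hI : I = ⊤ := by
    rw [← Ideal.radical_eq_top, eq_top_iff, ← hs, Ideal.span_le]
    intro f hf
    obtain ⟨N, hN⟩ := (h f hf).exists_of_baseChange (Localization.Away f) a y hay
    have hloc : IsLocalizedModule (Submonoid.powers f)
        (TensorProduct.mk R (Localization.Away f) A 1) := inferInstance
    have h1 : (TensorProduct.mk R (Localization.Away f) A 1) (a ^ N * y) = 0 := hN
    rw [IsLocalizedModule.eq_zero_iff (Submonoid.powers f)] at h1
    obtain ⟨⟨_, k, rfl⟩, hk⟩ := h1
    exact ⟨k, N, hk⟩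
  have h1 : (1 : R) ∈ I := hI ▸ Submodule.mem_top
  obtain ⟨N, hN⟩ := h1
  exact ⟨N, by simpa using hN⟩

lemma dense_of_isMultType (hft : Algebra.FiniteType R A) (h : IsMultType R A) : Dense R A := by
  obtain ⟨s, hs, H⟩ := h
  refine Dense.of_span hs fun f hf => ?_
  obtain ⟨R', _, _, hff, M, _, ⟨e⟩⟩ := H f hf
  refine Dense.of_faithfullyFlat R' (Dense.of_equiv e ?_)
  rcases subsingleton_or_nontrivial R' with hsub | hnt
  · intro a y _
    have : Subsingleton (MonoidAlgebra R' M) := RingHom.codomain_trivial (algebraMap R' _)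
    exact ⟨0, Subsingleton.elim _ _⟩
  · have hft1 : Algebra.FiniteType R'
        (R' ⊗[Localization.Away f] (Localization.Away f ⊗[R] A)) := inferInstance
    have hft2 : Algebra.FiniteType R' (MonoidAlgebra R' M) :=
      Algebra.FiniteType.equiv hft1 (e : _ ≃ₐ[R'] _)
    have hfg : Group.FG M := MonoidAlgebra.finiteType_iff_group_fg.mp hft2
    exact dense_monoidAlgebra R' M

end

end Groth.Agent.Sga3A.TorsionDense
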