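import Groth.Agent.Sga3A.KernelLocal
import Groth.Agent.Sga3A.TypeLemma
import Mathlib.LinearAlgebra.TensorProduct.RightExactness
import Mathlib.RingTheory.HopfAlgebra.Quotient

/-!
# Kernels of homomorphisms from groups of multiplicative type
-/

set_option autoImplicit false
universe u
open TensorProduct SGA3b Coalgebra Bialgebra

namespace Groth.Agent.Sga3A.KernelGlobal

open Groth.Agent.Sga3A.MultBC Groth.Agent.Sga3A.TypeLemma Groth.Agent.Sga3A.KernelLocal

section

variable {R S A B C M : Type*} [CommRing R] [CommRing S] [Algebra R S] [CommRing A] [CommRing B]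
  [CommRing C] [Bialgebra R A] [Bialgebra R B] [Bialgebra R C] [CommGroup M]

lemma ker_counit_baseChange :
    RingHom.ker (counitAlgHom S (S ⊗[R] C)) =
      (RingHom.ker (counitAlgHom R C)).map
        (Algebra.TensorProduct.includeRight : C →ₐ[R] S ⊗[R] C) := by
  have hsurj : Function.Surjective (counitAlgHom R C) := fun r => ⟨algebraMap R C r, by simp⟩
  rw [← Algebra.TensorProduct.lTensor_ker (A := S) (counitAlgHom R C) hsurj]
  ext x
  rw [RingHom.mem_ker, RingHom.mem_ker]
  have h1 : counitAlgHom S (S ⊗[R] C) x = Algebra.TensorProduct.rid R S S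
      (Algebra.TensorProduct.map (AlgHom.id R S) (counitAlgHom R C) x) := by
    induction x with
    | zero => simp
    | add x y hx hy => rw [map_add, map_add, map_add, hx, hy]
    | tmul s c => simp
  rw [h1]
  constructor
  · intro h
    exact (Algebra.TensorProduct.rid R S S).injective (by rw [h, map_zero])
  · intro h
    rw [h, map_zero]

/-- The hypotheses of `KernelLocal.exists_local` after a base change. -/
lemma ker_baseChange (φ : C →ₐc[R] A) (π : A →ₐc[R] B) (hπ : Function.Surjective π)
    (hker : RingHom.ker (π : A →+* B) =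
      Ideal.map (φ : C →+* A) (RingHom.ker (counitAlgHom R C)))
    (e : S ⊗[R] A ≃ₐc[S] MonoidAlgebra S M) :
    ∃ (φ' : S ⊗[R] C →ₐc[S] MonoidAlgebra S M) (π' : MonoidAlgebra S M →ₐc[S] S ⊗[R] B),
      Function.Surjective π' ∧
      RingHom.ker (π' : MonoidAlgebra S M →+* S ⊗[R] B) =
      Ideal.map (φ' : S ⊗[R] C →+* MonoidAlgebra S M) (RingHom.ker (counitAlgHom S (S ⊗[R] C))) := by
  let φ' : S ⊗[R] C →ₐc[S] MonoidAlgebra S M :=
    (e : S ⊗[R] A →ₐc[S] MonoidAlgebra S M).comp
      (Bialgebra.TensorProduct.map (BialgHom.id S S) φ)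
  let πS : S ⊗[R] A →ₐc[S] S ⊗[R] B := Bialgebra.TensorProduct.map (BialgHom.id S S) π
  let π' : MonoidAlgebra S M →ₐc[S] S ⊗[R] B :=
    πS.comp (e.symm : MonoidAlgebra S M →ₐc[S] S ⊗[R] A)
  have hφ' : ∀ c : C, φ' ((1 : S) ⊗ₜ[R] c) = e ((1 : S) ⊗ₜ[R] φ c) := fun c => rfl
  have hπ' : ∀ x, π' x = πS (e.symm x) := fun x => rfl
  have hπS : Function.Surjective πS := by
    intro y
    induction y with
    | zero => exact ⟨0, map_zero _⟩
    | add x y hx hy =>
      obtain ⟨x', rfl⟩ := hx
      obtain ⟨y', rfl⟩ := hy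
      exact ⟨x' + y', map_add _ _ _⟩
    | tmul s b =>
      obtain ⟨a, rfl⟩ := hπ b
      exact ⟨s ⊗ₜ a, rfl⟩
  have hkerS : ∀ x : S ⊗[R] A, πS x = 0 → x ∈ (RingHom.ker (π : A →ₐ[R] B)).map
          (Algebra.TensorProduct.includeRight : A →ₐ[R] S ⊗[R] A) := by
    intro x hx
    rw [← Algebra.TensorProduct.lTensor_ker (A := S) (π : A →ₐ[R] B) hπ]
    have h2 : ∀ x, (Algebra.TensorProduct.map (AlgHom.id R S) (π : A →ₐ[R] B)) x = πS x := by
      intro x
      induction x with
      | zero => simp
      | add x y hx hy => rw [map_add, map_add, hx, hy]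
      | tmul s c => rfl
    exact (h2 x).trans hx
  refine ⟨φ', π', ?_, ?_⟩
  · intro y
    obtain ⟨x, hx⟩ := hπS y
    refine ⟨e x, ?_⟩
    rw [hπ', BialgEquiv.symm_apply_apply, hx]
  · rw [ker_counit_baseChange]
    apply le_antisymm
    · intro x hx
      have h1 : πS (e.symm x) = 0 := hx
      have h2 := hkerS _ h1
      have h3 : (RingHom.ker (π : A →ₐ[R] B)).map
          (Algebra.TensorProduct.includeRight : A →ₐ[R] S ⊗[R] A) ≤
          (Ideal.map (φ' : S ⊗[R] C →+* MonoidAlgebra S M)
            ((RingHom.ker (counitAlgHom R C)).map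
              (Algebra.TensorProduct.includeRight : C →ₐ[R] S ⊗[R] C))).comap
            (e : S ⊗[R] A →+* MonoidAlgebra S M) := by
        rw [Ideal.map_le_iff_le_comap]
        intro a ha
        have ha' : a ∈ RingHom.ker (π : A →+* B) := ha
        rw [hker] at ha'
        have h4 : Ideal.map (φ : C →+* A) (RingHom.ker (counitAlgHom R C)) ≤
            ((Ideal.map (φ' : S ⊗[R] C →+* MonoidAlgebra S M)
            ((RingHom.ker (counitAlgHom R C)).map
              (Algebra.TensorProduct.includeRight : C →ₐ[R] S ⊗[R] C))).comap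
            (e : S ⊗[R] A →+* MonoidAlgebra S M)).comap
            (Algebra.TensorProduct.includeRight : A →ₐ[R] S ⊗[R] A) := by
          rw [Ideal.map_le_iff_le_comap]
          intro c hc
          rw [Ideal.mem_comap, Ideal.mem_comap, Ideal.mem_comap]
          change e ((1 : S) ⊗ₜ[R] φ c) ∈ _
          rw [← hφ']
          exact Ideal.mem_map_of_mem _ (Ideal.mem_map_of_mem _ hc)
        exact h4 ha'
      have h5 := h3 h2
      rw [Ideal.mem_comap] at h5
      have h6 : (e : S ⊗[R] A →+* MonoidAlgebra S M) (e.symm x) = x := e.apply_symm_apply x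
      rwa [h6] at h5
    · rw [Ideal.map_le_iff_le_comap, Ideal.map_le_iff_le_comap]
      intro c hc
      rw [Ideal.mem_comap, Ideal.mem_comap]
      change π' (φ' ((1 : S) ⊗ₜ[R] c)) = 0
      rw [hφ', hπ', BialgEquiv.symm_apply_apply]
      change (1 : S) ⊗ₜ[R] π (φ c) = 0
      have h7 : φ c ∈ RingHom.ker (π : A →+* B) := by
        rw [hker]
        exact Ideal.mem_map_of_mem _ hc
      have h8 : π (φ c) = 0 := h7
      rw [h8, TensorProduct.tmul_zero]

end

/-- **SGA 3 IX 6.8**: the kernel of a homomorphism from a group of multiplicative type and of finite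
type to an affine group of finite type is of multiplicative type. Form with a surjection `A → B`
whose kernel is generated by the image of the augmentation ideal. -/
theorem isMultType_of_ker {R A B C : Type u} [CommRing R] [CommRing A] [CommRing B] [CommRing C]
    [HopfAlgebra R A] [HopfAlgebra R B] [HopfAlgebra R C]
    (hft : Algebra.FiniteType R A) (h : IsMultType R A) (hC : Algebra.FinitePresentation R C)
    (φ : C →ₐc[R] A) (π : A →ₐc[R] B) (hπ : Function.Surjective π)
    (hker : RingHom.ker (π : A →+* B) =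
      Ideal.map (φ : C →+* A) (RingHom.ker (counitAlgHom R C))) : IsMultType R B := by
  obtain ⟨ι, _, S, _, _, hflat, hsurj, hd⟩ := IsMultType.exists_family h
  refine isMultType_of_local_family S hsurj fun i p => ?_
  obtain ⟨M, _, ⟨e⟩⟩ := hd i
  obtain ⟨φ', π', hπ', hker'⟩ := ker_baseChange (S := S i) φ π hπ hker e
  have hfg : (RingHom.ker (counitAlgHom (S i) (S i ⊗[R] C))).FG :=
    Algebra.FinitePresentation.ker_fG_of_surjective (counitAlgHom (S i) (S i ⊗[R] C))
      (fun r => ⟨algebraMap (S i) _ r, by simp⟩)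
  have hnt : Nontrivial (S i) := p.nontrivial
  have hM : Group.FG M := by
    have hft1 : Algebra.FiniteType (S i) (S i ⊗[R] A) := inferInstance
    have hft2 : Algebra.FiniteType (S i) (MonoidAlgebra (S i) M) :=
      Algebra.FiniteType.equiv hft1 (e : _ ≃ₐ[S i] _)
    exact MonoidAlgebra.finiteType_iff_group_fg.mp hft2
  obtain ⟨f, hf, N, hN⟩ := exists_local φ' π' hfg hπ' hker' p
  obtain ⟨e'⟩ := hN (Localization.Away f) (IsLocalization.Away.algebraMap_isUnit f)
  exact ⟨f, hf, isDiag_tower ⟨M ⧸ N, inferInstance, ⟨e'⟩⟩⟩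

end Groth.Agent.Sga3A.KernelGlobal
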