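import Groth.Agent.Sga3A.MultBC
import Mathlib.RingTheory.Finiteness.Descent
import Mathlib.RingTheory.Ideal.IdempotentFG
import Mathlib.RingTheory.Localization.Finiteness
import Mathlib.Algebra.Module.Torsion.Basic
import Mathlib.RingTheory.LocalProperties.Submodule

/-!
# The locus where two group-like elements of a multiplicative-type Hopf algebra agree is clopen

* `torsionOf_sub_of_isGroupLike`: in `R[M]`, `Ann (g - h)` is generated by an idempotent.
* `exists_idempotent_torsionOf_sub`: same for `A` of multiplicative type.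
* `linearIndependent_of_torsionOf`: group-likes whose differences have zero annihilator are independent.
-/

set_option autoImplicit false
universe u v w

open TensorProduct SGA3b Coalgebra Bialgebra

namespace Groth.Agent.Sga3A.GLIndep

section monoidAlgebra
variable {R : Type u} [CommRing R] {M : Type v}

/-- The bilinear coefficient functional on `R[M] ⊗ R[M]`. -/
noncomputable def coeff₂ (R : Type u) [CommRing R] {M : Type v} (m n : M) :
    MonoidAlgebra R M ⊗[R] MonoidAlgebra R M →ₗ[R] R :=
  LinearMap.mul' R R ∘ₗ TensorProduct.map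
    (Finsupp.lapply m ∘ₗ (MonoidAlgebra.coeffLinearEquiv R : MonoidAlgebra R M ≃ₗ[R] M →₀ R).toLinearMap)
    (Finsupp.lapply n ∘ₗ (MonoidAlgebra.coeffLinearEquiv R : MonoidAlgebra R M ≃ₗ[R] M →₀ R).toLinearMap)

@[simp] lemma coeff₂_tmul (m n : M) (x y : MonoidAlgebra R M) :
    coeff₂ R m n (x ⊗ₜ y) = x.coeff m * y.coeff n := by
  simp [coeff₂]

lemma coeff₂_comul [DecidableEq M] (m n : M) (x : MonoidAlgebra R M) :
    coeff₂ R m n (comul (R := R) x) = if m = n then x.coeff m else 0 := by
  induction x using MonoidAlgebra.induction_linear with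
  | zero => simp
  | add x y hx hy =>
    rw [map_add, map_add, hx, hy]
    split_ifs <;> simp
  | single k r =>
    simp [MonoidAlgebra.coeff_single, Finsupp.single_apply]
    split_ifs <;> simp_all

lemma coeff_mul_coeff [DecidableEq M] {x : MonoidAlgebra R M} (hx : IsGroupLikeElem R x) (m n : M) :
    x.coeff m * x.coeff n = if m = n then x.coeff m else 0 := by
  rw [← coeff₂_comul, hx.comul_eq_tmul_self, coeff₂_tmul]

lemma counit_eq_sum (x : MonoidAlgebra R M) :
    counit (R := R) x = x.coeff.sum (fun _ r => r) := by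
  induction x using MonoidAlgebra.induction_linear with
  | zero => simp
  | add x y hx hy =>
    rw [map_add, hx, hy, MonoidAlgebra.coeff_add, Finsupp.sum_add_index'] <;> simp
  | single k r => simp

lemma sum_coeff {x : MonoidAlgebra R M} (hx : IsGroupLikeElem R x) :
    ∑ m ∈ x.coeff.support, x.coeff m = 1 := by
  rw [← hx.counit_eq_one, counit_eq_sum]
  rfl

lemma sum_coeff' {x : MonoidAlgebra R M} (hx : IsGroupLikeElem R x) (s : Finset M)
    (hs : x.coeff.support ⊆ s) : ∑ m ∈ s, x.coeff m = 1 := by
  rw [← sum_coeff hx]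
  symm
  apply Finset.sum_subset hs
  intro m _ hm
  simpa using hm

/-- the idempotent on which `g = h` -/
noncomputable def eqIdem (g h : MonoidAlgebra R M) : R := ∑ m ∈ g.coeff.support, g.coeff m * h.coeff m

lemma eqIdem_mul_left {g h : MonoidAlgebra R M} (hg : IsGroupLikeElem R g) (m : M) :
    eqIdem g h * g.coeff m = g.coeff m * h.coeff m := by
  classical
  rw [eqIdem, Finset.sum_mul]
  have : ∀ k ∈ g.coeff.support, g.coeff k * h.coeff k * g.coeff m =
      if m = k then g.coeff m * h.coeff m else 0 := by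
    intro k _
    have := coeff_mul_coeff hg k m
    rw [mul_right_comm, this]
    split_ifs with h1 h2 h2
    · subst h1; rfl
    · exact absurd h1.symm h2
    · exact absurd h2.symm h1
    · simp
  rw [Finset.sum_congr rfl this, Finset.sum_ite_eq]
  split_ifs with h1
  · rfl
  · rw [Finsupp.notMem_support_iff.mp h1, zero_mul]

lemma eqIdem_mul_right {g h : MonoidAlgebra R M} (hh : IsGroupLikeElem R h) (m : M) :
    eqIdem g h * h.coeff m = g.coeff m * h.coeff m := by
  classical
  rw [eqIdem, Finset.sum_mul]
  have : ∀ k ∈ g.coeff.support, g.coeff k * h.coeff k * h.coeff m =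
      if m = k then g.coeff m * h.coeff m else 0 := by
    intro k _
    have := coeff_mul_coeff hh k m
    rw [mul_assoc, this]
    split_ifs with h1 h2 h2
    · subst h1; rfl
    · exact absurd h1.symm h2
    · exact absurd h2.symm h1
    · simp
  rw [Finset.sum_congr rfl this, Finset.sum_ite_eq]
  split_ifs with h1
  · rfl
  · rw [Finsupp.notMem_support_iff.mp h1, zero_mul]

lemma isIdempotentElem_eqIdem {g h : MonoidAlgebra R M} (hg : IsGroupLikeElem R g)
    (hh : IsGroupLikeElem R h) : IsIdempotentElem (eqIdem g h) := by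
  change eqIdem g h * eqIdem g h = eqIdem g h
  conv_lhs => rw [eqIdem.eq_def g h, Finset.mul_sum]
  conv_rhs => rw [eqIdem]
  classical
  apply Finset.sum_congr rfl
  intro m _
  rw [← eqIdem.eq_def g h, ← mul_assoc, eqIdem_mul_left hg, mul_assoc, coeff_mul_coeff hh, if_pos rfl]

lemma torsionOf_sub_of_isGroupLike {g h : MonoidAlgebra R M} (hg : IsGroupLikeElem R g)
    (hh : IsGroupLikeElem R h) :
    Ideal.torsionOf R (MonoidAlgebra R M) (g - h) = Ideal.span {eqIdem g h} := by
  classical
  ext r
  rw [Ideal.mem_torsionOf_iff, smul_sub, sub_eq_zero, Ideal.mem_span_singleton]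
  constructor
  · intro hr
    have hr' : ∀ m, r * g.coeff m = r * h.coeff m := by
      intro m
      have := congrArg (fun x => x.coeff m) hr
      simpa using this
    refine ⟨r, ?_⟩
    calc r = r * ∑ m ∈ g.coeff.support, g.coeff m := by rw [sum_coeff hg, mul_one]
      _ = ∑ m ∈ g.coeff.support, r * (g.coeff m * h.coeff m) := by
          rw [Finset.mul_sum]
          apply Finset.sum_congr rfl
          intro m _
          have := coeff_mul_coeff hg m m
          rw [if_pos rfl] at this
          rw [mul_left_comm, ← hr' m, mul_left_comm, this]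
      _ = r * eqIdem g h := by rw [eqIdem, Finset.mul_sum]
      _ = eqIdem g h * r := mul_comm _ _
  · rintro ⟨c, rfl⟩
    ext m
    simp only [MonoidAlgebra.coeff_smul, Finsupp.smul_apply, smul_eq_mul]
    rw [mul_right_comm, eqIdem_mul_left hg, mul_right_comm (eqIdem g h), eqIdem_mul_right hh]

end monoidAlgebra

section flat
variable {R : Type u} [CommRing R] {N : Type v} [AddCommGroup N] [Module R N]
  (S : Type w) [CommRing S] [Algebra R S] [Module.Flat R S]

/-- Flat base change of the annihilator of an element. -/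
lemma torsionOf_one_tmul (x : N) :
    Ideal.torsionOf S (S ⊗[R] N) (1 ⊗ₜ[R] x) = (Ideal.torsionOf R N x).map (algebraMap R S) := by
  apply le_antisymm
  · intro s hs
    rw [Ideal.mem_torsionOf_iff, TensorProduct.smul_tmul', smul_eq_mul, mul_one] at hs
    have hex : Function.Exact (Ideal.torsionOf R N x).subtype (LinearMap.toSpanSingleton R N x) := by
      intro y
      rw [LinearMap.toSpanSingleton_apply]
      constructor
      · intro hy
        exact ⟨⟨y, (Ideal.mem_torsionOf_iff _ _).mpr hy⟩, rfl⟩
      · rintro ⟨z, rfl⟩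
        exact (Ideal.mem_torsionOf_iff _ _).mp z.2
    have hex' := Module.Flat.lTensor_exact S hex
    have h0 : (LinearMap.toSpanSingleton R N x).lTensor S (s ⊗ₜ[R] (1 : R)) = 0 := by
      simpa using hs
    obtain ⟨z, hz⟩ := (hex' _).mp h0
    have hz' : s = TensorProduct.rid R S ((Ideal.torsionOf R N x).subtype.lTensor S z) := by
      rw [hz]; simp
    rw [hz']
    clear hz hz' h0 hs
    induction z with
    | zero => simp
    | add a b ha hb => rw [map_add, map_add]; exact Ideal.add_mem _ ha hb
    | tmul a b =>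
      simp only [LinearMap.lTensor_tmul, Submodule.subtype_apply, TensorProduct.rid_tmul, Algebra.smul_def]
      exact Ideal.mul_mem_right _ _ (Ideal.mem_map_of_mem _ b.2)
  · rw [Ideal.map_le_iff_le_comap]
    intro r hr
    rw [Ideal.mem_torsionOf_iff] at hr
    rw [Ideal.mem_comap, Ideal.mem_torsionOf_iff, algebraMap_smul, ← TensorProduct.tmul_smul, hr, TensorProduct.tmul_zero]

end flat

section local_
variable {R : Type u} [CommRing R]

lemma mem_ideal_of_away {s : Set R} (hs : Ideal.span s = ⊤) (I : Ideal R) (a : R)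
    (h : ∀ f ∈ s, algebraMap R (Localization.Away f) a ∈ I.map (algebraMap R (Localization.Away f))) :
    a ∈ I := by
  refine Submodule.mem_of_span_eq_top_of_smul_pow_mem I s hs a fun f => ?_
  have h1 := h f.1 f.2
  rw [IsLocalization.mem_map_algebraMap_iff (Submonoid.powers f.1)] at h1
  obtain ⟨⟨y, ⟨_, k, rfl⟩⟩, hy⟩ := h1
  rw [← map_mul] at hy
  obtain ⟨⟨_, c, rfl⟩, hc⟩ := (IsLocalization.eq_iff_exists (Submonoid.powers f.1) _).mp hy
  refine ⟨c + k, ?_⟩
  have : f.1 ^ (c + k) • a = f.1 ^ c * y.1 := by
    rw [smul_eq_mul, pow_add]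
    simp only at hc
    rw [← hc]; ring
  rw [this]
  exact Ideal.mul_mem_left _ _ y.2

end local_

section mult
variable {R : Type u} [CommRing R] {A : Type u} [CommRing A] [HopfAlgebra R A]

/-- Trivialising algebras of a multiplicative type group. -/
lemma exists_algebra (h : IsMultType R A) : ∃ s : Set R, Ideal.span s = ⊤ ∧ ∀ f ∈ s,
    ∃ (S : Type u) (_ : CommRing S) (_ : Algebra R S) (_ : Algebra (Localization.Away f) S)
      (_ : IsScalarTower R (Localization.Away f) S),
      Module.FaithfullyFlat (Localization.Away f) S ∧ Module.Flat R S ∧ IsDiag S (S ⊗[R] A) := by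
  obtain ⟨s, hs, H⟩ := h
  refine ⟨s, hs, fun f hf => ?_⟩
  obtain ⟨R', _, _, hff, hd⟩ := H f hf
  let : Algebra R R' := ((algebraMap (Localization.Away f) R').comp
    (algebraMap R (Localization.Away f))).toAlgebra
  have : IsScalarTower R (Localization.Away f) R' := IsScalarTower.of_algebraMap_eq (fun _ => rfl)
  have hflat : Module.Flat R R' := Module.Flat.trans R (Localization.Away f) R'
  exact ⟨R', _, _, _, ‹_›, hff, hflat, MultBC.isDiag_tower hd⟩

/-- For group-like elements `g, h` of a Hopf algebra of multiplicative type, the annihilator of `g - h`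
is generated by an idempotent. -/
theorem exists_idempotent_torsionOf_sub (h : IsMultType R A) {x y : A} (hx : IsGroupLikeElem R x)
    (hy : IsGroupLikeElem R y) :
    ∃ e : R, IsIdempotentElem e ∧ Ideal.torsionOf R A (x - y) = Ideal.span {e} := by
  obtain ⟨s, hs, H⟩ := exists_algebra h
  have key : ∀ f ∈ s, ((Ideal.torsionOf R A (x - y)).map (algebraMap R (Localization.Away f))).FG ∧
      IsIdempotentElem ((Ideal.torsionOf R A (x - y)).map (algebraMap R (Localization.Away f))) := by
    intro f hf
    obtain ⟨S, _, _, _, _, hff, hflat, M, _, ⟨e⟩⟩ := H f hf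
    have h1 : Ideal.torsionOf S (S ⊗[R] A) (1 ⊗ₜ[R] (x - y)) =
        Ideal.torsionOf S (MonoidAlgebra S M) (e (1 ⊗ₜ[R] x) - e (1 ⊗ₜ[R] y)) := by
      ext r
      rw [Ideal.mem_torsionOf_iff, Ideal.mem_torsionOf_iff, ← map_sub, ← TensorProduct.tmul_sub, ← map_smul,
        map_eq_zero_iff e e.injective]
    have hgx : IsGroupLikeElem S (e (1 ⊗ₜ[R] x)) := IsGroupLikeElem.map e
      ⟨by simp [hx.counit_eq_one], by simp [hx.comul_eq_tmul_self]⟩
    have hgy : IsGroupLikeElem S (e (1 ⊗ₜ[R] y)) := IsGroupLikeElem.map e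
      ⟨by simp [hy.counit_eq_one], by simp [hy.comul_eq_tmul_self]⟩
    rw [torsionOf_one_tmul, torsionOf_sub_of_isGroupLike hgx hgy,
      IsScalarTower.algebraMap_eq R (Localization.Away f) S, ← Ideal.map_map] at h1
    constructor
    · apply Ideal.FG.of_FG_map_of_faithfullyFlat (S := S)
      rw [h1]
      exact Submodule.fg_span_singleton _
    · apply Ideal.map_injective_of_faithfullyFlat (A := Localization.Away f) (B := S)
      rw [Ideal.map_mul, h1, Ideal.span_singleton_mul_span_singleton, isIdempotentElem_eqIdem hgx hgy]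
  rw [← Ideal.isIdempotentElem_iff_of_fg]
  · apply le_antisymm Ideal.mul_le_right
    intro a ha
    apply mem_ideal_of_away hs
    intro f hf
    rw [Ideal.map_mul, (key f hf).2]
    exact Ideal.mem_map_of_mem _ ha
  · exact Ideal.fg_of_localizationSpan s hs fun g => (key g.1 g.2).1

/-- Group-likes of a multiplicative-type Hopf algebra, whose differences have zero annihilator, are linearly
independent. -/
theorem linearIndependent_of_torsionOf (h : IsMultType R A) {ι : Type*} (b : ι → A)
    (hb : ∀ i, IsGroupLikeElem R (b i))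
    (hd : ∀ i j, i ≠ j → Ideal.torsionOf R A (b i - b j) = ⊥) : LinearIndependent R b := by
  classical
  obtain ⟨s, hs, H⟩ := exists_algebra h
  rw [linearIndependent_iff']
  intro t r hr i hi
  suffices h0 : r i ∈ (⊥ : Ideal R) by simpa using h0
  apply mem_ideal_of_away hs
  intro f hf
  obtain ⟨S, _, _, _, _, hff, hflat, M, _, ⟨e⟩⟩ := H f hf
  have hgl : ∀ i, IsGroupLikeElem S (e (1 ⊗ₜ[R] b i)) := fun i => IsGroupLikeElem.map e
      ⟨by simp [(hb i).counit_eq_one], by simp [(hb i).comul_eq_tmul_self]⟩
  have hzero : ∀ i j, i ≠ j → ∀ m, (e (1 ⊗ₜ[R] b i)).coeff m * (e (1 ⊗ₜ[R] b j)).coeff m = 0 := by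
    intro i j hij m
    have h1 : Ideal.torsionOf S (S ⊗[R] A) (1 ⊗ₜ[R] (b i - b j)) =
        Ideal.torsionOf S (MonoidAlgebra S M) (e (1 ⊗ₜ[R] b i) - e (1 ⊗ₜ[R] b j)) := by
      ext r
      rw [Ideal.mem_torsionOf_iff, Ideal.mem_torsionOf_iff, ← map_sub, ← TensorProduct.tmul_sub, ← map_smul,
        map_eq_zero_iff e e.injective]
    rw [torsionOf_one_tmul, torsionOf_sub_of_isGroupLike (hgl i) (hgl j), hd i j hij, Ideal.map_bot] at h1
    have h2 : eqIdem (e (1 ⊗ₜ[R] b i)) (e (1 ⊗ₜ[R] b j)) = 0 := by
      rw [← Ideal.span_singleton_eq_bot, ← h1]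
    rw [← eqIdem_mul_left (hgl i), h2, zero_mul]
  have hsum : ∑ j ∈ t, algebraMap R S (r j) • e (1 ⊗ₜ[R] b j) = 0 := by
    have := congrArg (fun a => e (1 ⊗ₜ[R] a)) hr
    simp only [TensorProduct.tmul_sum, map_sum, TensorProduct.tmul_zero, map_zero] at this
    rw [← this]
    apply Finset.sum_congr rfl
    intro j _
    rw [← map_smul, algebraMap_smul, TensorProduct.tmul_smul]
  have hri : ∀ m, algebraMap R S (r i) * (e (1 ⊗ₜ[R] b i)).coeff m = 0 := by
    intro m
    have h3 := congrArg (fun a => (e (1 ⊗ₜ[R] b i)).coeff m * a.coeff m) hsum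
    simp only [MonoidAlgebra.coeff_sum, Finsupp.coe_finsetSum, Finset.sum_apply, MonoidAlgebra.coeff_smul,
      Finsupp.smul_apply, smul_eq_mul, Finset.mul_sum, MonoidAlgebra.coeff_zero, Finsupp.coe_zero,
      Pi.zero_apply, mul_zero] at h3
    rw [Finset.sum_eq_single_of_mem i hi] at h3
    · have := coeff_mul_coeff (hgl i) m m
      rw [if_pos rfl] at this
      rwa [mul_left_comm, this] at h3
    · intro j _ hj
      rw [mul_left_comm, hzero i j hj.symm, mul_zero]
  have hri' : algebraMap R S (r i) = 0 := by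
    calc algebraMap R S (r i) = algebraMap R S (r i) * ∑ m ∈ (e (1 ⊗ₜ[R] b i)).coeff.support,
          (e (1 ⊗ₜ[R] b i)).coeff m := by rw [sum_coeff (hgl i), mul_one]
      _ = 0 := by
        rw [Finset.mul_sum]
        exact Finset.sum_eq_zero fun m _ => hri m
  rw [IsScalarTower.algebraMap_apply R (Localization.Away f) S] at hri'
  have := (FaithfulSMul.algebraMap_injective (Localization.Away f) S)
  rw [Ideal.map_bot, Ideal.mem_bot]
  exact this (by rw [hri', map_zero])

end mult

end Groth.Agent.Sga3A.GLIndep
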