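import Groth.Prelude.Def_SGA3b
import Mathlib.RingTheory.Finiteness.Descent
import Mathlib.RingTheory.FiniteType

/-!
# Convolution powers of the identity: base change, functoriality, group algebras
-/

set_option autoImplicit false
universe u v w

open TensorProduct SGA3b Coalgebra Bialgebra WithConv

namespace Groth.Agent.Sga3A.PowConv

section general
variable (R : Type u) [CommRing R] (A : Type u) [CommRing A] [HopfAlgebra R A]

lemma powConv_zero : powConv R A 0 = (Algebra.ofId R A).comp (counitAlgHom R A) := rfl

lemma powConv_zero_apply (x : A) : powConv R A 0 x = algebraMap R A (counit x) := rfl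

lemma powConv_succ_apply (n : ℕ) (x : A) :
    powConv R A (n + 1) x =
      Algebra.TensorProduct.lift (powConv R A n) (AlgHom.id R A) (fun _ _ => .all ..)
        (comul (R := R) x) := by
  have h : (toConv (AlgHom.id R A)) ^ (n+1) = (toConv (AlgHom.id R A)) ^ n * toConv (AlgHom.id R A) :=
    pow_succ _ _
  change ((toConv (AlgHom.id R A)) ^ (n+1)) x = _
  rw [h, AlgHom.convMul_apply]
  rfl

/-- base change of the power maps -/
lemma powConv_tmul (R' : Type u) [CommRing R'] [Algebra R R'] (n : ℕ) (a : A) :
    powConv R' (R' ⊗[R] A) n ((1 : R') ⊗ₜ[R] a) = (1 : R') ⊗ₜ[R] powConv R A n a := by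
  induction n generalizing a with
  | zero =>
    simp only [powConv_zero_apply, TensorProduct.counit_tmul]
    simp [Algebra.algebraMap_eq_smul_one, Algebra.TensorProduct.one_def]
  | succ n ih =>
    rw [powConv_succ_apply, powConv_succ_apply, TensorProduct.comul_tmul, ← (ℛ R a).eq]
    simp only [Bialgebra.comul_one, TensorProduct.tmul_sum, map_sum, Algebra.TensorProduct.one_def,
      TensorProduct.AlgebraTensorModule.tensorTensorTensorComm_tmul,
      Algebra.TensorProduct.lift_tmul, AlgHom.id_apply, ih, Algebra.TensorProduct.tmul_mul_tmul, one_mul]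

lemma powConv_tmul' (R' : Type u) [CommRing R'] [Algebra R R'] (n : ℕ) (r : R') (a : A) :
    powConv R' (R' ⊗[R] A) n (r ⊗ₜ[R] a) = r ⊗ₜ[R] powConv R A n a := by
  have : r ⊗ₜ[R] a = r • ((1 : R') ⊗ₜ[R] a) := by simp [TensorProduct.smul_tmul']
  rw [this, map_smul, powConv_tmul]
  simp [TensorProduct.smul_tmul']

/-- naturality -/
lemma powConv_map {B : Type u} [CommRing B] [HopfAlgebra R B] (e : A →ₐc[R] B) (n : ℕ) (a : A) :
    powConv R B n (e a) = e (powConv R A n a) := by
  induction n generalizing a with
  | zero =>
    simp only [powConv_zero_apply, CoalgHomClass.counit_comp_apply]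
    exact (AlgHomClass.commutes e _).symm
  | succ n ih =>
    rw [powConv_succ_apply, powConv_succ_apply, ← CoalgHomClass.map_comp_comul_apply, ← (ℛ R a).eq]
    simp [ih]

lemma powConv_single {M : Type u} [CommGroup M] (n : ℕ) (m : M) :
    powConv R (MonoidAlgebra R M) n (MonoidAlgebra.single m 1) = MonoidAlgebra.single (m ^ n) 1 := by
  induction n generalizing m with
  | zero =>
    rw [powConv_zero_apply]
    simp
  | succ n ih =>
    rw [powConv_succ_apply]
    simp [ih, MonoidAlgebra.single_mul_single, pow_succ]

lemma torsionIdeal_eq_bot_iff (n : ℕ) :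
    torsionIdeal R A n = ⊥ ↔ ∀ a : A, powConv R A n a = algebraMap R A (counit a) := by
  rw [torsionIdeal, Ideal.map_eq_bot_iff_le_ker]
  constructor
  · intro h a
    have h1 : a - algebraMap R A (counit a) ∈ RingHom.ker (counitAlgHom R A) := by
      rw [RingHom.mem_ker, map_sub, AlgHom.commutes]
      simp
    have h2 := h h1
    rw [RingHom.mem_ker, map_sub, AlgHom.commutes] at h2
    exact sub_eq_zero.mp h2
  · intro h a ha
    rw [RingHom.mem_ker] at ha ⊢
    rw [h a]
    have : counit (R := R) a = 0 := ha
    rw [this, map_zero]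

/-- The convolution power being trivial passes along a base change. -/
lemma powConv_trivial_baseChange (R' : Type u) [CommRing R'] [Algebra R R'] (n : ℕ)
    (h : ∀ a : A, powConv R A n a = algebraMap R A (counit a)) (x : R' ⊗[R] A) :
    powConv R' (R' ⊗[R] A) n x = algebraMap R' (R' ⊗[R] A) (counit x) := by
  induction x with
  | zero => simp
  | add x y hx hy => rw [map_add, hx, hy, map_add, map_add]
  | tmul r a =>
    rw [powConv_tmul', h, Algebra.algebraMap_eq_smul_one, Algebra.algebraMap_eq_smul_one,
      TensorProduct.counit_tmul, Algebra.TensorProduct.one_def, TensorProduct.tmul_smul]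
    simp [TensorProduct.smul_tmul']

/-- The convolution power being trivial can be checked after a base change with injective `A → R' ⊗ A`. -/
lemma powConv_trivial_of_baseChange (R' : Type u) [CommRing R'] [Algebra R R'] (n : ℕ)
    (h : ∀ x : R' ⊗[R] A, powConv R' (R' ⊗[R] A) n x = algebraMap R' (R' ⊗[R] A) (counit x)) (a : A) :
    (1 : R') ⊗ₜ[R] (powConv R A n a - algebraMap R A (counit a)) = 0 := by
  rw [TensorProduct.tmul_sub, ← powConv_tmul, h, sub_eq_zero]
  simp [Algebra.algebraMap_eq_smul_one, Algebra.TensorProduct.one_def]

/-- The convolution power being trivial is invariant under isomorphism. -/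
lemma powConv_trivial_of_equiv {B : Type u} [CommRing B] [HopfAlgebra R B] (e : A ≃ₐc[R] B) (n : ℕ)
    (h : ∀ a : A, powConv R A n a = algebraMap R A (counit a)) (b : B) :
    powConv R B n b = algebraMap R B (counit b) := by
  obtain ⟨a, rfl⟩ : ∃ a, e a = b := e.surjective b
  have h1 := powConv_map R A (e : A →ₐc[R] B) n a
  have h2 : powConv R B n (e a) = e (powConv R A n a) := h1
  rw [h2, h a]
  have h3 : e (algebraMap R A (counit a)) = algebraMap R B (counit a) := AlgHomClass.commutes e _
  rw [h3]
  congr 1
  exact (CoalgHomClass.counit_comp_apply e a).symm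

/-- For a group algebra over a nontrivial ring the `n`-th power map is trivial iff `M` is killed by `n`. -/
lemma powConv_trivial_monoidAlgebra [Nontrivial R] {M : Type u} [CommGroup M] (n : ℕ) :
    (∀ a : MonoidAlgebra R M, powConv R (MonoidAlgebra R M) n a = algebraMap R _ (counit a)) ↔
      ∀ m : M, m ^ n = 1 := by
  constructor
  · intro h m
    have h1 := h (MonoidAlgebra.single m 1)
    rw [powConv_single] at h1
    have h2 : (algebraMap R (MonoidAlgebra R M)) (counit (MonoidAlgebra.single m (1 : R))) =
        MonoidAlgebra.single 1 1 := by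
      simp
    rw [h2] at h1
    exact MonoidAlgebra.single_left_injective (R := R) one_ne_zero h1
  · intro h a
    induction a using MonoidAlgebra.induction_linear with
    | zero => simp
    | add x y hx hy => rw [map_add, hx, hy, map_add, map_add]
    | single m r =>
      have : MonoidAlgebra.single m r = r • (MonoidAlgebra.single m (1 : R) : MonoidAlgebra R M) := by simp
      rw [this, map_smul, powConv_single, h m]
      simp

lemma powConv_add_apply (n k : ℕ) (x : A) :
    powConv R A (n + k) x =
      Algebra.TensorProduct.lift (powConv R A n) (powConv R A k) (fun _ _ => .all ..)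
        (comul (R := R) x) := by
  have h : (toConv (AlgHom.id R A)) ^ (n+k) = (toConv (AlgHom.id R A)) ^ n * (toConv (AlgHom.id R A)) ^ k :=
    pow_add _ _ _
  change ((toConv (AlgHom.id R A)) ^ (n+k)) x = _
  rw [h, AlgHom.convMul_apply]
  rfl

/-- If the `n`-th power map is trivial, so is the `n * k`-th. -/
lemma powConv_trivial_mul (n k : ℕ) (h : ∀ a : A, powConv R A n a = algebraMap R A (counit a)) (a : A) :
    powConv R A (n * k) a = algebraMap R A (counit a) := by
  have h1 : powConv R A n = (Algebra.ofId R A).comp (counitAlgHom R A) := AlgHom.ext h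
  have h2 : (toConv (AlgHom.id R A)) ^ n = 1 := by
    apply WithConv.ofConv_injective
    exact h1
  have h3 : (toConv (AlgHom.id R A)) ^ (n * k) = 1 := by rw [pow_mul, h2, one_pow]
  change ((toConv (AlgHom.id R A)) ^ (n * k)) a = _
  rw [h3]
  rfl

lemma powConv_trivial_of_subsingleton [Subsingleton R] (n : ℕ) (a : A) :
    powConv R A n a = algebraMap R A (counit a) := by
  have : Subsingleton A := RingHom.codomain_trivial (algebraMap R A)
  exact Subsingleton.elim _ _

end general

end Groth.Agent.Sga3A.PowConv
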