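import Groth.Agent.Sga3A.MultBC
import Mathlib.RingTheory.Nakayama
import Mathlib.RingTheory.HopfAlgebra.Convolution
import Mathlib.RingTheory.FinitePresentation

set_option autoImplicit false
universe u
open TensorProduct SGA3b Coalgebra Bialgebra

namespace Groth.Agent.Sga3A.Rigidity

section Core

/-- the coefficient functional on a monoid algebra -/
noncomputable def coeffL (R : Type*) {M : Type*} [CommRing R] (m : M) : MonoidAlgebra R M →ₗ[R] R :=
  Finsupp.lapply m ∘ₗ (MonoidAlgebra.coeffLinearEquiv R).toLinearMap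

@[simp] lemma coeffL_apply {R M : Type*} [CommRing R] (m : M) (x : MonoidAlgebra R M) :
    coeffL R m x = x.coeff m := rfl

variable {R M C : Type*} [CommRing R] [CommGroup M] [CommRing C] [Bialgebra R C]

lemma coeffL_comul (m : M) :
    LinearMap.mul' R R ∘ₗ TensorProduct.map (coeffL R m) (coeffL R m) ∘ₗ comul =
      coeffL R m := by
  classical
  ext m'
  by_cases h : m' = m <;> simp [h]

lemma coeff_eq_sum (w : C →ₐc[R] MonoidAlgebra R M) (c : C) (m : M) :
    (w c).coeff m = ∑ i ∈ (ℛ R c).index,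
      (w ((ℛ R c).left i)).coeff m * (w ((ℛ R c).right i)).coeff m := by
  have h1 := congr($(coeffL_comul (R := R) m) (w c))
  have h2 : comul (R := R) (w c) = TensorProduct.map (w : C →ₗ[R] MonoidAlgebra R M)
      (w : C →ₗ[R] MonoidAlgebra R M) (comul c) :=
    (CoalgHomClass.map_comp_comul_apply w c).symm
  simp only [LinearMap.comp_apply] at h1
  rw [h2, ← (ℛ R c).eq] at h1
  simp only [map_sum, TensorProduct.map_tmul] at h1
  simpa using h1.symm

/-- If a bialgebra homomorphism `w : C → R[M]` (`M` a group) sends the augmentation ideal into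
`𝔞 R[M]`, then it sends it into `𝔞² R[M]`. -/
lemma coeff_mem_sq (w : C →ₐc[R] MonoidAlgebra R M) (𝔞 : Ideal R)
    (h : ∀ c : C, counit (R := R) c = 0 → ∀ m, (w c).coeff m ∈ 𝔞)
    (c : C) (hc : counit (R := R) c = 0) (m : M) : (w c).coeff m ∈ 𝔞 * 𝔞 := by
  classical
  set f : C →ₗ[R] R := coeffL R m ∘ₗ (w : C →ₗ[R] MonoidAlgebra R M) with hf
  have hfa : ∀ x, f x = (w x).coeff m := fun x => rfl
  set v : R := f 1 with hv
  have hvv : v * v = v := by
    rw [hv, hfa, map_one, MonoidAlgebra.one_def]
    by_cases h1 : (1 : M) = m <;> simp [h1]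
  have hmem : ∀ x : C, f x - counit (R := R) x * v ∈ 𝔞 := by
    intro x
    have h2 := h (x - algebraMap R C (counit x)) (by simp) m
    have h3 : (w (x - algebraMap R C (counit x))).coeff m = f x - counit (R := R) x * v := by
      rw [← hfa, map_sub, Algebra.algebraMap_eq_smul_one, map_smul, ← hv, smul_eq_mul]
    rwa [h3] at h2
  have hsum : f c = ∑ i ∈ (ℛ R c).index, f ((ℛ R c).left i) * f ((ℛ R c).right i) :=
    coeff_eq_sum w c m
  have hl : ∑ i ∈ (ℛ R c).index, counit (R := R) ((ℛ R c).left i) * f ((ℛ R c).right i) = f c := by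
    have := congrArg f (sum_counit_smul (R := R) (ℛ R c))
    simpa using this
  have hr : ∑ i ∈ (ℛ R c).index, f ((ℛ R c).left i) * counit (R := R) ((ℛ R c).right i) = f c := by
    have := congrArg (LinearMap.mul' R R) (sum_map_tmul_counit_eq (R := R) f c (repr := ℛ R c))
    rw [map_sum] at this
    simpa only [LinearMap.mul'_apply, mul_one] using this
  have hlr : ∑ i ∈ (ℛ R c).index,
      counit (R := R) ((ℛ R c).left i) * counit (R := R) ((ℛ R c).right i) = 0 := by
    have := congrArg (counit (R := R)) (sum_counit_smul (R := R) (ℛ R c))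
    simpa [hc] using this
  have key : ∑ i ∈ (ℛ R c).index,
      (f ((ℛ R c).left i) - counit (R := R) ((ℛ R c).left i) * v) *
      (f ((ℛ R c).right i) - counit (R := R) ((ℛ R c).right i) * v) = (1 - 2 * v) * f c := by
    have : ∀ i ∈ (ℛ R c).index,
      (f ((ℛ R c).left i) - counit (R := R) ((ℛ R c).left i) * v) *
      (f ((ℛ R c).right i) - counit (R := R) ((ℛ R c).right i) * v) =
      f ((ℛ R c).left i) * f ((ℛ R c).right i) -
      v * (counit (R := R) ((ℛ R c).left i) * f ((ℛ R c).right i)) -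
      v * (f ((ℛ R c).left i) * counit (R := R) ((ℛ R c).right i)) +
      (v * v) * (counit (R := R) ((ℛ R c).left i) * counit (R := R) ((ℛ R c).right i)) := by
      intro i _; ring
    rw [Finset.sum_congr rfl this, Finset.sum_add_distrib, Finset.sum_sub_distrib,
      Finset.sum_sub_distrib, ← Finset.mul_sum, ← Finset.mul_sum, ← Finset.mul_sum,
      hl, hr, hlr, ← hsum]
    ring
  have h4 : (1 - 2 * v) * f c ∈ 𝔞 * 𝔞 := by
    rw [← key]
    exact Ideal.sum_mem _ fun i _ => Ideal.mul_mem_mul (hmem _) (hmem _)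
  have h5 : (w c).coeff m = (1 - 2 * v) * ((1 - 2 * v) * f c) := by
    rw [← hfa]
    have : (1 - 2 * v) * ((1 - 2 * v) * f c) = (1 - 4 * v + 4 * (v * v)) * f c := by ring
    rw [this, hvv]; ring
  rw [h5]
  exact Ideal.mul_mem_left _ _ h4

/-- Rigidity, split case over a local ring. -/
lemma core [IsLocalRing R] (hfg : (RingHom.ker (counitAlgHom R C)).FG)
    (w : C →ₐc[R] MonoidAlgebra R M)
    (h : ∀ c : C, counit (R := R) c = 0 → ∀ m, (w c).coeff m ∈ IsLocalRing.maximalIdeal R)
    (c : C) (hc : counit (R := R) c = 0) : w c = 0 := by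
  classical
  obtain ⟨T, hT⟩ := hfg
  let U : Set R := ⋃ g ∈ T, Set.range fun m => (w g).coeff m
  have hU : U.Finite := Set.Finite.biUnion T.finite_toSet fun g _ => Finsupp.finite_range _
  let 𝔞 : Ideal R := Ideal.span U
  have hT0 : ∀ g ∈ T, counit (R := R) g = 0 := by
    intro g hg
    have : g ∈ RingHom.ker (counitAlgHom R C) := hT ▸ Ideal.subset_span hg
    exact this
  have h𝔞fg : 𝔞.FG := ⟨hU.toFinset, by simp [𝔞]⟩
  have h𝔞le : 𝔞 ≤ IsLocalRing.maximalIdeal R := by
    rw [Ideal.span_le]
    rintro r hr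
    simp only [U, Set.mem_iUnion, Set.mem_range] at hr
    obtain ⟨g, hg, m, rfl⟩ := hr
    exact h g (hT0 g hg) m
  have h1 : ∀ c : C, counit (R := R) c = 0 → ∀ m, (w c).coeff m ∈ 𝔞 := by
    let K : Ideal (MonoidAlgebra R M) :=
      RingHom.ker (MonoidAlgebra.mapRingHom M (Ideal.Quotient.mk 𝔞))
    have hK : ∀ x : MonoidAlgebra R M, x ∈ K ↔ ∀ m, x.coeff m ∈ 𝔞 := by
      intro x
      simp only [K, RingHom.mem_ker]
      constructor
      · intro hx m
        have := congr(($hx).coeff m)
        simpa [Ideal.Quotient.eq_zero_iff_mem] using this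
      · intro hx
        ext m
        simpa [Ideal.Quotient.eq_zero_iff_mem] using hx m
    have hle : RingHom.ker (counitAlgHom R C) ≤ K.comap (w : C →+* MonoidAlgebra R M) := by
      rw [← hT, Ideal.span_le]
      intro g hg
      show w g ∈ K
      rw [hK]
      intro m
      exact Ideal.subset_span (Set.mem_biUnion hg ⟨m, rfl⟩)
    intro c hc
    have : c ∈ RingHom.ker (counitAlgHom R C) := hc
    exact (hK _).mp (hle this)
  have h2 : 𝔞 ≤ 𝔞 • 𝔞 := by
    rw [smul_eq_mul]
    conv_lhs => rw [show 𝔞 = Ideal.span U from rfl]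
    rw [Ideal.span_le]
    rintro r hr
    simp only [U, Set.mem_iUnion, Set.mem_range] at hr
    obtain ⟨g, hg, m, rfl⟩ := hr
    exact coeff_mem_sq w 𝔞 h1 g (hT0 g hg) m
  have h3 : 𝔞 = ⊥ := by
    refine Submodule.eq_bot_of_le_smul_of_le_jacobson_bot 𝔞 𝔞 h𝔞fg h2 ?_
    rw [IsLocalRing.jacobson_eq_maximalIdeal ⊥ bot_ne_top]
    exact h𝔞le
  ext m
  have := h1 c hc m
  rw [h3] at this
  simpa using this

end Core

section Diff

open WithConv

variable {R A B C : Type*} [CommRing R] [CommRing A] [CommRing B] [CommRing C]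
  [Algebra R A] [Algebra R B] [Bialgebra R C]

/-- Post-composition with an algebra map, as a homomorphism of convolution groups. -/
noncomputable def postcomp (h : A →ₐ[R] B) : WithConv (C →ₐ[R] A) →* WithConv (C →ₐ[R] B) where
  toFun := fun f => toConv (h.comp f.ofConv)
  map_one' := by
    apply WithConv.ofConv_injective
    ext c
    change h (algebraMap R A (counit c)) = algebraMap R B (counit c)
    simp
  map_mul' := by
    intro f g
    apply WithConv.ofConv_injective
    exact AlgHom.comp_convMul_distrib h f g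

lemma postcomp_apply (h : A →ₐ[R] B) (f : WithConv (C →ₐ[R] A)) :
    postcomp h f = toConv (h.comp f.ofConv) := rfl

end Diff

section Diff2

open WithConv

variable {R A C : Type*} [CommRing R] [CommRing A] [CommRing C]
  [HopfAlgebra R A] [HopfAlgebra R C]

lemma map_comp_comul_eq (f : WithConv (C →ₐ[R] A)) :
    toConv ((Algebra.TensorProduct.map f.ofConv f.ofConv).comp (comulAlgHom R C)) =
      postcomp Algebra.TensorProduct.includeLeft f *
        postcomp Algebra.TensorProduct.includeRight f := by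
  apply WithConv.ofConv_injective
  ext c
  rw [postcomp_apply, postcomp_apply]
  change (Algebra.TensorProduct.map f.ofConv f.ofConv) (comul c) =
    (toConv _ * toConv _ : WithConv (C →ₐ[R] A ⊗[R] A)) c
  rw [AlgHom.convMul_apply, ← (ℛ R c).eq]
  simp

variable [IsCocomm R C]

/-- The difference (in the convolution group) of two bialgebra homomorphisms from a cocommutative
Hopf algebra to a commutative one. -/
noncomputable def diff (φ ψ : C →ₐc[R] A) : C →ₐc[R] A :=
  BialgHom.ofAlgHom (toConv (φ : C →ₐ[R] A) * (toConv (ψ : C →ₐ[R] A))⁻¹).ofConv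
    (by
      have h1 : ∀ φ : C →ₐc[R] A, postcomp (counitAlgHom R A) (toConv (φ : C →ₐ[R] A)) =
          toConv (counitAlgHom R C) := by
        intro φ
        rw [postcomp_apply]
        exact congrArg toConv (BialgHom.counitAlgHom_comp φ)
      have h2 := map_mul (postcomp (counitAlgHom R A)) (toConv (φ : C →ₐ[R] A))
        (toConv (ψ : C →ₐ[R] A))⁻¹
      rw [map_inv, h1, h1, mul_inv_cancel] at h2
      have h3 := congrArg ofConv h2
      rw [postcomp_apply] at h3
      rw [ofConv_toConv] at h3
      rw [h3]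
      ext c
      rfl)
    (by
      have h1 : ∀ φ : C →ₐc[R] A, postcomp (comulAlgHom R A) (toConv (φ : C →ₐ[R] A)) =
          postcomp Algebra.TensorProduct.includeLeft (toConv (φ : C →ₐ[R] A)) *
          postcomp Algebra.TensorProduct.includeRight (toConv (φ : C →ₐ[R] A)) := by
        intro φ
        rw [← map_comp_comul_eq, postcomp_apply]
        exact congrArg toConv (BialgHom.map_comp_comulAlgHom φ).symm
      have h2 := map_mul (postcomp (comulAlgHom R A)) (toConv (φ : C →ₐ[R] A))
        (toConv (ψ : C →ₐ[R] A))⁻¹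
      have h3 := map_comp_comul_eq (toConv (φ : C →ₐ[R] A) * (toConv (ψ : C →ₐ[R] A))⁻¹)
      rw [map_inv, h1, h1] at h2
      rw [map_mul, map_mul, map_inv, map_inv] at h3
      have h4 : toConv ((Algebra.TensorProduct.map
          (toConv (φ : C →ₐ[R] A) * (toConv (ψ : C →ₐ[R] A))⁻¹).ofConv
          (toConv (φ : C →ₐ[R] A) * (toConv (ψ : C →ₐ[R] A))⁻¹).ofConv).comp (comulAlgHom R C)) =
          postcomp (comulAlgHom R A) (toConv (φ : C →ₐ[R] A) * (toConv (ψ : C →ₐ[R] A))⁻¹) := by
        rw [h2, h3]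
        rw [mul_mul_mul_comm]
        congr 1
        exact (mul_inv _ _).symm
      exact congrArg (fun t => t.ofConv) h4)

lemma diff_apply (φ ψ : C →ₐc[R] A) (c : C) :
    diff φ ψ c = (toConv (φ : C →ₐ[R] A) * (toConv (ψ : C →ₐ[R] A))⁻¹).ofConv c := rfl

/-- If the difference is trivial on the augmentation ideal, the two homomorphisms agree. -/
lemma eq_of_diff (φ ψ : C →ₐc[R] A) (h : ∀ c : C, counit (R := R) c = 0 → diff φ ψ c = 0) :
    φ = ψ := by
  have h1 : toConv (φ : C →ₐ[R] A) * (toConv (ψ : C →ₐ[R] A))⁻¹ = 1 := by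
    apply WithConv.ofConv_injective
    ext c
    have h2 := h (c - algebraMap R C (counit c)) (by simp)
    rw [map_sub, sub_eq_zero] at h2
    rw [← diff_apply, h2]
    change diff φ ψ (algebraMap R C (counit c)) = algebraMap R A (counit c)
    rw [Algebra.algebraMap_eq_smul_one, map_smul, map_one, Algebra.algebraMap_eq_smul_one]
  rw [mul_inv_eq_one] at h1
  exact BialgHom.coe_toAlgHom_injective (congrArg ofConv h1)

/-- If two bialgebra homomorphisms agree modulo an ideal then their difference is trivial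
modulo this ideal. -/
lemma diff_mem (φ ψ : C →ₐc[R] A) (J : Ideal A) (h : ∀ c, φ c - ψ c ∈ J)
    (c : C) (hc : counit (R := R) c = 0) : diff φ ψ c ∈ J := by
  have h1 : postcomp (Ideal.Quotient.mkₐ R J) (toConv (φ : C →ₐ[R] A)) =
      postcomp (Ideal.Quotient.mkₐ R J) (toConv (ψ : C →ₐ[R] A)) := by
    rw [postcomp_apply, postcomp_apply]
    congr 1
    ext c
    exact Ideal.Quotient.eq.mpr (h c)
  have h2 := map_mul (postcomp (Ideal.Quotient.mkₐ R J)) (toConv (φ : C →ₐ[R] A))
        (toConv (ψ : C →ₐ[R] A))⁻¹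
  rw [h1, ← map_mul, mul_inv_cancel, map_one, postcomp_apply] at h2
  have h3 := congr($(congrArg ofConv h2) c)
  change Ideal.Quotient.mk J (diff φ ψ c) = algebraMap R (A ⧸ J) (counit c) at h3
  rw [hc, map_zero] at h3
  exact Ideal.Quotient.eq_zero_iff_mem.mp h3

end Diff2

end Groth.Agent.Sga3A.Rigidity
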