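import Mathlib.RingTheory.Flat.Basic
import Mathlib.RingTheory.Flat.Localization
import Mathlib.RingTheory.FiniteLength
import Mathlib.RingTheory.HopkinsLevitzki
import Mathlib.RingTheory.Filtration
import Mathlib.RingTheory.LocalRing.ResidueField.Ideal
import Mathlib.LinearAlgebra.TensorProduct.Quotient
import Mathlib.RingTheory.TensorProduct.Maps
import Mathlib.RingTheory.SimpleModule.Basic
import Mathlib.RingTheory.Ideal.Quotient.Noetherian
import Mathlib.RingTheory.Localization.Submodule
import Mathlib.RingTheory.TensorProduct.Free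
import Mathlib.RingTheory.FiniteStability

/-!
# Fibrewise regular elements are regular (local criterion, Noetherian case)
-/

set_option autoImplicit false

open TensorProduct IsLocalRing

namespace Groth.Agent.Sga3A.FibreRegular

universe u v w

section Local

variable {A : Type u} [CommRing A] [IsLocalRing A] {C : Type v} [AddCommGroup C] [Module A C] [Module.Flat A C]

/-- If an endomorphism of a flat module over a local ring is injective modulo the maximal ideal, it stays injective
after tensoring with any module of finite length. -/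
theorem lTensor_injective_of_isFiniteLength (μ : C →ₗ[A] C)
    (hμ : Function.Injective (LinearMap.lTensor (ResidueField A) μ))
    (N : Type w) [AddCommGroup N] [Module A N] (hN : IsFiniteLength A N) :
    Function.Injective (LinearMap.lTensor N μ) := by
  induction hN with
  | of_subsingleton =>
    intro x y _
    exact Subsingleton.elim _ _
  | @of_simple_quotient M _ _ N hsimple _ ih =>
    obtain ⟨I, hI, ⟨e₀⟩⟩ := isSimpleModule_iff_quot_maximal.mp hsimple
    have hIm : I = maximalIdeal A := IsLocalRing.eq_maximalIdeal hI
    subst hIm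
    let e₁ : (A ⧸ maximalIdeal A) ≃ₗ[A] ResidueField A := LinearEquiv.refl A (A ⧸ maximalIdeal A)
    let e : (M ⧸ N) ≃ₗ[A] ResidueField A := e₀.trans e₁
    have hq : Function.Injective (LinearMap.lTensor (M ⧸ N) μ) := by
      intro x y hxy
      apply (TensorProduct.congr e (LinearEquiv.refl A C)).injective
      apply hμ
      have h1 : ∀ z : (M ⧸ N) ⊗[A] C, LinearMap.lTensor (ResidueField A) μ ((TensorProduct.congr e (LinearEquiv.refl A C)) z)
          = (TensorProduct.congr e (LinearEquiv.refl A C)) (LinearMap.lTensor (M ⧸ N) μ z) := by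
        intro z
        induction z with
        | zero => simp
        | add a b ha hb => simp only [map_add, ha, hb]
        | tmul a b => simp
      rw [h1, h1, hxy]
    rw [← LinearMap.ker_eq_bot, LinearMap.ker_eq_bot']
    intro z hz
    have hz1 : LinearMap.rTensor C N.mkQ z = 0 := by
      apply hq
      rw [map_zero, ← LinearMap.comp_apply, LinearMap.lTensor_comp_rTensor, ← LinearMap.rTensor_comp_lTensor,
        LinearMap.comp_apply, hz, map_zero]
    have hex : Function.Exact (LinearMap.rTensor C N.subtype) (LinearMap.rTensor C N.mkQ) :=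
      rTensor_exact C (LinearMap.exact_subtype_mkQ N) N.mkQ_surjective
    obtain ⟨w, rfl⟩ := (hex z).mp hz1
    have hinj : Function.Injective (LinearMap.rTensor C N.subtype) :=
      Module.Flat.rTensor_preserves_injective_linearMap _ N.subtype_injective
    rw [← LinearMap.comp_apply, LinearMap.lTensor_comp_rTensor, ← LinearMap.rTensor_comp_lTensor,
        LinearMap.comp_apply] at hz
    have : LinearMap.lTensor N μ w = 0 := by
      apply hinj
      rw [hz, map_zero]
    have : w = 0 := by
      apply ih
      rw [this, map_zero]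
    rw [this, map_zero]

theorem mem_iInf_pow_of_injective [IsNoetherianRing A] (μ : C →ₗ[A] C)
    (hμ : Function.Injective (LinearMap.lTensor (ResidueField A) μ)) (y : C) (hy : μ y = 0) (n : ℕ) :
    y ∈ (maximalIdeal A ^ n • ⊤ : Submodule A C) := by
  have hlen : IsFiniteLength A (A ⧸ maximalIdeal A ^ n) := by
    rw [isFiniteLength_iff_isNoetherian_isArtinian]
    refine ⟨inferInstance, ?_⟩
    rcases Nat.eq_zero_or_pos n with rfl | hn
    · have : Subsingleton (A ⧸ maximalIdeal A ^ 0) := by
        rw [Ideal.Quotient.subsingleton_iff, pow_zero, Ideal.one_eq_top]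
      infer_instance
    · have hne : maximalIdeal A ^ n ≠ ⊤ := by
        intro h
        have h2 := Ideal.pow_le_self (I := maximalIdeal A) hn.ne'
        rw [h, top_le_iff] at h2
        exact (IsLocalRing.maximalIdeal.isMaximal A).ne_top h2
      have : Nontrivial (A ⧸ maximalIdeal A ^ n) := Ideal.Quotient.nontrivial_iff.mpr hne
      have hloc : IsLocalRing (A ⧸ maximalIdeal A ^ n) :=
        IsLocalRing.of_surjective' (Ideal.Quotient.mk _) Ideal.Quotient.mk_surjective
      have hart : IsArtinianRing (A ⧸ maximalIdeal A ^ n) := by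
        rw [isArtinianRing_iff_isNilpotent_maximalIdeal]
        refine ⟨n, ?_⟩
        have hlocal : IsLocalHom (Ideal.Quotient.mk (maximalIdeal A ^ n)) :=
          Function.Surjective.isLocalHom _ Ideal.Quotient.mk_surjective
        have h1 : maximalIdeal (A ⧸ maximalIdeal A ^ n) ≤ Ideal.map (Ideal.Quotient.mk (maximalIdeal A ^ n)) (maximalIdeal A) := by
          intro x hx
          obtain ⟨y, rfl⟩ := Ideal.Quotient.mk_surjective x
          apply Ideal.mem_map_of_mem
          rw [IsLocalRing.mem_maximalIdeal, mem_nonunits_iff] at hx ⊢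
          exact fun h => hx (h.map _)
        rw [Ideal.zero_eq_bot, eq_bot_iff]
        refine (Ideal.pow_right_mono h1 n).trans ?_
        rw [← Ideal.map_pow, Ideal.map_quotient_self]
      exact isArtinian_of_surjective_algebraMap (R := A ⧸ maximalIdeal A ^ n) Ideal.Quotient.mk_surjective
  have := lTensor_injective_of_isFiniteLength μ hμ _ hlen
  have h0 : (1 : A ⧸ maximalIdeal A ^ n) ⊗ₜ[A] y = 0 := by
    apply this
    rw [LinearMap.lTensor_tmul, hy, TensorProduct.tmul_zero, map_zero]
  have h1 := congrArg (quotTensorEquivQuotSMul C (maximalIdeal A ^ n)) h0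
  rw [quotTensorEquivQuotSMul_mk_one_tmul, map_zero, Submodule.Quotient.mk_eq_zero] at h1
  exact h1

end Local

section Alg

variable {A : Type u} [CommRing A] [IsLocalRing A] [IsNoetherianRing A]
  {C : Type v} [CommRing C] [Algebra A C] [Module.Flat A C] [IsNoetherianRing C]

theorem exists_mem_mul_eq_self (c y : C) (hcy : c * y = 0)
    (hreg : ∀ z : ResidueField A ⊗[A] C, ((1 : ResidueField A) ⊗ₜ[A] c) * z = 0 → z = 0) :
    ∃ r ∈ (maximalIdeal A).map (algebraMap A C), r * y = y := by
  have hμ : Function.Injective (LinearMap.lTensor (ResidueField A) (LinearMap.mulLeft A c)) := by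
    rw [← LinearMap.ker_eq_bot, LinearMap.ker_eq_bot']
    intro z hz
    apply hreg
    rw [← hz]
    induction z with
    | zero => simp
    | add x y hx hy =>
      have h : ∀ z, LinearMap.lTensor (ResidueField A) (LinearMap.mulLeft A c) z = ((1 : ResidueField A) ⊗ₜ[A] c) * z := by
        intro z
        induction z with
        | zero => simp
        | add x y hx hy => rw [map_add, hx, hy, mul_add]
        | tmul x y => simp
      rw [h]
    | tmul x y => simp
  have hmem := mem_iInf_pow_of_injective (LinearMap.mulLeft A c) hμ y hcy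
  have hmem' : y ∈ (⨅ i : ℕ, (maximalIdeal A).map (algebraMap A C) ^ i • ⊤ : Submodule C C) := by
    rw [Submodule.mem_iInf]
    intro i
    have := hmem i
    rw [← Ideal.map_pow, smul_eq_mul, Ideal.mul_top]
    rw [Ideal.smul_top_eq_map] at this
    exact this
  rw [Ideal.mem_iInf_smul_pow_eq_bot_iff] at hmem'
  obtain ⟨⟨r, hr⟩, hr'⟩ := hmem'
  exact ⟨r, hr, hr'⟩

end Alg

section Main

variable (A : Type u) [CommRing A] [IsNoetherianRing A] (B : Type u) [CommRing B] [Algebra A B] [Module.Flat A B]
  [Algebra.FiniteType A B]

omit [IsNoetherianRing A] [Algebra.FiniteType A B] in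
/-- regularity transfers to the residue field -/
theorem regular_residueField (p : Ideal A) [p.IsPrime] (b : B)
    (K : Type u) [Field K] [Algebra A K] (hK : RingHom.ker (algebraMap A K) = p)
    (hreg : ∀ z : K ⊗[A] B, ((1 : K) ⊗ₜ[A] b) * z = 0 → z = 0) (z : p.ResidueField ⊗[A] B)
    (hz : ((1 : p.ResidueField) ⊗ₜ[A] b) * z = 0) : z = 0 := by
  let g : p.ResidueField →ₐ[A] K := Ideal.ResidueField.liftₐ p (Algebra.ofId A K) (by
    intro x hx
    have : x ∈ RingHom.ker (algebraMap A K) := by rw [hK]; exact hx
    exact this) (by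
    intro x hx
    have hx' : x ∉ RingHom.ker (algebraMap A K) := by rw [hK]; exact hx
    rw [RingHom.mem_ker] at hx'
    exact IsUnit.mk0 _ hx')
  let G : p.ResidueField ⊗[A] B →ₐ[A] K ⊗[A] B := Algebra.TensorProduct.map g (AlgHom.id A B)
  have hG : Function.Injective G :=
    Module.Flat.rTensor_preserves_injective_linearMap (M := B) g.toLinearMap g.toRingHom.injective
  apply hG
  rw [map_zero]
  apply hreg
  have := congrArg G hz
  rw [map_mul, map_zero] at this
  simpa [G] using this

omit [IsNoetherianRing A] [Module.Flat A B] [Algebra.FiniteType A B] in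
/-- regularity transfers to the residue field of the localization -/
theorem regular_residueField' (p : Ideal A) [p.IsPrime] (b : B)
    (hreg : ∀ z : p.ResidueField ⊗[A] B, ((1 : p.ResidueField) ⊗ₜ[A] b) * z = 0 → z = 0)
    (z : ResidueField (Localization.AtPrime p) ⊗[Localization.AtPrime p] (Localization.AtPrime p ⊗[A] B))
    (hz : ((1 : ResidueField (Localization.AtPrime p)) ⊗ₜ[Localization.AtPrime p]
      ((1 : Localization.AtPrime p) ⊗ₜ[A] b)) * z = 0) : z = 0 := by
  let E : ResidueField (Localization.AtPrime p) ⊗[Localization.AtPrime p] (Localization.AtPrime p ⊗[A] B)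
      ≃ₐ[ResidueField (Localization.AtPrime p)] ResidueField (Localization.AtPrime p) ⊗[A] B :=
    Algebra.TensorProduct.cancelBaseChange A (Localization.AtPrime p) (ResidueField (Localization.AtPrime p))
      (ResidueField (Localization.AtPrime p)) B
  have h2 := congrArg E hz
  rw [map_mul, map_zero] at h2
  have h3 : E ((1 : ResidueField (Localization.AtPrime p)) ⊗ₜ[Localization.AtPrime p]
      ((1 : Localization.AtPrime p) ⊗ₜ[A] b)) = (1 : ResidueField (Localization.AtPrime p)) ⊗ₜ[A] b := by
    simp only [E, Algebra.TensorProduct.cancelBaseChange_tmul, one_smul]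
  rw [h3] at h2
  have h4 := hreg _ h2
  exact E.injective (by rw [h4, map_zero])

/-- Noetherian case of "fibrewise regular implies regular", stated at a prime `q` of `B` over `p`. -/
theorem exists_notMem_mul_eq_zero (q : Ideal B) [q.IsPrime] (b y : B) (hby : b * y = 0)
    (K : Type u) [Field K] [Algebra A K] (hK : RingHom.ker (algebraMap A K) = q.comap (algebraMap A B))
    (hreg : ∀ z : K ⊗[A] B, ((1 : K) ⊗ₜ[A] b) * z = 0 → z = 0) : ∃ s : B, s ∉ q ∧ s * y = 0 := by
  have hp : (q.comap (algebraMap A B)).IsPrime := Ideal.IsPrime.comap _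
  generalize hpq : q.comap (algebraMap A B) = p at hK hp
  have : IsNoetherianRing (Localization.AtPrime p) := IsLocalization.isNoetherianRing p.primeCompl _ inferInstance
  have hCN : IsNoetherianRing (Localization.AtPrime p ⊗[A] B) :=
    Algebra.FiniteType.isNoetherianRing (Localization.AtPrime p) _
  obtain ⟨r, hr, hry⟩ := exists_mem_mul_eq_self (A := Localization.AtPrime p) (C := Localization.AtPrime p ⊗[A] B)
    (1 ⊗ₜ b) (1 ⊗ₜ y) (by rw [Algebra.TensorProduct.tmul_mul_tmul, hby, TensorProduct.tmul_zero])
    (regular_residueField' A B p b (regular_residueField A B p b K hK hreg))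
  -- map to the localization at q
  have hunit : ∀ x : p.primeCompl, IsUnit ((Algebra.ofId A (Localization.AtPrime q)) x) := by
    intro x
    have hx : algebraMap A B x ∈ q.primeCompl := by
      intro h
      have hx' : (x : A) ∈ q.comap (algebraMap A B) := h
      rw [hpq] at hx'
      exact x.2 hx'
    have := IsLocalization.map_units (Localization.AtPrime q) ⟨_, hx⟩
    rw [Algebra.ofId_apply, IsScalarTower.algebraMap_apply A B]
    exact this
  let ψ₁ : Localization.AtPrime p →ₐ[A] Localization.AtPrime q :=
    IsLocalization.liftAlgHom (M := p.primeCompl) (f := Algebra.ofId A (Localization.AtPrime q)) hunit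
  let ψ : Localization.AtPrime p ⊗[A] B →ₐ[A] Localization.AtPrime q :=
    Algebra.TensorProduct.productMap ψ₁ (IsScalarTower.toAlgHom A B (Localization.AtPrime q))
  have hψr : ψ r ∈ maximalIdeal (Localization.AtPrime q) := by
    have h1 : (maximalIdeal (Localization.AtPrime p)).map (algebraMap (Localization.AtPrime p) (Localization.AtPrime p ⊗[A] B))
        ≤ (maximalIdeal (Localization.AtPrime q)).comap ψ := by
      rw [← Localization.AtPrime.map_eq_maximalIdeal, Ideal.map_map, Ideal.map_le_iff_le_comap]
      intro x hx
      rw [Ideal.mem_comap, Ideal.mem_comap]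
      have h2 : ψ (((algebraMap (Localization.AtPrime p) (Localization.AtPrime p ⊗[A] B)).comp
          (algebraMap A (Localization.AtPrime p))) x) = algebraMap A (Localization.AtPrime q) x := by
        change ψ ((algebraMap A (Localization.AtPrime p) x) ⊗ₜ 1) = _
        simp [ψ]
      rw [h2, IsScalarTower.algebraMap_apply A B, ← Localization.AtPrime.map_eq_maximalIdeal]
      apply Ideal.mem_map_of_mem
      rw [← hpq] at hx
      exact hx
    exact h1 hr
  have hψy : ψ ((1 : Localization.AtPrime p) ⊗ₜ[A] y) = algebraMap B (Localization.AtPrime q) y := by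
    simp [ψ]
  have hy0 : algebraMap B (Localization.AtPrime q) y = 0 := by
    rw [← hψy]
    have h1 : ψ r * ψ ((1 : Localization.AtPrime p) ⊗ₜ[A] y) = ψ ((1 : Localization.AtPrime p) ⊗ₜ[A] y) := by
      rw [← map_mul, hry]
    have h2 : (1 - ψ r) * ψ ((1 : Localization.AtPrime p) ⊗ₜ[A] y) = 0 := by
      rw [sub_mul, one_mul, h1, sub_self]
    have h3 : IsUnit (1 - ψ r) := by
      by_contra h
      have h4 : (1 - ψ r) ∈ maximalIdeal (Localization.AtPrime q) := h
      have h5 := (maximalIdeal (Localization.AtPrime q)).add_mem h4 hψr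
      rw [sub_add_cancel] at h5
      exact (Ideal.ne_top_iff_one _).mp (IsLocalRing.maximalIdeal.isMaximal _).ne_top h5
    exact (h3.mul_right_eq_zero).mp h2
  rw [← map_zero (algebraMap B (Localization.AtPrime q))] at hy0
  obtain ⟨⟨s, hs⟩, hs'⟩ := (IsLocalization.eq_iff_exists q.primeCompl (Localization.AtPrime q)).mp hy0
  exact ⟨s, hs, by simpa using hs'⟩

end Main

end Groth.Agent.Sga3A.FibreRegular
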