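import Groth.Agent.Sga3A.SmoothDescent
import Groth.Agent.Sga3A.FibreRegular
import Groth.Agent.Sga3A.SmoothDomain
import Mathlib.FieldTheory.IsAlgClosed.AlgebraicClosure

/-!
# Elements equal to `1` along a section of a smooth algebra with geometrically connected fibres are regular
-/

set_option autoImplicit false

open TensorProduct

namespace Groth.Agent.Sga3A.SmoothNZD

universe u

/-- Transfer of regularity to the model, for a geometric point `K` over which the fibre is connected. -/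
theorem regular_model {A R : Type u} [CommRing A] [CommRing R] [Algebra A R] {B B₁ : Type u} [CommRing B] [Algebra R B]
    [Algebra.Smooth R B] [CommRing B₁] [Algebra A B₁] (ι : R ⊗[A] B₁ ≃ₐ[R] B)
    (K : Type u) [Field K] [Algebra R K] [Algebra A K] [IsScalarTower A R K]
    (hconn : ConnectedSpace (PrimeSpectrum (K ⊗[R] B)))
    (e : B →ₐ[R] R) (b : B) (hb : e b = 1) (b₁ : B₁) (hb₁ : ι (1 ⊗ₜ b₁) = b)
    (z : K ⊗[A] B₁) (hz : ((1 : K) ⊗ₜ[A] b₁) * z = 0) : z = 0 := by
  let E : K ⊗[R] (R ⊗[A] B₁) ≃ₐ[K] K ⊗[A] B₁ := Algebra.TensorProduct.cancelBaseChange A R K K B₁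
  let E' : K ⊗[R] (R ⊗[A] B₁) ≃ₐ[K] K ⊗[R] B := Algebra.TensorProduct.congr (AlgEquiv.refl (R := K) (A₁ := K)) ι
  have hEb : E' (E.symm ((1 : K) ⊗ₜ[A] b₁)) = (1 : K) ⊗ₜ[R] b := by
    have : E.symm ((1 : K) ⊗ₜ[A] b₁) = (1 : K) ⊗ₜ[R] ((1 : R) ⊗ₜ[A] b₁) := by
      rw [AlgEquiv.symm_apply_eq]
      simp only [E, Algebra.TensorProduct.cancelBaseChange_tmul, one_smul]
    rw [this]
    simp only [E', Algebra.TensorProduct.congr_apply, Algebra.TensorProduct.map_tmul]
    change (1 : K) ⊗ₜ[R] (ι (1 ⊗ₜ[A] b₁)) = _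
    rw [hb₁]
  have h1 : ((1 : K) ⊗ₜ[R] b) * E' (E.symm z) = 0 := by
    rw [← hEb, ← map_mul, ← map_mul, hz, map_zero, map_zero]
  have h2 : ¬ IsNilpotent ((1 : K) ⊗ₜ[R] b) := by
    intro hnil
    let ε : K ⊗[R] B →ₐ[K] K := Algebra.TensorProduct.lift (AlgHom.id K K) ((Algebra.ofId R K).comp e)
      (fun _ _ => Commute.all _ _)
    have h3 : ε ((1 : K) ⊗ₜ[R] b) = 1 := by
      simp [ε, hb]
    have h4 := hnil.map ε
    rw [h3] at h4
    exact not_isNilpotent_one h4
  have h3 := SmoothDomain.nonzerodivisor_of_connected K (K ⊗[R] B) hconn _ h2 _ h1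
  apply E.symm.injective
  apply E'.injective
  rw [h3, map_zero, map_zero]

/-- Local version of the result, at a prime `q'` of `B`, with a geometric point `K` over `q' ∩ R`. -/
theorem exists_notMem (R : Type u) [CommRing R] (B : Type u) [CommRing B] [Algebra R B]
    [Algebra.Smooth R B] (e : B →ₐ[R] R) (b : B) (hb : e b = 1) (y : B) (hy : b * y = 0)
    (q' : Ideal B) [q'.IsPrime] (K : Type u) [Field K] [Algebra R K]
    (hkerR : RingHom.ker (algebraMap R K) = q'.comap (algebraMap R B))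
    (hconn : ConnectedSpace (PrimeSpectrum (K ⊗[R] B))) : ∃ s : B, s ∉ q' ∧ s * y = 0 := by
  classical
  obtain ⟨A, _, _, _, B₁, _, _, _, ι, e₁, hinj, he, hF⟩ := SmoothDescent.exists_model R B e {b, y}
  obtain ⟨b₁, hb₁⟩ := hF b (by simp)
  obtain ⟨y₁, hy₁⟩ := hF y (by simp)
  let f : B₁ →ₐ[A] R ⊗[A] B₁ := Algebra.TensorProduct.includeRight
  have hf : Function.Injective f := Algebra.TensorProduct.includeRight_injective hinj
  have hby₁ : b₁ * y₁ = 0 := by
    apply hf
    apply ι.injective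
    rw [map_mul, map_mul, map_zero, map_zero]
    change ι (1 ⊗ₜ b₁) * ι (1 ⊗ₜ y₁) = 0
    rw [hb₁, hy₁, hy]
  let g : B₁ →+* B := (ι : R ⊗[A] B₁ →+* B).comp (f : B₁ →+* R ⊗[A] B₁)
  have hg : ∀ x, g x = ι (1 ⊗ₜ x) := fun x => rfl
  have hqp : (q'.comap g).IsPrime := Ideal.IsPrime.comap g
  let algAK : Algebra A K := ((algebraMap R K).comp (algebraMap A R)).toAlgebra
  have htower : IsScalarTower A R K := IsScalarTower.of_algebraMap_eq' rfl
  have hker : RingHom.ker (algebraMap A K) = (q'.comap g).comap (algebraMap A B₁) := by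
    ext x
    have h1 : g (algebraMap A B₁ x) = algebraMap R B (algebraMap A R x) := by
      rw [hg, ← ι.commutes]
      congr 1
      rw [Algebra.TensorProduct.algebraMap_apply, Algebra.algebraMap_eq_smul_one, ← TensorProduct.smul_tmul,
        Algebra.smul_def, mul_one]
      rfl
    rw [RingHom.mem_ker, IsScalarTower.algebraMap_apply A R K, ← RingHom.mem_ker, hkerR, Ideal.mem_comap,
      Ideal.mem_comap, Ideal.mem_comap, h1]
  obtain ⟨s, hs, hsy⟩ := FibreRegular.exists_notMem_mul_eq_zero A B₁ (q'.comap g) b₁ y₁ hby₁ K hker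
    (regular_model ι K hconn e b hb b₁ hb₁)
  refine ⟨g s, hs, ?_⟩
  rw [← hy₁, ← hg y₁, ← map_mul, hsy, map_zero]

/-- `B` smooth over `R` with geometrically connected fibres, `e : B → R` a section, `e b = 1`. Then `b` is a
nonzerodivisor. -/
theorem eq_zero_of_mul_eq_zero (R : Type u) [CommRing R] (B : Type u) [CommRing B] [Algebra R B]
    [Algebra.Smooth R B]
    (hconn : ∀ (K : Type u) [Field K] [IsAlgClosed K] [Algebra R K], ConnectedSpace (PrimeSpectrum (K ⊗[R] B)))
    (e : B →ₐ[R] R) (b : B) (hb : e b = 1) (y : B) (hy : b * y = 0) : y = 0 := by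
  let J : Ideal B := Submodule.annihilator (Submodule.span B {y})
  have hJ : ∀ x, x ∈ J ↔ x * y = 0 := by
    intro x
    simp only [J]
    rw [Submodule.mem_annihilator_span_singleton]
    rfl
  by_contra hne
  have hJtop : J ≠ ⊤ := by
    intro h
    apply hne
    have h1 : (1 : B) ∈ J := by rw [h]; trivial
    rw [hJ, one_mul] at h1
    exact h1
  obtain ⟨q', hq', hJq'⟩ := Ideal.exists_le_maximal J hJtop
  have hq'p : q'.IsPrime := hq'.isPrime
  have hp'p : (q'.comap (algebraMap R B)).IsPrime := Ideal.IsPrime.comap _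
  have hkerR : RingHom.ker (algebraMap R (AlgebraicClosure (q'.comap (algebraMap R B)).ResidueField)) =
      q'.comap (algebraMap R B) := by
    ext x
    rw [RingHom.mem_ker, IsScalarTower.algebraMap_apply R (q'.comap (algebraMap R B)).ResidueField
      (AlgebraicClosure (q'.comap (algebraMap R B)).ResidueField),
      map_eq_zero_iff _ (algebraMap (q'.comap (algebraMap R B)).ResidueField _).injective,
      Ideal.algebraMap_residueField_eq_zero]
  obtain ⟨s, hs, hsy⟩ := exists_notMem R B e b hb y hy q'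
    (AlgebraicClosure (q'.comap (algebraMap R B)).ResidueField) hkerR (hconn _)
  exact hs (hJq' ((hJ s).mpr hsy))

end Groth.Agent.Sga3A.SmoothNZD
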