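import Mathlib.RingTheory.Smooth.Flat
import Mathlib.RingTheory.Smooth.IntegralClosure
import Mathlib.RingTheory.MvPowerSeries.Equiv
import Mathlib.RingTheory.FiniteLength
import Mathlib.RingTheory.HopkinsLevitzki
import Mathlib.RingTheory.Filtration

/-!
# Smooth algebras with a section: infinitesimal neighbourhoods are projective

* `projective_quotient_pow`: for `B` formally smooth of finite type over `A` with a section `e : B → A`,
  each `B / (ker e)^n` is a projective `A`-module.
* `one_tmul_eq_zero_iff`: for `M` projective, `1 ⊗ y = 0` in `R' ⊗ M` iff all `f y` die in `R'`.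
-/

set_option autoImplicit false

open TensorProduct

namespace Groth.Agent.Sga3A.SmoothSection

universe u v w

section Projective

variable {A : Type u} [CommRing A] {M : Type v} [AddCommGroup M] [Module A M]

theorem one_tmul_eq_zero_iff [Module.Projective A M] (R' : Type w) [CommRing R'] [Algebra A R'] (y : M) :
    (1 : R') ⊗ₜ[A] y = 0 ↔ ∀ f : M →ₗ[A] A, algebraMap A R' (f y) = 0 := by
  constructor
  · intro h f
    have := congrArg (TensorProduct.rid A R') (congrArg (LinearMap.lTensor R' f) h)
    simpa [Algebra.smul_def] using this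
  · intro h
    obtain ⟨s, hs⟩ := Module.projective_def'.mp (inferInstance : Module.Projective A M)
    have hy : y = (s y).sum fun i a => a • i := by
      conv_lhs => rw [← LinearMap.id_apply (R := A) y, ← hs]
      rfl
    rw [hy, Finsupp.sum, TensorProduct.tmul_sum]
    refine Finset.sum_eq_zero fun i _ => ?_
    rw [TensorProduct.tmul_smul, TensorProduct.smul_tmul', Algebra.smul_def, mul_one]
    have := h (Finsupp.lapply i ∘ₗ s)
    simp only [LinearMap.comp_apply, Finsupp.lapply_apply] at this
    rw [this, TensorProduct.zero_tmul]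

end Projective

section MvPoly

variable (A : Type u) [CommRing A] (σ : Type) [Finite σ]

theorem projective_mvPolynomial_quotient (n : ℕ) :
    Module.Projective A (MvPolynomial σ A ⧸ MvPolynomial.idealOfVars σ A ^ n) := by
  -- the truncation map is a section
  let t : MvPolynomial σ A →ₗ[A] MvPolynomial σ A :=
    { toFun := fun p => MvPowerSeries.truncTotal n (p : MvPowerSeries σ A)
      map_add' := fun p q => by simp
      map_smul' := fun a p => by
        ext x
        by_cases hx : x.degree < n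
        · rw [MvPowerSeries.coeff_truncTotal _ hx]
          simp [MvPowerSeries.coeff_truncTotal _ hx]
        · rw [RingHom.id_apply, MvPolynomial.coeff_smul,
            MvPowerSeries.coeff_truncTotal_eq_zero _ (not_lt.mp hx),
            MvPowerSeries.coeff_truncTotal_eq_zero _ (not_lt.mp hx), smul_zero] }
  have ht : ∀ p ∈ MvPolynomial.idealOfVars σ A ^ n, t p = 0 := by
    intro p hp
    rw [MvPolynomial.mem_pow_idealOfVars_iff'] at hp
    ext x
    by_cases hx : x.degree < n
    · change MvPolynomial.coeff x (MvPowerSeries.truncTotal n (p : MvPowerSeries σ A)) = _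
      rw [MvPowerSeries.coeff_truncTotal _ hx, MvPolynomial.coeff_coe, hp x hx]
      simp
    · change MvPolynomial.coeff x (MvPowerSeries.truncTotal n (p : MvPowerSeries σ A)) = _
      rw [MvPowerSeries.coeff_truncTotal_eq_zero _ (not_lt.mp hx)]
      simp
  let s : (MvPolynomial σ A ⧸ MvPolynomial.idealOfVars σ A ^ n) →ₗ[A] MvPolynomial σ A :=
    Submodule.liftQ ((MvPolynomial.idealOfVars σ A ^ n).restrictScalars A) t
      (fun p hp => ht p hp)
  refine Module.Projective.of_split (M := MvPolynomial σ A) s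
    ((Ideal.Quotient.mkₐ A (MvPolynomial.idealOfVars σ A ^ n)).toLinearMap) ?_
  refine LinearMap.ext fun x => ?_
  obtain ⟨p, rfl⟩ := Ideal.Quotient.mk_surjective x
  change Ideal.Quotient.mk _ (MvPowerSeries.truncTotal n (p : MvPowerSeries σ A)) = Ideal.Quotient.mk _ p
  rw [Ideal.Quotient.mk_eq_mk_iff_sub_mem, MvPolynomial.mem_pow_idealOfVars_iff']
  intro x hx
  rw [MvPolynomial.coeff_sub, MvPowerSeries.coeff_truncTotal _ hx, MvPolynomial.coeff_coe, sub_self]

end MvPoly

section Retract

variable {A : Type u} [CommRing A] {B : Type v} [CommRing B] [Algebra A B]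

/-- A surjection from a polynomial ring adapted to the section. -/
theorem exists_adapted_surjection [Algebra.FiniteType A B] (e : B →ₐ[A] A) :
    ∃ (N : ℕ) (π : MvPolynomial (Fin N) A →ₐ[A] B), Function.Surjective π ∧
      ∀ p, e (π p) = MvPolynomial.aeval (fun _ => (0 : A)) p := by
  obtain ⟨N, g, hg⟩ := (Algebra.FiniteType.iff_quotient_mvPolynomial'' (R := A) (S := B)).mp inferInstance
  let τ : MvPolynomial (Fin N) A →ₐ[A] MvPolynomial (Fin N) A :=
    MvPolynomial.aeval (fun i => MvPolynomial.X i - MvPolynomial.C (e (g (MvPolynomial.X i))))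
  have hτ : Function.Surjective τ := by
    let τ' : MvPolynomial (Fin N) A →ₐ[A] MvPolynomial (Fin N) A :=
      MvPolynomial.aeval (fun i => MvPolynomial.X i + MvPolynomial.C (e (g (MvPolynomial.X i))))
    have : τ.comp τ' = AlgHom.id A _ := by
      ext i
      simp [τ, τ', MvPolynomial.algebraMap_eq]
    intro p
    exact ⟨τ' p, DFunLike.congr_fun this p⟩
  refine ⟨N, g.comp τ, hg.comp hτ, ?_⟩
  intro p
  have : e.comp (g.comp τ) = MvPolynomial.aeval (fun _ => (0 : A)) := by
    ext i
    simp [τ]
  exact DFunLike.congr_fun this p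

/-- The infinitesimal neighbourhoods of a section of a smooth algebra are projective modules over the base. -/
theorem projective_quotient_pow [Algebra.FormallySmooth A B] [Algebra.FiniteType A B] (e : B →ₐ[A] A) (n : ℕ) :
    Module.Projective A (B ⧸ RingHom.ker e ^ (n + 1)) := by
  obtain ⟨N, π, hπ, heπ⟩ := exists_adapted_surjection e
  let I : Ideal (MvPolynomial (Fin N) A) := MvPolynomial.idealOfVars (Fin N) A
  let m : Ideal B := RingHom.ker e
  have hI : ∀ p, p ∈ I ↔ π p ∈ m := by
    intro p
    have h1 : p ∈ I ↔ MvPolynomial.coeff 0 p = 0 := by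
      have := MvPolynomial.mem_pow_idealOfVars_iff' (σ := Fin N) 1 p
      rw [pow_one] at this
      rw [this]
      constructor
      · intro h
        exact h 0 (by simp)
      · intro h x hx
        have : x = 0 := by
          rw [← Finsupp.degree_eq_zero_iff]
          omega
        rw [this, h]
    rw [h1, RingHom.mem_ker]
    rw [heπ p]
    have : MvPolynomial.aeval (fun _ => (0 : A)) p = MvPolynomial.coeff 0 p := by
      rw [← MvPolynomial.constantCoeff_eq]
      simp
    rw [this]
  have hle : I ^ (n + 1) ≤ (m ^ (n + 1)).comap π := by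
    rw [← Ideal.map_le_iff_le_comap, Ideal.map_pow]
    apply Ideal.pow_right_mono
    rw [Ideal.map_le_iff_le_comap]
    intro p hp
    exact (hI p).mp hp
  let πn : (MvPolynomial (Fin N) A ⧸ I ^ (n + 1)) →ₐ[A] (B ⧸ m ^ (n + 1)) :=
    Ideal.quotientMapₐ (m ^ (n + 1)) π hle
  have hπn : Function.Surjective πn := by
    intro x
    obtain ⟨b, rfl⟩ := Ideal.Quotient.mk_surjective x
    obtain ⟨p, rfl⟩ := hπ b
    exact ⟨Ideal.Quotient.mk _ p, rfl⟩
  have hmem : ∀ y : MvPolynomial (Fin N) A ⧸ I ^ (n + 1), πn y ∈ Ideal.map (Ideal.Quotient.mk (m ^ (n + 1))) m →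
      y ∈ Ideal.map (Ideal.Quotient.mk (I ^ (n + 1))) I := by
    intro y hy
    obtain ⟨p, rfl⟩ := Ideal.Quotient.mk_surjective y
    apply Ideal.mem_map_of_mem
    rw [hI]
    change Ideal.Quotient.mk (m ^ (n + 1)) (π p) ∈ _ at hy
    rw [Ideal.mem_quotient_iff_mem (Ideal.pow_le_self (Nat.succ_ne_zero n))] at hy
    exact hy
  have hpow : Ideal.map (Ideal.Quotient.mk (I ^ (n + 1))) I ^ (n + 1) = ⊥ := by
    rw [← Ideal.map_pow, Ideal.map_quotient_self]
  have hnil : IsNilpotent (RingHom.ker (πn : (MvPolynomial (Fin N) A ⧸ I ^ (n + 1)) →+* (B ⧸ m ^ (n + 1)))) := by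
    refine ⟨n + 1, ?_⟩
    rw [Ideal.zero_eq_bot, eq_bot_iff, ← hpow]
    apply Ideal.pow_right_mono
    intro y hy
    apply hmem
    rw [RingHom.mem_ker] at hy
    change πn y = 0 at hy
    rw [hy]
    exact Ideal.zero_mem _
  let σ : B →ₐ[A] (MvPolynomial (Fin N) A ⧸ I ^ (n + 1)) :=
    Algebra.FormallySmooth.liftOfSurjective (Ideal.Quotient.mkₐ A (m ^ (n + 1))) πn hπn hnil
  have hσ : ∀ b, πn (σ b) = Ideal.Quotient.mk (m ^ (n + 1)) b := by
    intro b
    exact Algebra.FormallySmooth.liftOfSurjective_apply (Ideal.Quotient.mkₐ A (m ^ (n + 1))) πn hπn hnil b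
  have hσm : m ^ (n + 1) ≤ RingHom.ker σ := by
    have h1 : m ≤ (Ideal.map (Ideal.Quotient.mk (I ^ (n + 1))) I).comap σ := by
      intro b hb
      rw [Ideal.mem_comap]
      apply hmem
      rw [hσ]
      exact Ideal.mem_map_of_mem _ hb
    intro b hb
    rw [RingHom.mem_ker, ← Ideal.mem_bot, ← hpow]
    have h2 : m ^ (n + 1) ≤ (Ideal.map (Ideal.Quotient.mk (I ^ (n + 1))) I ^ (n + 1)).comap σ :=
      (Ideal.pow_right_mono h1 _).trans (Ideal.le_comap_pow _ _)
    exact h2 hb
  let σn : (B ⧸ m ^ (n + 1)) →ₐ[A] (MvPolynomial (Fin N) A ⧸ I ^ (n + 1)) :=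
    Ideal.Quotient.liftₐ (m ^ (n + 1)) σ (fun b hb => hσm hb)
  have := projective_mvPolynomial_quotient A (Fin N) (n + 1)
  refine Module.Projective.of_split (M := MvPolynomial (Fin N) A ⧸ I ^ (n + 1)) σn.toLinearMap
    πn.toLinearMap ?_
  refine LinearMap.ext fun x => ?_
  obtain ⟨b, rfl⟩ := Ideal.Quotient.mk_surjective x
  exact hσ b

/-- For a projective module `M` and a set `Y` of elements, there is an ideal `K` of `A` such that
`Y` dies in `R' ⊗ M` iff `K` dies in `R'`. -/
theorem exists_ideal_of_projective {M : Type v} [AddCommGroup M] [Module A M] [Module.Projective A M] (Y : Set M) :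
    ∃ K : Ideal A, ∀ (R' : Type w) [CommRing R'] [Algebra A R'],
      (∀ y ∈ Y, (1 : R') ⊗ₜ[A] y = 0) ↔ K ≤ RingHom.ker (algebraMap A R') := by
  refine ⟨Ideal.span {a | ∃ y ∈ Y, ∃ f : M →ₗ[A] A, f y = a}, ?_⟩
  intro R' _ _
  rw [Ideal.span_le]
  constructor
  · rintro h _ ⟨y, hy, f, rfl⟩
    exact (one_tmul_eq_zero_iff R' y).mp (h y hy) f
  · intro h y hy
    rw [one_tmul_eq_zero_iff R' y]
    intro f
    exact h ⟨y, hy, f, rfl⟩

end Retract

end Groth.Agent.Sga3A.SmoothSection
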