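import Groth.Prelude.Def_SGA3b
import Mathlib.RingTheory.Smooth.Quotient
import Mathlib.RingTheory.Bialgebra.TensorProduct
import Mathlib.RingTheory.Bialgebra.MonoidAlgebra
import Mathlib.RingTheory.HopfAlgebra.GroupLike
import Mathlib.RingTheory.HopfAlgebra.TensorProduct
import Mathlib.RingTheory.Ideal.Quotient.Nilpotent
import Mathlib.LinearAlgebra.TensorProduct.Quotient

/-!
# Lifting group-like elements along nilpotent ideals (flat Hopf algebras)

`S → T` a surjection of rings with nilpotent kernel, `B` a flat bialgebra over `S` with `T ⊗ B`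
diagonalisable, `T ⊗ B ≅ T[M]`.  Then every `m ∈ M` lifts uniquely to a group-like element of `B`
and `B ≅ S[M]` compatibly (infinitesimal rigidity of diagonalisable groups, SGA 3 IX 3, X 2.3).
-/

set_option autoImplicit false
universe u

open TensorProduct

namespace Groth.Agent.Sga3A.LiftGL

/-- A linear map into a flat module which is bijective modulo a nilpotent ideal is bijective. -/
theorem bijective_of_nilpotent {S : Type*} [CommRing S] {I : Ideal S} (hI : IsNilpotent I)
    {P N : Type*} [AddCommGroup P] [AddCommGroup N] [Module S P] [Module S N] [Module.Flat S N]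
    (f : P →ₗ[S] N) (h1 : ∀ n : N, ∃ p : P, n - f p ∈ I • (⊤ : Submodule S N))
    (h2 : ∀ p : P, f p ∈ I • (⊤ : Submodule S N) → p ∈ I • (⊤ : Submodule S P)) :
    Function.Bijective f := by
  obtain ⟨k, hk⟩ := hI
  have hsurj : Function.Surjective f := by
    have key : ∀ n : ℕ, (⊤ : Submodule S N) ≤ LinearMap.range f ⊔ (I ^ n) • ⊤ := by
      intro n
      induction n with
      | zero => simp
      | succ n ih =>
        have h0 : (⊤ : Submodule S N) ≤ LinearMap.range f ⊔ I • ⊤ := by
          intro x _
          obtain ⟨p, hp⟩ := h1 x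
          have : x = f p + (x - f p) := by abel
          rw [this]
          exact Submodule.add_mem_sup ⟨p, rfl⟩ hp
        calc (⊤ : Submodule S N) ≤ LinearMap.range f ⊔ (I ^ n) • ⊤ := ih
          _ ≤ LinearMap.range f ⊔ (I ^ n) • (LinearMap.range f ⊔ I • ⊤) := by
            gcongr
          _ ≤ LinearMap.range f ⊔ (I ^ (n + 1)) • ⊤ := by
            rw [Submodule.smul_sup, ← sup_assoc]
            refine sup_le_sup ?_ ?_
            · exact sup_le le_rfl Submodule.smul_le_right
            · rw [← Submodule.mul_smul, pow_succ]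
    have := key k
    rw [hk] at this
    rw [← LinearMap.range_eq_top]
    simpa using this
  refine ⟨?_, hsurj⟩
  rw [← LinearMap.ker_eq_bot]
  have hle : LinearMap.ker f ≤ I • LinearMap.ker f := by
    rw [← LinearMap.ker_inf_smul_top_eq_smul_of_flat I f hsurj]
    refine le_inf le_rfl ?_
    intro x hx
    exact h2 x (by rw [LinearMap.mem_ker.mp hx]; exact zero_mem _)
  have key : ∀ n : ℕ, LinearMap.ker f ≤ (I ^ n) • LinearMap.ker f := by
    intro n
    induction n with
    | zero => simp
    | succ n ih =>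
      calc LinearMap.ker f ≤ (I ^ n) • LinearMap.ker f := ih
        _ ≤ (I ^ n) • (I • LinearMap.ker f) := by gcongr
        _ = (I ^ (n + 1)) • LinearMap.ker f := by rw [← Submodule.mul_smul, pow_succ]
  have := key k
  rw [hk] at this
  simpa using this

section

variable {S : Type*} [CommRing S] {T : Type*} [CommRing T] [Algebra S T]

/-- `1 ⊗ n = 0` in `T ⊗ N` iff `n ∈ ker (S → T) • N`, for `S → T` surjective. -/
theorem one_tmul_eq_zero_iff (hT : Function.Surjective (algebraMap S T))
    {N : Type*} [AddCommGroup N] [Module S N] (n : N) :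
    (1 : T) ⊗ₜ[S] n = 0 ↔ n ∈ RingHom.ker (algebraMap S T) • (⊤ : Submodule S N) := by
  set I := RingHom.ker (algebraMap S T) with hI
  let ψ : (S ⧸ I) ≃ₐ[S] T :=
    (Ideal.quotientKerAlgEquivOfSurjective (f := Algebra.ofId S T) hT)
  have h1 : (LinearEquiv.rTensor N ψ.toLinearEquiv) ((1 : S ⧸ I) ⊗ₜ[S] n) = (1 : T) ⊗ₜ[S] n := by
    simp [LinearEquiv.rTensor_tmul]
  rw [← h1, LinearEquiv.map_eq_zero_iff, ← LinearMap.ker_tensorProductMk]
  rfl

variable (hT : Function.Surjective (algebraMap S T))
  {B : Type*} [CommRing B] [Bialgebra S B]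
  {M : Type*} [CommMonoid M] (e : (T ⊗[S] B) ≃ₐc[T] MonoidAlgebra T M)

/-- The reduction map `B → T[M]` given by an isomorphism `T ⊗ B ≅ T[M]`. -/
noncomputable def red : B →ₐ[S] MonoidAlgebra T M :=
  ((AlgHomClass.toAlgHom e).restrictScalars S).comp
    (Algebra.TensorProduct.includeRight : B →ₐ[S] T ⊗[S] B)

theorem red_apply (b : B) : red e b = e (1 ⊗ₜ b) := rfl

theorem red_smul (c : S) (b : B) : red e (c • b) = algebraMap S T c • red e b := by
  rw [map_smul, algebraMap_smul]

include hT in
theorem red_eq_zero_iff (b : B) :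
    red e b = 0 ↔ b ∈ RingHom.ker (algebraMap S T) • (⊤ : Submodule S B) := by
  rw [red_apply]
  have h1 : e (1 ⊗ₜ[S] b) = 0 ↔ (1 : T) ⊗ₜ[S] b = 0 := EmbeddingLike.map_eq_zero_iff
  rw [h1, one_tmul_eq_zero_iff hT]

include hT in
theorem red_surjective : Function.Surjective (red e) := by
  intro x
  obtain ⟨y, rfl⟩ := EquivLike.surjective e x
  induction y using TensorProduct.induction_on with
  | zero => exact ⟨0, by simp⟩
  | tmul s b =>
    obtain ⟨s, rfl⟩ := hT s
    refine ⟨s • b, ?_⟩
    rw [red_apply, ← TensorProduct.smul_tmul]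
    congr 2
    rw [Algebra.smul_def, mul_one]
  | add x y hx hy =>
    obtain ⟨a, ha⟩ := hx
    obtain ⟨b, hb⟩ := hy
    exact ⟨a + b, by rw [map_add, ha, hb, map_add]⟩

theorem counit_red (b : B) :
    Coalgebra.counit (R := T) (red e b) = algebraMap S T (Coalgebra.counit (R := S) b) := by
  rw [red_apply, CoalgHomClass.counit_comp_apply, TensorProduct.counit_tmul, Bialgebra.counit_one,
    Algebra.smul_def, mul_one]

variable (T M) in
/-- `x ⊗ y ↦ (coefficient of m in x) • y`. -/
noncomputable def contr (m : M) : MonoidAlgebra T M ⊗[T] MonoidAlgebra T M →ₗ[T]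
    MonoidAlgebra T M :=
  TensorProduct.lift ((LinearMap.lsmul T (MonoidAlgebra T M)).comp
    ((Finsupp.lapply m).comp (MonoidAlgebra.coeffLinearEquiv T).toLinearMap))

theorem contr_tmul (m : M) (x y : MonoidAlgebra T M) :
    contr T M m (x ⊗ₜ y) = x.coeff m • y := rfl

theorem contr_comul (m : M) (x : MonoidAlgebra T M) :
    contr T M m (Coalgebra.comul (R := T) x) = MonoidAlgebra.single m (x.coeff m) := by
  classical
  induction x using MonoidAlgebra.induction_linear with
  | zero => simp
  | add x y hx hy => rw [map_add, map_add, hx, hy, MonoidAlgebra.coeff_add]; simp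
  | single n r =>
    rw [MonoidAlgebra.comul_single, CommSemiring.comul_apply, TensorProduct.map_tmul, contr_tmul]
    simp only [MonoidAlgebra.lsingle_apply, MonoidAlgebra.coeff_single, MonoidAlgebra.smul_single,
      smul_eq_mul]
    by_cases h : n = m
    · subst h; simp
    · simp [Finsupp.single_eq_of_ne (Ne.symm h)]

/-- `x ⊗ y ↦ red x ⊗ red y`. -/
noncomputable def redTen : B ⊗[S] B →ₗ[S] MonoidAlgebra T M ⊗[T] MonoidAlgebra T M :=
  TensorProduct.lift
    (LinearMap.mk₂ S (fun x y => red e x ⊗ₜ[T] red e y)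
      (fun x x' y => by rw [map_add, TensorProduct.add_tmul])
      (fun c x y => by rw [map_smul, TensorProduct.smul_tmul'])
      (fun x y y' => by rw [map_add, TensorProduct.tmul_add])
      (fun c x y => by rw [map_smul, TensorProduct.tmul_smul]))

theorem redTen_tmul (x y : B) : redTen e (x ⊗ₜ y) = red e x ⊗ₜ red e y := rfl

theorem redTen_eq (t : B ⊗[S] B) :
    redTen e t = TensorProduct.map (e : T ⊗[S] B →ₗ[T] MonoidAlgebra T M)
      (e : T ⊗[S] B →ₗ[T] MonoidAlgebra T M)
      (AlgebraTensorModule.tensorTensorTensorComm S T S T T T B B ((1 ⊗ₜ 1) ⊗ₜ t)) := by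
  induction t using TensorProduct.induction_on with
  | zero => simp
  | tmul x y => rfl
  | add x y hx hy => rw [map_add, hx, hy, TensorProduct.tmul_add, map_add, map_add]

theorem redTen_comul (b : B) :
    redTen e (Coalgebra.comul (R := S) b) = Coalgebra.comul (R := T) (red e b) := by
  rw [redTen_eq, red_apply, ← CoalgHomClass.map_comp_comul_apply, TensorProduct.comul_tmul,
    Bialgebra.comul_one, Algebra.TensorProduct.one_def]
  rfl

/-- The key identity modulo `I`: contracting `Δ b` with the coefficient functional of `m`. -/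
theorem contr_redTen_comul (m : M) (b : B) :
    contr T M m (redTen e (Coalgebra.comul (R := S) b)) =
      MonoidAlgebra.single m ((red e b).coeff m) := by
  rw [redTen_comul, contr_comul]

include hT in
theorem redTen_eq_zero_iff (t : B ⊗[S] B) :
    redTen e t = 0 ↔ t ∈ RingHom.ker (algebraMap S T) • (⊤ : Submodule S (B ⊗[S] B)) := by
  have hinj : Function.Injective (TensorProduct.map (e : T ⊗[S] B →ₗ[T] MonoidAlgebra T M)
      (e : T ⊗[S] B →ₗ[T] MonoidAlgebra T M)) :=
    (TensorProduct.congr (e : T ⊗[S] B ≃ₗ[T] MonoidAlgebra T M)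
      (e : T ⊗[S] B ≃ₗ[T] MonoidAlgebra T M)).injective
  rw [redTen_eq, map_eq_zero_iff _ hinj, LinearEquiv.map_eq_zero_iff]
  have h2 : (TensorProduct.AlgebraTensorModule.congr (TensorProduct.lid T T)
      (LinearEquiv.refl S (B ⊗[S] B))) ((1 : T) ⊗ₜ[T] (1 : T) ⊗ₜ[S] t) = (1 : T) ⊗ₜ[S] t := by
    simp
  rw [← one_tmul_eq_zero_iff hT, ← h2, LinearEquiv.map_eq_zero_iff]

theorem coeff_red_linearCombination (g : M → B)
    (hg : ∀ m, red e (g m) = MonoidAlgebra.single m 1) (c : M →₀ S) (m : M) :
    (red e (Finsupp.linearCombination S g c)).coeff m = algebraMap S T (c m) := by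
  classical
  induction c using Finsupp.induction_linear with
  | zero => simp
  | add c d hc hd => rw [map_add, map_add, MonoidAlgebra.coeff_add, Finsupp.add_apply, hc, hd,
      Finsupp.add_apply, map_add]
  | single n r =>
    rw [Finsupp.linearCombination_single, red_smul, hg]
    by_cases h : n = m
    · subst h; simp [Algebra.smul_def]
    · simp [Finsupp.single_eq_of_ne (Ne.symm h)]

include hT in
/-- Any family of lifts of the basis `M` of `T[M]` is a basis of `B` (flat, nilpotent kernel). -/
theorem linearCombination_bijective [Module.Flat S B]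
    (hn : IsNilpotent (RingHom.ker (algebraMap S T))) (g : M → B)
    (hg : ∀ m, red e (g m) = MonoidAlgebra.single m 1) :
    Function.Bijective (Finsupp.linearCombination S g) := by
  classical
  have hcoeff := coeff_red_linearCombination e g hg
  refine bijective_of_nilpotent hn _ ?_ ?_
  · intro n
    choose σ hσ using hT
    have hc : ∃ c : M →₀ S, ∀ m, algebraMap S T (c m) = (red e n).coeff m := by
      refine ⟨Finsupp.onFinset (red e n).coeff.support
        (fun m => if (red e n).coeff m = 0 then 0 else σ ((red e n).coeff m)) ?_, ?_⟩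
      · intro m hm
        rw [Finsupp.mem_support_iff]
        intro h
        simp [h] at hm
      · intro m
        simp only [Finsupp.onFinset_apply]
        split_ifs with h
        · rw [h, map_zero]
        · rw [hσ]
    obtain ⟨c, hc⟩ := hc
    refine ⟨c, ?_⟩
    rw [← red_eq_zero_iff (fun t => ⟨σ t, hσ t⟩) e]
    ext m
    rw [map_sub, MonoidAlgebra.coeff_sub, Finsupp.sub_apply, hcoeff, hc]
    simp
  · intro c hc
    rw [← red_eq_zero_iff hT e] at hc
    have h0 : ∀ m, c m ∈ RingHom.ker (algebraMap S T) := by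
      intro m
      rw [RingHom.mem_ker, ← hcoeff, hc]
      simp
    rw [← Finsupp.sum_single c]
    refine Submodule.sum_mem _ (fun m _ => ?_)
    have : Finsupp.single m (c m) = (c m) • Finsupp.single m (1 : S) := by simp
    rw [this]
    exact Submodule.smul_mem_smul (h0 m) Submodule.mem_top

include hT in
/-- The coefficient functionals lift to `B`. -/
theorem exists_functional [Module.Flat S B]
    (hn : IsNilpotent (RingHom.ker (algebraMap S T))) (m : M) :
    ∃ (E : B →ₗ[S] S) (a : B), E a = 1 ∧ red e a = MonoidAlgebra.single m 1 ∧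
      ∀ x, algebraMap S T (E x) = (red e x).coeff m := by
  classical
  choose g hg using fun m : M => red_surjective hT e (MonoidAlgebra.single m 1)
  let b := LinearEquiv.ofBijective _ (linearCombination_bijective hT e hn g hg)
  refine ⟨(Finsupp.lapply m).comp b.symm.toLinearMap, g m, ?_, hg m, ?_⟩
  · have : b.symm (g m) = Finsupp.single m 1 := by
      rw [LinearEquiv.symm_apply_eq]
      simp [b]
    simp [this]
  · intro x
    obtain ⟨c, rfl⟩ := b.surjective x
    simp only [LinearMap.coe_comp, LinearEquiv.coe_coe, Function.comp_apply,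
      LinearEquiv.symm_apply_apply, Finsupp.lapply_apply]
    exact (coeff_red_linearCombination e g hg c m).symm

/-- Contraction of the first factor with a functional. -/
noncomputable def con (E : B →ₗ[S] S) : B ⊗[S] B →ₗ[S] B :=
  TensorProduct.lift ((LinearMap.lsmul S B).comp E)

theorem con_tmul (E : B →ₗ[S] S) (x y : B) : con E (x ⊗ₜ y) = E x • y := rfl

theorem red_con (E : B →ₗ[S] S) (m : M) (hE : ∀ x, algebraMap S T (E x) = (red e x).coeff m)
    (t : B ⊗[S] B) : red e (con E t) = contr T M m (redTen e t) := by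
  induction t using TensorProduct.induction_on with
  | zero => simp
  | tmul x y => rw [con_tmul, red_smul, hE, redTen_tmul, contr_tmul]
  | add x y hx hy => rw [map_add, map_add, hx, hy, map_add, map_add]

/-- `Δ (E ⊗ 1) t = (E ⊗ 1 ⊗ 1) (1 ⊗ Δ) t`. -/
theorem comul_con (E : B →ₗ[S] S) (t : B ⊗[S] B) :
    Coalgebra.comul (R := S) (con E t) =
      (con E).rTensor B ((TensorProduct.assoc S B B B).symm
        ((Coalgebra.comul (R := S) (A := B)).lTensor B t)) := by
  induction t using TensorProduct.induction_on with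
  | zero => simp
  | tmul x y =>
    rw [con_tmul, map_smul, LinearMap.lTensor_tmul]
    generalize (Coalgebra.comul (R := S) y) = s
    induction s using TensorProduct.induction_on with
    | zero => simp
    | tmul u v =>
      rw [TensorProduct.assoc_symm_tmul, LinearMap.rTensor_tmul, con_tmul,
        TensorProduct.smul_tmul']
    | add u v hu hv => rw [smul_add, hu, hv, TensorProduct.tmul_add, map_add, map_add]
  | add x y hx hy => rw [map_add, map_add, hx, hy, map_add, map_add, map_add]

include hT in
/-- First-order information: `i • (E ⊗ 1) Δ x = i E(x) • a` for `i` in the (square-zero) kernel. -/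
theorem smul_con_comul (hsq : RingHom.ker (algebraMap S T) * RingHom.ker (algebraMap S T) = ⊥)
    (E : B →ₗ[S] S) (m : M) (hE : ∀ x, algebraMap S T (E x) = (red e x).coeff m)
    (a : B) (ha : red e a = MonoidAlgebra.single m 1) (i : S)
    (hi : i ∈ RingHom.ker (algebraMap S T)) (x : B) :
    i • con E (Coalgebra.comul (R := S) x) = (i * E x) • a := by
  have h1 : con E (Coalgebra.comul (R := S) x) - E x • a ∈
      RingHom.ker (algebraMap S T) • (⊤ : Submodule S B) := by
    rw [← red_eq_zero_iff hT e, map_sub, red_con e E m hE, contr_redTen_comul, red_smul, ha, hE]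
    simp
  have h2 : i • (con E (Coalgebra.comul (R := S) x) - E x • a) = 0 := by
    have : i • (con E (Coalgebra.comul (R := S) x) - E x • a) ∈
        RingHom.ker (algebraMap S T) • (RingHom.ker (algebraMap S T) • (⊤ : Submodule S B)) :=
      Submodule.smul_mem_smul hi h1
    rw [← Submodule.mul_smul, hsq] at this
    simpa using this
  rw [smul_sub, sub_eq_zero] at h2
  rw [h2, mul_smul]

/-- If `I * I = ⊥` then `x ⊗ y = 0` for `x, y ∈ I B`. -/
theorem tmul_eq_zero_of_mem {I : Ideal S} (hsq : I * I = ⊥) {x y : B}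
    (hx : x ∈ I • (⊤ : Submodule S B)) (hy : y ∈ I • (⊤ : Submodule S B)) :
    x ⊗ₜ[S] y = 0 := by
  induction hx using Submodule.smul_induction_on' with
  | add x _ y' _ h1 h2 => rw [TensorProduct.add_tmul, h1, h2, add_zero]
  | smul i hi x _ =>
    rw [TensorProduct.smul_tmul]
    have : i • y ∈ I • (I • (⊤ : Submodule S B)) := Submodule.smul_mem_smul hi hy
    rw [← Submodule.mul_smul, hsq] at this
    have h0 : i • y = 0 := by simpa using this
    rw [h0, TensorProduct.tmul_zero]

include hT in
/-- Existence of group-like lifts, square-zero case. -/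
theorem exists_lift_sq [Module.Flat S B]
    (hsq : RingHom.ker (algebraMap S T) * RingHom.ker (algebraMap S T) = ⊥) (m : M) :
    ∃ g : B, IsGroupLikeElem S g ∧ red e g = MonoidAlgebra.single m 1 := by
  set I := RingHom.ker (algebraMap S T) with hI
  have hn : IsNilpotent I := ⟨2, by rw [pow_two, hsq]; rfl⟩
  obtain ⟨E, a, hEa, ha, hE⟩ := exists_functional hT e hn m
  set g := con E (Coalgebra.comul (R := S) a) with hg
  have hred : red e g = MonoidAlgebra.single m 1 := by
    rw [hg, red_con e E m hE, contr_redTen_comul, ha]; simp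
  set β := Coalgebra.comul (R := S) a - a ⊗ₜ[S] a with hβ
  have hβI : β ∈ I • (⊤ : Submodule S (B ⊗[S] B)) := by
    rw [← redTen_eq_zero_iff hT e, hβ, map_sub, redTen_comul, redTen_tmul, ha]
    simp
  have hga : con E β = g - a := by
    rw [hβ, map_sub, con_tmul, hEa, one_smul]
  have hgaI : g - a ∈ I • (⊤ : Submodule S B) := by
    rw [← red_eq_zero_iff hT e, map_sub, hred, ha, sub_self]
  -- `Δ g = ((E ⊗ 1) Δ ⊗ 1) (Δ a)`
  have h1 : Coalgebra.comul (R := S) g =
      ((con E).comp (Coalgebra.comul (R := S) (A := B))).rTensor B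
        (Coalgebra.comul (R := S) a) := by
    rw [hg, comul_con, ← Coalgebra.coassoc_apply, LinearEquiv.symm_apply_apply,
      ← LinearMap.comp_apply, ← LinearMap.rTensor_comp]
  have h2 : ∀ t ∈ I • (⊤ : Submodule S (B ⊗[S] B)),
      ((con E).comp (Coalgebra.comul (R := S) (A := B))).rTensor B t = a ⊗ₜ con E t := by
    intro t ht
    induction ht using Submodule.smul_induction_on' with
    | add x _ y' _ h1 h2 => rw [map_add, h1, h2, map_add, TensorProduct.tmul_add]
    | smul i hi x _ =>
      induction x using TensorProduct.induction_on with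
      | zero => simp
      | add x y hx hy =>
        rw [smul_add, map_add, hx Submodule.mem_top, hy Submodule.mem_top, map_add,
          TensorProduct.tmul_add]
      | tmul x y =>
        rw [map_smul, LinearMap.rTensor_tmul, TensorProduct.smul_tmul', LinearMap.comp_apply,
          smul_con_comul hT e hsq E m hE a ha i hi, map_smul, con_tmul, TensorProduct.smul_tmul,
          smul_smul]
  have h3 : Coalgebra.comul (R := S) g = g ⊗ₜ a + a ⊗ₜ (g - a) := by
    have : Coalgebra.comul (R := S) a = a ⊗ₜ[S] a + β := by rw [hβ]; abel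
    rw [h1, this, map_add, h2 β hβI, hga, LinearMap.rTensor_tmul, LinearMap.comp_apply, ← hg]
  have h4 : Coalgebra.comul (R := S) g = g ⊗ₜ g := by
    have h5 : (g - a) ⊗ₜ[S] (g - a) = 0 := tmul_eq_zero_of_mem hsq hgaI hgaI
    rw [TensorProduct.sub_tmul] at h5
    rw [h3]
    have h6 : g ⊗ₜ[S] g = g ⊗ₜ[S] a + g ⊗ₜ[S] (g - a) := by
      rw [← TensorProduct.tmul_add]; congr 1; abel
    rw [h6]
    congr 1
    exact (sub_eq_zero.mp h5).symm
  -- the counit
  set c := Coalgebra.counit (R := S) g with hc
  have h7 : c • g = g := by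
    have := Coalgebra.rTensor_counit_comul (R := S) g
    rw [h4, LinearMap.rTensor_tmul] at this
    have h8 := congrArg (TensorProduct.lid S B) this
    simpa using h8
  have h8 : c * c = c := by
    have := congrArg (Coalgebra.counit (R := S)) h7
    rwa [map_smul, smul_eq_mul, ← hc] at this
  have h9 : c - 1 ∈ I := by
    rw [hI, RingHom.mem_ker, map_sub, ← counit_red e g, hred, MonoidAlgebra.counit_single]
    simp
  have h10 : (c - 1) * (c - 1) = 0 := by
    have := Ideal.mul_mem_mul h9 h9
    rw [hsq] at this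
    simpa using this
  have h11 : c = 1 := by
    have : (c - 1) * (c - 1) = 1 - c := by
      have : (c - 1) * (c - 1) = c * c - c - c + 1 := by ring
      rw [this, h8]; ring
    rw [this] at h10
    exact (sub_eq_zero.mp h10).symm
  exact ⟨g, ⟨h11, h4⟩, hred⟩

include hT in
/-- Uniqueness of group-like lifts, square-zero case. -/
theorem lift_unique_sq [Module.Flat S B]
    (hsq : RingHom.ker (algebraMap S T) * RingHom.ker (algebraMap S T) = ⊥) (m : M)
    {g g' : B} (hg : IsGroupLikeElem S g) (hg' : IsGroupLikeElem S g')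
    (h : red e g = MonoidAlgebra.single m 1) (h' : red e g' = MonoidAlgebra.single m 1) :
    g = g' := by
  set I := RingHom.ker (algebraMap S T) with hI
  have hn : IsNilpotent I := ⟨2, by rw [pow_two, hsq]; rfl⟩
  obtain ⟨E, a, hEa, ha, hE⟩ := exists_functional hT e hn m
  set δ := g' - g with hδ
  have hδI : δ ∈ I • (⊤ : Submodule S B) := by
    rw [← red_eq_zero_iff hT e, map_sub, h, h', sub_self]
  have h1 : ∀ x ∈ I • (⊤ : Submodule S B), con E (Coalgebra.comul (R := S) x) = E x • g := by
    intro x hx
    induction hx using Submodule.smul_induction_on' with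
    | add x _ y' _ h1 h2 => rw [map_add, map_add, h1, h2, map_add, add_smul]
    | smul i hi x _ =>
      rw [map_smul, map_smul, smul_con_comul hT e hsq E m hE g h i hi, map_smul, smul_eq_mul]
  have h2 : Coalgebra.comul (R := S) δ = g ⊗ₜ δ + δ ⊗ₜ g := by
    have h3 : δ ⊗ₜ[S] δ = 0 := tmul_eq_zero_of_mem hsq hδI hδI
    have h4 : g' = g + δ := by rw [hδ]; abel
    rw [hδ, map_sub, hg.comul_eq_tmul_self, hg'.comul_eq_tmul_self, ← hδ, h4,
      TensorProduct.add_tmul, TensorProduct.tmul_add, TensorProduct.tmul_add, h3]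
    abel
  have h3 := h1 δ hδI
  rw [h2, map_add, con_tmul, con_tmul] at h3
  have h4 : E g • δ = 0 := by simpa using h3
  have h5 : E g - 1 ∈ I := by
    rw [hI, RingHom.mem_ker, map_sub, hE, h]; simp
  have h6 : (E g - 1) • δ = 0 := by
    have : (E g - 1) • δ ∈ I • (I • (⊤ : Submodule S B)) := Submodule.smul_mem_smul h5 hδI
    rw [← Submodule.mul_smul, hsq] at this
    simpa using this
  rw [sub_smul, h4, one_smul, zero_sub, neg_eq_zero] at h6
  rw [hδ, sub_eq_zero] at h6
  exact h6.symm

/-- `S[M] ≅ B` from a multiplicative family of group-like lifts (nilpotent kernel, `B` flat). -/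
theorem exists_equiv_of_lifts (hT : Function.Surjective (algebraMap S T)) [Module.Flat S B]
    (hn : IsNilpotent (RingHom.ker (algebraMap S T))) (g : M → B)
    (hgl : ∀ m, IsGroupLikeElem S (g m)) (hone : g 1 = 1) (hmul : ∀ m m', g (m * m') = g m * g m')
    (hg : ∀ m, red e (g m) = MonoidAlgebra.single m 1) :
    ∃ e' : MonoidAlgebra S M ≃ₐc[S] B, ∀ m, e' (MonoidAlgebra.single m 1) = g m := by
  let φ : M →* GroupLike S B :=
    { toFun := fun m => ⟨g m, hgl m⟩
      map_one' := by ext; exact hone
      map_mul' := fun m m' => by ext; exact hmul m m' }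
  let F : MonoidAlgebra S M →ₐc[S] B :=
    (MonoidAlgebra.liftGroupLikeBialgHom (R := S) (A := B)).comp
      (MonoidAlgebra.mapDomainBialgHom S φ)
  have hF : ∀ m r, F (MonoidAlgebra.single m r) = r • g m := by
    intro m r
    simp [F, φ, MonoidAlgebra.liftGroupLikeBialgHom]
  have hF' : ∀ x : MonoidAlgebra S M, F x = Finsupp.linearCombination S g x.coeff := by
    intro x
    induction x using MonoidAlgebra.induction_linear with
    | zero => simp
    | add x y hx hy => rw [map_add, hx, hy, MonoidAlgebra.coeff_add, map_add]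
    | single m r => rw [hF, MonoidAlgebra.coeff_single, Finsupp.linearCombination_single]
  have hbij : Function.Bijective F := by
    have h1 := linearCombination_bijective hT e hn g hg
    have h2 : (F : MonoidAlgebra S M → B) =
        (Finsupp.linearCombination S g) ∘ (MonoidAlgebra.coeffEquiv (R := S) (M := M)) := by
      ext x; exact hF' x
    rw [h2]
    exact h1.comp (MonoidAlgebra.coeffEquiv (R := S) (M := M)).bijective
  refine ⟨BialgEquiv.ofBijective F hbij, fun m => ?_⟩
  simp [hF]

/-- Square-zero case: `B ≅ S[M]`, compatibly with `T ⊗ B ≅ T[M]`. -/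
theorem exists_equiv_sq (hT : Function.Surjective (algebraMap S T)) [Module.Flat S B]
    (hsq : RingHom.ker (algebraMap S T) * RingHom.ker (algebraMap S T) = ⊥) :
    ∃ e' : MonoidAlgebra S M ≃ₐc[S] B, ∀ m,
      red e (e' (MonoidAlgebra.single m 1)) = MonoidAlgebra.single m 1 := by
  have hn : IsNilpotent (RingHom.ker (algebraMap S T)) := ⟨2, by rw [pow_two, hsq]; rfl⟩
  choose g hgl hg using exists_lift_sq hT e hsq
  obtain ⟨e', he'⟩ := exists_equiv_of_lifts e hT hn g hgl
    (lift_unique_sq hT e hsq 1 (hgl 1) IsGroupLikeElem.one (hg 1) (by rw [map_one]; rfl))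
    (fun m m' => lift_unique_sq hT e hsq (m * m') (hgl _) ((hgl m).mul (hgl m')) (hg _)
      (by rw [map_mul, hg, hg, MonoidAlgebra.single_mul_single, mul_one])) hg
  exact ⟨e', fun m => by rw [he', hg]⟩

end

/-- Transitivity of base change for bialgebras. -/
noncomputable def cancelBC (S S₁ T B : Type*) [CommRing S] [CommRing S₁] [CommRing T] [CommRing B]
    [Bialgebra S B] [Algebra S S₁] [Algebra S₁ T] [Algebra S T] [IsScalarTower S S₁ T] :
    (T ⊗[S₁] (S₁ ⊗[S] B)) ≃ₐc[T] (T ⊗[S] B) :=
  BialgEquiv.ofAlgEquiv (Algebra.TensorProduct.cancelBaseChange S S₁ T T B)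
    (by
      ext b
      simp [Algebra.smul_def])
    (by
      ext b
      simp
      generalize (Coalgebra.comul (R := S) b) = t
      induction t using TensorProduct.induction_on with
      | zero => simp
      | tmul x y => simp
      | add x y hx hy => simp only [TensorProduct.tmul_add, map_add, hx, hy])

theorem cancelBC_tmul (S S₁ T B : Type*) [CommRing S] [CommRing S₁] [CommRing T] [CommRing B]
    [Bialgebra S B] [Algebra S S₁] [Algebra S₁ T] [Algebra S T] [IsScalarTower S S₁ T]
    (t : T) (s : S₁) (b : B) :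
    cancelBC S S₁ T B (t ⊗ₜ (s ⊗ₜ b)) = (algebraMap S₁ T s * t) ⊗ₜ b := by
  simp [cancelBC, Algebra.smul_def]

/-- Nilpotent case: if `S → T` is surjective with nilpotent kernel, `B` flat over `S` and
`T ⊗ B ≅ T[M]`, then `B ≅ S[M]` compatibly. -/
theorem exists_equiv_of_nilpotent {M : Type u} [CommMonoid M] (k : ℕ) :
    ∀ {S T B : Type u} [CommRing S] [CommRing T] [Algebra S T] [CommRing B] [Bialgebra S B]
      [Module.Flat S B] (_ : Function.Surjective (algebraMap S T))
      (_ : RingHom.ker (algebraMap S T) ^ (k + 1) = ⊥)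
      (e : (T ⊗[S] B) ≃ₐc[T] MonoidAlgebra T M),
      ∃ e' : MonoidAlgebra S M ≃ₐc[S] B, ∀ m,
        red e (e' (MonoidAlgebra.single m 1)) = MonoidAlgebra.single m 1 := by
  induction k with
  | zero =>
    intro S T B _ _ _ _ _ _ hT hk e
    refine exists_equiv_sq e hT ?_
    rw [zero_add, pow_one] at hk
    rw [hk]; simp
  | succ k ih =>
    intro S T B _ _ _ _ _ _ hT hk e
    set I := RingHom.ker (algebraMap S T) with hI
    let S₁ := S ⧸ (I ^ (k + 1))
    let φ : S₁ →+* T := Ideal.Quotient.lift (I ^ (k + 1)) (algebraMap S T) (fun a ha => by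
      have : a ∈ I := Ideal.pow_le_self (by omega) ha
      exact this)
    let _ : Algebra S₁ T := φ.toAlgebra
    have : IsScalarTower S S₁ T := IsScalarTower.of_algebraMap_eq (fun x =>
      (Ideal.Quotient.lift_mk _ _ _).symm)
    have hS₁ : Function.Surjective (algebraMap S S₁) := Ideal.Quotient.mk_surjective
    have hT₁ : Function.Surjective (algebraMap S₁ T) := by
      intro t
      obtain ⟨s, rfl⟩ := hT t
      exact ⟨algebraMap S S₁ s, (IsScalarTower.algebraMap_apply S S₁ T s).symm⟩
    have hker₁ : RingHom.ker (algebraMap S₁ T) = I.map (algebraMap S S₁) := by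
      ext x
      obtain ⟨s, rfl⟩ := hS₁ x
      rw [RingHom.mem_ker, ← IsScalarTower.algebraMap_apply, Ideal.mem_map_iff_of_surjective _ hS₁]
      constructor
      · intro h
        exact ⟨s, h, rfl⟩
      · rintro ⟨y, hy, hxy⟩
        rw [IsScalarTower.algebraMap_apply S S₁ T, ← hxy, ← IsScalarTower.algebraMap_apply]
        exact hy
    have hk₁ : RingHom.ker (algebraMap S₁ T) ^ (k + 1) = ⊥ := by
      rw [hker₁, ← Ideal.map_pow]
      exact Ideal.map_quotient_self _
    obtain ⟨e₁, he₁⟩ := ih hT₁ hk₁ ((cancelBC S S₁ T B).trans e)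
    have hsq : RingHom.ker (algebraMap S S₁) * RingHom.ker (algebraMap S S₁) = ⊥ := by
      have : RingHom.ker (algebraMap S S₁) = I ^ (k + 1) := Ideal.mk_ker
      rw [this, ← pow_add, eq_bot_iff, ← hk]
      exact Ideal.pow_le_pow_right (by omega)
    obtain ⟨e', he'⟩ := exists_equiv_sq e₁.symm hS₁ hsq
    refine ⟨e', fun m => ?_⟩
    have h1 := he' m
    have h2 := he₁ m
    rw [red_apply] at h1 h2 ⊢
    have h3 : (1 : S₁) ⊗ₜ[S] e' (MonoidAlgebra.single m 1) = e₁ (MonoidAlgebra.single m 1) := by
      rw [← h1]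
      exact (e₁.toMulEquiv.apply_symm_apply _).symm
    rw [← h3] at h2
    have h4 : (cancelBC S S₁ T B).trans e ((1 : T) ⊗ₜ[S₁] ((1 : S₁) ⊗ₜ[S] e' (MonoidAlgebra.single m 1)))
        = e (1 ⊗ₜ e' (MonoidAlgebra.single m 1)) := by
      change e (cancelBC S S₁ T B _) = _
      rw [cancelBC_tmul]; simp
    rw [← h4]
    exact h2

/-- Uniqueness of group-like lifts, nilpotent case. -/
theorem lift_unique_of_nilpotent {M : Type u} [CommMonoid M] (k : ℕ) :
    ∀ {S T B : Type u} [CommRing S] [CommRing T] [Algebra S T] [CommRing B] [Bialgebra S B]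
      [Module.Flat S B] (_ : Function.Surjective (algebraMap S T))
      (_ : RingHom.ker (algebraMap S T) ^ (k + 1) = ⊥)
      (e : (T ⊗[S] B) ≃ₐc[T] MonoidAlgebra T M) (m : M) {g g' : B} (_ : IsGroupLikeElem S g)
      (_ : IsGroupLikeElem S g') (_ : red e g = MonoidAlgebra.single m 1)
      (_ : red e g' = MonoidAlgebra.single m 1), g = g' := by
  induction k with
  | zero =>
    intro S T B _ _ _ _ _ _ hT hk e m g g' hg hg' h h'
    refine lift_unique_sq hT e ?_ m hg hg' h h'
    rw [zero_add, pow_one] at hk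
    rw [hk]; simp
  | succ k ih =>
    intro S T B _ _ _ _ _ _ hT hk e m g g' hg hg' h h'
    set I := RingHom.ker (algebraMap S T) with hI
    let S₁ := S ⧸ (I ^ (k + 1))
    let φ : S₁ →+* T := Ideal.Quotient.lift (I ^ (k + 1)) (algebraMap S T) (fun a ha => by
      have : a ∈ I := Ideal.pow_le_self (by omega) ha
      exact this)
    let _ : Algebra S₁ T := φ.toAlgebra
    have : IsScalarTower S S₁ T := IsScalarTower.of_algebraMap_eq (fun x =>
      (Ideal.Quotient.lift_mk _ _ _).symm)
    have hS₁ : Function.Surjective (algebraMap S S₁) := Ideal.Quotient.mk_surjective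
    have hT₁ : Function.Surjective (algebraMap S₁ T) := by
      intro t
      obtain ⟨s, rfl⟩ := hT t
      exact ⟨algebraMap S S₁ s, (IsScalarTower.algebraMap_apply S S₁ T s).symm⟩
    have hker₁ : RingHom.ker (algebraMap S₁ T) = I.map (algebraMap S S₁) := by
      ext x
      obtain ⟨s, rfl⟩ := hS₁ x
      rw [RingHom.mem_ker, ← IsScalarTower.algebraMap_apply, Ideal.mem_map_iff_of_surjective _ hS₁]
      constructor
      · intro h
        exact ⟨s, h, rfl⟩
      · rintro ⟨y, hy, hxy⟩
        rw [IsScalarTower.algebraMap_apply S S₁ T, ← hxy, ← IsScalarTower.algebraMap_apply]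
        exact hy
    have hk₁ : RingHom.ker (algebraMap S₁ T) ^ (k + 1) = ⊥ := by
      rw [hker₁, ← Ideal.map_pow]
      exact Ideal.map_quotient_self _
    obtain ⟨e₁, he₁⟩ := exists_equiv_of_nilpotent k hT₁ hk₁ ((cancelBC S S₁ T B).trans e)
    have hsq : RingHom.ker (algebraMap S S₁) * RingHom.ker (algebraMap S S₁) = ⊥ := by
      have : RingHom.ker (algebraMap S S₁) = I ^ (k + 1) := Ideal.mk_ker
      rw [this, ← pow_add, eq_bot_iff, ← hk]
      exact Ideal.pow_le_pow_right (by omega)
    have hgl : ∀ b : B, IsGroupLikeElem S b → IsGroupLikeElem S₁ ((1 : S₁) ⊗ₜ[S] b) := by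
      intro b hb
      refine ⟨?_, ?_⟩
      · rw [TensorProduct.counit_tmul, hb.counit_eq_one]; simp
      · rw [TensorProduct.comul_tmul, hb.comul_eq_tmul_self]; simp
    have hred : ∀ b : B, red ((cancelBC S S₁ T B).trans e) ((1 : S₁) ⊗ₜ[S] b) = red e b := by
      intro b
      rw [red_apply, red_apply]
      change e (cancelBC S S₁ T B _) = _
      rw [cancelBC_tmul]; simp
    have heq : ∀ b : B, IsGroupLikeElem S b → red e b = MonoidAlgebra.single m 1 →
        red e₁.symm b = MonoidAlgebra.single m 1 := by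
      intro b hb hb'
      have h1 : (1 : S₁) ⊗ₜ[S] b = e₁ (MonoidAlgebra.single m 1) := by
        refine ih hT₁ hk₁ ((cancelBC S S₁ T B).trans e) m (hgl b hb) ?_ ?_ (he₁ m)
        · exact (MonoidAlgebra.isGroupLikeElem_single_one m).map e₁
        · rw [hred, hb']
      rw [red_apply, h1]
      exact e₁.toMulEquiv.symm_apply_apply _
    exact lift_unique_sq hS₁ e₁.symm hsq m hg hg' (heq g hg h) (heq g' hg' h')

end Groth.Agent.Sga3A.LiftGL
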