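import Mathlib.GroupTheory.FiniteAbelian.Basic
import Mathlib.RingTheory.Bialgebra.MonoidAlgebra
import Mathlib.RingTheory.TensorProduct.MonoidAlgebra
import Mathlib.RingTheory.FinitePresentation
import Mathlib.RingTheory.FiniteStability

/-!
# Residual finiteness of finitely generated commutative groups and group algebras

`Q M l = M / M^l`.  Elements of `S[M]` are detected by their images in `S[Q M l]`, `l > 0`.
-/

set_option autoImplicit false

namespace Groth.Agent.Sga3A.FibRes

/-- `M / M^l`. -/
abbrev Q (M : Type*) [CommGroup M] (l : ℕ) : Type _ := M ⧸ (powMonoidHom l : M →* M).range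

/-- The quotient map `M → M / M^l`. -/
abbrev qm (M : Type*) [CommGroup M] (l : ℕ) : M →* Q M l :=
  QuotientGroup.mk' (powMonoidHom l : M →* M).range

theorem qm_eq_iff {M : Type*} [CommGroup M] (l : ℕ) {m n : M} :
    qm M l m = qm M l n ↔ m⁻¹ * n ∈ (powMonoidHom l : M →* M).range := by
  simp [qm, QuotientGroup.eq]

theorem exists_notMem_range {M : Type*} [CommGroup M] [Group.FG M] {m : M} (hm : m ≠ 1) :
    ∃ l : ℕ, 0 < l ∧ m ∉ (powMonoidHom l : M →* M).range := by
  obtain ⟨ι, j, _, _, p, hp, e, ⟨φ⟩⟩ := CommGroup.equiv_free_prod_prod_multiplicative_zmod M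
  have hx : φ m ≠ 1 := by
    intro h
    exact hm ((map_eq_one_iff φ φ.injective).mp h)
  by_cases h1 : (φ m).1 = 1
  · have h2 : (φ m).2 ≠ 1 := fun h2 => hx (Prod.ext h1 h2)
    obtain ⟨i, hi⟩ := Function.ne_iff.mp h2
    refine ⟨p i ^ e i, pow_pos (hp i).pos _, ?_⟩
    rintro ⟨n, hn⟩
    apply hi
    rw [← hn]
    simp only [powMonoidHom_apply, map_pow, Prod.pow_snd, Pi.pow_apply, Pi.one_apply]
    apply Multiplicative.toAdd.injective
    rw [toAdd_pow, toAdd_one, nsmul_eq_mul]
    simp
  · obtain ⟨i, hi⟩ := Function.ne_iff.mp h1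
    refine ⟨((φ m).1 i).toAdd.natAbs + 1, Nat.succ_pos _, ?_⟩
    rintro ⟨n, hn⟩
    apply hi
    have h3 : ((φ m).1 i).toAdd = (((φ m).1 i).toAdd.natAbs + 1 : ℕ) * ((φ n).1 i).toAdd := by
      conv_lhs => rw [← hn]
      simp only [powMonoidHom_apply, map_pow, Prod.pow_fst, Pi.pow_apply]
      rw [toAdd_pow, nsmul_eq_mul]
    apply Multiplicative.toAdd.injective
    rw [Pi.one_apply, toAdd_one]
    set a := ((φ m).1 i).toAdd
    set b := ((φ n).1 i).toAdd
    by_contra ha
    have h4 : (a.natAbs + 1) ∣ a.natAbs := by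
      rw [← Int.natCast_dvd_natCast, Int.dvd_natAbs]
      exact ⟨b, h3⟩
    have h5 : 0 < a.natAbs := Int.natAbs_pos.mpr ha
    have := Nat.le_of_dvd h5 h4
    omega

theorem range_mono {M : Type*} [CommGroup M] {k l : ℕ} (h : k ∣ l) :
    (powMonoidHom l : M →* M).range ≤ (powMonoidHom k : M →* M).range := by
  obtain ⟨c, rfl⟩ := h
  rintro _ ⟨n, rfl⟩
  exact ⟨n ^ c, by simp [powMonoidHom_apply, ← pow_mul, mul_comm]⟩

/-- Finite subsets of a finitely generated commutative group are separated by some `M / M^l`. -/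
theorem exists_injOn {M : Type*} [CommGroup M] [Group.FG M] (F : Finset M) :
    ∃ l : ℕ, 0 < l ∧ Set.InjOn (qm M l) F := by
  classical
  have key : ∀ p : M × M, ∃ l : ℕ, 0 < l ∧ (p.1 ≠ p.2 → qm M l p.1 ≠ qm M l p.2) := by
    intro p
    by_cases hp : p.1 = p.2
    · exact ⟨1, one_pos, fun h => absurd hp h⟩
    · have : p.1⁻¹ * p.2 ≠ 1 := by
        intro h
        exact hp (inv_mul_eq_one.mp h)
      obtain ⟨l, hl, h⟩ := exists_notMem_range this
      exact ⟨l, hl, fun _ h' => h ((qm_eq_iff l).mp h')⟩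
  choose L hL hL' using key
  refine ⟨∏ p ∈ F ×ˢ F, L p, Finset.prod_pos fun p _ => hL p, ?_⟩
  intro x hx y hy hxy
  by_contra hne
  apply hL' (x, y) hne
  rw [qm_eq_iff] at hxy ⊢
  exact range_mono (Finset.dvd_prod_of_mem L (Finset.mk_mem_product hx hy)) hxy

open MonoidAlgebra

variable {S : Type*} [CommRing S] {M : Type*} [CommGroup M]

/-- The map `S[M] → S[M / M^l]`. -/
noncomputable abbrev qma (S M : Type*) [CommRing S] [CommGroup M] (l : ℕ) :
    MonoidAlgebra S M →ₐc[S] MonoidAlgebra S (Q M l) :=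
  MonoidAlgebra.mapDomainBialgHom S (qm M l)

theorem qma_single (l : ℕ) (m : M) (s : S) :
    qma S M l (single m s) = single (qm M l m) s := by
  simp [qma]

theorem coeff_mapDomain_of_injOn {N : Type*} [CommGroup N] (f : M →* N)
    (x : MonoidAlgebra S M) (m : M)
    (hf : Set.InjOn f (insert m (x.coeff.support : Set M))) :
    (MonoidAlgebra.mapDomainBialgHom S f x).coeff (f m) = x.coeff m := by
  classical
  have h1 : MonoidAlgebra.mapDomainBialgHom S f x =
      ∑ n ∈ x.coeff.support, single (f n) (x.coeff n) := by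
    conv_lhs => rw [← MonoidAlgebra.sum_coeff_single x]
    rw [Finsupp.sum, map_sum]
    refine Finset.sum_congr rfl fun n _ => ?_
    simp
  rw [h1, MonoidAlgebra.coeff_sum, Finsupp.finsetSum_apply]
  simp only [coeff_single]
  by_cases hm : m ∈ x.coeff.support
  · rw [Finset.sum_eq_single m]
    · simp
    · intro n hn hnm
      rw [Finsupp.single_eq_of_ne]
      intro h
      exact hnm (hf (Set.mem_insert_of_mem _ hn) (Set.mem_insert _ _) h.symm)
    · intro h
      exact absurd hm h
  · rw [Finsupp.notMem_support_iff.mp hm]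
    refine Finset.sum_eq_zero fun n hn => ?_
    rw [Finsupp.single_eq_of_ne]
    intro h
    have := hf (Set.mem_insert_of_mem _ hn) (Set.mem_insert _ _) h.symm
    exact hm (this ▸ hn)

/-- Any coefficient of `x ∈ S[M]` is a coefficient of its image in some `S[M / M^l]`. -/
theorem exists_coeff_qma [Group.FG M] (x : MonoidAlgebra S M) (F : Finset M) :
    ∃ l : ℕ, 0 < l ∧ ∀ m ∈ F, (qma S M l x).coeff (qm M l m) = x.coeff m := by
  classical
  obtain ⟨l, hl, h⟩ := exists_injOn (F ∪ x.coeff.support)
  refine ⟨l, hl, fun m hm => coeff_mapDomain_of_injOn _ x m (h.mono ?_)⟩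
  intro y hy
  rcases hy with rfl | hy
  · simp [hm]
  · simp only [Finset.coe_union, Set.mem_union]
    exact Or.inr hy

theorem eq_zero_of_qma [Group.FG M] (x : MonoidAlgebra S M) (h : ∀ l, 0 < l → qma S M l x = 0) :
    x = 0 := by
  ext m
  obtain ⟨l, hl, h'⟩ := exists_coeff_qma x {m}
  rw [← h' m (Finset.mem_singleton_self m), h l hl]
  simp

theorem eq_of_qma [Group.FG M] (x y : MonoidAlgebra S M)
    (h : ∀ l, 0 < l → qma S M l x = qma S M l y) : x = y := by
  rw [← sub_eq_zero]
  refine eq_zero_of_qma _ fun l hl => ?_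
  rw [map_sub, h l hl, sub_self]

/-- An element of `S[M]` all of whose images in `S[M/M^l]` are group elements is one. -/
theorem exists_single_of_qma [Group.FG M] [Nontrivial S] (x : MonoidAlgebra S M)
    (t : ∀ l : ℕ, Q M l) (h : ∀ l, 0 < l → qma S M l x = single (t l) 1) :
    ∃ m : M, x = single m 1 := by
  classical
  obtain ⟨l, hl, hinj⟩ := exists_injOn x.coeff.support
  have hne : x ≠ 0 := by
    rintro rfl
    have := h 1 one_pos
    rw [map_zero] at this
    have h2 := congrArg (fun z => z.coeff (t 1)) this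
    simp at h2
  have hs : x.coeff.support.Nonempty := by
    rw [Finsupp.support_nonempty_iff]
    intro h0
    exact hne (by ext m; rw [h0]; simp)
  have hc : ∀ m ∈ x.coeff.support, x.coeff m = if t l = qm M l m then 1 else 0 := by
    intro m hm
    rw [← coeff_mapDomain_of_injOn (qm M l) x m (hinj.mono ?_)]
    · change (qma S M l x).coeff (qm M l m) = _
      rw [h l hl, coeff_single, Finsupp.single_apply]
    · intro y hy
      rcases hy with rfl | hy
      · exact hm
      · exact hy
  obtain ⟨m, hm⟩ := hs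
  have hm' : t l = qm M l m := by
    by_contra hcon
    have := hc m hm
    rw [if_neg hcon] at this
    exact (Finsupp.mem_support_iff.mp hm) this
  refine ⟨m, ?_⟩
  ext n
  rw [coeff_single]
  by_cases hn : n ∈ x.coeff.support
  · have h1 := hc n hn
    by_cases hn' : t l = qm M l n
    · have : m = n := hinj hm hn (hm'.symm.trans hn')
      subst this
      rw [h1, if_pos hm', Finsupp.single_eq_same]
    · rw [if_neg hn'] at h1
      exact absurd h1 (Finsupp.mem_support_iff.mp hn)
  · rw [Finsupp.notMem_support_iff.mp hn, Finsupp.single_eq_of_ne]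
    rintro rfl
    exact hn hm

/-- Group algebras of finitely generated commutative groups are finitely presented. -/
theorem finitePresentation_monoidAlgebra (S M : Type*) [CommRing S] [CommGroup M] [Group.FG M] :
    Algebra.FinitePresentation S (MonoidAlgebra S M) := by
  have h1 : Algebra.FiniteType ℤ (MonoidAlgebra ℤ M) := by
    rw [MonoidAlgebra.finiteType_iff_fg]
    exact Monoid.fg_of_group_fg
  have h2 : Algebra.FinitePresentation ℤ (MonoidAlgebra ℤ M) :=
    Algebra.FinitePresentation.of_finiteType.mp h1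
  exact Algebra.FinitePresentation.equiv (MonoidAlgebra.scalarTensorEquiv ℤ S (M := M))

end Groth.Agent.Sga3A.FibRes
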