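import Groth.Statements.S3011

set_option autoImplicit false
universe u
open CategoryTheory MonoidalCategory CartesianMonoidalCategory MonObj GrpObj AlgebraicGeometry
open Red

namespace Groth.Agent.Sga3A.ChevUniq

/-- The morphism `Spec ℂ ⟶ Spec ℤ` of the statement of S3011. -/
noncomputable abbrev cz : Spec (CommRingCat.of (ULift.{u} ℂ)) ⟶ Spec (CommRingCat.of (ULift.{u} ℤ)) :=
  Spec.map (CommRingCat.ofHom ((ULift.ringEquiv.{0, u} (R := ℂ)).symm.toRingHom.comp ((Int.castRingHom ℂ).comp (ULift.ringEquiv.{0, u} (R := ℤ)).toRingHom)))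

/-- S3011 modulo: existence of splittings over `ℤ` (`hspl`), base change of splittings to `ℂ` (`hbc`),
uniqueness of the root datum over `ℂ` (`h2963`) and the uniqueness theorem (`h3005`). -/
theorem main
    (hspl : ∀ (G : Over (Spec (CommRingCat.of (ULift.{u} ℤ)))) [GrpObj G] (_ : Red.IsReductive G)
      (_ : ∃ (T : Over _) (_ : GrpObj T) (i : T ⟶ G), Red.IsMaximalTorus i ∧ ∃ r : ℕ, Red.IsSplitTorusWith (Fin r → ℤ) T),
      Nonempty (SplitRed G))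
    (hbc : ∀ (G : Over (Spec (CommRingCat.of (ULift.{u} ℤ)))) [GrpObj G] (D : SplitRed G),
      ∃ D' : SplitRed (Red.bc cz.{u} G), Nonempty (RootPairing.Equiv D'.P D.P))
    (h2963 : ∀ (H : Over (Spec (CommRingCat.of (ULift.{u} ℂ)))) [GrpObj H], Red.IsReductive H →
      ∀ (D D' : Red.SplitRed H), Nonempty (RootPairing.Equiv D.P D'.P))
    (h3005 : ∀ {ι' M' N' : Type} [AddCommGroup M'] [Module ℤ M'] [AddCommGroup N'] [Module ℤ N']
      (Q : RootPairing ι' ℤ M' N') (G G' : Over (Spec (CommRingCat.of (ULift.{u} ℤ)))) [GrpObj G] [GrpObj G']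
      (_ : Red.IsSplitOfType Q G) (_ : Red.IsSplitOfType Q G'), Nonempty (Grp.mk G ≅ Grp.mk G'))
    (G G' : Over (Spec (CommRingCat.of (ULift.{u} ℤ)))) [GrpObj G] [GrpObj G'] (hG : Red.IsReductive G) (hG' : Red.IsReductive G') (hT : ∃ (T : Over _) (_ : GrpObj T) (i : T ⟶ G), Red.IsMaximalTorus i ∧ ∃ r : ℕ, Red.IsSplitTorusWith (Fin r → ℤ) T) (hT' : ∃ (T' : Over _) (_ : GrpObj T') (i' : T' ⟶ G'), Red.IsMaximalTorus i' ∧ ∃ r : ℕ, Red.IsSplitTorusWith (Fin r → ℤ) T') {ι' M' N' : Type} [AddCommGroup M'] [Module ℤ M'] [AddCommGroup N'] [Module ℤ N'] (Q : RootPairing ι' ℤ M' N') (hC : Red.IsSplitOfType Q (Red.bc cz G)) (hC' : Red.IsSplitOfType Q (Red.bc cz G')) :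
    Nonempty (Grp.mk G ≅ Grp.mk G') := by
  have key : ∀ (G : Over (Spec (CommRingCat.of (ULift.{u} ℤ)))) [GrpObj G] (_ : Red.IsReductive G)
      (_ : ∃ (T : Over _) (_ : GrpObj T) (i : T ⟶ G), Red.IsMaximalTorus i ∧ ∃ r : ℕ, Red.IsSplitTorusWith (Fin r → ℤ) T)
      (_ : Red.IsSplitOfType Q (Red.bc cz G)), Red.IsSplitOfType Q G := by
    intro G _ hG hT ⟨DC, ⟨eC⟩⟩
    obtain ⟨D⟩ := hspl G hG hT
    obtain ⟨D', ⟨e'⟩⟩ := hbc G D
    obtain ⟨e⟩ := h2963 _ D'.reductive D' DC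
    refine ⟨D, ⟨?_⟩⟩
    exact (RootPairing.Equiv.comp eC e).comp e'.symm
  exact h3005 Q G G' (key G hG hT hC) (key G' hG' hT' hC')

end Groth.Agent.Sga3A.ChevUniq
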