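import Mathlib

set_option autoImplicit false
universe u

/-! The rings `ULift ℤ` and `ULift ℂ`: algebraic closedness, PID, triviality of the Picard group, connectedness. -/

namespace Groth.Agent.Sga3A.UliftZ

theorem isAlgClosed_of_ringEquiv' {k : Type*} {k' : Type*} [Field k] [Field k'] [IsAlgClosed k]
    (e : k ≃+* k') : IsAlgClosed k' := by
  refine IsAlgClosed.of_exists_root k' (fun p hmp hp => ?_)
  have hpe : (p.map e.symm.toRingHom).degree ≠ 0 := by
    rw [Polynomial.degree_map]
    exact ne_of_gt (Polynomial.degree_pos_of_irreducible hp)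
  rcases IsAlgClosed.exists_root (k := k) (p.map e.symm.toRingHom) hpe with ⟨x, hx⟩
  use e x
  rw [Polynomial.IsRoot] at hx
  apply e.symm.injective
  rw [map_zero, ← hx]
  clear hx hpe hp hmp
  induction p using Polynomial.induction_on <;> simp_all

instance isAlgClosed_ulift_complex : IsAlgClosed (ULift.{u} ℂ) :=
  isAlgClosed_of_ringEquiv' (ULift.ringEquiv (R := ℂ)).symm

instance isDomain_ulift_int : IsDomain (ULift.{u} ℤ) :=
  (ULift.ringEquiv (R := ℤ)).isDomain

instance isPrincipalIdealRing_ulift_int : IsPrincipalIdealRing (ULift.{u} ℤ) :=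
  IsPrincipalIdealRing.of_surjective (ULift.ringEquiv (R := ℤ)).symm.toRingHom
    (ULift.ringEquiv (R := ℤ)).symm.surjective

instance isNoetherianRing_ulift_int : IsNoetherianRing (ULift.{u} ℤ) := inferInstance

instance subsingleton_pic_of_pid (R : Type u) [CommRing R] [IsDomain R] [IsPrincipalIdealRing R] :
    Subsingleton (CommRing.Pic R) := by
  rw [CommRing.Pic.subsingleton_iff]
  intro M _ _ _
  have : Module.Finite R M := inferInstance
  have : Module.Projective R M := inferInstance
  infer_instance

instance subsingleton_pic_ulift_int : Subsingleton (CommRing.Pic (ULift.{u} ℤ)) := inferInstance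

instance preconnected_ulift_int : PreconnectedSpace (PrimeSpectrum (ULift.{u} ℤ)) := inferInstance

end Groth.Agent.Sga3A.UliftZ
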