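import Groth.Prelude.Def_HopfRep
import Mathlib.LinearAlgebra.TensorProduct.Basis
import Mathlib.LinearAlgebra.Basis.VectorSpace
import Mathlib.RingTheory.Flat.Basic
import Mathlib.LinearAlgebra.FiniteDimensional.Basic
import Mathlib.LinearAlgebra.Dual.Defs
import Mathlib.RingTheory.Noetherian.Basic
import Mathlib.Tactic

/-!
# Comodules over a field: operators of functionals, sub- and quotient comodules, the local
finiteness theorem, and the ascending (unipotent) filtration of a comodule.
-/

set_option autoImplicit false

universe u v w w'

open TensorProduct HopfRep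

namespace Groth.Agent.Sga3A.ComodBasic

section Coalgebra

variable {k : Type u} {A : Type v} [CommRing k] [AddCommGroup A] [Module k A] [Coalgebra k A]
variable {V : Type w} [AddCommGroup V] [Module k V] [Comod k A V]
variable {V' : Type w'} [AddCommGroup V'] [Module k V'] [Comod k A V']

/-- The endomorphism `(id ⊗ g) ∘ coact` of a comodule attached to a functional `g`. -/
noncomputable def T (V : Type w) [AddCommGroup V] [Module k V] [Comod k A V]
    (g : A →ₗ[k] k) : V →ₗ[k] V :=
  (TensorProduct.rid k V).toLinearMap ∘ₗ LinearMap.lTensor V g ∘ₗ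
    Comod.coact (k := k) (A := A)

theorem T_apply (g : A →ₗ[k] k) (v : V) :
    T V g v = TensorProduct.rid k V (LinearMap.lTensor V g (Comod.coact (k := k) (A := A) v)) := rfl

/-- convolution of functionals -/
noncomputable def conv (g f : A →ₗ[k] k) : A →ₗ[k] k :=
  LinearMap.mul' k k ∘ₗ TensorProduct.map g f ∘ₗ CoalgebraStruct.comul

theorem T_counit (v : V) : T V (CoalgebraStruct.counit (R := k) (A := A)) v = v := by
  rw [T_apply]
  have := LinearMap.congr_fun (Comod.counit_comp (k := k) (A := A) (V := V)) v
  simp only [LinearMap.comp_apply] at this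
  rw [this]
  simp

/-- pairing the last factor -/
noncomputable def contr2 (V : Type w) [AddCommGroup V] [Module k V] (g f : A →ₗ[k] k) :
    V ⊗[k] (A ⊗[k] A) →ₗ[k] V :=
  (TensorProduct.rid k V).toLinearMap ∘ₗ
    LinearMap.lTensor V (LinearMap.mul' k k ∘ₗ TensorProduct.map g f)

theorem T_T (g f : A →ₗ[k] k) (v : V) : T V g (T V f v) = T V (conv g f) v := by
  have h1 : ∀ (y : V ⊗[k] A) (a : A),
      f a • TensorProduct.rid k V (LinearMap.lTensor V g y) =
        contr2 V g f (TensorProduct.assoc k V A A (y ⊗ₜ a)) := by
    intro y a
    induction y with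
    | zero => simp
    | add x y hx hy => rw [map_add, map_add, smul_add, hx, hy, TensorProduct.add_tmul, map_add, map_add]
    | tmul w b =>
      simp only [contr2, LinearMap.lTensor_tmul, TensorProduct.rid_tmul, TensorProduct.assoc_tmul,
        LinearMap.comp_apply, TensorProduct.map_tmul, LinearMap.mul'_apply,
        LinearEquiv.coe_toLinearMap]
      rw [smul_smul, mul_comm]
  have h2 : ∀ z : V ⊗[k] A,
      T V g (TensorProduct.rid k V (LinearMap.lTensor V f z)) =
        contr2 V g f (TensorProduct.assoc k V A A
          ((Comod.coact (k := k) (A := A) (V := V)).rTensor A z)) := by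
    intro z
    induction z with
    | zero => simp
    | add x y hx hy => rw [map_add, map_add, map_add, hx, hy, map_add, map_add, map_add]
    | tmul w b =>
      rw [LinearMap.lTensor_tmul, TensorProduct.rid_tmul, map_smul, T_apply,
        LinearMap.rTensor_tmul, h1]
  rw [T_apply f v, h2]
  have := LinearMap.congr_fun (Comod.coassoc (k := k) (A := A) (V := V)) v
  simp only [LinearMap.comp_apply, LinearEquiv.coe_toLinearMap] at this
  rw [this, T_apply]
  simp only [contr2, LinearMap.comp_apply, conv, LinearEquiv.coe_toLinearMap]
  congr 1
  rw [← LinearMap.comp_apply, ← LinearMap.lTensor_comp]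
  rfl

end Coalgebra

section Field

variable {k : Type u} {A : Type v} [Field k] [AddCommGroup A] [Module k A]
variable {V : Type w} [AddCommGroup V] [Module k V]

/-- Over a field an element of `V ⊗ A` vanishes if it is killed by all functionals on `A`. -/
theorem eq_zero_of_forall_contract (t : V ⊗[k] A)
    (h : ∀ g : A →ₗ[k] k, TensorProduct.rid k V (LinearMap.lTensor V g t) = 0) : t = 0 := by
  classical
  let b := Module.Basis.ofVectorSpace k A
  apply (TensorProduct.equivFinsuppOfBasisRight b).injective
  ext i
  rw [TensorProduct.equivFinsuppOfBasisRight_apply, h, map_zero]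
  rfl

/-- Over a field an element of `V ⊗ A` lies in `W ⊗ A` iff all its contractions lie in `W`. -/
theorem mem_range_rTensor_iff (W : Submodule k V) (t : V ⊗[k] A) :
    t ∈ LinearMap.range (W.subtype.rTensor A) ↔
      ∀ g : A →ₗ[k] k, TensorProduct.rid k V (LinearMap.lTensor V g t) ∈ W := by
  classical
  constructor
  · rintro ⟨s, rfl⟩ g
    induction s with
    | zero => simp
    | add x y hx hy => simp only [map_add]; exact add_mem hx hy
    | tmul w a =>
      simp only [LinearMap.rTensor_tmul, LinearMap.lTensor_tmul, TensorProduct.rid_tmul]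
      exact Submodule.smul_mem _ _ w.2
  · intro h
    let b := Module.Basis.ofVectorSpace k A
    rw [← (TensorProduct.equivFinsuppOfBasisRight (M := V) b).symm_apply_apply t,
      TensorProduct.equivFinsuppOfBasisRight_symm_apply]
    refine Submodule.sum_mem _ fun i _ => ?_
    dsimp only
    rw [TensorProduct.equivFinsuppOfBasisRight_apply]
    exact ⟨(⟨_, h (b.coord i)⟩ : W) ⊗ₜ b i, by rw [LinearMap.rTensor_tmul]; rfl⟩

variable [Coalgebra k A] [Comod k A V]

/-- Over a field, subcomodules are the submodules stable under all the operators `T g`. -/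
theorem isSubcomod_iff (W : Submodule k V) :
    IsSubcomod (k := k) (A := A) W ↔ ∀ (g : A →ₗ[k] k), ∀ w ∈ W, T V g w ∈ W := by
  constructor
  · intro h g w hw
    exact (mem_range_rTensor_iff W _).mp (h w hw) g
  · intro h w hw
    rw [mem_range_rTensor_iff]
    intro g
    exact h g w hw

/-- The subcomodule generated by an element. -/
noncomputable def gen (k : Type u) (A : Type v) [Field k] [AddCommGroup A] [Module k A]
    [Coalgebra k A] {V : Type w} [AddCommGroup V] [Module k V] [Comod k A V]
    (v : V) : Submodule k V :=
  LinearMap.range ({ toFun := fun g => T V g v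
                     map_add' := fun g f => by
                      simp only [T_apply, LinearMap.lTensor_add, LinearMap.add_apply, map_add]
                     map_smul' := fun c g => by
                      simp only [T_apply, LinearMap.lTensor_smul, LinearMap.smul_apply, map_smul,
                        RingHom.id_apply] } : (A →ₗ[k] k) →ₗ[k] V)

theorem mem_gen_iff (v x : V) : x ∈ gen k A v ↔ ∃ g : A →ₗ[k] k, T V g v = x := Iff.rfl

theorem self_mem_gen (v : V) : v ∈ gen k A v := ⟨CoalgebraStruct.counit, T_counit v⟩

theorem gen_stable (v : V) (g : A →ₗ[k] k) (w : V) (hw : w ∈ gen k A v) : T V g w ∈ gen k A v := by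
  obtain ⟨f, rfl⟩ := hw
  exact ⟨conv g f, (T_T g f v).symm⟩

/-- Local finiteness: every element of a comodule over a field lies in a finite-dimensional
subcomodule. -/
theorem gen_finite (v : V) : Module.Finite k (gen k A v) := by
  classical
  obtain ⟨s, hs⟩ := TensorProduct.exists_finset (R := k) (Comod.coact (k := k) (A := A) v)
  have : gen k A v ≤ Submodule.span k ((s.image Prod.fst : Finset V) : Set V) := by
    rintro _ ⟨g, rfl⟩
    change T V g v ∈ _
    rw [T_apply, hs]
    simp only [map_sum, LinearMap.lTensor_tmul, TensorProduct.rid_tmul]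
    refine Submodule.sum_mem _ fun i hi => Submodule.smul_mem _ _ (Submodule.subset_span ?_)
    simp only [Finset.coe_image, Set.mem_image, Finset.mem_coe]
    exact ⟨i, hi, rfl⟩
  have hf : Module.Finite k (Submodule.span k ((s.image Prod.fst : Finset V) : Set V)) :=
    Module.Finite.span_of_finite k (Finset.finite_toSet _)
  exact Submodule.finiteDimensional_of_le this

/-! ### Transport of comodule structures along injective and surjective maps -/

/-- A coaction-like map compatible with a comodule structure along an injection. -/
@[reducible] noncomputable def comodOfInjective {W : Type w'} [AddCommGroup W] [Module k W]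
    (i : W →ₗ[k] V) (hi : Function.Injective i) (c : W →ₗ[k] W ⊗[k] A)
    (hc : (i.rTensor A) ∘ₗ c = Comod.coact (k := k) (A := A) ∘ₗ i) : Comod k A W where
  coact := c
  coassoc := by
    have hinj : Function.Injective (i.rTensor (A ⊗[k] A)) := Module.Flat.rTensor_preserves_injective_linearMap i hi
    apply LinearMap.ext
    intro w
    apply hinj
    have hc' : ∀ x, (i.rTensor A) (c x) = Comod.coact (k := k) (A := A) (i x) :=
      fun x => LinearMap.congr_fun hc x
    have h1 : ∀ z : W ⊗[k] A, (i.rTensor (A ⊗[k] A)) (TensorProduct.assoc k W A A (c.rTensor A z)) =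
        TensorProduct.assoc k V A A ((Comod.coact (k := k) (A := A) (V := V)).rTensor A (i.rTensor A z)) := by
      intro z
      have hz : (i.rTensor A).rTensor A (c.rTensor A z) =
          (Comod.coact (k := k) (A := A) (V := V)).rTensor A (i.rTensor A z) := by
        rw [← LinearMap.rTensor_comp_apply, hc, LinearMap.rTensor_comp_apply]
      rw [← hz]
      generalize (c.rTensor A z) = y
      rw [LinearMap.rTensor_tensor]
      simp
    have h2 : ∀ z : W ⊗[k] A, (i.rTensor (A ⊗[k] A))
        ((CoalgebraStruct.comul (R := k) (A := A)).lTensor W z) =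
        (CoalgebraStruct.comul (R := k) (A := A)).lTensor V (i.rTensor A z) := by
      intro z
      rw [← LinearMap.comp_apply, ← LinearMap.comp_apply, LinearMap.rTensor_comp_lTensor,
        LinearMap.lTensor_comp_rTensor]
    simp only [LinearMap.comp_apply, LinearEquiv.coe_toLinearMap]
    rw [h1, h2, hc']
    exact LinearMap.congr_fun (Comod.coassoc (k := k) (A := A) (V := V)) (i w)
  counit_comp := by
    have hinj : Function.Injective (i.rTensor k) := Module.Flat.rTensor_preserves_injective_linearMap i hi
    apply LinearMap.ext
    intro w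
    apply hinj
    have hc' : ∀ x, (i.rTensor A) (c x) = Comod.coact (k := k) (A := A) (i x) :=
      fun x => LinearMap.congr_fun hc x
    have h2 : ∀ z : W ⊗[k] A, (i.rTensor k)
        ((CoalgebraStruct.counit (R := k) (A := A)).lTensor W z) =
        (CoalgebraStruct.counit (R := k) (A := A)).lTensor V (i.rTensor A z) := by
      intro z
      rw [← LinearMap.comp_apply, ← LinearMap.comp_apply, LinearMap.rTensor_comp_lTensor,
        LinearMap.lTensor_comp_rTensor]
    simp only [LinearMap.comp_apply]
    rw [h2, hc']
    have := LinearMap.congr_fun (Comod.counit_comp (k := k) (A := A) (V := V)) (i w)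
    simp only [LinearMap.comp_apply] at this
    rw [this]
    simp

/-- A coaction-like map compatible with a comodule structure along a surjection. -/
@[reducible] noncomputable def comodOfSurjective {W : Type w'} [AddCommGroup W] [Module k W]
    (q : V →ₗ[k] W) (hq : Function.Surjective q) (c : W →ₗ[k] W ⊗[k] A)
    (hc : (q.rTensor A) ∘ₗ Comod.coact (k := k) (A := A) = c ∘ₗ q) : Comod k A W where
  coact := c
  coassoc := by
    apply LinearMap.ext
    intro w
    obtain ⟨v, rfl⟩ := hq w
    have hc' : ∀ x, c (q x) = (q.rTensor A) (Comod.coact (k := k) (A := A) x) :=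
      fun x => (LinearMap.congr_fun hc x).symm
    have h1 : ∀ z : V ⊗[k] A, (q.rTensor (A ⊗[k] A)) (TensorProduct.assoc k V A A
          ((Comod.coact (k := k) (A := A) (V := V)).rTensor A z)) =
        TensorProduct.assoc k W A A (c.rTensor A (q.rTensor A z)) := by
      intro z
      have hz : (q.rTensor A).rTensor A ((Comod.coact (k := k) (A := A) (V := V)).rTensor A z) =
          c.rTensor A (q.rTensor A z) := by
        rw [← LinearMap.rTensor_comp_apply, hc, LinearMap.rTensor_comp_apply]
      rw [← hz]
      generalize ((Comod.coact (k := k) (A := A) (V := V)).rTensor A z) = y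
      rw [LinearMap.rTensor_tensor]
      simp
    have h2 : ∀ z : V ⊗[k] A, (q.rTensor (A ⊗[k] A))
        ((CoalgebraStruct.comul (R := k) (A := A)).lTensor V z) =
        (CoalgebraStruct.comul (R := k) (A := A)).lTensor W (q.rTensor A z) := by
      intro z
      rw [← LinearMap.comp_apply, ← LinearMap.comp_apply, LinearMap.rTensor_comp_lTensor,
        LinearMap.lTensor_comp_rTensor]
    simp only [LinearMap.comp_apply, LinearEquiv.coe_toLinearMap]
    rw [hc', ← h1, ← h2]
    congr 1
    exact LinearMap.congr_fun (Comod.coassoc (k := k) (A := A) (V := V)) v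
  counit_comp := by
    apply LinearMap.ext
    intro w
    obtain ⟨v, rfl⟩ := hq w
    have hc' : ∀ x, c (q x) = (q.rTensor A) (Comod.coact (k := k) (A := A) x) :=
      fun x => (LinearMap.congr_fun hc x).symm
    have h2 : ∀ z : V ⊗[k] A, (q.rTensor k)
        ((CoalgebraStruct.counit (R := k) (A := A)).lTensor V z) =
        (CoalgebraStruct.counit (R := k) (A := A)).lTensor W (q.rTensor A z) := by
      intro z
      rw [← LinearMap.comp_apply, ← LinearMap.comp_apply, LinearMap.rTensor_comp_lTensor,
        LinearMap.lTensor_comp_rTensor]
    simp only [LinearMap.comp_apply]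
    rw [hc', ← h2]
    have := LinearMap.congr_fun (Comod.counit_comp (k := k) (A := A) (V := V)) v
    simp only [LinearMap.comp_apply] at this
    rw [this]
    simp

/-- The coaction on a subcomodule. -/
noncomputable def subCoact (W : Submodule k V) (hW : IsSubcomod (k := k) (A := A) W) :
    W →ₗ[k] W ⊗[k] A :=
  (LinearEquiv.ofInjective (W.subtype.rTensor A)
    (Module.Flat.rTensor_preserves_injective_linearMap _ W.injective_subtype)).symm.toLinearMap ∘ₗ
    LinearMap.codRestrict (LinearMap.range (W.subtype.rTensor A))
      (Comod.coact (k := k) (A := A) ∘ₗ W.subtype) (fun w => hW w w.2)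

theorem subCoact_spec (W : Submodule k V) (hW : IsSubcomod (k := k) (A := A) W) :
    (W.subtype.rTensor A) ∘ₗ subCoact W hW = Comod.coact (k := k) (A := A) ∘ₗ W.subtype := by
  apply LinearMap.ext
  intro w
  have := LinearEquiv.ofInjective_symm_apply (f := W.subtype.rTensor A)
    (h := Module.Flat.rTensor_preserves_injective_linearMap _ W.injective_subtype)
    (LinearMap.codRestrict (LinearMap.range (W.subtype.rTensor A))
      (Comod.coact (k := k) (A := A) ∘ₗ W.subtype) (fun w => hW w w.2) w)
  exact this

/-- The comodule structure on a subcomodule. -/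
@[reducible] noncomputable def sub (W : Submodule k V) (hW : IsSubcomod (k := k) (A := A) W) :
    Comod k A W :=
  comodOfInjective W.subtype W.injective_subtype (subCoact W hW) (subCoact_spec W hW)

/-- The coaction on a quotient comodule. -/
noncomputable def quotCoact (W : Submodule k V) (hW : IsSubcomod (k := k) (A := A) W) :
    (V ⧸ W) →ₗ[k] (V ⧸ W) ⊗[k] A :=
  W.liftQ (W.mkQ.rTensor A ∘ₗ Comod.coact (k := k) (A := A)) (by
    intro w hw
    rw [LinearMap.mem_ker, LinearMap.comp_apply]
    obtain ⟨s, hs⟩ := hW w hw
    rw [← hs, ← LinearMap.rTensor_comp_apply]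
    have : W.mkQ ∘ₗ W.subtype = 0 := by
      ext x; simp
    rw [this]
    simp)

/-- The comodule structure on a quotient comodule. -/
@[reducible] noncomputable def quot (W : Submodule k V) (hW : IsSubcomod (k := k) (A := A) W) :
    Comod k A (V ⧸ W) :=
  comodOfSurjective W.mkQ W.mkQ_surjective (quotCoact W hW) (by
    rw [quotCoact, Submodule.liftQ_mkQ])

end Field

end Groth.Agent.Sga3A.ComodBasic
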