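import Groth.Agent.Sga3A.MultBC
import Mathlib.LinearAlgebra.TensorProduct.Pi

/-!
# Diagonalisability over a finite product of rings
-/

set_option autoImplicit false
universe u
open TensorProduct SGA3b Coalgebra Bialgebra

namespace Groth.Agent.Sga3A.DiagPi

section

variable {ι : Type*} [Finite ι] (T : ι → Type*) [∀ i, CommRing (T i)] (X : Type*)

/-- The projections `(∏ T i)[X] → (T i)[X]` on monoid algebras. -/
noncomputable def proj [CommMonoid X] (i : ι) : MonoidAlgebra (∀ i, T i) X →+* MonoidAlgebra (T i) X :=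
  MonoidAlgebra.mapRingHom X (Pi.evalRingHom T i)

variable {T X}

lemma coeff_proj [CommMonoid X] (i : ι) (x : MonoidAlgebra (∀ i, T i) X) (m : X) :
    (proj T X i x).coeff m = x.coeff m i := by
  simp [proj]

lemma ext_proj [CommMonoid X] {x y : MonoidAlgebra (∀ i, T i) X}
    (h : ∀ i, proj T X i x = proj T X i y) : x = y := by
  ext m i
  rw [← coeff_proj, ← coeff_proj, h]

lemma exists_proj [CommMonoid X] (y : ∀ i, MonoidAlgebra (T i) X) :
    ∃ x : MonoidAlgebra (∀ i, T i) X, ∀ i, proj T X i x = y i := by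
  classical
  have := Fintype.ofFinite ι
  refine ⟨MonoidAlgebra.ofCoeff (Finsupp.onFinset
    (Finset.univ.biUnion fun i => (y i).coeff.support) (fun m i => (y i).coeff m) ?_), ?_⟩
  · intro m hm
    obtain ⟨i, hi⟩ := Function.ne_iff.mp hm
    simp only [Finset.mem_biUnion, Finset.mem_univ, true_and]
    exact ⟨i, by simpa using hi⟩
  · intro i
    ext m
    rw [coeff_proj]
    simp

lemma proj_bijective [CommMonoid X] :
    Function.Bijective (RingHom.pi fun i => proj T X i) := by
  constructor
  · intro x y hxy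
    exact ext_proj fun i => congrFun hxy i
  · intro y
    obtain ⟨x, hx⟩ := exists_proj y
    exact ⟨x, funext hx⟩

/-- `(∏ T i)[X] ≃ ∏ (T i)[X]`. -/
noncomputable def projEquiv [CommMonoid X] :
    MonoidAlgebra (∀ i, T i) X ≃+* ∀ i, MonoidAlgebra (T i) X :=
  RingEquiv.ofBijective _ proj_bijective

lemma proj_projEquiv_symm [CommMonoid X] (y : ∀ i, MonoidAlgebra (T i) X) (i : ι) :
    proj T X i (projEquiv.symm y) = y i :=
  congrFun ((projEquiv (T := T) (X := X)).apply_symm_apply y) i

/-- Projections on `(∏ T i)[X] ⊗ (∏ T i)[X]`. -/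
noncomputable def proj₂ [CommMonoid X] (i : ι) :
    MonoidAlgebra (∀ i, T i) X ⊗[∀ i, T i] MonoidAlgebra (∀ i, T i) X →+*
      MonoidAlgebra (T i) X ⊗[T i] MonoidAlgebra (T i) X :=
  Algebra.TensorProduct.mapRingHom (Pi.evalRingHom T i) (proj T X i) (proj T X i)
    (by ext; simp [proj]) (by ext; simp [proj])

lemma proj₂_tmul [CommMonoid X] (i : ι) (x y : MonoidAlgebra (∀ i, T i) X) :
    proj₂ i (x ⊗ₜ y) = proj T X i x ⊗ₜ proj T X i y := by
  simp [proj₂]

lemma tensorEquiv_proj₂ [CommMonoid X] (i : ι)
    (z : MonoidAlgebra (∀ i, T i) X ⊗[∀ i, T i] MonoidAlgebra (∀ i, T i) X) :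
    MonoidAlgebra.tensorEquiv (T i) (proj₂ i z) =
      proj T (X × X) i (MonoidAlgebra.tensorEquiv (∀ i, T i) z) := by
  induction z with
  | zero => simp
  | add x y hx hy => simp only [map_add, hx, hy]
  | tmul x y =>
    rw [proj₂_tmul]
    induction x using MonoidAlgebra.induction_linear with
    | zero => simp
    | add x x' hx hx' => simp only [map_add, TensorProduct.add_tmul, hx, hx']
    | single m r =>
      induction y using MonoidAlgebra.induction_linear with
      | zero => simp
      | add y y' hy hy' => simp only [map_add, TensorProduct.tmul_add, hy, hy']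
      | single n s => simp [proj]

lemma ext_proj₂ [CommMonoid X]
    {x y : MonoidAlgebra (∀ i, T i) X ⊗[∀ i, T i] MonoidAlgebra (∀ i, T i) X}
    (h : ∀ i, proj₂ i x = proj₂ i y) : x = y := by
  apply (MonoidAlgebra.tensorEquiv (∀ i, T i)).injective
  apply ext_proj
  intro i
  rw [← tensorEquiv_proj₂, ← tensorEquiv_proj₂, h]

lemma comul_proj [CommMonoid X] (i : ι) (x : MonoidAlgebra (∀ i, T i) X) :
    comul (R := T i) (proj T X i x) = proj₂ i (comul (R := ∀ i, T i) x) := by
  have := MonoidAlgebra.comulAlgHom_comp_mapRingHom (M := X) (Pi.evalRingHom T i)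
  exact congr($this x)

lemma counit_proj [CommMonoid X] (i : ι) (x : MonoidAlgebra (∀ i, T i) X) :
    counit (R := T i) (proj T X i x) = counit (R := ∀ i, T i) x i := by
  have := MonoidAlgebra.counitAlgHom_comp_mapRingHom (M := X) (Pi.evalRingHom T i)
  exact congr($this x)

end

section Main

variable {R : Type*} [CommRing R] {B : Type*} [CommRing B] [Bialgebra R B]
  {ι : Type*} [Finite ι] {T : ι → Type*} [∀ i, CommRing (T i)] [∀ i, Algebra R (T i)]
  {X : Type*} [CommMonoid X] (e : ∀ i, T i ⊗[R] B ≃ₐc[T i] MonoidAlgebra (T i) X)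

/-- The map `B → (∏ T i)[X]`. -/
noncomputable def homB : B →ₐ[R] MonoidAlgebra (∀ i, T i) X where
  toRingHom := (projEquiv (T := T) (X := X)).symm.toRingHom.comp
    (RingHom.pi fun i => ((e i : T i ⊗[R] B →+* MonoidAlgebra (T i) X).comp
      (Algebra.TensorProduct.includeRight : B →ₐ[R] T i ⊗[R] B).toRingHom))
  commutes' r := by
    apply ext_proj
    intro i
    change proj T X i ((projEquiv (T := T) (X := X)).symm _) = _
    rw [proj_projEquiv_symm]
    change e i ((Algebra.TensorProduct.includeRight : B →ₐ[R] T i ⊗[R] B) (algebraMap R B r)) = _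
    rw [AlgHom.commutes, IsScalarTower.algebraMap_apply R (T i) (T i ⊗[R] B)]
    have h1 : e i (algebraMap (T i) (T i ⊗[R] B) (algebraMap R (T i) r)) =
      algebraMap (T i) (MonoidAlgebra (T i) X) (algebraMap R (T i) r) := AlgHomClass.commutes (e i) _
    rw [h1, IsScalarTower.algebraMap_apply R (∀ i, T i) (MonoidAlgebra (∀ i, T i) X)]
    simp [proj]

lemma proj_homB (i : ι) (b : B) : proj T X i (homB e b) = e i (1 ⊗ₜ b) := by
  change proj T X i ((projEquiv (T := T) (X := X)).symm _) = _
  rw [proj_projEquiv_symm]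
  rfl

/-- The map `(∏ T i) ⊗ B → (∏ T i)[X]`. -/
noncomputable def homTB : (∀ i, T i) ⊗[R] B →ₐ[∀ i, T i] MonoidAlgebra (∀ i, T i) X :=
  Algebra.TensorProduct.lift (Algebra.ofId _ _) (homB e) (fun _ _ => Commute.all _ _)

lemma homTB_tmul (t : ∀ i, T i) (b : B) : homTB e (t ⊗ₜ b) = t • homB e b := by
  simp [homTB, Algebra.ofId_apply, Algebra.smul_def]

lemma proj_smul (i : ι) (t : ∀ i, T i) (x : MonoidAlgebra (∀ i, T i) X) :
    proj T X i (t • x) = t i • proj T X i x := by
  ext m
  rw [coeff_proj]
  simp [coeff_proj]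

/-- The projection `(∏ T i) ⊗ B → T i ⊗ B`. -/
noncomputable def prB (T : ι → Type*) [∀ i, CommRing (T i)] [∀ i, Algebra R (T i)]
    (B : Type*) [CommRing B] [Algebra R B] (i : ι) :
    (∀ i, T i) ⊗[R] B →ₐ[R] T i ⊗[R] B :=
  Algebra.TensorProduct.map (Pi.evalAlgHom R T i) (AlgHom.id R B)

lemma prB_tmul (i : ι) (t : ∀ i, T i) (b : B) : prB T B i (t ⊗ₜ[R] b) = t i ⊗ₜ b := by
  simp [prB]

lemma prB_bijective : Function.Bijective
    (fun (x : (∀ i, T i) ⊗[R] B) (i : ι) => prB T B i x) := by
  classical
  have := Fintype.ofFinite ι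
  let E : (∀ i, T i) ⊗[R] B ≃ₗ[R] ∀ i, T i ⊗[R] B :=
    (TensorProduct.comm R _ _).trans ((TensorProduct.piRight R R B T).trans
      (LinearEquiv.piCongrRight fun i => TensorProduct.comm R _ _))
  have hE : (fun (x : (∀ i, T i) ⊗[R] B) (i : ι) => prB T B i x) = E := by
    ext x i
    induction x with
    | zero => simp
    | add x y hx hy => simp only [map_add, Pi.add_apply, hx, hy]
    | tmul t b => simp [prB_tmul, E]
  rw [hE]
  exact E.bijective

lemma proj_homTB (i : ι) (x : (∀ i, T i) ⊗[R] B) :
    proj T X i (homTB e x) = e i (prB T B i x) := by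
  induction x with
  | zero => simp
  | add x y hx hy => simp only [map_add, hx, hy]
  | tmul t b =>
    rw [homTB_tmul, proj_smul, proj_homB, prB_tmul, ← map_smul, TensorProduct.smul_tmul',
      smul_eq_mul, mul_one]

lemma homTB_bijective : Function.Bijective (homTB e) := by
  constructor
  · rw [injective_iff_map_eq_zero]
    intro x hx
    apply prB_bijective.injective
    funext i
    have := proj_homTB e i x
    rw [hx, map_zero] at this
    have h2 : e i (prB T B i x) = e i 0 := by rw [← this, map_zero]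
    change prB T B i x = prB T B i 0
    rw [EquivLike.injective (e i) h2, map_zero]
  · intro y
    obtain ⟨x, hx⟩ := (prB_bijective (R := R) (B := B) (T := T)).surjective
      (fun i => (e i).symm (proj T X i y))
    refine ⟨x, ext_proj fun i => ?_⟩
    rw [proj_homTB]
    have := congrFun hx i
    simp only at this
    rw [this]
    exact (e i).apply_symm_apply _

/-- If `B` is diagonalisable with the same group `X` over all the factors of a finite product,
it is diagonalisable with group `X` over the product. -/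
noncomputable def diagPi : (∀ i, T i) ⊗[R] B ≃ₐc[∀ i, T i] MonoidAlgebra (∀ i, T i) X :=
  BialgEquiv.ofAlgEquiv (AlgEquiv.ofBijective (homTB e) (homTB_bijective e))
    (by
      ext b i
      have h1 := counit_proj i (homTB e (1 ⊗ₜ b))
      rw [proj_homTB, CoalgHomClass.counit_comp_apply, prB_tmul] at h1
      change counit (R := ∀ i, T i) (homTB e (1 ⊗ₜ b)) i =
        counit (R := ∀ i, T i) ((1 : ∀ i, T i) ⊗ₜ[R] b) i
      rw [← h1]
      simp)
    (by
      apply Algebra.TensorProduct.ext
      · ext
      · ext b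
        apply ext_proj₂
        intro i
        change proj₂ i (TensorProduct.map (homTB e).toLinearMap (homTB e).toLinearMap
          (comul (1 ⊗ₜ[R] b))) = proj₂ i (comul (homTB e (1 ⊗ₜ b)))
        rw [← comul_proj, proj_homTB, prB_tmul, ← CoalgHomClass.map_comp_comul_apply]
        simp only [TensorProduct.comul_tmul, ← (ℛ R b).eq, Pi.one_apply, Bialgebra.comul_one,
          Algebra.TensorProduct.one_def, TensorProduct.tmul_sum, map_sum,
          TensorProduct.AlgebraTensorModule.tensorTensorTensorComm_tmul, TensorProduct.map_tmul,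
          proj₂_tmul]
        apply Finset.sum_congr rfl
        intro j _
        simp only [AlgHom.toLinearMap_apply, proj_homTB, prB_tmul]
        rfl)

end Main

end Groth.Agent.Sga3A.DiagPi
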