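import Groth.Agent.Sga3A.MTFamily

/-!
Homomorphisms out of group algebras and their lifting modulo nil ideals (team sga3-a).

* `liftMA g` : the bialgebra map `R[M] → A` attached to `g : M →* A` with group-like values.
* `lift_quot`, `uniq_quot`: group-likes of `(R ⧸ J) ⊗ A` lift uniquely to `A` (under `GLExist`, `GLUniq`).
* `bijective_of_quot`: a map between diagonalisable Hopf algebras which is bijective mod a nil ideal
  is bijective.
* `isDiag_of_isMultType_of_quot`: S2970.
-/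

open TensorProduct

namespace Groth.Agent.Sga3A.GLHom

open BCIso GLBasic GLLift MTFamily SGA3b

universe u v w

section lift

variable {R : Type u} [CommRing R] {A : Type v} [CommRing A] [Bialgebra R A] {M : Type w}
  [CommMonoid M]

/-- bialgebra map `R[M] → A` attached to a monoid hom `M → A` with group-like values -/
noncomputable def liftMA (g : M →* A) (hg : ∀ m, IsGroupLikeElem R (g m)) :
    MonoidAlgebra R M →ₐc[R] A :=
  BialgHom.ofAlgHom (MonoidAlgebra.lift R A M g)
    (by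
      ext m
      simp [(hg m).counit_eq_one])
    (by
      ext m
      simp [(hg m).comul_eq_tmul_self])

@[simp]
theorem liftMA_single (g : M →* A) (hg : ∀ m, IsGroupLikeElem R (g m)) (m : M) (r : R) :
    liftMA g hg (MonoidAlgebra.single m r) = r • g m := by
  change MonoidAlgebra.lift R A M g _ = _
  simp

theorem hom_ext_single {f g : MonoidAlgebra R M →ₐc[R] A}
    (h : ∀ m, f (MonoidAlgebra.single m 1) = g (MonoidAlgebra.single m 1)) : f = g := by
  apply MonoidAlgebra.bialgHom_ext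
  · exact h
  · ext

end lift

section quot

variable {R : Type u} [CommRing R] {A : Type u} [CommRing A] [Bialgebra R A]

theorem one_tmul_eq_zero_iff (J : Ideal R) {N : Type v} [AddCommGroup N] [Module R N] (n : N) :
    (1 : R ⧸ J) ⊗ₜ[R] n = 0 ↔ n ∈ (J • ⊤ : Submodule R N) := by
  rw [← (TensorProduct.quotTensorEquivQuotSMul N J).map_eq_zero_iff,
    TensorProduct.quotTensorEquivQuotSMul_mk_one_tmul, Submodule.Quotient.mk_eq_zero]

theorem exists_one_tmul (J : Ideal R) {N : Type v} [AddCommGroup N] [Module R N]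
    (x : (R ⧸ J) ⊗[R] N) : ∃ n : N, (1 : R ⧸ J) ⊗ₜ[R] n = x := by
  induction x using TensorProduct.induction_on with
  | zero => exact ⟨0, by simp⟩
  | tmul s n =>
    obtain ⟨r, rfl⟩ := Ideal.Quotient.mk_surjective s
    refine ⟨r • n, ?_⟩
    rw [TensorProduct.tmul_smul, TensorProduct.smul_tmul']
    congr 1
    rw [Algebra.smul_def, mul_one]
    rfl
  | add x y hx hy =>
    obtain ⟨a, rfl⟩ := hx
    obtain ⟨b, rfl⟩ := hy
    exact ⟨a + b, by rw [TensorProduct.tmul_add]⟩

theorem one_tmul_eq_iff (J : Ideal R) {N : Type v} [AddCommGroup N] [Module R N] (m n : N) :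
    (1 : R ⧸ J) ⊗ₜ[R] m = (1 : R ⧸ J) ⊗ₜ[R] n ↔ m - n ∈ (J • ⊤ : Submodule R N) := by
  rw [← one_tmul_eq_zero_iff, TensorProduct.tmul_sub, sub_eq_zero]

theorem isGLMod_of_quot {J : Ideal R} {a : A} (h : IsGroupLikeElem (R ⧸ J) ((1 : R ⧸ J) ⊗ₜ[R] a)) :
    IsGLMod J a := by
  refine ⟨?_, ?_⟩
  · have := h.counit_eq_one
    rw [counit_one_tmul] at this
    rw [← Ideal.Quotient.mk_eq_mk_iff_sub_mem, map_one]
    exact this
  · rw [← one_tmul_eq_zero_iff]
    have := h.comul_eq_tmul_self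
    rw [comul_one_tmul] at this
    apply (TensorProduct.AlgebraTensorModule.distribBaseChange R (R ⧸ J) A A).injective
    rw [TensorProduct.tmul_sub, map_sub, this, map_zero]
    simp

/-- group-likes of `(R ⧸ J) ⊗ A`, `J` nil, lift to `A` -/
theorem lift_quot (hE : GLExist R A) {J : Ideal R} (hJ : ∀ x ∈ J, IsNilpotent x)
    {x : (R ⧸ J) ⊗[R] A} (hx : IsGroupLikeElem (R ⧸ J) x) :
    ∃ a : A, IsGroupLikeElem R a ∧ (1 : R ⧸ J) ⊗ₜ[R] a = x := by
  obtain ⟨b, rfl⟩ := exists_one_tmul J x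
  obtain ⟨a, ha, hab⟩ := hE J hJ b (isGLMod_of_quot hx)
  exact ⟨a, ha, (one_tmul_eq_iff J a b).2 hab⟩

theorem uniq_quot (hU : GLUniq R A) {J : Ideal R} (hJ : ∀ x ∈ J, IsNilpotent x)
    {a b : A} (ha : IsGroupLikeElem R a) (hb : IsGroupLikeElem R b)
    (h : (1 : R ⧸ J) ⊗ₜ[R] a = (1 : R ⧸ J) ⊗ₜ[R] b) : a = b :=
  hU J hJ a b ha hb ((one_tmul_eq_iff J a b).1 h)

/-- Bialgebra maps out of a group algebra lift uniquely modulo a nil ideal. -/
theorem exists_lift_hom (hE : GLExist R A) (hU : GLUniq R A) {J : Ideal R}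
    (hJ : ∀ x ∈ J, IsNilpotent x) {M : Type w} [CommMonoid M] (g : M →* (R ⧸ J) ⊗[R] A)
    (hg : ∀ m, IsGroupLikeElem (R ⧸ J) (g m)) :
    ∃ G : M →* A, (∀ m, IsGroupLikeElem R (G m)) ∧ ∀ m, (1 : R ⧸ J) ⊗ₜ[R] G m = g m := by
  choose G hG1 hG2 using fun m => lift_quot hE hJ (hg m)
  refine ⟨{ toFun := G, map_one' := ?_, map_mul' := ?_ }, hG1, hG2⟩
  · refine uniq_quot hU hJ (hG1 1) .one ?_
    rw [hG2, map_one]; rfl
  · intro m n
    refine uniq_quot hU hJ (hG1 _) ((hG1 _).mul (hG1 _)) ?_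
    rw [hG2, map_mul, ← hG2 m, ← hG2 n, Algebra.TensorProduct.tmul_mul_tmul, one_mul]

end quot

section iso

variable {R : Type u} [CommRing R] {A : Type u} [CommRing A] [Bialgebra R A]
  {B : Type u} [CommRing B] [Bialgebra R B]

/-- two maps out of a bialgebra isomorphic to a group algebra which agree modulo a nil ideal agree -/
theorem hom_eq_of_quot {M : Type w} [CommMonoid M] (e : A ≃ₐc[R] MonoidAlgebra R M)
    (hU : GLUniq R B) {J : Ideal R} (hJ : ∀ x ∈ J, IsNilpotent x) (f g : A →ₐc[R] B)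
    (h : ∀ a, (1 : R ⧸ J) ⊗ₜ[R] f a = (1 : R ⧸ J) ⊗ₜ[R] g a) : f = g := by
  have key : f.comp (e.symm : MonoidAlgebra R M →ₐc[R] A) =
      g.comp (e.symm : MonoidAlgebra R M →ₐc[R] A) := by
    apply hom_ext_single
    intro m
    have h0 : IsGroupLikeElem R (e.symm (MonoidAlgebra.single m 1)) :=
      (MonoidAlgebra.isGroupLikeElem_single_one m).map e.symm
    exact uniq_quot hU hJ (h0.map f) (h0.map g) (h _)
  ext a
  have := DFunLike.congr_fun key (e a)
  simpa using this

/-- A map between Hopf algebras isomorphic to group algebras which is bijective modulo a nil ideal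
is bijective. -/
theorem bijective_of_quot {M N : Type u} [CommGroup M] [CommGroup N]
    (e : A ≃ₐc[R] MonoidAlgebra R M) (e' : B ≃ₐc[R] MonoidAlgebra R N)
    {J : Ideal R} (hJ : ∀ x ∈ J, IsNilpotent x) (f : A →ₐc[R] B)
    (hf : Function.Bijective (mapBialg (R ⧸ J) f)) : Function.Bijective f := by
  have hEA : GLExist R A := (glExist_monoidAlgebra (R := R) M).congr e.symm
  have hUA : GLUniq R A := (glUniq_monoidAlgebra (R := R) M).congr e.symm
  have hUB : GLUniq R B := (glUniq_monoidAlgebra (R := R) N).congr e'.symm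
  let f0 : (R ⧸ J) ⊗[R] A ≃ₐc[R ⧸ J] (R ⧸ J) ⊗[R] B := BialgEquiv.ofBijective _ hf
  let n1 : ∀ n : N, B := fun n => e'.symm (MonoidAlgebra.single n 1)
  have hn1 : ∀ n, IsGroupLikeElem R (n1 n) := fun n =>
    (MonoidAlgebra.isGroupLikeElem_single_one n).map e'.symm
  let g : N →* (R ⧸ J) ⊗[R] A :=
    { toFun := fun n => f0.symm ((1 : R ⧸ J) ⊗ₜ[R] n1 n)
      map_one' := by
        have : n1 1 = 1 := by
          change e'.symm _ = 1
          rw [← MonoidAlgebra.one_def, map_one]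
        rw [this]
        exact map_one f0.symm
      map_mul' := fun a b => by
        have : n1 (a * b) = n1 a * n1 b := by
          change e'.symm _ = e'.symm _ * e'.symm _
          rw [← map_mul, MonoidAlgebra.single_mul_single, one_mul]
        rw [this, ← map_mul f0.symm, Algebra.TensorProduct.tmul_mul_tmul, one_mul] }
  obtain ⟨G, hG, hGg⟩ := exists_lift_hom hEA hUA hJ g
    (fun n => (isGroupLikeElem_one_tmul (hn1 n)).map f0.symm)
  let F : B →ₐc[R] A := (liftMA G hG).comp (e' : B →ₐc[R] MonoidAlgebra R N)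
  have hFq : ∀ b : B, (1 : R ⧸ J) ⊗ₜ[R] F b = f0.symm ((1 : R ⧸ J) ⊗ₜ[R] b) := by
    intro b
    obtain ⟨x, rfl⟩ := EquivLike.surjective e'.symm b
    change (1 : R ⧸ J) ⊗ₜ[R] (liftMA G hG) (e' (e'.symm x)) = _
    rw [e'.apply_symm_apply]
    induction x using MonoidAlgebra.induction_linear with
    | zero => simp only [map_zero, TensorProduct.tmul_zero]
    | add x y hx hy => simp only [map_add, TensorProduct.tmul_add, hx, hy]
    | single n r =>
      have h1 : MonoidAlgebra.single n r = r • MonoidAlgebra.single n (1 : R) := by simp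
      rw [h1, map_smul, map_smul, TensorProduct.tmul_smul, TensorProduct.tmul_smul, liftMA_single,
        one_smul, hGg]
      change _ = f0.symm _
      have h2 : r • ((1 : R ⧸ J) ⊗ₜ[R] e'.symm (MonoidAlgebra.single n (1 : R))) =
          (algebraMap R (R ⧸ J) r) • ((1 : R ⧸ J) ⊗ₜ[R] e'.symm (MonoidAlgebra.single n (1 : R))) := by
        rw [algebraMap_smul]
      rw [h2, map_smul, algebraMap_smul]
      rfl
  have hF1 : f.comp F = BialgHom.id R B := by
    apply hom_eq_of_quot e' hUB hJ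
    intro b
    have h3 : (1 : R ⧸ J) ⊗ₜ[R] f (F b) = f0 ((1 : R ⧸ J) ⊗ₜ[R] F b) := rfl
    change (1 : R ⧸ J) ⊗ₜ[R] f (F b) = (1 : R ⧸ J) ⊗ₜ[R] b
    rw [h3, hFq, f0.apply_symm_apply]
  have hF2 : F.comp f = BialgHom.id R A := by
    apply hom_eq_of_quot e hUA hJ
    intro a
    change (1 : R ⧸ J) ⊗ₜ[R] F (f a) = (1 : R ⧸ J) ⊗ₜ[R] a
    rw [hFq]
    change f0.symm (f0 ((1 : R ⧸ J) ⊗ₜ[R] a)) = _
    rw [f0.symm_apply_apply]
  exact (BialgEquiv.ofBialgHom f F hF1 hF2).toEquiv.bijective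

end iso

end Groth.Agent.Sga3A.GLHom
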