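import Groth.Agent.Sga3A.FibDef
import Groth.Agent.Sga3A.GLHom
import Groth.Agent.Sga3A.FibRes

/-!
# Chains of ideals: `DiagMod` modulo the union of a chain holds modulo a member of the chain
-/

set_option autoImplicit false
universe u v
open TensorProduct

namespace Groth.Agent.Sga3A.FibChain

open FibDef GLHom GLBasic GLLift BCIso

section chain

variable {R : Type u} [CommRing R] {c : Set (Ideal R)}

theorem mem_sSup_chain (hne : c.Nonempty) (hc : IsChain (· ≤ ·) c) {r : R} :
    r ∈ sSup c ↔ ∃ J ∈ c, r ∈ J :=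
  Submodule.mem_sSup_of_directed hne hc.directedOn

/-- a finite number of conditions, monotone in the ideal, can be achieved simultaneously -/
theorem exists_forall_finset (hne : c.Nonempty) (hc : IsChain (· ≤ ·) c) {ι : Type v} (s : Finset ι)
    (p : ι → Ideal R → Prop) (hp : ∀ i, ∀ I J : Ideal R, I ≤ J → p i I → p i J)
    (h : ∀ i ∈ s, ∃ J ∈ c, p i J) : ∃ J ∈ c, ∀ i ∈ s, p i J := by
  classical
  induction s using Finset.induction_on with
  | empty =>
    obtain ⟨J, hJ⟩ := hne
    exact ⟨J, hJ, by simp⟩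
  | insert a s ha ih =>
    obtain ⟨J, hJ, h1⟩ := ih (fun i hi => h i (Finset.mem_insert_of_mem hi))
    obtain ⟨J', hJ', h2⟩ := h a (Finset.mem_insert_self a s)
    rcases hc.total hJ hJ' with hle | hle
    · refine ⟨J', hJ', fun i hi => ?_⟩
      rcases Finset.mem_insert.mp hi with rfl | hi
      · exact h2
      · exact hp i _ _ hle (h1 i hi)
    · refine ⟨J, hJ, fun i hi => ?_⟩
      rcases Finset.mem_insert.mp hi with rfl | hi
      · exact hp _ _ _ hle h2
      · exact h1 i hi

theorem exists_mem_smul_top (hne : c.Nonempty) (hc : IsChain (· ≤ ·) c) {N : Type v}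
    [AddCommGroup N] [Module R N] {n : N} (h : n ∈ (sSup c • ⊤ : Submodule R N)) :
    ∃ J ∈ c, n ∈ (J • ⊤ : Submodule R N) := by
  induction h using Submodule.smul_induction_on' with
  | smul r hr n hn =>
    obtain ⟨J, hJ, hrJ⟩ := (mem_sSup_chain hne hc).mp hr
    exact ⟨J, hJ, Submodule.smul_mem_smul hrJ hn⟩
  | add x hx y hy h1 h2 =>
    obtain ⟨J, hJ, h1⟩ := h1
    obtain ⟨J', hJ', h2⟩ := h2
    rcases hc.total hJ hJ' with hle | hle
    · exact ⟨J', hJ', add_mem (Submodule.smul_mono_left hle h1) h2⟩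
    · exact ⟨J, hJ, add_mem h1 (Submodule.smul_mono_left hle h2)⟩

end chain

section main

variable {R A M : Type u} [CommRing R] [CommRing A] [HopfAlgebra R A] [CommGroup M]

theorem IsGLMod.mono {I J : Ideal R} (hIJ : I ≤ J) {a : A} (h : IsGLMod I a) : IsGLMod J a :=
  ⟨hIJ h.1, Submodule.smul_mono_left hIJ h.2⟩

theorem exists_isGLMod {c : Set (Ideal R)} (hne : c.Nonempty) (hc : IsChain (· ≤ ·) c) {a : A}
    (h : IsGLMod (sSup c) a) : ∃ J ∈ c, IsGLMod J a := by
  obtain ⟨J, hJ, h1⟩ := (mem_sSup_chain hne hc).mp h.1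
  obtain ⟨J', hJ', h2⟩ := exists_mem_smul_top hne hc h.2
  rcases hc.total hJ hJ' with hle | hle
  · exact ⟨J', hJ', hle h1, h2⟩
  · exact ⟨J, hJ, h1, Submodule.smul_mono_left hle h2⟩

theorem isGroupLikeElem_of_isGLMod {J : Ideal R} {a : A} (h : IsGLMod J a) :
    IsGroupLikeElem (R ⧸ J) ((1 : R ⧸ J) ⊗ₜ[R] a) := by
  constructor
  · rw [counit_one_tmul]
    have := (Ideal.Quotient.mk_eq_mk_iff_sub_mem _ _).2 h.1
    rw [map_one] at this
    exact this
  · rw [comul_one_tmul]
    have h2 := (one_tmul_eq_iff J _ _).2 h.2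
    have h3 := congrArg (TensorProduct.AlgebraTensorModule.distribBaseChange R (R ⧸ J) A A) h2
    rw [h3]
    simp

theorem qJ_eq_zero_iff {J : Ideal R} (x : MonoidAlgebra R M) :
    MonoidAlgebra.lift R (MonoidAlgebra (R ⧸ J) M) M (MonoidAlgebra.of (R ⧸ J) M) x = 0 ↔
      x ∈ (J • ⊤ : Submodule R (MonoidAlgebra R M)) := by
  rw [← one_tmul_eq_zero_iff, ← (scalarBialg R (R ⧸ J) M).map_eq_zero_iff]
  have : ∀ y : MonoidAlgebra R M, scalarBialg R (R ⧸ J) M ((1 : R ⧸ J) ⊗ₜ[R] y) =
      MonoidAlgebra.lift R (MonoidAlgebra (R ⧸ J) M) M (MonoidAlgebra.of (R ⧸ J) M) y := by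
    intro y
    induction y using MonoidAlgebra.induction_linear with
    | zero => simp
    | add y z hy hz => rw [TensorProduct.tmul_add, map_add, map_add, hy, hz]
    | single m r =>
      rw [scalarBialg_tmul_single, MonoidAlgebra.lift_single, one_mul, MonoidAlgebra.of_apply,
        MonoidAlgebra.smul_single, Algebra.smul_def, mul_one]
  rw [← this]
  rfl

variable (R A M) in
/-- `DiagMod` modulo the union of a chain holds modulo a member of the chain. -/
theorem exists_mem_diagMod_of_sSup [Group.FG M]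
    [Algebra.FinitePresentation R A] (c : Set (Ideal R)) (hne : c.Nonempty)
    (hc : IsChain (· ≤ ·) c) (h : DiagMod R A M (sSup c)) : ∃ J ∈ c, DiagMod R A M J := by
  classical
  obtain ⟨e⟩ := h
  have hfp : Algebra.FinitePresentation R (MonoidAlgebra R M) :=
    FibRes.finitePresentation_monoidAlgebra R M
  obtain ⟨n, π, hπ, ⟨rel, hrel⟩⟩ := hfp
  obtain ⟨n', π', hπ', ⟨rel', hrel'⟩⟩ := (inferInstance : Algebra.FinitePresentation R A)
  obtain ⟨S, hS⟩ := (Group.fg_def.mp (inferInstance : Group.FG M))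
  set J0 : Ideal R := sSup c with hJ0
  let q : ∀ J : Ideal R, MonoidAlgebra R M →ₐ[R] MonoidAlgebra (R ⧸ J) M := fun J =>
    MonoidAlgebra.lift R _ M (MonoidAlgebra.of (R ⧸ J) M)
  have hq : ∀ (J : Ideal R) (x : MonoidAlgebra R M), q J x = 0 ↔ x ∈ (J • ⊤ : Submodule R _) :=
    fun J x => qJ_eq_zero_iff x
  let eR : (R ⧸ J0) ⊗[R] A ≃ₐ[R] MonoidAlgebra (R ⧸ J0) M :=
    ((e : (R ⧸ J0) ⊗[R] A ≃ₐ[R ⧸ J0] MonoidAlgebra (R ⧸ J0) M)).restrictScalars R
  -- lifts of the images of the generators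
  choose a ha using fun i : Fin n => exists_one_tmul J0 (eR.symm (q J0 (π (MvPolynomial.X i))))
  let Φ : MvPolynomial (Fin n) R →ₐ[R] A := MvPolynomial.aeval a
  let inc : ∀ J : Ideal R, A →ₐ[R] (R ⧸ J) ⊗[R] A := fun J => Algebra.TensorProduct.includeRight
  have hinc : ∀ (J : Ideal R) (x : A), inc J x = 0 ↔ x ∈ (J • ⊤ : Submodule R A) :=
    fun J x => one_tmul_eq_zero_iff J x
  have hΦ : ∀ p, inc J0 (Φ p) = eR.symm (q J0 (π p)) := by
    intro p
    have : (inc J0).comp Φ = ((eR.symm : _ →ₐ[R] _).comp (q J0)).comp π := by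
      apply MvPolynomial.algHom_ext
      intro i
      simp only [AlgHom.comp_apply]
      rw [show Φ (MvPolynomial.X i) = a i from MvPolynomial.aeval_X _ _]
      exact ha i
    exact congrArg (fun k : MvPolynomial (Fin n) R →ₐ[R] (R ⧸ J0) ⊗[R] A => k p) this
  -- preimages in the other direction
  have hqs : Function.Surjective (q J0) := by
    intro x
    induction x using MonoidAlgebra.induction_linear with
    | zero => exact ⟨0, map_zero _⟩
    | add y z hy hz =>
      obtain ⟨y, rfl⟩ := hy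
      obtain ⟨z, rfl⟩ := hz
      exact ⟨y + z, map_add _ _ _⟩
    | single m r =>
      obtain ⟨r, rfl⟩ := Ideal.Quotient.mk_surjective r
      refine ⟨MonoidAlgebra.single m r, ?_⟩
      change MonoidAlgebra.lift R _ M (MonoidAlgebra.of (R ⧸ J0) M) _ = _
      rw [MonoidAlgebra.lift_single, MonoidAlgebra.of_apply,
        MonoidAlgebra.smul_single, Algebra.smul_def, mul_one]
      rfl
  have hex : ∀ x : A, ∃ p, q J0 (π p) = eR (inc J0 x) := by
    intro x
    obtain ⟨y, hy⟩ := hqs (eR (inc J0 x))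
    obtain ⟨p, rfl⟩ := hπ y
    exact ⟨p, hy⟩
  choose w hw using fun i : Fin n' => hex (π' (MvPolynomial.X i))
  let Ψ : MvPolynomial (Fin n') R →ₐ[R] MonoidAlgebra R M := MvPolynomial.aeval fun i => π (w i)
  have hΨ : ∀ p, q J0 (Ψ p) = eR (inc J0 (π' p)) := by
    intro p
    have : (q J0).comp Ψ = ((eR : _ →ₐ[R] _).comp (inc J0)).comp π' := by
      apply MvPolynomial.algHom_ext
      intro i
      simp only [AlgHom.comp_apply]
      rw [show Ψ (MvPolynomial.X i) = π (w i) from MvPolynomial.aeval_X _ _]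
      exact hw i
    exact congrArg (fun k : MvPolynomial (Fin n') R →ₐ[R] MonoidAlgebra (R ⧸ J0) M => k p) this
  choose y hy using fun j : Fin n => hπ' (a j)
  choose pm hpm using fun m : M => hπ (MonoidAlgebra.single m 1)
  -- the finitely many conditions
  obtain ⟨J1, hJ1c, hJ1⟩ := exists_forall_finset hne hc rel
    (fun r J => Φ r ∈ (J • ⊤ : Submodule R A))
    (fun r I J hIJ h => Submodule.smul_mono_left hIJ h)
    (fun r hr => exists_mem_smul_top hne hc (by
      rw [← hJ0, ← hinc, hΦ]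
      have : π r = 0 := by
        have h1 : r ∈ RingHom.ker π.toRingHom := hrel ▸ Ideal.subset_span hr
        exact h1
      rw [this, map_zero, map_zero]))
  obtain ⟨J2, hJ2c, hJ2⟩ := exists_forall_finset hne hc S
    (fun m J => IsGLMod J (Φ (pm m)))
    (fun m I J hIJ h => IsGLMod.mono hIJ h)
    (fun m hm => exists_isGLMod hne hc (by
      rw [← hJ0]
      apply isGLMod_of_quot
      have h1 : inc J0 (Φ (pm m)) = e.symm (MonoidAlgebra.single m 1) := by
        rw [hΦ, hpm]
        change eR.symm (MonoidAlgebra.lift R _ M (MonoidAlgebra.of (R ⧸ J0) M) _) = _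
        rw [MonoidAlgebra.lift_single, one_smul]
        rfl
      change IsGroupLikeElem (R ⧸ J0) (inc J0 (Φ (pm m)))
      rw [h1]
      exact (MonoidAlgebra.isGroupLikeElem_single_one m).map e.symm))
  obtain ⟨J3, hJ3c, hJ3⟩ := exists_forall_finset hne hc (Finset.univ : Finset (Fin n'))
    (fun i J => π' (MvPolynomial.X i) - Φ (w i) ∈ (J • ⊤ : Submodule R A))
    (fun r I J hIJ h => Submodule.smul_mono_left hIJ h)
    (fun i _ => exists_mem_smul_top hne hc (by
      rw [← hJ0, ← hinc, map_sub, hΦ, hw, AlgEquiv.symm_apply_apply, sub_self]))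
  obtain ⟨J4, hJ4c, hJ4⟩ := exists_forall_finset hne hc rel'
    (fun r J => Ψ r ∈ (J • ⊤ : Submodule R (MonoidAlgebra R M)))
    (fun r I J hIJ h => Submodule.smul_mono_left hIJ h)
    (fun r hr => exists_mem_smul_top hne hc (by
      rw [← hJ0, ← hq, hΨ]
      have : π' r = 0 := by
        have h1 : r ∈ RingHom.ker π'.toRingHom := hrel' ▸ Ideal.subset_span hr
        exact h1
      rw [this, map_zero, map_zero]))
  obtain ⟨J5, hJ5c, hJ5⟩ := exists_forall_finset hne hc (Finset.univ : Finset (Fin n))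
    (fun j J => Ψ (y j) - π (MvPolynomial.X j) ∈ (J • ⊤ : Submodule R (MonoidAlgebra R M)))
    (fun r I J hIJ h => Submodule.smul_mono_left hIJ h)
    (fun j _ => exists_mem_smul_top hne hc (by
      rw [← hJ0, ← hq, map_sub, hΨ, hy]
      have h1 : inc J0 (a j) = eR.symm (q J0 (π (MvPolynomial.X j))) := ha j
      rw [h1, AlgEquiv.apply_symm_apply, sub_self]))
  -- a common upper bound in the chain
  obtain ⟨J, hJc, hle⟩ : ∃ J ∈ c, J1 ≤ J ∧ J2 ≤ J ∧ J3 ≤ J ∧ J4 ≤ J ∧ J5 ≤ J := by
    obtain ⟨K, hK, h1, h2⟩ := hc.directedOn J1 hJ1c J2 hJ2c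
    obtain ⟨K', hK', h3, h4⟩ := hc.directedOn J3 hJ3c J4 hJ4c
    obtain ⟨K'', hK'', h5, h6⟩ := hc.directedOn K hK K' hK'
    obtain ⟨L, hL, h7, h8⟩ := hc.directedOn K'' hK'' J5 hJ5c
    exact ⟨L, hL, h1.trans (h5.trans h7), h2.trans (h5.trans h7), h3.trans (h6.trans h7),
      h4.trans (h6.trans h7), h8⟩
  refine ⟨J, hJc, ?_⟩
  obtain ⟨l1, l2, l3, l4, l5⟩ := hle
  -- the map on `R[M]`
  have hkerΦ : RingHom.ker π ≤ RingHom.ker ((inc J).comp Φ) := by
    change RingHom.ker π.toRingHom ≤ _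
    rw [← hrel, Ideal.span_le]
    intro r hr
    change inc J (Φ r) = 0
    rw [hinc]
    exact Submodule.smul_mono_left l1 (hJ1 r hr)
  let g : MonoidAlgebra R M →ₐ[R] (R ⧸ J) ⊗[R] A :=
    AlgHom.liftOfSurjective π hπ ((inc J).comp Φ) hkerΦ
  have hg : ∀ p, g (π p) = inc J (Φ p) := fun p => AlgHom.liftOfSurjective_apply _ _ _ _ _
  have hGL : ∀ m, IsGroupLikeElem (R ⧸ J) (g (MonoidAlgebra.single m 1)) := by
    intro m
    have hm : m ∈ Subgroup.closure (S : Set M) := hS ▸ Subgroup.mem_top m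
    induction hm using Subgroup.closure_induction with
    | mem m hm =>
      rw [← hpm, hg]
      exact isGroupLikeElem_of_isGLMod (IsGLMod.mono l2 (hJ2 m hm))
    | one =>
      rw [← MonoidAlgebra.one_def, map_one]
      exact .one
    | mul x y _ _ hx hy =>
      have : (MonoidAlgebra.single (x * y) 1 : MonoidAlgebra R M) =
        MonoidAlgebra.single x 1 * MonoidAlgebra.single y 1 := by simp
      rw [this, map_mul]
      exact hx.mul hy
    | inv x _ hx =>
      have h1 : g (MonoidAlgebra.single x 1) * g (MonoidAlgebra.single x⁻¹ 1) = 1 := by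
        rw [← map_mul, MonoidAlgebra.single_mul_single, mul_inv_cancel, mul_one,
          ← MonoidAlgebra.one_def, map_one]
      exact hx.of_mul_eq_one h1 (by rw [mul_comm]; exact h1)
  let G : M →* (R ⧸ J) ⊗[R] A := (g : _ →* (R ⧸ J) ⊗[R] A).comp (MonoidAlgebra.of R M)
  let F : MonoidAlgebra (R ⧸ J) M →ₐc[R ⧸ J] (R ⧸ J) ⊗[R] A := liftMA G hGL
  have hF : ∀ b, F (q J b) = g b := by
    intro b
    have : ((F : MonoidAlgebra (R ⧸ J) M →ₐ[R ⧸ J] (R ⧸ J) ⊗[R] A).restrictScalars R).comp (q J)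
        = g := by
      apply MonoidAlgebra.algHom_ext
      · intro m
        change F (MonoidAlgebra.lift R _ M (MonoidAlgebra.of (R ⧸ J) M) _) = _
        rw [MonoidAlgebra.lift_single, one_smul]
        exact (liftMA_single G hGL m 1).trans (one_smul _ _)
      · exact Subsingleton.elim _ _
    exact congrArg (fun k : MonoidAlgebra R M →ₐ[R] (R ⧸ J) ⊗[R] A => k b) this
  have hqJs : Function.Surjective (q J) := by
    intro x
    induction x using MonoidAlgebra.induction_linear with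
    | zero => exact ⟨0, map_zero _⟩
    | add y z hy hz =>
      obtain ⟨y, rfl⟩ := hy
      obtain ⟨z, rfl⟩ := hz
      exact ⟨y + z, map_add _ _ _⟩
    | single m r =>
      obtain ⟨r, rfl⟩ := Ideal.Quotient.mk_surjective r
      refine ⟨MonoidAlgebra.single m r, ?_⟩
      change MonoidAlgebra.lift R _ M (MonoidAlgebra.of (R ⧸ J) M) _ = _
      rw [MonoidAlgebra.lift_single, MonoidAlgebra.of_apply,
        MonoidAlgebra.smul_single, Algebra.smul_def, mul_one]
      rfl
  -- the inverse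
  have hkerΨ : RingHom.ker π' ≤ RingHom.ker ((q J).comp Ψ) := by
    change RingHom.ker π'.toRingHom ≤ _
    rw [← hrel', Ideal.span_le]
    intro r hr
    change q J (Ψ r) = 0
    rw [hq]
    exact Submodule.smul_mono_left l4 (hJ4 r hr)
  let ψ : A →ₐ[R] MonoidAlgebra (R ⧸ J) M :=
    AlgHom.liftOfSurjective π' hπ' ((q J).comp Ψ) hkerΨ
  have hψ : ∀ p, ψ (π' p) = q J (Ψ p) := fun p => AlgHom.liftOfSurjective_apply _ _ _ _ _
  have hψ0 : ∀ x ∈ (J • ⊤ : Submodule R A), ψ x = 0 := by
    intro x hx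
    induction hx using Submodule.smul_induction_on' with
    | smul r hr n hn =>
      rw [map_smul, ← algebraMap_smul (R ⧸ J) r (ψ n)]
      have : algebraMap R (R ⧸ J) r = 0 := Ideal.Quotient.eq_zero_iff_mem.mpr hr
      rw [this, zero_smul]
    | add x hx y hy h1 h2 => rw [map_add, h1, h2, add_zero]
  have hψΦ : ∀ p, ψ (Φ p) = q J (π p) := by
    intro p
    have : ψ.comp Φ = (q J).comp π := by
      apply MvPolynomial.algHom_ext
      intro j
      simp only [AlgHom.comp_apply]
      rw [show Φ (MvPolynomial.X j) = a j from MvPolynomial.aeval_X _ _, ← hy j, hψ,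
        ← sub_eq_zero, ← map_sub, hq]
      exact Submodule.smul_mono_left l5 (hJ5 j (Finset.mem_univ j))
    exact congrArg (fun k : MvPolynomial (Fin n) R →ₐ[R] MonoidAlgebra (R ⧸ J) M => k p) this
  have hinj : Function.Injective F := by
    rw [injective_iff_map_eq_zero]
    intro x hx
    obtain ⟨b, rfl⟩ := hqJs x
    obtain ⟨p, rfl⟩ := hπ b
    rw [hF, hg, hinc] at hx
    rw [← hψΦ, hψ0 _ hx]
  have hsurj : Function.Surjective F := by
    have h1 : ∀ p : MvPolynomial (Fin n') R, ∃ b, g b = inc J (π' p) := by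
      intro p
      have h2 : (inc J).comp π' = (g.comp (π.comp (MvPolynomial.aeval w))) := by
        apply MvPolynomial.algHom_ext
        intro i
        simp only [AlgHom.comp_apply, MvPolynomial.aeval_X]
        rw [hg, ← sub_eq_zero, ← map_sub, hinc]
        exact Submodule.smul_mono_left l3 (hJ3 i (Finset.mem_univ i))
      exact ⟨_, (congrArg (fun k : MvPolynomial (Fin n') R →ₐ[R] (R ⧸ J) ⊗[R] A => k p) h2).symm⟩
    intro x
    obtain ⟨z, rfl⟩ := exists_one_tmul J x
    obtain ⟨p, rfl⟩ := hπ' z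
    obtain ⟨b, hb⟩ := h1 p
    exact ⟨q J b, by rw [hF, hb]; rfl⟩
  exact ⟨(BialgEquiv.ofBijective F ⟨hinj, hsurj⟩).symm⟩

end main

end Groth.Agent.Sga3A.FibChain
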