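import Mathlib.RingTheory.HopfAlgebra.Basic
import Mathlib.RingTheory.HopfAlgebra.MonoidAlgebra
import Mathlib.RingTheory.HopfAlgebra.TensorProduct
import Mathlib.RingTheory.HopfAlgebra.GroupLike
import Mathlib.RingTheory.Bialgebra.MonoidAlgebra
import Mathlib.RingTheory.Bialgebra.Equiv
import Mathlib.LinearAlgebra.TensorProduct.Basis
import Mathlib.RingTheory.Flat.FaithfullyFlat.Descent
import Mathlib.RingTheory.TensorProduct.IncludeLeftSubRight

/-!
# Bases of group-like elements

`GBasis S B M`: an `S`-basis of the `S`-bialgebra `B` indexed by the commutative group `M`, multiplicative,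
consisting of group-like elements; equivalently an isomorphism `B ≃ S[M]`.
-/

set_option autoImplicit false

open TensorProduct

namespace Groth.Agent.Sga3A.MTBasis

/-- A multiplicative basis of group-like elements of the bialgebra `B`, indexed by `M`. -/
structure GBasis (S : Type*) (B : Type*) (M : Type*) [CommRing S] [CommRing B] [Bialgebra S B] [CommGroup M] where
  /-- the basis -/
  b : Module.Basis M S B
  one : b 1 = 1
  mul : ∀ m n, b (m * n) = b m * b n
  gl : ∀ m, IsGroupLikeElem S (b m)

namespace GBasis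

section basic

variable {S B M : Type*} [CommRing S] [CommRing B] [Bialgebra S B] [CommGroup M]

/-- The basis of a bialgebra isomorphic to a group algebra. -/
noncomputable def ofBialgEquiv (e : B ≃ₐc[S] MonoidAlgebra S M) : GBasis S B M where
  b := (MonoidAlgebra.basis M S).map (e.symm : MonoidAlgebra S M ≃ₐ[S] B).toLinearEquiv
  one := by
    simp only [Module.Basis.map_apply, MonoidAlgebra.basis_apply]
    rw [← MonoidAlgebra.one_def]
    exact map_one e.symm
  mul m n := by
    simp only [Module.Basis.map_apply, MonoidAlgebra.basis_apply]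
    have : (MonoidAlgebra.single (m * n) (1 : S)) = MonoidAlgebra.single m 1 * MonoidAlgebra.single n 1 := by
      rw [MonoidAlgebra.single_mul_single, one_mul]
    rw [this]
    exact map_mul e.symm _ _
  gl m := by
    simp only [Module.Basis.map_apply, MonoidAlgebra.basis_apply]
    exact (MonoidAlgebra.isGroupLikeElem_single_one (R := S) (A := S) m).map e.symm

@[simp] lemma ofBialgEquiv_b (e : B ≃ₐc[S] MonoidAlgebra S M) (m : M) :
    (ofBialgEquiv e).b m = e.symm (MonoidAlgebra.single m 1) := rfl

variable (g : GBasis S B M)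

/-- the monoid hom given by the basis -/
noncomputable def hom : M →* B where
  toFun := g.b
  map_one' := g.one
  map_mul' := g.mul

@[simp] lemma hom_apply (m : M) : g.hom m = g.b m := rfl

/-- the algebra map `S[M] → B` -/
noncomputable def lift : MonoidAlgebra S M →ₐ[S] B := MonoidAlgebra.lift S B M g.hom

@[simp] lemma lift_single (m : M) (s : S) : g.lift (MonoidAlgebra.single m s) = s • g.b m := by
  simp [lift]

lemma lift_bijective : Function.Bijective g.lift := by
  have : (g.lift : MonoidAlgebra S M → B) =
      ((MonoidAlgebra.basis M S).equiv g.b (Equiv.refl M) : MonoidAlgebra S M → B) := by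
    have h : g.lift.toLinearMap = ((MonoidAlgebra.basis M S).equiv g.b (Equiv.refl M)).toLinearMap := by
      apply (MonoidAlgebra.basis M S).ext
      intro m
      rw [LinearEquiv.coe_coe, Module.Basis.equiv_apply]
      simp
    exact congrArg DFunLike.coe h
  rw [this]
  exact LinearEquiv.bijective _

/-- the bialgebra equivalence `S[M] ≃ B` -/
noncomputable def bialgEquiv : MonoidAlgebra S M ≃ₐc[S] B :=
  BialgEquiv.ofBijective (BialgHom.ofAlgHom g.lift
    (by ext m; simp [(g.gl m).counit_eq_one])
    (by ext m; simp [(g.gl m).comul_eq_tmul_self])) g.lift_bijective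

@[simp] lemma bialgEquiv_single (m : M) (s : S) : g.bialgEquiv (MonoidAlgebra.single m s) = s • g.b m :=
  g.lift_single m s

/-- Coordinates of group-like elements are orthogonal idempotents. -/
lemma repr_mul_repr {x : B} (hx : IsGroupLikeElem S x) (m n : M) [DecidableEq M] :
    g.b.repr x m * g.b.repr x n = if m = n then g.b.repr x m else 0 := by
  have h1 : Coalgebra.comul (R := S) x = x ⊗ₜ[S] x := hx.comul_eq_tmul_self
  have h2 : x = (g.b.repr x).sum fun i a => a • g.b i := (g.b.linearCombination_repr x).symm
  have h3 : Coalgebra.comul (R := S) x = (g.b.repr x).sum fun i a => a • (g.b i ⊗ₜ[S] g.b i) := by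
    conv_lhs => rw [h2]
    rw [Finsupp.sum, map_sum]
    simp only [map_smul, (g.gl _).comul_eq_tmul_self]
    rfl
  have h4 : ((g.b.tensorProduct g.b).repr (x ⊗ₜ[S] x)) (m, n) = g.b.repr x n • g.b.repr x m :=
    Module.Basis.tensorProduct_repr_tmul_apply _ _ _ _ _ _
  rw [← h1, h3, Finsupp.sum, map_sum, Finsupp.finsetSum_apply] at h4
  simp only [map_smul, Finsupp.smul_apply, Module.Basis.tensorProduct_repr_tmul_apply,
    Module.Basis.repr_self, smul_eq_mul] at h4
  rw [mul_comm, ← h4]
  simp only [Finsupp.single_apply]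
  split_ifs with hmn
  · subst hmn
    rw [Finset.sum_eq_single m]
    · simp
    · intro i _ hi
      simp [hi]
    · intro hi
      simp only [Finsupp.mem_support_iff, not_not] at hi
      simp [hi]
  · apply Finset.sum_eq_zero
    intro i _
    by_cases hi : i = m
    · subst hi
      simp [hmn]
    · simp [hi]

lemma sum_repr {x : B} (hx : IsGroupLikeElem S x) : (g.b.repr x).sum (fun _ a => a) = 1 := by
  have h1 : Coalgebra.counit (R := S) x = 1 := hx.counit_eq_one
  have h2 : x = (g.b.repr x).sum fun i a => a • g.b i := (g.b.linearCombination_repr x).symm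
  rw [h2, Finsupp.sum, map_sum] at h1
  simp only [map_smul, (g.gl _).counit_eq_one, smul_eq_mul, mul_one] at h1
  exact h1

lemma eq_of_repr_eq_one {x : B} (hx : IsGroupLikeElem S x) {m : M} (h : g.b.repr x m = 1) :
    x = g.b m := by
  classical
  apply g.b.repr.injective
  ext n
  rw [Module.Basis.repr_self, Finsupp.single_apply]
  split_ifs with hmn
  · rw [← hmn, h]
  · have := g.repr_mul_repr hx m n
    rw [if_neg hmn, h, one_mul] at this
    exact this

/-- over a local ring every group-like element is in the basis -/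
lemma exists_eq [IsLocalRing S] {x : B} (hx : IsGroupLikeElem S x) : ∃ m, x = g.b m := by
  classical
  by_contra hcon
  push Not at hcon
  have h1 : ∀ m, ¬ IsUnit (g.b.repr x m) := by
    intro m hm
    apply hcon m
    apply g.eq_of_repr_eq_one hx
    have := g.repr_mul_repr hx m m
    rw [if_pos rfl] at this
    exact hm.mul_left_cancel (by rw [this, mul_one])
  have h2 := g.sum_repr hx
  have h3 : (g.b.repr x).sum (fun _ a => a) ∈ IsLocalRing.maximalIdeal S :=
    Submodule.sum_mem _ fun m _ => (IsLocalRing.mem_maximalIdeal _).mpr (h1 m)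
  rw [h2] at h3
  exact (IsLocalRing.mem_maximalIdeal _).mp h3 isUnit_one

lemma b_injective [Nontrivial S] : Function.Injective g.b := g.b.injective

/-- transport along a bialgebra equivalence -/
noncomputable def map {B' : Type*} [CommRing B'] [Bialgebra S B'] (e : B ≃ₐc[S] B') : GBasis S B' M where
  b := g.b.map (e : B ≃ₐ[S] B').toLinearEquiv
  one := by
    simp only [Module.Basis.map_apply, g.one]
    exact map_one e
  mul m n := by
    simp only [Module.Basis.map_apply, g.mul]
    exact map_mul e _ _
  gl m := by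
    simp only [Module.Basis.map_apply]
    exact (g.gl m).map e

@[simp] lemma map_b {B' : Type*} [CommRing B'] [Bialgebra S B'] (e : B ≃ₐc[S] B') (m : M) :
    (g.map e).b m = e (g.b m) := rfl

/-- reindexing -/
noncomputable def reindex {M' : Type*} [CommGroup M'] (f : M ≃* M') : GBasis S B M' where
  b := g.b.reindex f.toEquiv
  one := by
    rw [Module.Basis.reindex_apply]
    simp [g.one]
  mul m n := by
    simp only [Module.Basis.reindex_apply]
    simp [g.mul]
  gl m := by
    rw [Module.Basis.reindex_apply]
    exact g.gl _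

@[simp] lemma reindex_b {M' : Type*} [CommGroup M'] (f : M ≃* M') (m : M') :
    (g.reindex f).b m = g.b (f.symm m) := by
  simp [reindex]

end basic

end GBasis

section cancel

variable (R S S' A : Type*) [CommRing R] [CommRing S] [CommRing S'] [CommRing A] [Algebra R S] [Algebra R S']
  [Algebra S S'] [IsScalarTower R S S'] [Bialgebra R A]

/-- transitivity of base change as a bialgebra equivalence -/
noncomputable def cancelBC : S' ⊗[S] (S ⊗[R] A) ≃ₐc[S'] S' ⊗[R] A :=
  .ofAlgEquiv (Algebra.TensorProduct.cancelBaseChange R S S' S' A) (by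
    ext a
    simp [Algebra.smul_def]) (by
    ext a
    simp [← (Coalgebra.Repr.arbitrary R a).eq, TensorProduct.tmul_sum])

@[simp] lemma cancelBC_tmul (s' : S') (s : S) (a : A) :
    cancelBC R S S' A (s' ⊗ₜ (s ⊗ₜ a)) = (s • s') ⊗ₜ a := rfl

end cancel

section bc

variable {R S S' S'' A : Type*} [CommRing R] [CommRing S] [CommRing S'] [CommRing S''] [CommRing A] [Algebra R S]
  [Algebra R S'] [Algebra R S''] [Bialgebra R A]

variable (A) in
/-- base change map along `φ : S →ₐ[R] S'` -/
noncomputable def bc (φ : S →ₐ[R] S') : S ⊗[R] A →ₐ[R] S' ⊗[R] A :=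
  Algebra.TensorProduct.map φ (AlgHom.id R A)

@[simp] lemma bc_tmul (φ : S →ₐ[R] S') (s : S) (a : A) : bc A φ (s ⊗ₜ a) = φ s ⊗ₜ a := rfl

lemma bc_comp (φ : S →ₐ[R] S') (ψ : S' →ₐ[R] S'') : bc A (ψ.comp φ) = (bc A ψ).comp (bc A φ) := by
  ext <;> simp

lemma bc_bc (φ : S →ₐ[R] S') (ψ : S' →ₐ[R] S'') (x : S ⊗[R] A) :
    bc A ψ (bc A φ x) = bc A (ψ.comp φ) x := by
  rw [bc_comp]; rfl

lemma bc_smul (φ : S →ₐ[R] S') (s : S) (x : S ⊗[R] A) : bc A φ (s • x) = φ s • bc A φ x := by
  rw [Algebra.smul_def, Algebra.smul_def, map_mul]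
  congr 1

lemma cancelBC_one_tmul [Algebra S S'] [IsScalarTower R S S'] (x : S ⊗[R] A) :
    cancelBC R S S' A (1 ⊗ₜ x) = bc A (IsScalarTower.toAlgHom R S S') x := by
  induction x using TensorProduct.induction_on with
  | zero => simp
  | tmul s a => simp [Algebra.smul_def]
  | add x y hx hy => rw [TensorProduct.tmul_add, map_add, map_add, hx, hy]

lemma isGroupLikeElem_one_tmul {S : Type*} (S' : Type*) {B : Type*} [CommRing S] [CommRing S'] [CommRing B]
    [Bialgebra S B] [Algebra S S'] {x : B}
    (hx : IsGroupLikeElem S x) : IsGroupLikeElem S' ((1 : S') ⊗ₜ[S] x) where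
  counit_eq_one := by simp [hx.counit_eq_one]
  comul_eq_tmul_self := by simp [hx.comul_eq_tmul_self]

lemma isGroupLikeElem_bc (φ : S →ₐ[R] S') {x : S ⊗[R] A} (hx : IsGroupLikeElem S x) :
    IsGroupLikeElem S' (bc A φ x) := by
  let _ := φ.toRingHom.toAlgebra
  have : IsScalarTower R S S' := .of_algebraMap_eq' φ.comp_algebraMap.symm
  have h := (isGroupLikeElem_one_tmul S' hx).map (cancelBC R S S' A)
  rw [cancelBC_one_tmul] at h
  exact h

/-- base change of a group-like basis -/
noncomputable def GBasis.baseChange {S B M : Type*} (S' : Type*) [CommRing S] [CommRing B] [Bialgebra S B]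
    [CommGroup M] [CommRing S'] [Algebra S S'] (g : GBasis S B M) : GBasis S' (S' ⊗[S] B) M where
  b := g.b.baseChange S'
  one := by rw [Module.Basis.baseChange_apply, g.one]; rfl
  mul m n := by
    simp only [Module.Basis.baseChange_apply, g.mul]
    simp
  gl m := by
    rw [Module.Basis.baseChange_apply]
    exact isGroupLikeElem_one_tmul S' (g.gl m)

/-- base change of a group-like basis along `φ : S →ₐ[R] S'`. -/
noncomputable def GBasis.bc {M : Type*} [CommGroup M] (g : GBasis S (S ⊗[R] A) M) (φ : S →ₐ[R] S') :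
    GBasis S' (S' ⊗[R] A) M :=
  letI := φ.toRingHom.toAlgebra
  haveI : IsScalarTower R S S' := .of_algebraMap_eq' φ.comp_algebraMap.symm
  (g.baseChange S').map (cancelBC R S S' A)

@[simp] lemma GBasis.bc_b {M : Type*} [CommGroup M] (g : GBasis S (S ⊗[R] A) M) (φ : S →ₐ[R] S') (m : M) :
    (g.bc φ).b m = MTBasis.bc A φ (g.b m) := by
  let _ := φ.toRingHom.toAlgebra
  have : IsScalarTower R S S' := .of_algebraMap_eq' φ.comp_algebraMap.symm
  have h := cancelBC_one_tmul (R := R) (S := S) (S' := S') (A := A) (g.b m)
  refine Eq.trans ?_ h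
  change cancelBC R S S' A ((g.b.baseChange S') m) = _
  rw [Module.Basis.baseChange_apply]

lemma GBasis.bc_repr {M : Type*} [CommGroup M] (g : GBasis S (S ⊗[R] A) M) (φ : S →ₐ[R] S')
    (x : S ⊗[R] A) (m : M) :
    (g.bc φ).b.repr (MTBasis.bc A φ x) m = φ (g.b.repr x m) := by
  classical
  conv_lhs => rw [← g.b.linearCombination_repr x]
  rw [Finsupp.linearCombination_apply, Finsupp.sum, map_sum, map_sum, Finsupp.finsetSum_apply]
  simp only [bc_smul, map_smul, ← GBasis.bc_b, Module.Basis.repr_self, Finsupp.smul_apply,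
    Finsupp.single_apply, smul_eq_mul, mul_ite, mul_one, mul_zero]
  rw [Finset.sum_ite_eq' (g.b.repr x).support m (fun i => φ (g.b.repr x i))]
  split_ifs with h
  · rfl
  · simp only [Finsupp.mem_support_iff, not_not] at h
    rw [h, map_zero]

end bc

section descent

variable {R S A : Type*} [CommRing R] [CommRing S] [CommRing A] [Algebra R S]

/-- faithfully flat descent of elements -/
lemma exists_of_bc_eq [Module.FaithfullyFlat R S] [Bialgebra R A] [Module.Flat R A] (x : S ⊗[R] A)
    (h : bc A (Algebra.TensorProduct.includeLeft : S →ₐ[R] S ⊗[R] S) x =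
      bc A (Algebra.TensorProduct.includeRight : S →ₐ[R] S ⊗[R] S) x) : ∃ a : A, (1 : S) ⊗ₜ[R] a = x := by
  have h1 : Function.Exact (Algebra.linearMap R S) (Algebra.TensorProduct.includeLeftSubRight R S) :=
    Algebra.IsEffective.of_faithfullyFlat R S
  have h2 := Module.Flat.rTensor_exact A h1
  have h3 : (Algebra.TensorProduct.includeLeftSubRight R S).rTensor A x = 0 := by
    have : (Algebra.TensorProduct.includeLeftSubRight R S).rTensor A =
      (bc A (Algebra.TensorProduct.includeLeft : S →ₐ[R] S ⊗[R] S)).toLinearMap -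
        (bc A (Algebra.TensorProduct.includeRight : S →ₐ[R] S ⊗[R] S)).toLinearMap := by
      ext s a
      simp [TensorProduct.sub_tmul]
    rw [this, LinearMap.sub_apply]
    exact sub_eq_zero.mpr h
  obtain ⟨y, hy⟩ := (h2 x).mp h3
  refine ⟨TensorProduct.lid R A y, ?_⟩
  rw [← hy]
  clear hy h3 h
  induction y using TensorProduct.induction_on with
  | zero => simp
  | tmul r a => simp [Algebra.algebraMap_eq_smul_one, TensorProduct.smul_tmul]
  | add x y hx hy => rw [map_add, TensorProduct.tmul_add, map_add, hx, hy]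


variable (S A) in
lemma one_tmul_injective [Algebra R A] [Module.FaithfullyFlat R S] :
    Function.Injective (fun a : A => (1 : S) ⊗ₜ[R] a) :=
  Module.FaithfullyFlat.tensorProduct_mk_injective (A := R) (B := S) A

lemma comul_one_tmul [Bialgebra R A] (a : A) :
    Coalgebra.comul (R := S) ((1 : S) ⊗ₜ[R] a) =
      TensorProduct.AlgebraTensorModule.distribBaseChange R S A A (1 ⊗ₜ Coalgebra.comul (R := R) a) := by
  rw [TensorProduct.comul_tmul]
  simp only [Bialgebra.comul_one, Algebra.TensorProduct.one_def]
  generalize Coalgebra.comul (R := R) a = y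
  induction y using TensorProduct.induction_on with
  | zero => simp
  | tmul r a => simp
  | add x y hx hy => rw [TensorProduct.tmul_add, TensorProduct.tmul_add, map_add, map_add, hx, hy]

lemma isGroupLikeElem_of_one_tmul [Bialgebra R A] [Module.FaithfullyFlat R S] {a : A}
    (h : IsGroupLikeElem S ((1 : S) ⊗ₜ[R] a)) : IsGroupLikeElem R a where
  counit_eq_one := by
    have h1 := h.counit_eq_one
    rw [TensorProduct.counit_tmul, Bialgebra.counit_one, Algebra.smul_def, mul_one] at h1
    exact FaithfulSMul.algebraMap_injective R S (by rw [h1, map_one])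
  comul_eq_tmul_self := by
    have h1 := h.comul_eq_tmul_self
    rw [comul_one_tmul] at h1
    have h2 : ((1 : S) ⊗ₜ[R] a) ⊗ₜ[S] ((1 : S) ⊗ₜ[R] a) =
      TensorProduct.AlgebraTensorModule.distribBaseChange R S A A (1 ⊗ₜ (a ⊗ₜ a)) := by simp
    rw [h2] at h1
    exact one_tmul_injective S (A ⊗[R] A) ((LinearEquiv.injective _) h1)

/-- Descent of a group-like basis along a faithfully flat map. -/
lemma GBasis.exists_of_one_tmul [Bialgebra R A] [Module.FaithfullyFlat R S] {M : Type*} [CommGroup M]
    (g : GBasis S (S ⊗[R] A) M) (a : M → A) (ha : ∀ m, (1 : S) ⊗ₜ[R] a m = g.b m) :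
    ∃ g₀ : GBasis R A M, ∀ m, g₀.b m = a m := by
  have hinj := one_tmul_injective (R := R) S A
  have hli : LinearIndependent R a := by
    rw [linearIndependent_iff]
    intro l hl
    have h1 : Finsupp.linearCombination S g.b (l.mapRange (algebraMap R S) (map_zero _)) = 0 := by
      have h0 : (1 : S) ⊗ₜ[R] (Finsupp.linearCombination R a l) = 0 := by
        rw [hl, TensorProduct.tmul_zero]
      rw [Finsupp.linearCombination_apply, Finsupp.sum_mapRange_index (by simp)]
      rw [← h0, Finsupp.linearCombination_apply, Finsupp.sum, Finsupp.sum, TensorProduct.tmul_sum]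
      refine Finset.sum_congr rfl fun m _ => ?_
      rw [← ha, TensorProduct.tmul_smul, algebraMap_smul]
    have h2 := (linearIndependent_iff.mp g.b.linearIndependent) _ h1
    ext m
    have h3 := DFunLike.congr_fun h2 m
    simp only [Finsupp.mapRange_apply, Finsupp.coe_zero, Pi.zero_apply] at h3
    exact FaithfulSMul.algebraMap_injective R S (by rw [h3, Finsupp.coe_zero, Pi.zero_apply, map_zero])
  have hsp : Submodule.span R (Set.range a) = ⊤ := by
    apply Submodule.baseChange_injective (A := S)
    rw [Submodule.baseChange_span, Submodule.baseChange_top, eq_top_iff, ← g.b.span_eq]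
    apply Submodule.span_mono
    rintro _ ⟨m, rfl⟩
    exact ⟨a m, ⟨m, rfl⟩, ha m⟩
  refine ⟨⟨Module.Basis.mk hli hsp.ge, ?_, ?_, ?_⟩, ?_⟩
  · apply hinj
    simp only [Module.Basis.mk_apply, ha, g.one]
    rfl
  · intro m n
    apply hinj
    simp only [Module.Basis.mk_apply, ha, g.mul]
    rw [← ha, ← ha, Algebra.TensorProduct.tmul_mul_tmul, one_mul]
  · intro m
    apply isGroupLikeElem_of_one_tmul (S := S)
    rw [Module.Basis.mk_apply, ha]
    exact g.gl m
  · intro m
    rw [Module.Basis.mk_apply]

end descent

end Groth.Agent.Sga3A.MTBasis
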