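import Groth.Agent.Sga3A.FibDomain1
import Groth.Agent.Sga3A.MTBasis
import Mathlib.RingTheory.Nakayama
import Mathlib.RingTheory.Idempotents

/-!
# Domain case of S2975, part 2: `A ≅ R[M]`
-/

set_option autoImplicit false
universe u

open TensorProduct

namespace Groth.Agent.Sga3A.FibDomain

open FibRes LiftGL BCIso

/-! ## Group algebras and a surjection with kernel `K` -/

section ker

variable {L N M : Type*} [Field L] [CommGroup N] [CommGroup M]

/-- `Σ_{g ∈ ker h} g`. -/
noncomputable def sker (L : Type*) [Field L] (h : N →* M) [Fintype h.ker] : MonoidAlgebra L N :=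
  ∑ g : h.ker, MonoidAlgebra.single (g : N) 1

theorem coeff_sker_mul (h : N →* M) [Fintype h.ker] (w : MonoidAlgebra L N) (m : N) :
    (sker L h * w).coeff m = (MonoidAlgebra.mapDomainBialgHom L h w).coeff (h m) := by
  classical
  induction w using MonoidAlgebra.induction_linear with
  | zero => simp
  | add x y hx hy => rw [mul_add, map_add, MonoidAlgebra.coeff_add, MonoidAlgebra.coeff_add,
      Finsupp.add_apply, Finsupp.add_apply, hx, hy]
  | single n c =>
    rw [sker, Finset.sum_mul, MonoidAlgebra.coeff_sum, Finsupp.finsetSum_apply]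
    simp only [MonoidAlgebra.single_mul_single, one_mul, MonoidAlgebra.coeff_single,
      MonoidAlgebra.mapDomainBialgHom_single]
    by_cases hm : h n = h m
    · have hmem : m * n⁻¹ ∈ h.ker := by
        rw [MonoidHom.mem_ker, map_mul, map_inv, hm, mul_inv_cancel]
      rw [Finset.sum_eq_single ⟨m * n⁻¹, hmem⟩]
      · rw [hm, Finsupp.single_eq_same]; simp
      · intro g _ hg
        rw [Finsupp.single_eq_of_ne]
        intro h'
        apply hg
        apply Subtype.ext
        change (g : N) = m * n⁻¹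
        rw [h']; simp
      · intro h'; exact absurd (Finset.mem_univ _) h'
    · rw [Finsupp.single_eq_of_ne (Ne.symm hm)]
      refine Finset.sum_eq_zero fun g _ => ?_
      rw [Finsupp.single_eq_of_ne]
      rintro rfl
      apply hm
      rw [map_mul, MonoidHom.mem_ker.mp g.2, one_mul]

end ker

/-! ## The map `ρ : A → R[M]` -/

section rho

/-- descent of "being a bialgebra homomorphism" -/
theorem exists_bialgHom {R A B S : Type*} [CommRing R] [CommRing A] [CommRing B] [CommRing S]
    [Bialgebra R A] [Bialgebra R B] [Algebra R S] [Module.Flat R B]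
    (hS : Function.Injective (algebraMap R S)) (f : A →ₐ[R] B) (F : S ⊗[R] A →ₐc[S] S ⊗[R] B)
    (hF : ∀ a, F (1 ⊗ₜ a) = 1 ⊗ₜ f a) : ∃ f' : A →ₐc[R] B, ∀ a, f' a = f a := by
  have h1 : (Bialgebra.counitAlgHom R B).comp f = Bialgebra.counitAlgHom R A := by
    ext a
    apply hS
    change algebraMap R S (Coalgebra.counit (R := R) (f a)) = algebraMap R S (Coalgebra.counit (R := R) a)
    have h0 : Coalgebra.counit (R := S) (F (1 ⊗ₜ a)) = Coalgebra.counit (R := S) ((1 : S) ⊗ₜ[R] a) :=
      CoalgHomClass.counit_comp_apply F _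
    rw [hF] at h0
    simpa [Algebra.smul_def] using h0
  have h2 : (Algebra.TensorProduct.map f f).comp (Bialgebra.comulAlgHom R A) =
      (Bialgebra.comulAlgHom R B).comp f := by
    ext a
    have hinj : Function.Injective (fun v : B ⊗[R] B => (1 : S) ⊗ₜ[R] v) := by
      have h1 : Function.Injective ((Algebra.linearMap R S).rTensor (B ⊗[R] B)) :=
        Module.Flat.rTensor_preserves_injective_linearMap (Algebra.linearMap R S) hS
      have h2 : (fun v : B ⊗[R] B => (1 : S) ⊗ₜ[R] v) =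
          ((Algebra.linearMap R S).rTensor (B ⊗[R] B)) ∘ (TensorProduct.lid R (B ⊗[R] B)).symm := by
        ext v
        simp
      rw [h2]
      exact h1.comp (TensorProduct.lid R (B ⊗[R] B)).symm.injective
    apply hinj
    apply (TensorProduct.AlgebraTensorModule.distribBaseChange R S B B).injective
    change TensorProduct.AlgebraTensorModule.distribBaseChange R S B B
        (1 ⊗ₜ TensorProduct.map (f : A →ₗ[R] B) (f : A →ₗ[R] B) (Coalgebra.comul (R := R) a)) =
      TensorProduct.AlgebraTensorModule.distribBaseChange R S B B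
        (1 ⊗ₜ Coalgebra.comul (R := R) (f a))
    rw [← MTBasis.comul_one_tmul, ← hF]
    have h3 : Coalgebra.comul (R := S) (F (1 ⊗ₜ a)) =
        TensorProduct.map (F : S ⊗[R] A →ₗ[S] S ⊗[R] B) (F : S ⊗[R] A →ₗ[S] S ⊗[R] B)
          (Coalgebra.comul (R := S) (1 ⊗ₜ a)) :=
      (CoalgHomClass.map_comp_comul_apply F _).symm
    rw [h3, MTBasis.comul_one_tmul]
    generalize Coalgebra.comul (R := R) a = z
    induction z using TensorProduct.induction_on with
    | zero => simp
    | tmul x y =>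
      have hx : (F : S ⊗[R] A →ₗ[S] S ⊗[R] B) (1 ⊗ₜ x) = 1 ⊗ₜ f x := hF x
      have hy : (F : S ⊗[R] A →ₗ[S] S ⊗[R] B) (1 ⊗ₜ y) = 1 ⊗ₜ f y := hF y
      simp [hx, hy]
    | add x y hx hy => simp only [map_add, TensorProduct.tmul_add, hx, hy]
  exact ⟨BialgHom.ofAlgHom f h1 h2, fun a => rfl⟩

variable {R A M : Type u} [CommRing R] [IsDomain R] [CommRing A] [HopfAlgebra R A] [CommGroup M]
  [Group.FG M] {L N : Type u} [Field L] [Algebra R L] [CommGroup N]

omit [IsDomain R] [Group.FG M] in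
theorem qma_comp (h : N →* M) (q : ∀ l : ℕ, A →ₐc[R] MonoidAlgebra R (Q M l))
    (e : (L ⊗[R] A) ≃ₐc[L] MonoidAlgebra L N) (l : ℕ) (hl : ∀ g, fl q e l g = qm M l (h g))
    (a : A) : qma L M l (MonoidAlgebra.mapDomainBialgHom L h (e (1 ⊗ₜ a))) =
      MonoidAlgebra.mapRingHom (Q M l) (algebraMap R L) (q l a) := by
  rw [← QL_one_tmul q e l a, QL_eq]
  have h1 : fl q e l = (qm M l).comp h := by
    ext g; exact hl g
  rw [h1, MonoidAlgebra.mapDomainBialgHom_comp]
  rfl

omit [IsDomain R] [Group.FG M] in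
theorem mapRingHom_qma {S : Type*} [CommRing S] [Algebra R S] (l : ℕ) (x : MonoidAlgebra R M) :
    MonoidAlgebra.mapRingHom (Q M l) (algebraMap R S) (qma R M l x) =
      qma S M l (MonoidAlgebra.mapRingHom M (algebraMap R S) x) := by
  induction x using MonoidAlgebra.induction_linear with
  | zero => simp
  | add x y hx hy => rw [map_add, map_add, map_add, map_add, hx, hy]
  | single m r => simp

theorem exists_rho [Algebra (FractionRing R) L] [IsScalarTower R (FractionRing R) L]
    (q : ∀ l : ℕ, A →ₐc[R] MonoidAlgebra R (Q M l))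
    (e : (L ⊗[R] A) ≃ₐc[L] MonoidAlgebra L N)
    (hC : ∀ r : R, r ≠ 0 → ¬ IsUnit r → Compat q r)
    (h : N →* M) (hs : Function.Surjective h) (hl : ∀ l, 0 < l → ∀ g, fl q e l g = qm M l (h g)) :
    ∃ ρ : A →ₐc[R] MonoidAlgebra R M, Function.Surjective ρ ∧
      (∀ a, MonoidAlgebra.mapRingHom M (algebraMap R L) (ρ a) =
        MonoidAlgebra.mapDomainBialgHom L h (e (1 ⊗ₜ a))) ∧
      ∀ l, 0 < l → ∀ a, q l a = qma R M l (ρ a) := by
  classical
  have hRL : Function.Injective (algebraMap R L) := by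
    rw [IsScalarTower.algebraMap_eq R (FractionRing R) L]
    exact (algebraMap (FractionRing R) L).injective.comp (IsFractionRing.injective R _)
  let ι : MonoidAlgebra R M →ₐ[R] MonoidAlgebra L M :=
    { MonoidAlgebra.mapRingHom M (algebraMap R L) with
      commutes' := fun r => by
        change MonoidAlgebra.mapRingHom M (algebraMap R L) (algebraMap R (MonoidAlgebra R M) r) = _
        simp }
  have hι : Function.Injective ι := mapRingHom_injective hRL
  let τ : A →ₐ[R] MonoidAlgebra L M :=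
    (((MonoidAlgebra.mapDomainBialgHom L h).comp (e : L ⊗[R] A →ₐc[L] MonoidAlgebra L N) :
      L ⊗[R] A →ₐ[L] MonoidAlgebra L M).restrictScalars R).comp
      Algebra.TensorProduct.includeRight
  have hτ : ∀ a, τ a = MonoidAlgebra.mapDomainBialgHom L h (e (1 ⊗ₜ a)) := fun a => rfl
  have hτq : ∀ l, 0 < l → ∀ a, qma L M l (τ a) =
      MonoidAlgebra.mapRingHom (Q M l) (algebraMap R L) (q l a) :=
    fun l hl' a => qma_comp h q e l (hl l hl') a
  have hmem : ∀ a, τ a ∈ ι.range := by
    intro a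
    have h1 : ∀ m, ∃ r : R, algebraMap R L r = (τ a).coeff m := by
      intro m
      obtain ⟨l, hl0, hl1⟩ := exists_coeff_qma (τ a) {m}
      refine ⟨(q l a).coeff (qm M l m), ?_⟩
      rw [← hl1 m (Finset.mem_singleton_self m), hτq l hl0 a, MonoidAlgebra.coeff_mapRingHom]
    choose c hc using h1
    rw [← MonoidAlgebra.sum_coeff_single (τ a), Finsupp.sum]
    refine sum_mem fun m _ => ⟨MonoidAlgebra.single m (c m), ?_⟩
    change MonoidAlgebra.mapRingHom M (algebraMap R L) (MonoidAlgebra.single m (c m)) = _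
    rw [MonoidAlgebra.mapRingHom_single, hc]
  let ρ : A →ₐ[R] MonoidAlgebra R M :=
    ((AlgEquiv.ofInjective ι hι).symm : ι.range →ₐ[R] MonoidAlgebra R M).comp
      (τ.codRestrict ι.range hmem)
  have hρ : ∀ a, ι (ρ a) = τ a := by
    intro a
    have h1 : (AlgEquiv.ofInjective ι hι) (ρ a) = ⟨τ a, hmem a⟩ :=
      (AlgEquiv.ofInjective ι hι).apply_symm_apply _
    exact congrArg Subtype.val h1
  have hρq : ∀ l, 0 < l → ∀ a, q l a = qma R M l (ρ a) := by
    intro l hl0 a
    apply mapRingHom_injective (L := L) hRL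
    rw [← hτq l hl0 a, mapRingHom_qma (S := L), ← hρ]
    rfl
  have hρs : Function.Surjective ρ := by
    have h1 : ∀ m : M, MonoidAlgebra.single m (1 : R) ∈ ρ.range := by
      intro m
      obtain ⟨g, rfl⟩ := hs m
      obtain ⟨y, hy⟩ := exists_lift_character q e hC g
      refine ⟨y, ?_⟩
      refine eq_of_qma _ _ fun l hl0 => ?_
      change qma R M l (ρ y) = _
      rw [← hρq l hl0, hy l hl0, hl l hl0, qma_single]
    intro x
    change x ∈ ρ.range
    rw [← MonoidAlgebra.sum_coeff_single x, Finsupp.sum]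
    refine sum_mem fun m _ => ?_
    have : MonoidAlgebra.single m (x.coeff m) = x.coeff m • MonoidAlgebra.single m (1 : R) := by
      simp
    rw [this]
    exact Subalgebra.smul_mem _ (h1 m) _
  let F : L ⊗[R] A →ₐc[L] L ⊗[R] MonoidAlgebra R M :=
    (((scalarBialg R L M).symm : _ →ₐc[L] _).comp (MonoidAlgebra.mapDomainBialgHom L h)).comp
      (e : _ →ₐc[L] _)
  have hF : ∀ a, F (1 ⊗ₜ a) = 1 ⊗ₜ ρ a := by
    intro a
    apply EquivLike.injective (scalarBialg R L M)
    rw [scalarBialg_one_tmul]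
    have h1 : scalarBialg R L M (F (1 ⊗ₜ a)) = τ a :=
      EquivLike.right_inv (scalarBialg R L M) _
    rw [h1, ← hρ]
    rfl
  obtain ⟨ρ', hρ'⟩ := exists_bialgHom hRL ρ F hF
  refine ⟨ρ', ?_, ?_, ?_⟩
  · intro x
    obtain ⟨a, ha⟩ := hρs x
    exact ⟨a, by rw [hρ', ha]⟩
  · intro a
    rw [hρ', ← hτ, ← hρ]
    rfl
  · intro l hl0 a
    rw [hρ', hρq l hl0 a]

end rho

/-! ## Injectivity of `ρ` -/

section inj

theorem idem_trivial {B : Type*} [CommRing B] [ConnectedSpace (PrimeSpectrum B)] {e : B}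
    (he : IsIdempotentElem e) : e = 0 ∨ e = 1 := by
  have h1 := isClopen_iff.mp (PrimeSpectrum.isClopen_iff.mpr ⟨e, he, rfl⟩)
  rcases h1 with h1 | h1
  · left
    apply PrimeSpectrum.basicOpen_injOn_isIdempotentElem he IsIdempotentElem.zero
    ext1
    rw [h1, PrimeSpectrum.basicOpen_zero]; rfl
  · right
    apply PrimeSpectrum.basicOpen_injOn_isIdempotentElem he IsIdempotentElem.one
    ext1
    rw [h1, PrimeSpectrum.basicOpen_one]; rfl

variable {R A M : Type u} [CommRing R] [IsDomain R] [CommRing A] [HopfAlgebra R A]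
  [CommGroup M] [Group.FG M]

/-- (F6) -/
theorem exists_annihilator [Algebra.FinitePresentation R A]
    (q : ∀ l : ℕ, A →ₐc[R] MonoidAlgebra R (Q M l))
    (ρ : A →ₐc[R] MonoidAlgebra R M) (hs : Function.Surjective ρ)
    (hρq : ∀ l, 0 < l → ∀ a, q l a = qma R M l (ρ a)) (r : R) (hr0 : r ≠ 0) (hru : ¬ IsUnit r)
    (hC : Compat q r) : ∃ y : A, ρ y ≠ 0 ∧ ∀ x, ρ x = 0 → y * x = 0 := by
  have hfp := finitePresentation_monoidAlgebra R M
  have hfg : (RingHom.ker (ρ : A →ₐ[R] MonoidAlgebra R M)).FG :=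
    Algebra.FinitePresentation.ker_fG_of_surjective (ρ : A →ₐ[R] MonoidAlgebra R M) hs
  obtain ⟨y, hy, hy'⟩ := Submodule.exists_sub_one_mem_and_smul_eq_zero_of_fg_of_le_smul
    (Ideal.span {algebraMap R A r}) (RingHom.ker (ρ : A →ₐ[R] MonoidAlgebra R M)) hfg (by
      intro x hx
      have hx0 : ρ x = 0 := hx
      obtain ⟨z, rfl⟩ := exists_smul_eq q hC x (fun l hl => ⟨0, by
        rw [hρq l hl, hx0, map_zero, smul_zero]⟩)
      have hz : ρ z = 0 := by
        rw [map_smul] at hx0
        exact (smul_eq_zero.mp hx0).resolve_left hr0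
      have h1 : r • z = algebraMap R A r • z := by rw [Algebra.smul_def, smul_eq_mul]
      rw [h1]
      exact Submodule.smul_mem_smul (Ideal.mem_span_singleton_self _)
        (show z ∈ RingHom.ker (ρ : A →ₐ[R] MonoidAlgebra R M) from hz))
  refine ⟨y, ?_, fun x hx => hy' x hx⟩
  intro h0
  obtain ⟨c, hc⟩ := Ideal.mem_span_singleton'.mp hy
  have h1 := congrArg (fun z => Coalgebra.counit (R := R) (ρ z)) hc
  simp only [map_mul, map_sub, h0, map_one, zero_sub, map_neg] at h1
  apply hru
  have h2 : ρ (algebraMap R A r) = algebraMap R _ r := AlgHomClass.commutes ρ r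
  rw [h2, Bialgebra.counit_mul, Bialgebra.counit_algebraMap, Bialgebra.counit_one] at h1
  exact IsUnit.of_mul_eq_one (-(Coalgebra.counit (R := R) (ρ c))) (by linear_combination -h1)

variable {L N : Type u} [Field L] [Algebra R L] [CommGroup N]

omit [IsDomain R] [Group.FG M] in
theorem scalar_mapBialg (h : N →* M) (e : (L ⊗[R] A) ≃ₐc[L] MonoidAlgebra L N)
    (ρ : A →ₐc[R] MonoidAlgebra R M)
    (hρ : ∀ a, MonoidAlgebra.mapRingHom M (algebraMap R L) (ρ a) =
        MonoidAlgebra.mapDomainBialgHom L h (e (1 ⊗ₜ a))) (z : L ⊗[R] A) :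
    scalarBialg R L M (mapBialg L ρ z) = MonoidAlgebra.mapDomainBialgHom L h (e z) := by
  induction z using TensorProduct.induction_on with
  | zero => simp
  | add x y hx hy => rw [map_add, map_add, map_add, map_add, hx, hy]
  | tmul c a =>
    have h1 : c ⊗ₜ[R] a = c • ((1 : L) ⊗ₜ[R] a) := by rw [TensorProduct.smul_tmul', smul_eq_mul, mul_one]
    rw [h1, map_smul, map_smul, map_smul, map_smul, mapBialg_tmul, scalarBialg_one_tmul, hρ]

omit [IsDomain R] [Group.FG M] in
theorem mem_range_lTensor (h : N →* M) (e : (L ⊗[R] A) ≃ₐc[L] MonoidAlgebra L N)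
    (ρ : A →ₐc[R] MonoidAlgebra R M) (hs : Function.Surjective ρ)
    (hρ : ∀ a, MonoidAlgebra.mapRingHom M (algebraMap R L) (ρ a) =
        MonoidAlgebra.mapDomainBialgHom L h (e (1 ⊗ₜ a))) (z : L ⊗[R] A)
    (hz : MonoidAlgebra.mapDomainBialgHom L h (e z) = 0) :
    ∃ w, (LinearMap.ker (ρ : A →ₗ[R] MonoidAlgebra R M)).subtype.lTensor L w = z := by
  have h1 : mapBialg L ρ z = 0 := by
    apply EquivLike.injective (scalarBialg R L M)
    rw [scalar_mapBialg h e ρ hρ, hz, map_zero]
  have h2 : (ρ : A →ₗ[R] MonoidAlgebra R M).lTensor L z = 0 := h1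
  have h3 := lTensor_exact L (f := (LinearMap.ker (ρ : A →ₗ[R] MonoidAlgebra R M)).subtype)
    (g := (ρ : A →ₗ[R] MonoidAlgebra R M)) (LinearMap.exact_subtype_ker_map _) hs
  exact (h3 z).mp h2

omit [IsDomain R] [Group.FG M] in
/-- (F7) -/
theorem exists_idem (h : N →* M) (hsurj : Function.Surjective h)
    (e : (L ⊗[R] A) ≃ₐc[L] MonoidAlgebra L N) (hRL : Function.Injective (algebraMap R L))
    (ρ : A →ₐc[R] MonoidAlgebra R M) (hs : Function.Surjective ρ)
    (hρ : ∀ a, MonoidAlgebra.mapRingHom M (algebraMap R L) (ρ a) =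
        MonoidAlgebra.mapDomainBialgHom L h (e (1 ⊗ₜ a)))
    (y : A) (hy0 : ρ y ≠ 0) (hy : ∀ x, ρ x = 0 → y * x = 0) :
    ∃ ε : L ⊗[R] A, MonoidAlgebra.mapDomainBialgHom L h (e ε) = 0 ∧
      ∀ z, MonoidAlgebra.mapDomainBialgHom L h (e z) = 0 → ε * z = z := by
  classical
  set Y := e (1 ⊗ₜ y) with hY
  have hTY : MonoidAlgebra.mapDomainBialgHom L h Y ≠ 0 := by
    rw [hY, ← hρ]
    intro h0
    apply hy0
    apply mapRingHom_injective hRL
    rw [h0, map_zero]
  have h1 : ∀ z : L ⊗[R] A, MonoidAlgebra.mapDomainBialgHom L h (e z) = 0 → (1 ⊗ₜ y) * z = 0 := by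
    intro z hz
    obtain ⟨w, rfl⟩ := mem_range_lTensor h e ρ hs hρ z hz
    clear hz
    induction w using TensorProduct.induction_on with
    | zero => simp
    | add a b ha hb => rw [map_add, mul_add, ha, hb, add_zero]
    | tmul c x =>
      rw [LinearMap.lTensor_tmul, Algebra.TensorProduct.tmul_mul_tmul, Submodule.subtype_apply,
        hy x x.2, TensorProduct.tmul_zero]
  have h2 : ∀ w : MonoidAlgebra L N, MonoidAlgebra.mapDomainBialgHom L h w = 0 → Y * w = 0 := by
    intro w hw
    have h3 : e (e.symm w) = w := EquivLike.right_inv e w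
    rw [← h3] at hw ⊢
    rw [hY, ← map_mul, h1 _ hw, map_zero]
  have h3 : ∀ n ∈ h.ker, MonoidAlgebra.single n (1 : L) * Y = Y := by
    intro n hn
    have h4 : MonoidAlgebra.mapDomainBialgHom L h (MonoidAlgebra.single n (1 : L) - 1) = 0 := by
      rw [map_sub, map_one, MonoidAlgebra.mapDomainBialgHom_single, MonoidHom.mem_ker.mp hn,
        MonoidAlgebra.one_def, sub_self]
    have h5 := h2 _ h4
    rw [mul_sub, mul_one, sub_eq_zero] at h5
    rw [mul_comm, h5]
  have hY0 : Y ≠ 0 := by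
    intro h0
    apply hTY
    rw [h0, map_zero]
  have hfin : Finite h.ker := by
    have h4 : ∃ m, Y.coeff m ≠ 0 := by
      by_contra hcon
      push Not at hcon
      apply hY0
      ext m
      rw [hcon m]; simp
    obtain ⟨m, hm⟩ := h4
    let F : h.ker → (Y.coeff.support : Set N) := fun n => ⟨(n : N)⁻¹ * m, by
      have h5 := congrArg (fun z => z.coeff m) (h3 n n.2)
      simp only [MonoidAlgebra.coeff_single_mul_apply, one_mul] at h5
      simp only [Finset.mem_coe, Finsupp.mem_support_iff]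
      rw [h5]; exact hm⟩
    refine Finite.of_injective F fun a b hab => ?_
    have h6 := congrArg Subtype.val hab
    change (a : N)⁻¹ * m = (b : N)⁻¹ * m at h6
    apply Subtype.ext
    exact inv_injective (mul_right_cancel h6)
  have := Fintype.ofFinite h.ker
  have hsY : sker L h * Y = (Fintype.card h.ker : L) • Y := by
    have h5 : ∀ g : h.ker, MonoidAlgebra.single (g : N) (1 : L) * Y = Y := fun g => h3 g g.2
    rw [sker, Finset.sum_mul, Finset.sum_congr rfl (fun g _ => h5 g)]
    simp [Nat.cast_smul_eq_nsmul]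
  have hcard : (Fintype.card h.ker : L) ≠ 0 := by
    intro h0
    apply hTY
    ext m
    obtain ⟨n, rfl⟩ := hsurj m
    rw [← coeff_sker_mul, hsY, h0, zero_smul]; simp
  have hTs : MonoidAlgebra.mapDomainBialgHom L h (sker L h) = (Fintype.card h.ker : L) • 1 := by
    rw [sker, map_sum]
    have h5 : ∀ g : h.ker, MonoidAlgebra.mapDomainBialgHom L h (MonoidAlgebra.single (g : N) 1) = 1 := by
      intro g
      rw [MonoidAlgebra.mapDomainBialgHom_single, MonoidHom.mem_ker.mp g.2, MonoidAlgebra.one_def]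
    rw [Finset.sum_congr rfl (fun g _ => h5 g)]
    simp [Nat.cast_smul_eq_nsmul]
  refine ⟨e.symm (1 - (Fintype.card h.ker : L)⁻¹ • sker L h), ?_, ?_⟩
  · rw [BialgEquiv.apply_symm_apply, map_sub, map_smul, hTs, smul_smul, inv_mul_cancel₀ hcard,
      one_smul, map_one, sub_self]
  · intro z hz
    apply EquivLike.injective e
    rw [map_mul, BialgEquiv.apply_symm_apply, sub_mul, one_mul, smul_mul_assoc]
    have h6 : sker L h * e z = 0 := by
      ext m
      rw [coeff_sker_mul, hz]; simp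
    rw [h6, smul_zero, sub_zero]

omit [Group.FG M] in
/-- (F7), second part -/
theorem rho_injective [Module.Flat R A] [ConnectedSpace (PrimeSpectrum (FractionRing R ⊗[R] A))]
    [Algebra (FractionRing R) L] [IsScalarTower R (FractionRing R) L]
    (h : N →* M) (e : (L ⊗[R] A) ≃ₐc[L] MonoidAlgebra L N)
    (ρ : A →ₐc[R] MonoidAlgebra R M) (hs : Function.Surjective ρ)
    (hfg : (RingHom.ker (ρ : A →ₐ[R] MonoidAlgebra R M)).FG)
    (hρ : ∀ a, MonoidAlgebra.mapRingHom M (algebraMap R L) (ρ a) =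
        MonoidAlgebra.mapDomainBialgHom L h (e (1 ⊗ₜ a)))
    (hε : ∃ ε : L ⊗[R] A, MonoidAlgebra.mapDomainBialgHom L h (e ε) = 0 ∧
      ∀ z, MonoidAlgebra.mapDomainBialgHom L h (e z) = 0 → ε * z = z) :
    Function.Injective ρ := by
  set K := FractionRing R with hK
  obtain ⟨lam, hlam⟩ := LinearMap.exists_leftInverse_of_injective (Algebra.linearMap K L)
    (LinearMap.ker_eq_bot.mpr (algebraMap K L).injective)
  have hlam1 : lam 1 = 1 := by
    have := LinearMap.congr_fun hlam 1
    simpa using this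
  obtain ⟨ε, hε0, hε1⟩ := hε
  set I : Ideal A := RingHom.ker (ρ : A →ₐ[R] MonoidAlgebra R M) with hI
  have hmemI : ∀ x, x ∈ I ↔ ρ x = 0 := fun x => Iff.rfl
  have h1 : ∀ x ∈ I, ∃ r : R, r ≠ 0 ∧ r • x ∈ I * I := by
    intro x hx
    let π : A →ₗ[R] (A ⧸ (I * I).restrictScalars R) := ((I * I).restrictScalars R).mkQ
    obtain ⟨w, hw⟩ := mem_range_lTensor h e ρ hs hρ ε hε0
    have hx1 : ε * (1 ⊗ₜ x) = 1 ⊗ₜ x := by
      apply hε1
      rw [← hρ, (hmemI x).mp hx, map_zero]
    have h2 : π.lTensor L (1 ⊗ₜ x) = 0 := by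
      rw [← hx1, ← hw]
      clear hw
      induction w using TensorProduct.induction_on with
      | zero => rw [map_zero, zero_mul, map_zero]
      | add a b ha hb => rw [map_add, add_mul, map_add, ha, hb, add_zero]
      | tmul c z =>
        rw [LinearMap.lTensor_tmul, Algebra.TensorProduct.tmul_mul_tmul, LinearMap.lTensor_tmul]
        have : π ((LinearMap.ker (ρ : A →ₗ[R] MonoidAlgebra R M)).subtype z * x) = 0 := by
          rw [Submodule.mkQ_apply, Submodule.Quotient.mk_eq_zero]
          exact Ideal.mul_mem_mul z.2 hx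
        rw [this, TensorProduct.tmul_zero]
    have h3 : (1 : K) ⊗ₜ[R] π x = 0 := by
      have h4 := congrArg ((lam.restrictScalars R).rTensor _) h2
      rw [LinearMap.lTensor_tmul, LinearMap.rTensor_tmul, map_zero] at h4
      simpa [hlam1] using h4
    obtain ⟨r, hr⟩ := (IsLocalizedModule.eq_zero_iff (nonZeroDivisors R)
      (TensorProduct.mk R K (A ⧸ (I * I).restrictScalars R) 1)).mp h3
    refine ⟨r, nonZeroDivisors.ne_zero r.2, ?_⟩
    have h5 : π ((r : R) • x) = 0 := by
      rw [map_smul]; exact hr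
    rw [Submodule.mkQ_apply, Submodule.Quotient.mk_eq_zero] at h5
    exact h5
  let i : A →+* K ⊗[R] A := (Algebra.TensorProduct.includeRight : A →ₐ[R] K ⊗[R] A).toRingHom
  have hi : ∀ a, i a = 1 ⊗ₜ a := fun a => rfl
  have h2 : IsIdempotentElem (I.map i) := by
    refine le_antisymm Ideal.mul_le_left ?_
    rw [← Ideal.map_mul, Ideal.map_le_iff_le_comap]
    intro x hx
    obtain ⟨r, hr0, hr⟩ := h1 x hx
    rw [Ideal.mem_comap]
    have h3 : i x = ((algebraMap R K r)⁻¹ ⊗ₜ[R] (1 : A)) * i (r • x) := by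
      have hr0' : algebraMap R K r ≠ 0 := by
        rw [Ne, IsFractionRing.to_map_eq_zero_iff]; exact hr0
      rw [hi, hi, Algebra.TensorProduct.tmul_mul_tmul, one_mul, mul_one, TensorProduct.tmul_smul,
        TensorProduct.smul_tmul', Algebra.smul_def, mul_inv_cancel₀ hr0']
    rw [h3]
    exact Ideal.mul_mem_left _ _ (Ideal.mem_map_of_mem _ hr)
  obtain ⟨e', he', he''⟩ := (Ideal.isIdempotentElem_iff_of_fg _ (hfg.map i)).mp h2
  have hbot : I.map i = ⊥ := by
    rcases idem_trivial he' with h0 | h0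
    · rw [he'', h0]; simp
    · exfalso
      let φ : K ⊗[R] A →ₐ[R] MonoidAlgebra L M :=
        (((MonoidAlgebra.mapDomainBialgHom L h).comp (e : L ⊗[R] A →ₐc[L] MonoidAlgebra L N) :
          L ⊗[R] A →ₐ[L] MonoidAlgebra L M).restrictScalars R).comp
          (Algebra.TensorProduct.map (IsScalarTower.toAlgHom R K L) (AlgHom.id R A))
      have hφ : ∀ a, φ (1 ⊗ₜ a) = MonoidAlgebra.mapDomainBialgHom L h (e (1 ⊗ₜ a)) := by
        intro a
        change MonoidAlgebra.mapDomainBialgHom L h (e (algebraMap K L 1 ⊗ₜ a)) = _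
        rw [map_one]
      have h3 : I.map i ≤ RingHom.ker φ := by
        rw [Ideal.map_le_iff_le_comap]
        intro x hx
        rw [Ideal.mem_comap, RingHom.mem_ker, hi, hφ, ← hρ, (hmemI x).mp hx, map_zero]
      have h4 : (1 : K ⊗[R] A) ∈ I.map i := by
        rw [he'', h0]
        exact Ideal.mem_span_singleton_self _
      have h5 := RingHom.mem_ker.mp (h3 h4)
      rw [map_one] at h5
      exact one_ne_zero h5
  rw [injective_iff_map_eq_zero]
  intro x hx
  have h3 : i x ∈ I.map i := Ideal.mem_map_of_mem _ ((hmemI x).mpr hx)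
  rw [hbot, Ideal.mem_bot, hi] at h3
  exact one_tmul_injective (S := K) (IsFractionRing.injective R K) (by
    change (1 : K) ⊗ₜ[R] x = 1 ⊗ₜ 0
    rw [h3, TensorProduct.tmul_zero])

/-- The domain case, given the quotients `q l` and the splitting field. -/
theorem exists_equiv_of_domain [Module.Flat R A] [Algebra.FinitePresentation R A]
    [ConnectedSpace (PrimeSpectrum (FractionRing R ⊗[R] A))]
    [Algebra (FractionRing R) L] [IsScalarTower R (FractionRing R) L]
    (hR : ∃ r : R, r ≠ 0 ∧ ¬ IsUnit r)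
    (q : ∀ l : ℕ, A →ₐc[R] MonoidAlgebra R (Q M l))
    (hq : ∀ l, 0 < l → Function.Surjective (q l))
    (e : (L ⊗[R] A) ≃ₐc[L] MonoidAlgebra L N)
    (hC : ∀ r : R, r ≠ 0 → ¬ IsUnit r → Compat q r) :
    Nonempty (A ≃ₐc[R] MonoidAlgebra R M) := by
  have hRL : Function.Injective (algebraMap R L) := by
    rw [IsScalarTower.algebraMap_eq R (FractionRing R) L]
    exact (algebraMap (FractionRing R) L).injective.comp (IsFractionRing.injective R _)
  obtain ⟨h, hsurj, hl⟩ := exists_hom hR q hq e hC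
  obtain ⟨ρ, hs, hρ, hρq⟩ := exists_rho q e hC h hsurj hl
  obtain ⟨r, hr0, hru⟩ := hR
  obtain ⟨y, hy0, hy⟩ := exists_annihilator q ρ hs hρq r hr0 hru (hC r hr0 hru)
  have hfp := finitePresentation_monoidAlgebra R M
  have hfg : (RingHom.ker (ρ : A →ₐ[R] MonoidAlgebra R M)).FG :=
    Algebra.FinitePresentation.ker_fG_of_surjective (ρ : A →ₐ[R] MonoidAlgebra R M) hs
  have hinj := rho_injective h e ρ hs hfg hρ (exists_idem h hsurj e hRL ρ hs hρ y hy0 hy)
  exact ⟨BialgEquiv.ofBijective ρ ⟨hinj, hs⟩⟩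

end inj

end Groth.Agent.Sga3A.FibDomain
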