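import Groth.Agent.Sga3A.FibDef
import Groth.Agent.Sga3A.FibDomain2

/-!
# Normalisation of the isomorphisms in S2975 (rigidity over local rings)
-/

set_option autoImplicit false
universe u

open TensorProduct

namespace Groth.Agent.Sga3A.FibCompat

open FibRes BCIso MTBasis FibDef FibDomain

section rigid

variable {T B G G' κ : Type*} [CommRing T] [CommRing B] [Bialgebra T B] [CommGroup G]
  [CommGroup G'] [CommRing κ] [Nontrivial κ]

/-- over a local ring, a group-like element of a group algebra is a group element -/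
theorem exists_single [IsLocalRing T] {x : MonoidAlgebra T G} (hx : IsGroupLikeElem T x) :
    ∃ g, x = MonoidAlgebra.single g 1 := by
  obtain ⟨g, hg⟩ := (GBasis.ofBialgEquiv (BialgEquiv.refl T (MonoidAlgebra T G))).exists_eq hx
  exact ⟨g, hg⟩

/-- Two homomorphisms between diagonalisable groups over a local ring which agree modulo some proper
ideal are equal. -/
theorem eq_of_mapRingHom_eq [IsLocalRing T] (φ : T →+* κ) (e : B ≃ₐc[T] MonoidAlgebra T G)
    (f₁ f₂ : B →ₐc[T] MonoidAlgebra T G')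
    (h : ∀ b, MonoidAlgebra.mapRingHom G' φ (f₁ b) = MonoidAlgebra.mapRingHom G' φ (f₂ b)) (b : B) :
    f₁ b = f₂ b := by
  let g := GBasis.ofBialgEquiv e
  have h1 : (f₁ : B →ₗ[T] MonoidAlgebra T G') = (f₂ : B →ₗ[T] MonoidAlgebra T G') := by
    refine g.b.ext fun i => ?_
    obtain ⟨x, hx⟩ := exists_single ((g.gl i).map f₁)
    obtain ⟨y, hy⟩ := exists_single ((g.gl i).map f₂)
    change f₁ (g.b i) = f₂ (g.b i)
    have h2 := h (g.b i)
    rw [hx, hy, MonoidAlgebra.mapRingHom_single, MonoidAlgebra.mapRingHom_single, map_one] at h2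
    rw [hx, hy, MonoidAlgebra.single_left_injective one_ne_zero h2]
  exact LinearMap.congr_fun h1 b

end rigid

section lift

variable {R A M T κ : Type*} [CommRing R] [CommRing A] [Bialgebra R A] [CommGroup M]
  [CommRing T] [Algebra R T] [Field κ] [Algebra R κ]

theorem scalar_one_tmul {G : Type*} [CommGroup G] (x : MonoidAlgebra R G) :
    scalarBialg R T G (1 ⊗ₜ x) = MonoidAlgebra.mapRingHom G (algebraMap R T) x := by
  induction x using MonoidAlgebra.induction_linear with
  | zero => simp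
  | add x y hx hy => rw [TensorProduct.tmul_add, map_add, hx, hy, map_add]
  | single m r => simp

theorem mapRingHom_smul' (φ : T →+* κ) {G : Type*} [CommGroup G] (t : T) (x : MonoidAlgebra T G) :
    MonoidAlgebra.mapRingHom G φ (t • x) = φ t • MonoidAlgebra.mapRingHom G φ x := by
  induction x using MonoidAlgebra.induction_linear with
  | zero => simp
  | add x y hx hy => rw [smul_add, map_add, hx, hy, map_add, smul_add]
  | single m r => simp

theorem mapRingHom_comp' (φ : T →ₐ[R] κ) {G : Type*} [CommGroup G] (x : MonoidAlgebra R G) :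
    MonoidAlgebra.mapRingHom G φ.toRingHom (MonoidAlgebra.mapRingHom G (algebraMap R T) x) =
      MonoidAlgebra.mapRingHom G (algebraMap R κ) x := by
  induction x using MonoidAlgebra.induction_linear with
  | zero => simp
  | add x y hx hy => rw [map_add, map_add, map_add, hx, hy]
  | single m r => simp

/-- base change of `e : T ⊗ A ≃ T[M]` along `φ : T → κ`. -/
theorem exists_bc_equiv (φ : T →ₐ[R] κ) (e : (T ⊗[R] A) ≃ₐc[T] MonoidAlgebra T M) :
    ∃ e' : (κ ⊗[R] A) ≃ₐc[κ] MonoidAlgebra κ M,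
      ∀ z, e' (MTBasis.bc A φ z) = MonoidAlgebra.mapRingHom M φ.toRingHom (e z) := by
  let _ := φ.toRingHom.toAlgebra
  have : IsScalarTower R T κ := .of_algebraMap_eq' φ.comp_algebraMap.symm
  refine ⟨((cancelBialg R T κ A).symm.trans (congrBialg κ e)).trans (scalarBialg T κ M), fun z => ?_⟩
  have h1 : MTBasis.bc A φ z = cancelBialg R T κ A (1 ⊗ₜ z) := by
    induction z using TensorProduct.induction_on with
    | zero => simp
    | add x y hx hy => rw [map_add, TensorProduct.tmul_add, map_add, hx, hy]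
    | tmul t a =>
      rw [cancelBialg_tmul, one_mul, MTBasis.bc_tmul]; rfl
  rw [h1]
  change scalarBialg T κ M (congrBialg κ e ((cancelBialg R T κ A).symm (cancelBialg R T κ A _))) = _
  rw [BialgEquiv.symm_apply_apply, congrBialg_tmul]
  generalize e z = w
  induction w using MonoidAlgebra.induction_linear with
  | zero => simp
  | add x y hx hy => rw [TensorProduct.tmul_add, map_add, hx, hy, map_add]
  | single m r => simp; rfl

/-- `T[M] ≃ T[M']` induced by `M ≃ M'`. -/
noncomputable def congrMA (T : Type*) [CommRing T] {M M' : Type*} [CommGroup M] [CommGroup M'] (α : M ≃* M') :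
    MonoidAlgebra T M ≃ₐc[T] MonoidAlgebra T M' :=
  BialgEquiv.ofBialgHom (MonoidAlgebra.mapDomainBialgHom T (α : M →* M'))
    (MonoidAlgebra.mapDomainBialgHom T (α.symm : M' →* M))
    (by rw [← MonoidAlgebra.mapDomainBialgHom_comp]; simp)
    (by rw [← MonoidAlgebra.mapDomainBialgHom_comp]; simp)

theorem exists_mulEquiv (β : MonoidAlgebra κ M ≃ₐc[κ] MonoidAlgebra κ M) :
    ∃ α : M ≃* M, ∀ x, β x = MonoidAlgebra.mapDomainBialgHom κ (α : M →* M) x := by
  refine ⟨MonoidHom.toMulEquiv
    (MonoidAlgebra.mapDomainOfBialgHom (β : MonoidAlgebra κ M →ₐc[κ] MonoidAlgebra κ M))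
    (MonoidAlgebra.mapDomainOfBialgHom (β.symm : MonoidAlgebra κ M →ₐc[κ] MonoidAlgebra κ M))
    ?_ ?_, fun x => ?_⟩
  · rw [← MonoidAlgebra.mapDomainOfBialgHom_comp, ← MonoidAlgebra.mapDomainOfBialgHom_id (R := κ)]
    congr 1
    ext x
    simp
  · rw [← MonoidAlgebra.mapDomainOfBialgHom_comp, ← MonoidAlgebra.mapDomainOfBialgHom_id (R := κ)]
    congr 1
    ext x
    simp
  · have := MonoidAlgebra.mapDomainBialgHom_mapDomainOfBialgHom
      (β : MonoidAlgebra κ M →ₐc[κ] MonoidAlgebra κ M)
    exact (congrArg (fun f : MonoidAlgebra κ M →ₐc[κ] MonoidAlgebra κ M => f x) this).symm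

theorem mapRingHom_mapDomain {M' : Type*} [CommGroup M'] (φ : T →+* κ) (α : M →* M')
    (x : MonoidAlgebra T M) :
    MonoidAlgebra.mapRingHom M' φ (MonoidAlgebra.mapDomainBialgHom T α x) =
      MonoidAlgebra.mapDomainBialgHom κ α (MonoidAlgebra.mapRingHom M φ x) := by
  induction x using MonoidAlgebra.induction_linear with
  | zero => simp
  | add x y hx hy => rw [map_add, map_add, map_add, map_add, hx, hy]
  | single m r => simp

/-- A diagonalisation over `T` can be normalised to induce the given one over `κ`. -/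
theorem exists_normalised (φ : T →ₐ[R] κ) (e' : (T ⊗[R] A) ≃ₐc[T] MonoidAlgebra T M)
    (e₀ : (κ ⊗[R] A) ≃ₐc[κ] MonoidAlgebra κ M) :
    ∃ e : (T ⊗[R] A) ≃ₐc[T] MonoidAlgebra T M,
      ∀ z, MonoidAlgebra.mapRingHom M φ.toRingHom (e z) = e₀ (MTBasis.bc A φ z) := by
  obtain ⟨e₁, he₁⟩ := exists_bc_equiv φ e'
  obtain ⟨α, hα⟩ := exists_mulEquiv (e₁.symm.trans e₀)
  refine ⟨e'.trans (congrMA T α), fun z => ?_⟩
  change MonoidAlgebra.mapRingHom M φ.toRingHom (MonoidAlgebra.mapDomainBialgHom T _ (e' z)) = _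
  rw [mapRingHom_mapDomain, ← hα, ← he₁]
  change e₀ (e₁.symm (e₁ _)) = _
  rw [BialgEquiv.symm_apply_apply]

end lift

section compat

variable {R A M : Type u} [CommRing R] [IsLocalRing R] [CommRing A] [HopfAlgebra R A] [CommGroup M]

open IsLocalRing

/-- The normalised compatibility, from compatibility with the closed fibre. -/
theorem compat_of_residue (q : ∀ l : ℕ, A →ₐc[R] MonoidAlgebra R (Q M l))
    (e₀ : (ResidueField R ⊗[R] A) ≃ₐc[ResidueField R] MonoidAlgebra (ResidueField R) M)
    (hq : ∀ l, 0 < l → ∀ a, MonoidAlgebra.mapRingHom (Q M l) (residue R) (q l a) =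
      MonoidAlgebra.mapDomainBialgHom (ResidueField R) (qm M l) (e₀ (1 ⊗ₜ a)))
    (r : R) (hr : ¬ IsUnit r) (h : DiagMod R A M (Ideal.span {r})) : Compat q r := by
  set T := R ⧸ Ideal.span {r} with hT
  have hle : Ideal.span {r} ≤ maximalIdeal R := by
    rw [Ideal.span_singleton_le_iff_mem]; exact hr
  have hnt : Nontrivial T := Ideal.Quotient.nontrivial_iff.mpr (fun h => by
    rw [h] at hle
    exact (maximalIdeal.isMaximal R).ne_top (top_le_iff.mp hle))
  have hloc : IsLocalRing T := IsLocalRing.of_surjective' (Ideal.Quotient.mk _) Ideal.Quotient.mk_surjective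
  let φ : T →ₐ[R] ResidueField R := Ideal.Quotient.factorₐ R hle
  obtain ⟨e'⟩ := h
  obtain ⟨e, he⟩ := exists_normalised φ e' e₀
  refine ⟨e, fun l hl a => ?_⟩
  let f₁ : (T ⊗[R] A) →ₐc[T] MonoidAlgebra T (Q M l) :=
    (scalarBialg R T (Q M l) : _ →ₐc[T] _).comp (mapBialg T (q l))
  let f₂ : (T ⊗[R] A) →ₐc[T] MonoidAlgebra T (Q M l) :=
    (qma T M l).comp (e : _ →ₐc[T] _)
  have hf : ∀ b : T ⊗[R] A, MonoidAlgebra.mapRingHom (Q M l) φ.toRingHom (f₁ b) =
      MonoidAlgebra.mapRingHom (Q M l) φ.toRingHom (f₂ b) := by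
    intro b
    have h2 : MonoidAlgebra.mapRingHom (Q M l) φ.toRingHom (f₂ b) =
        MonoidAlgebra.mapDomainBialgHom (ResidueField R) (qm M l) (e₀ (MTBasis.bc A φ b)) := by
      change MonoidAlgebra.mapRingHom (Q M l) φ.toRingHom
        (MonoidAlgebra.mapDomainBialgHom T (qm M l) (e b)) = _
      rw [mapRingHom_mapDomain, he]
    rw [h2]
    clear h2
    induction b using TensorProduct.induction_on with
    | zero => simp
    | add x y hx hy => rw [map_add, map_add, hx, hy, map_add, map_add, map_add]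
    | tmul t a =>
      have h3 : t ⊗ₜ[R] a = t • ((1 : T) ⊗ₜ[R] a) := by
        rw [TensorProduct.smul_tmul', smul_eq_mul, mul_one]
      have h4 : f₁ (1 ⊗ₜ a) = MonoidAlgebra.mapRingHom (Q M l) (algebraMap R T) (q l a) :=
        scalar_one_tmul _
      have h5 : MTBasis.bc A φ (t • (1 ⊗ₜ a)) = φ t • (1 ⊗ₜ a) := by
        rw [bc_smul, MTBasis.bc_tmul, map_one]
      rw [h3, map_smul, mapRingHom_smul', h4, mapRingHom_comp', h5, map_smul, map_smul, ← hq l hl a]
      rfl
  have h3 := eq_of_mapRingHom_eq φ.toRingHom e f₁ f₂ hf (1 ⊗ₜ a)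
  exact (scalar_one_tmul (T := T) (q l a)).symm.trans h3

end compat

end Groth.Agent.Sga3A.FibCompat
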