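import Groth.Prelude.Def_SGA3b

/-!
# Diagonalisable of type `M` modulo an ideal (for S2975, S2976)
-/

set_option autoImplicit false
universe u
open TensorProduct

namespace Groth.Agent.Sga3A.FibDef

/-- `A` is diagonalisable of type `M` modulo the ideal `J`. -/
def DiagMod (R A M : Type u) [CommRing R] [CommRing A] [HopfAlgebra R A] [CommGroup M]
    (J : Ideal R) : Prop :=
  Nonempty (((R ⧸ J) ⊗[R] A) ≃ₐc[R ⧸ J] MonoidAlgebra (R ⧸ J) M)

end Groth.Agent.Sga3A.FibDef
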