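import Groth.Agent.Sga3A.FibRes
import Groth.Agent.Sga3A.LiftGL
import Groth.Agent.Sga3A.BCIso
import Mathlib.RingTheory.Localization.BaseChange
import Mathlib.LinearAlgebra.TensorProduct.Basis
import Mathlib.RingTheory.Localization.FractionRing
import Mathlib.RingTheory.Flat.TorsionFree

/-!
# Domain case of S2975, part 1: characters of the generic fibre are defined over the base

`R` a domain which is not a field, `A` a Hopf algebra over `R`, `q l : A → R[M/M^l]` for `l > 0`
bialgebra maps such that modulo every non-zero non-unit `r` the algebra `A` becomes `(R/r)[M]`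
with `q l` becoming the canonical map.
-/

set_option autoImplicit false
universe u

open TensorProduct

namespace Groth.Agent.Sga3A.FibDomain

open FibRes LiftGL BCIso

section

variable {R A M : Type u} [CommRing R] [CommRing A] [HopfAlgebra R A] [CommGroup M] [Group.FG M]

/-- The compatibility of `q l` with an isomorphism `(R/r) ⊗ A ≅ (R/r)[M]`. -/
def Compat (q : ∀ l : ℕ, A →ₐc[R] MonoidAlgebra R (Q M l)) (r : R) : Prop :=
  ∃ e : ((R ⧸ Ideal.span {r}) ⊗[R] A) ≃ₐc[R ⧸ Ideal.span {r}]
      MonoidAlgebra (R ⧸ Ideal.span {r}) M,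
    ∀ l, 0 < l → ∀ a : A,
      MonoidAlgebra.mapRingHom (Q M l) (Ideal.Quotient.mk (Ideal.span {r})) (q l a) =
        qma (R ⧸ Ideal.span {r}) M l (e (1 ⊗ₜ a))

theorem mapRingHom_eq_zero_of_smul (r : R) {N : Type*} [CommGroup N] (z : MonoidAlgebra R N) :
    MonoidAlgebra.mapRingHom N (Ideal.Quotient.mk (Ideal.span {r})) (r • z) = 0 := by
  ext n
  simp [MonoidAlgebra.coeff_mapRingHom, Ideal.Quotient.eq_zero_iff_mem.mpr
    (Ideal.mem_span_singleton_self r)]

/-- (F1) divisibility by `r` is detected by the `q l`. -/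
theorem exists_smul_eq (q : ∀ l : ℕ, A →ₐc[R] MonoidAlgebra R (Q M l)) {r : R} (hr : Compat q r)
    (x : A) (hx : ∀ l, 0 < l → ∃ z, q l x = r • z) : ∃ y : A, x = r • y := by
  obtain ⟨e, he⟩ := hr
  have h1 : red e x = 0 := by
    refine eq_zero_of_qma _ fun l hl => ?_
    rw [red_apply, ← he l hl]
    obtain ⟨z, hz⟩ := hx l hl
    rw [hz, mapRingHom_eq_zero_of_smul]
  rw [red_eq_zero_iff (T := R ⧸ Ideal.span {r}) Ideal.Quotient.mk_surjective e] at h1
  have h2 : RingHom.ker (algebraMap R (R ⧸ Ideal.span {r})) = Ideal.span {r} := Ideal.mk_ker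
  rw [h2, Submodule.ideal_span_singleton_smul] at h1
  obtain ⟨y, -, hy⟩ := (Submodule.mem_smul_pointwise_iff_exists _ _ _).mp h1
  exact ⟨y, hy.symm⟩

end

section generic

variable {R A M : Type u} [CommRing R] [IsDomain R] [CommRing A] [HopfAlgebra R A] [CommGroup M]
  [Group.FG M] {L N : Type u} [Field L] [Algebra R L] [CommGroup N]

/-- the map `L[N] → L[M/M^l]` induced by `q l` -/
noncomputable def QL (q : ∀ l : ℕ, A →ₐc[R] MonoidAlgebra R (Q M l))
    (e : (L ⊗[R] A) ≃ₐc[L] MonoidAlgebra L N) (l : ℕ) :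
    MonoidAlgebra L N →ₐc[L] MonoidAlgebra L (Q M l) :=
  ((scalarBialg R L (Q M l) : _ →ₐc[L] _).comp (mapBialg L (q l))).comp (e.symm : _ →ₐc[L] _)

omit [IsDomain R] [Group.FG M] in
theorem QL_apply (q : ∀ l : ℕ, A →ₐc[R] MonoidAlgebra R (Q M l))
    (e : (L ⊗[R] A) ≃ₐc[L] MonoidAlgebra L N) (l : ℕ) (z : L ⊗[R] A) :
    QL q e l (e z) = scalarBialg R L (Q M l) (mapBialg L (q l) z) := by
  have : e.symm (e z) = z := EquivLike.left_inv e z
  change scalarBialg R L (Q M l) (mapBialg L (q l) (e.symm (e z))) = _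
  rw [this]

omit [IsDomain R] in
theorem scalarBialg_one_tmul {G : Type*} [CommGroup G] (x : MonoidAlgebra R G) :
    scalarBialg R L G (1 ⊗ₜ x) = MonoidAlgebra.mapRingHom G (algebraMap R L) x := by
  induction x using MonoidAlgebra.induction_linear with
  | zero => simp
  | add x y hx hy => rw [TensorProduct.tmul_add, map_add, hx, hy, map_add]
  | single m r => simp

omit [IsDomain R] [Group.FG M] in
theorem QL_one_tmul (q : ∀ l : ℕ, A →ₐc[R] MonoidAlgebra R (Q M l))
    (e : (L ⊗[R] A) ≃ₐc[L] MonoidAlgebra L N) (l : ℕ) (a : A) :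
    QL q e l (e (1 ⊗ₜ a)) = MonoidAlgebra.mapRingHom (Q M l) (algebraMap R L) (q l a) := by
  rw [QL_apply, mapBialg_tmul, scalarBialg_one_tmul]

/-- The homomorphism `N → M/M^l` of character groups given by `q l`. -/
noncomputable def fl (q : ∀ l : ℕ, A →ₐc[R] MonoidAlgebra R (Q M l))
    (e : (L ⊗[R] A) ≃ₐc[L] MonoidAlgebra L N) (l : ℕ) : N →* Q M l :=
  MonoidAlgebra.mapDomainOfBialgHom (QL q e l)

omit [IsDomain R] [Group.FG M] in
theorem QL_eq (q : ∀ l : ℕ, A →ₐc[R] MonoidAlgebra R (Q M l))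
    (e : (L ⊗[R] A) ≃ₐc[L] MonoidAlgebra L N) (l : ℕ) :
    QL q e l = MonoidAlgebra.mapDomainBialgHom L (fl q e l) :=
  (MonoidAlgebra.mapDomainBialgHom_mapDomainOfBialgHom (QL q e l)).symm

omit [IsDomain R] [Group.FG M] in
theorem QL_single (q : ∀ l : ℕ, A →ₐc[R] MonoidAlgebra R (Q M l))
    (e : (L ⊗[R] A) ≃ₐc[L] MonoidAlgebra L N) (l : ℕ) (g : N) (c : L) :
    QL q e l (MonoidAlgebra.single g c) = MonoidAlgebra.single (fl q e l g) c := by
  rw [QL_eq]; simp

theorem fl_surjective (q : ∀ l : ℕ, A →ₐc[R] MonoidAlgebra R (Q M l))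
    (e : (L ⊗[R] A) ≃ₐc[L] MonoidAlgebra L N) (l : ℕ) (hq : Function.Surjective (q l)) :
    Function.Surjective (fl q e l) := by
  classical
  have h1 : Function.Surjective (QL q e l) := by
    intro x
    obtain ⟨y, rfl⟩ := EquivLike.surjective (scalarBialg R L (Q M l)) x
    have h2 : Function.Surjective (mapBialg L (q l)) := by
      intro z
      induction z using TensorProduct.induction_on with
      | zero => exact ⟨0, map_zero _⟩
      | tmul c w =>
        obtain ⟨a, rfl⟩ := hq w
        exact ⟨c ⊗ₜ a, mapBialg_tmul _ _ _ _⟩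
      | add z w hz hw =>
        obtain ⟨a, rfl⟩ := hz
        obtain ⟨b, rfl⟩ := hw
        exact ⟨a + b, map_add _ _ _⟩
    obtain ⟨z, rfl⟩ := h2 y
    exact ⟨e z, QL_apply q e l z⟩
  intro t
  obtain ⟨x, hx⟩ := h1 (MonoidAlgebra.single t 1)
  by_contra hcon
  push Not at hcon
  have key : ∀ x : MonoidAlgebra L N, (QL q e l x).coeff t = 0 := by
    intro x
    induction x using MonoidAlgebra.induction_linear with
    | zero => simp
    | add x y hx hy => rw [map_add, MonoidAlgebra.coeff_add, Finsupp.add_apply, hx, hy, add_zero]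
    | single m r => rw [QL_single, MonoidAlgebra.coeff_single, Finsupp.single_eq_of_ne (hcon m).symm]
  have := key x
  rw [hx] at this
  simp at this

omit [IsDomain R] in
theorem mapRingHom_injective {G : Type*} [CommGroup G] (hL : Function.Injective (algebraMap R L)) :
    Function.Injective (MonoidAlgebra.mapRingHom G (algebraMap R L)) := by
  intro x y hxy
  ext m
  have := congrArg (fun z => z.coeff m) hxy
  simp only [MonoidAlgebra.coeff_mapRingHom] at this
  exact hL this

omit [IsDomain R] in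
/-- `V → S ⊗ V` is injective for `V` flat and `R → S` injective. -/
theorem one_tmul_injective {S V : Type*} [CommRing S] [Algebra R S] [AddCommGroup V] [Module R V]
    [Module.Flat R V] (hS : Function.Injective (algebraMap R S)) :
    Function.Injective (fun v : V => (1 : S) ⊗ₜ[R] v) := by
  have h1 : Function.Injective ((Algebra.linearMap R S).rTensor V) :=
    Module.Flat.rTensor_preserves_injective_linearMap (Algebra.linearMap R S) hS
  have h2 : (fun v : V => (1 : S) ⊗ₜ[R] v) =
      ((Algebra.linearMap R S).rTensor V) ∘ (TensorProduct.lid R V).symm := by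
    ext v
    simp
  rw [h2]
  exact h1.comp (TensorProduct.lid R V).symm.injective

/-- (F3) For every character `g` of the generic fibre there is `y ∈ A` with `q l y = g mod l`. -/
theorem exists_lift_character [Algebra (FractionRing R) L] [IsScalarTower R (FractionRing R) L]
    (q : ∀ l : ℕ, A →ₐc[R] MonoidAlgebra R (Q M l))
    (e : (L ⊗[R] A) ≃ₐc[L] MonoidAlgebra L N)
    (hC : ∀ r : R, r ≠ 0 → ¬ IsUnit r → Compat q r) (g : N) :
    ∃ y : A, ∀ l, 0 < l → q l y = MonoidAlgebra.single (fl q e l g) 1 := by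
  set K := FractionRing R with hK
  obtain ⟨lam, hlam⟩ := LinearMap.exists_leftInverse_of_injective (Algebra.linearMap K L)
    (LinearMap.ker_eq_bot.mpr (algebraMap K L).injective)
  have hlam1 : lam 1 = 1 := by
    have := LinearMap.congr_fun hlam 1
    simpa using this
  set x0 : K ⊗[R] A := (lam.restrictScalars R).rTensor A (e.symm (MonoidAlgebra.single g 1)) with hx0
  have h1 : ∀ l, (q l : A →ₗ[R] _).lTensor L (e.symm (MonoidAlgebra.single g 1)) =
      (1 : L) ⊗ₜ[R] (MonoidAlgebra.single (fl q e l g) 1 : MonoidAlgebra R (Q M l)) := by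
    intro l
    apply EquivLike.injective (scalarBialg R L (Q M l))
    have h2 : scalarBialg R L (Q M l) (mapBialg L (q l) (e.symm (MonoidAlgebra.single g 1))) =
        MonoidAlgebra.single (fl q e l g) 1 := QL_single q e l g 1
    rw [scalarBialg_one_tmul]
    simp only [MonoidAlgebra.mapRingHom_single, map_one]
    exact h2
  have h2 : ∀ l, (q l : A →ₗ[R] _).lTensor K x0 =
      (1 : K) ⊗ₜ[R] (MonoidAlgebra.single (fl q e l g) 1 : MonoidAlgebra R (Q M l)) := by
    intro l
    rw [hx0, ← LinearMap.comp_apply, LinearMap.lTensor_comp_rTensor,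
      ← LinearMap.rTensor_comp_lTensor, LinearMap.comp_apply, h1, LinearMap.rTensor_tmul]
    simp [hlam1]
  obtain ⟨⟨x, r⟩, hx⟩ := IsLocalizedModule.surj (nonZeroDivisors R) (TensorProduct.mk R K A 1) x0
  have hr0 : (r : R) ≠ 0 := nonZeroDivisors.ne_zero r.2
  have hx' : (r : R) • x0 = (1 : K) ⊗ₜ[R] x := hx
  have h3 : ∀ l, q l x = (r : R) • (MonoidAlgebra.single (fl q e l g) 1) := by
    intro l
    apply one_tmul_injective (S := K) (IsFractionRing.injective R K)
    change (1 : K) ⊗ₜ[R] (q l x) = (1 : K) ⊗ₜ[R] ((r : R) • _)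
    rw [TensorProduct.tmul_smul, ← h2, ← map_smul, hx', LinearMap.lTensor_tmul]
    rfl
  by_cases hu : IsUnit (r : R)
  · obtain ⟨u, hu⟩ := hu
    refine ⟨(↑u⁻¹ : R) • x, fun l hl => ?_⟩
    rw [map_smul, h3, ← hu, smul_smul, Units.inv_mul, one_smul]
  · obtain ⟨y, rfl⟩ := exists_smul_eq q (hC r hr0 hu) x (fun l _ => ⟨_, h3 l⟩)
    refine ⟨y, fun l hl => ?_⟩
    have h4 := h3 l
    rw [map_smul] at h4
    ext m
    have h5 := congrArg (fun z => z.coeff m) h4
    simp only [MonoidAlgebra.coeff_smul, Finsupp.smul_apply, smul_eq_mul] at h5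
    exact mul_left_cancel₀ hr0 h5

/-- (F4) the homomorphism `N → M` inducing all the `fl`. -/
theorem exists_hom [Algebra (FractionRing R) L] [IsScalarTower R (FractionRing R) L]
    (hR : ∃ r : R, r ≠ 0 ∧ ¬ IsUnit r)
    (q : ∀ l : ℕ, A →ₐc[R] MonoidAlgebra R (Q M l))
    (hq : ∀ l, 0 < l → Function.Surjective (q l))
    (e : (L ⊗[R] A) ≃ₐc[L] MonoidAlgebra L N)
    (hC : ∀ r : R, r ≠ 0 → ¬ IsUnit r → Compat q r) :
    ∃ h : N →* M, Function.Surjective h ∧ ∀ l, 0 < l → ∀ g, fl q e l g = qm M l (h g) := by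
  obtain ⟨r, hr0, hru⟩ := hR
  obtain ⟨ε, hε⟩ := hC r hr0 hru
  have hnt : Nontrivial (R ⧸ Ideal.span {r}) :=
    Ideal.Quotient.nontrivial_iff.mpr (by rwa [Ne, Ideal.span_singleton_eq_top])
  choose y hy using exists_lift_character q e hC
  have h1 : ∀ g, ∃ m : M, ∀ l, 0 < l → fl q e l g = qm M l m := by
    intro g
    obtain ⟨m, hm⟩ := exists_single_of_qma (red ε (y g)) (fun l => fl q e l g) (by
      intro l hl
      rw [red_apply, ← hε l hl, hy g l hl]
      simp)
    refine ⟨m, fun l hl => ?_⟩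
    have h2 := hε l hl (y g)
    rw [← red_apply, hm, hy g l hl, qma_single] at h2
    simp only [MonoidAlgebra.mapRingHom_single, map_one] at h2
    exact MonoidAlgebra.single_left_injective one_ne_zero h2
  have huniq : ∀ m m' : M, (∀ l, 0 < l → qm M l m = qm M l m') → m = m' := by
    intro m m' hmm
    by_contra hne
    have : m⁻¹ * m' ≠ 1 := fun h => hne (inv_mul_eq_one.mp h)
    obtain ⟨l, hl, h⟩ := exists_notMem_range this
    exact h ((qm_eq_iff l).mp (hmm l hl))
  choose h hh using h1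
  let H : N →* M :=
    { toFun := h
      map_one' := huniq _ _ fun l hl => by rw [← hh 1 l hl, map_one, map_one]
      map_mul' := fun a b => huniq _ _ fun l hl => by
        rw [← hh (a * b) l hl, map_mul, map_mul, hh a l hl, hh b l hl] }
  refine ⟨H, ?_, fun l hl g => hh g l hl⟩
  -- surjectivity
  rw [← MonoidHom.range_eq_top, eq_top_iff]
  intro m _
  by_contra hm
  have hfg : Group.FG (M ⧸ H.range) := inferInstance
  have hne : (QuotientGroup.mk' H.range m) ≠ 1 := by
    intro h
    exact hm ((QuotientGroup.eq_one_iff m).mp h)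
  obtain ⟨l, hl, hl'⟩ := exists_notMem_range hne
  apply hl'
  obtain ⟨g, hg⟩ := fl_surjective q e l (hq l hl) (qm M l m)
  rw [hh g l hl, qm_eq_iff] at hg
  obtain ⟨n, hn⟩ := hg
  refine ⟨QuotientGroup.mk' H.range n, ?_⟩
  rw [powMonoidHom_apply, ← map_pow]
  have h2 : n ^ l = (H g)⁻¹ * m := hn
  rw [h2, map_mul]
  have h3 : QuotientGroup.mk' H.range (H g)⁻¹ = 1 := by
    rw [QuotientGroup.mk'_apply, QuotientGroup.eq_one_iff]
    exact inv_mem ⟨g, rfl⟩
  rw [h3, one_mul]

end generic

end Groth.Agent.Sga3A.FibDomain
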