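import Groth.Agent.Sga3A.BCIso
import Groth.Agent.Sga3A.FFDescent
import Mathlib.RingTheory.Idempotents
import Mathlib.RingTheory.Nilpotent.Lemmas

/-!
Group-like elements of group algebras (team sga3-a).

* `isGroupLikeElem_iff_coeff`: `x : R[M]` is group-like iff its coefficients are orthogonal idempotents
  with sum `1`.
* `IsGLMod I x`: `x` is group-like modulo the ideal `I`.
* `mem_smul_top_iff_coeff`: `x ∈ I • ⊤` in `R[M]` iff all coefficients are in `I`.
-/

open TensorProduct

namespace Groth.Agent.Sga3A.GLBasic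

universe u v w x y

open MonoidAlgebra

section coeff

variable {R : Type u} [CommRing R] {M : Type v} {N : Type w}

theorem counit_eq_sum (x : MonoidAlgebra R M) :
    Coalgebra.counit (R := R) x = x.coeff.sum (fun _ r => r) := by
  induction x using MonoidAlgebra.induction_linear with
  | zero => simp
  | add x y hx hy =>
    rw [map_add, hx, hy]
    simp
    rw [Finsupp.sum_add_index'] <;> simp
  | single m r => simp

theorem tensorEquiv_tmul_coeff (x : MonoidAlgebra R M) (y : MonoidAlgebra R N) (m : M) (n : N) :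
    (MonoidAlgebra.tensorEquiv R (x ⊗ₜ[R] y)).coeff (m, n) = x.coeff m * y.coeff n := by
  simp

open Classical in
theorem tensorEquiv_comul_coeff (x : MonoidAlgebra R M) (m n : M) :
    (MonoidAlgebra.tensorEquiv R (Coalgebra.comul (R := R) x)).coeff (m, n) =
      if m = n then x.coeff m else 0 := by
  induction x using MonoidAlgebra.induction_linear with
  | zero => simp
  | add x y hx hy =>
    rw [map_add, map_add, coeff_add, Finsupp.add_apply, hx, hy]
    split_ifs <;> simp
  | single k r =>
    simp only [comul_single, CommSemiring.comul_apply, TensorProduct.map_tmul, lsingle_apply,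
      tensorEquiv_single_tmul_single, coeff_single, Finsupp.single_apply, one_mul, Prod.mk.injEq]
    by_cases h : k = m
    · subst h
      by_cases h' : k = n <;> simp [h']
    · simp [h]

theorem coeff_sub (x y : MonoidAlgebra R M) (m : M) :
    (x - y).coeff m = x.coeff m - y.coeff m := by
  simp

theorem ext_coeff {x y : MonoidAlgebra R M} (h : ∀ m, x.coeff m = y.coeff m) : x = y := by
  ext m
  exact h m

/-- group-like elements of `R[M]` in terms of coefficients -/
theorem isGroupLikeElem_iff_coeff {x : MonoidAlgebra R M} :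
    IsGroupLikeElem R x ↔ (x.coeff.sum (fun _ r => r) = 1) ∧
      (∀ m, x.coeff m * x.coeff m = x.coeff m) ∧ (∀ m n, m ≠ n → x.coeff m * x.coeff n = 0) := by
  classical
  rw [isGroupLikeElem_iff, counit_eq_sum]
  refine and_congr Iff.rfl ?_
  constructor
  · intro h
    have key : ∀ m n, (if m = n then x.coeff m else 0) = x.coeff m * x.coeff n := by
      intro m n
      rw [← tensorEquiv_comul_coeff, h, tensorEquiv_tmul_coeff]
    refine ⟨fun m => ?_, fun m n hmn => ?_⟩
    · rw [← key m m, if_pos rfl]
    · rw [← key m n, if_neg hmn]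
  · rintro ⟨h1, h2⟩
    apply (MonoidAlgebra.tensorEquiv R).injective
    apply ext_coeff
    rintro ⟨m, n⟩
    rw [tensorEquiv_comul_coeff, tensorEquiv_tmul_coeff]
    split_ifs with h
    · subst h; rw [h1]
    · rw [h2 m n h]

theorem mem_smul_top_iff_coeff {I : Ideal R} {x : MonoidAlgebra R M} :
    x ∈ (I • ⊤ : Submodule R (MonoidAlgebra R M)) ↔ ∀ m, x.coeff m ∈ I := by
  constructor
  · intro h m
    refine Submodule.smul_induction_on h ?_ ?_
    · intro r hr n _
      rw [coeff_smul, Finsupp.smul_apply, smul_eq_mul]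
      exact I.mul_mem_right _ hr
    · intro x y hx hy
      rw [coeff_add, Finsupp.add_apply]
      exact I.add_mem hx hy
  · intro h
    have hx : x = ∑ m ∈ x.coeff.support, x.coeff m • MonoidAlgebra.single m (1 : R) := by
      conv_lhs => rw [← MonoidAlgebra.sum_coeff_single x]
      rw [Finsupp.sum]
      refine Finset.sum_congr rfl fun m _ => ?_
      simp
    rw [hx]
    exact Submodule.sum_mem _ fun m _ => Submodule.smul_mem_smul (h m) Submodule.mem_top

end coeff

section Mod

variable {R : Type u} {S : Type v} [CommRing R] [CommRing S] [Algebra R S]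

theorem mem_map_smul_top_iff {I : Ideal R} {B : Type w} [AddCommGroup B] [Module R B] [Module S B]
    [IsScalarTower R S B] (x : B) :
    x ∈ (I.map (algebraMap R S) • ⊤ : Submodule S B) ↔ x ∈ (I • ⊤ : Submodule R B) := by
  rw [← Submodule.restrictScalars_mem R, Ideal.smul_restrictScalars, Submodule.restrictScalars_top]

theorem map_mem_smul_top {I : Ideal R} {B : Type w} {C : Type x} [AddCommGroup B] [Module R B]
    [AddCommGroup C] [Module R C] (f : B →ₗ[R] C) {b : B} (hb : b ∈ (I • ⊤ : Submodule R B)) :
    f b ∈ (I • ⊤ : Submodule R C) := by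
  have : f b ∈ Submodule.map f (I • ⊤ : Submodule R B) := ⟨b, hb, rfl⟩
  rw [Submodule.map_smul''] at this
  exact Submodule.smul_mono le_rfl le_top this

theorem tmul_mem_smul_top {I : Ideal R} {B : Type w} [AddCommGroup B] [Module R B] (s : S)
    {b : B} (hb : b ∈ (I • ⊤ : Submodule R B)) :
    s ⊗ₜ[R] b ∈ (I.map (algebraMap R S) • ⊤ : Submodule S (S ⊗[R] B)) := by
  rw [mem_map_smul_top_iff]
  exact map_mem_smul_top (TensorProduct.mk R S B s) hb

/-- a nil ideal stays nil after base change -/
theorem isNilpotent_of_mem_map {I : Ideal R} (hI : ∀ x ∈ I, IsNilpotent x) :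
    ∀ x ∈ I.map (algebraMap R S), IsNilpotent x := by
  intro x hx
  rw [← mem_nilradical]
  have : I.map (algebraMap R S) ≤ nilradical S := by
    rw [Ideal.map_le_iff_le_comap]
    intro y hy
    rw [Ideal.mem_comap, mem_nilradical]
    exact (hI y hy).map (algebraMap R S)
  exact this hx

variable {A : Type w} [CommRing A] [Bialgebra R A] {B : Type x} [CommRing B] [Bialgebra R B]

/-- `x` is group-like modulo the ideal `I`. -/
def IsGLMod (I : Ideal R) (x : A) : Prop :=
  Coalgebra.counit (R := R) x - 1 ∈ I ∧
    Coalgebra.comul (R := R) x - x ⊗ₜ[R] x ∈ (I • ⊤ : Submodule R (A ⊗[R] A))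

theorem IsGLMod.of_isGroupLikeElem {I : Ideal R} {x : A} (h : IsGroupLikeElem R x) :
    IsGLMod I x := by
  refine ⟨?_, ?_⟩
  · rw [h.counit_eq_one, sub_self]; exact I.zero_mem
  · rw [h.comul_eq_tmul_self, sub_self]; exact Submodule.zero_mem _

theorem IsGLMod.map {I : Ideal R} {x : A} (h : IsGLMod I x) (f : A →ₐc[R] B) :
    IsGLMod I (f x) := by
  refine ⟨?_, ?_⟩
  · have : Coalgebra.counit (R := R) (f x) = Coalgebra.counit (R := R) x :=
      CoalgHomClass.counit_comp_apply f x
    rw [this]; exact h.1
  · have : Coalgebra.comul (R := R) (f x) =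
        TensorProduct.map (f : A →ₗ[R] B) (f : A →ₗ[R] B) (Coalgebra.comul (R := R) x) :=
      (CoalgHomClass.map_comp_comul_apply f x).symm
    rw [this]
    have h2 := map_mem_smul_top (TensorProduct.map (f : A →ₗ[R] B) (f : A →ₗ[R] B)) h.2
    rw [map_sub] at h2
    exact h2

/-- the comultiplication of `1 ⊗ a` in `S ⊗[R] A` -/
theorem comul_one_tmul (a : A) :
    Coalgebra.comul (R := S) ((1 : S) ⊗ₜ[R] a) =
      TensorProduct.AlgebraTensorModule.distribBaseChange R S A A
        ((1 : S) ⊗ₜ[R] Coalgebra.comul (R := R) a) := by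
  generalize h : Coalgebra.comul (R := R) a = z
  rw [TensorProduct.comul_tmul, h, Bialgebra.comul_one]
  clear h
  induction z using TensorProduct.induction_on with
  | zero => simp only [TensorProduct.tmul_zero, map_zero]
  | tmul x y => simp [Algebra.TensorProduct.one_def]
  | add x y hx hy => simp only [TensorProduct.tmul_add, map_add, hx, hy]

theorem counit_one_tmul (a : A) :
    Coalgebra.counit (R := S) ((1 : S) ⊗ₜ[R] a) = algebraMap R S (Coalgebra.counit (R := R) a) := by
  simp [Algebra.smul_def]

theorem isGroupLikeElem_one_tmul {a : A} (h : IsGroupLikeElem R a) :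
    IsGroupLikeElem S ((1 : S) ⊗ₜ[R] a) := by
  refine ⟨?_, ?_⟩
  · rw [counit_one_tmul, h.counit_eq_one, map_one]
  · rw [comul_one_tmul, h.comul_eq_tmul_self]
    simp

theorem IsGLMod.one_tmul {I : Ideal R} {a : A} (h : IsGLMod I a) :
    IsGLMod (I.map (algebraMap R S)) ((1 : S) ⊗ₜ[R] a) := by
  refine ⟨?_, ?_⟩
  · rw [counit_one_tmul, ← map_one (algebraMap R S), ← map_sub]
    exact Ideal.mem_map_of_mem _ h.1
  · have h2 : Coalgebra.comul (R := S) ((1 : S) ⊗ₜ[R] a) -
        ((1 : S) ⊗ₜ[R] a) ⊗ₜ[S] ((1 : S) ⊗ₜ[R] a) =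
        TensorProduct.AlgebraTensorModule.distribBaseChange R S A A
          ((1 : S) ⊗ₜ[R] (Coalgebra.comul (R := R) a - a ⊗ₜ[R] a)) := by
      rw [comul_one_tmul, TensorProduct.tmul_sub, map_sub]
      simp
    rw [h2]
    exact map_mem_smul_top
      (TensorProduct.AlgebraTensorModule.distribBaseChange R S A A).toLinearMap
      (tmul_mem_smul_top 1 h.2)

end Mod

section family

variable {R : Type u} [CommRing R] {ι : Type u}

/-- A family of `R`-algebras which is jointly pure (jointly universally injective). -/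
def JointlyPure (R : Type u) [CommRing R] (S : ι → Type u) [∀ i, CommRing (S i)]
    [∀ i, Algebra R (S i)] : Prop :=
  ∀ (N : Type u) [AddCommGroup N] [Module R N] (n : N),
    (∀ i, (1 : S i) ⊗ₜ[R] n = 0) → n = 0

variable {S : ι → Type u} [∀ i, CommRing (S i)] [∀ i, Algebra R (S i)]

theorem JointlyPure.of_faithfullyFlat {S : Type u} [CommRing S] [Algebra R S]
    [Module.FaithfullyFlat R S] : JointlyPure R (fun _ : PUnit.{u + 1} => S) := by
  intro N _ _ n hn
  apply FFDescent.one_tmul_injective (R := R) (S := S) N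
  simpa using hn PUnit.unit

theorem JointlyPure.mem_range (hS : JointlyPure R S) {N P : Type u} [AddCommGroup N] [Module R N]
    [AddCommGroup P] [Module R P] (f : N →ₗ[R] P) (p : P)
    (h : ∀ i, (1 : S i) ⊗ₜ[R] p ∈ LinearMap.range (f.lTensor (S i))) : p ∈ LinearMap.range f := by
  have h1 : (LinearMap.range f).mkQ p = 0 := by
    apply hS
    intro i
    obtain ⟨x, hx⟩ := h i
    have : (1 : S i) ⊗ₜ[R] (LinearMap.range f).mkQ p =
        (LinearMap.range f).mkQ.lTensor (S i) ((1 : S i) ⊗ₜ[R] p) := by simp
    rw [this, ← hx, ← LinearMap.comp_apply, ← LinearMap.lTensor_comp]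
    simp [LinearMap.range_mkQ_comp]
  simpa using h1

/-- `n ∈ I • ⊤` can be checked after a jointly pure family of base changes. -/
theorem JointlyPure.mem_smul_top (hS : JointlyPure R S) {N : Type u} [AddCommGroup N]
    [Module R N] {I : Ideal R} (n : N)
    (h : ∀ i, (1 : S i) ⊗ₜ[R] n ∈ ((I.map (algebraMap R (S i))) • ⊤ : Submodule (S i) (S i ⊗[R] N))) :
    n ∈ (I • ⊤ : Submodule R N) := by
  have h1 : (I • ⊤ : Submodule R N).mkQ n = 0 := by
    apply hS
    intro i
    have h2 := h i
    rw [mem_map_smul_top_iff] at h2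
    have h3 := map_mem_smul_top ((I • ⊤ : Submodule R N).mkQ.lTensor (S i)) h2
    rw [LinearMap.lTensor_tmul] at h3
    have h4 : (I • ⊤ : Submodule R (S i ⊗[R] (N ⧸ (I • ⊤ : Submodule R N)))) = ⊥ := by
      rw [eq_bot_iff, Submodule.smul_le]
      intro r hr x hx'
      rw [Submodule.mem_bot]
      clear hx'
      induction x using TensorProduct.induction_on with
      | zero => simp
      | tmul s m =>
        obtain ⟨m, rfl⟩ := Submodule.mkQ_surjective _ m
        rw [← TensorProduct.tmul_smul, ← map_smul]
        have : (I • ⊤ : Submodule R N).mkQ (r • m) = 0 := by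
          rw [Submodule.mkQ_apply, Submodule.Quotient.mk_eq_zero]
          exact Submodule.smul_mem_smul hr Submodule.mem_top
        rw [this, TensorProduct.tmul_zero]
      | add x y hx hy => rw [smul_add, hx, hy, add_zero]
    rw [h4, Submodule.mem_bot] at h3
    exact h3
  simpa using h1

open Classical in
/-- descent of elements for a finite jointly pure family -/
theorem JointlyPure.exists_eq [Finite ι] (hS : JointlyPure R S) {N : Type u} [AddCommGroup N]
    [Module R N] (x : ∀ i, S i ⊗[R] N)
    (h : ∀ i j, (1 : S i) ⊗ₜ[R] x j = (TensorProduct.mk R (S j) N 1).lTensor (S i) (x i)) :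
    ∃ n : N, ∀ i, (1 : S i) ⊗ₜ[R] n = x i := by
  cases nonempty_fintype ι
  let f : N →ₗ[R] (∀ j, S j ⊗[R] N) := LinearMap.pi (fun j => TensorProduct.mk R (S j) N 1)
  have key : x ∈ LinearMap.range f := by
    apply hS.mem_range
    intro i
    refine ⟨x i, ?_⟩
    apply (TensorProduct.piRight R R (S i) (fun j => S j ⊗[R] N)).injective
    ext j
    rw [TensorProduct.piRight_apply, TensorProduct.piRight_apply, TensorProduct.piRightHom_tmul]
    change _ = (1 : S i) ⊗ₜ[R] x j
    rw [h i j]
    generalize x i = y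
    induction y using TensorProduct.induction_on with
    | zero => simp
    | tmul s m => simp [f]
    | add a b ha hb => simp only [map_add, Pi.add_apply, ha, hb]
  obtain ⟨n, hn⟩ := key
  exact ⟨n, fun i => congrFun hn i⟩

end family

end Groth.Agent.Sga3A.GLBasic
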