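import Groth.Agent.Sga3A.FibDef
import Groth.Agent.Sga3A.LiftGL
import Groth.Agent.Sga3A.GLBasic

/-!
# Glueing diagonalisable groups along two closed subschemes of a local scheme (for S2975)

`R` local, `a, b` in the maximal ideal with `a * b = 0`, `A` a flat Hopf algebra over `R` which is
diagonalisable of type `M` modulo `a` and modulo `b`.  Then `A` is diagonalisable of type `M`.
-/

set_option autoImplicit false
universe u

open TensorProduct

namespace Groth.Agent.Sga3A.FibGlue

open LiftGL GLBasic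

section

variable {S : Type u} [CommRing S]

/-- flat modules: `K₁ N ∩ K₂ N = 0` if `K₁ ∩ K₂ = 0`. -/
theorem eq_zero_of_mem_of_mem {T₁ T₂ : Type u} [CommRing T₁] [CommRing T₂] [Algebra S T₁]
    [Algebra S T₂] (h₁ : Function.Surjective (algebraMap S T₁))
    (h₂ : Function.Surjective (algebraMap S T₂))
    (hK : RingHom.ker (algebraMap S T₁) ⊓ RingHom.ker (algebraMap S T₂) = ⊥)
    {N : Type u} [AddCommGroup N] [Module S N] [Module.Flat S N] (n : N)
    (hn₁ : n ∈ RingHom.ker (algebraMap S T₁) • (⊤ : Submodule S N))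
    (hn₂ : n ∈ RingHom.ker (algebraMap S T₂) • (⊤ : Submodule S N)) : n = 0 := by
  rw [← one_tmul_eq_zero_iff h₁] at hn₁
  rw [← one_tmul_eq_zero_iff h₂] at hn₂
  let f : S →ₗ[S] T₁ × T₂ := (Algebra.linearMap S T₁).prod (Algebra.linearMap S T₂)
  have hf : Function.Injective f := by
    rw [← LinearMap.ker_eq_bot, eq_bot_iff]
    intro x hx
    rw [LinearMap.mem_ker] at hx
    have h1 : algebraMap S T₁ x = 0 := congrArg Prod.fst hx
    have h2 : algebraMap S T₂ x = 0 := congrArg Prod.snd hx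
    have : x ∈ RingHom.ker (algebraMap S T₁) ⊓ RingHom.ker (algebraMap S T₂) := ⟨h1, h2⟩
    rw [hK] at this
    exact this
  have hinj := Module.Flat.rTensor_preserves_injective_linearMap (M := N) f hf
  have h0 : f.rTensor N ((1 : S) ⊗ₜ[S] n) = 0 := by
    rw [LinearMap.rTensor_tmul]
    apply (TensorProduct.prodLeft S S T₁ T₂ N).injective
    rw [map_zero]
    have : f 1 = ((1 : T₁), (1 : T₂)) := by
      change (algebraMap S T₁ 1, algebraMap S T₂ 1) = _
      rw [map_one, map_one]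
    rw [this]
    simp only [TensorProduct.prodLeft_tmul, hn₁, hn₂]
    rfl
  have h1 : (1 : S) ⊗ₜ[S] n = 0 := hinj (by rw [h0, map_zero])
  have h2 := congrArg (TensorProduct.lid S N) h1
  simpa using h2

end

section one

variable {S : Type u} [CommRing S] {T : Type u} [CommRing T] [Algebra S T]
  (hT : Function.Surjective (algebraMap S T))
  {B : Type u} [CommRing B] [Bialgebra S B]
  {M : Type u} [CommMonoid M] (e : (T ⊗[S] B) ≃ₐc[T] MonoidAlgebra T M)

omit [CommMonoid M] in
include hT in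
theorem exists_coeff (x : MonoidAlgebra T M) : ∃ c : M →₀ S, ∀ m, algebraMap S T (c m) = x.coeff m := by
  classical
  choose σ hσ using hT
  refine ⟨Finsupp.onFinset x.coeff.support
    (fun m => if x.coeff m = 0 then 0 else σ (x.coeff m)) ?_, ?_⟩
  · intro m hm
    rw [Finsupp.mem_support_iff]
    intro h
    simp [h] at hm
  · intro m
    simp only [Finsupp.onFinset_apply]
    split_ifs with h
    · rw [h, map_zero]
    · rw [hσ]

include hT in
theorem exists_sub_mem (g : M → B) (hg : ∀ m, red e (g m) = MonoidAlgebra.single m 1) (n : B) :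
    ∃ c : M →₀ S, n - Finsupp.linearCombination S g c ∈
      RingHom.ker (algebraMap S T) • (⊤ : Submodule S B) := by
  obtain ⟨c, hc⟩ := exists_coeff hT (red e n)
  refine ⟨c, ?_⟩
  rw [← red_eq_zero_iff hT e]
  ext m
  rw [map_sub, MonoidAlgebra.coeff_sub, Finsupp.sub_apply,
    coeff_red_linearCombination e g hg, hc]
  simp

include hT in
/-- a lift of a basis element is group-like modulo the kernel -/
theorem isGLMod_of_red {x : B} {m : M} (hx : red e x = MonoidAlgebra.single m 1) :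
    IsGLMod (RingHom.ker (algebraMap S T)) x := by
  refine ⟨?_, ?_⟩
  · rw [RingHom.mem_ker, map_sub, ← counit_red e, hx]
    simp
  · rw [← redTen_eq_zero_iff hT e, map_sub, redTen_comul, redTen_tmul, hx,
      MonoidAlgebra.comul_single, CommSemiring.comul_apply]
    simp

/-- image of `I • ⊤` under `red` -/
theorem coeff_red_mem {I : Ideal S} {x : B} (hx : x ∈ I • (⊤ : Submodule S B)) (m : M) :
    (red e x).coeff m ∈ I.map (algebraMap S T) := by
  refine Submodule.smul_induction_on hx ?_ ?_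
  · intro r hr n _
    rw [red_smul, MonoidAlgebra.coeff_smul, Finsupp.smul_apply, smul_eq_mul]
    exact Ideal.mul_mem_right _ _ (Ideal.mem_map_of_mem _ hr)
  · intro x y hx hy
    rw [map_add, MonoidAlgebra.coeff_add, Finsupp.add_apply]
    exact Ideal.add_mem _ hx hy

include hT in
/-- elements of `T[M]` with coefficients in `I T` are images of elements of `I B` -/
theorem exists_mem_of_coeff_mem {I : Ideal S} {y : MonoidAlgebra T M}
    (hy : ∀ m, y.coeff m ∈ I.map (algebraMap S T)) :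
    ∃ u : B, u ∈ I • (⊤ : Submodule S B) ∧ red e u = y := by
  have hy' : y ∈ (I.map (algebraMap S T) • ⊤ : Submodule T (MonoidAlgebra T M)) :=
    mem_smul_top_iff_coeff.2 hy
  refine Submodule.smul_induction_on hy' ?_ ?_
  · intro r hr n _
    obtain ⟨r', hr', rfl⟩ := (Ideal.mem_map_iff_of_surjective _ hT).1 hr
    obtain ⟨n', rfl⟩ := red_surjective hT e n
    exact ⟨r' • n', Submodule.smul_mem_smul hr' Submodule.mem_top, red_smul e _ _⟩
  · rintro x y ⟨u, hu, rfl⟩ ⟨v, hv, rfl⟩
    exact ⟨u + v, Submodule.add_mem _ hu hv, map_add _ _ _⟩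

/-- `redTen` of an element of `I (B ⊗ B)` has coefficients in `I T` -/
theorem coeff_redTen_mem {I : Ideal S} {t : B ⊗[S] B} (ht : t ∈ I • (⊤ : Submodule S (B ⊗[S] B)))
    (p : M × M) :
    (MonoidAlgebra.tensorEquiv T (redTen e t)).coeff p ∈ I.map (algebraMap S T) := by
  refine Submodule.smul_induction_on ht ?_ ?_
  · intro r hr n _
    have h1 : redTen e (r • n) = algebraMap S T r • redTen e n := by
      rw [map_smul, algebraMap_smul]
    rw [h1, map_smul, MonoidAlgebra.coeff_smul, Finsupp.smul_apply, smul_eq_mul]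
    exact Ideal.mul_mem_right _ _ (Ideal.mem_map_of_mem _ hr)
  · intro x y hx hy
    rw [map_add, map_add, MonoidAlgebra.coeff_add, Finsupp.add_apply]
    exact Ideal.add_mem _ hx hy

end one

section two

variable {S : Type u} [CommRing S] {T₁ T₂ : Type u} [CommRing T₁] [CommRing T₂] [Algebra S T₁]
  [Algebra S T₂] (hT₁ : Function.Surjective (algebraMap S T₁))
  (hT₂ : Function.Surjective (algebraMap S T₂))
  {B : Type u} [CommRing B] [Bialgebra S B]
  {M : Type u} [CommGroup M] (e₁ : (T₁ ⊗[S] B) ≃ₐc[T₁] MonoidAlgebra T₁ M)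
  (e₂ : (T₂ ⊗[S] B) ≃ₐc[T₂] MonoidAlgebra T₂ M)

/-- the relation between the two identifications of the group of group-like elements. -/
def Rel (m n : M) : Prop :=
  ∃ x : B, red e₁ x = MonoidAlgebra.single m 1 ∧ red e₂ x = MonoidAlgebra.single n 1

theorem Rel.mul {m n m' n' : M} (h : Rel e₁ e₂ m n) (h' : Rel e₁ e₂ m' n') :
    Rel e₁ e₂ (m * m') (n * n') := by
  obtain ⟨x, hx₁, hx₂⟩ := h
  obtain ⟨y, hy₁, hy₂⟩ := h'
  refine ⟨x * y, ?_, ?_⟩
  · rw [map_mul, hx₁, hy₁, MonoidAlgebra.single_mul_single, mul_one]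
  · rw [map_mul, hx₂, hy₂, MonoidAlgebra.single_mul_single, mul_one]

theorem Rel.one : Rel e₁ e₂ 1 1 := ⟨1, by rw [map_one]; rfl, by rw [map_one]; rfl⟩

theorem Rel.symm {m n : M} (h : Rel e₁ e₂ m n) : Rel e₂ e₁ n m := by
  obtain ⟨x, hx₁, hx₂⟩ := h
  exact ⟨x, hx₂, hx₁⟩

include hT₁ in
theorem Rel.unique (hJ : (RingHom.ker (algebraMap S T₁)).map (algebraMap S T₂) ≠ ⊤)
    {m n n' : M} (h : Rel e₁ e₂ m n) (h' : Rel e₁ e₂ m n') : n = n' := by
  classical
  obtain ⟨x, hx₁, hx₂⟩ := h
  obtain ⟨y, hy₁, hy₂⟩ := h'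
  by_contra hne
  apply hJ
  rw [Ideal.eq_top_iff_one]
  have h1 : x - y ∈ RingHom.ker (algebraMap S T₁) • (⊤ : Submodule S B) := by
    rw [← red_eq_zero_iff hT₁ e₁, map_sub, hx₁, hy₁, sub_self]
  have h2 := coeff_red_mem e₂ h1 n
  rw [map_sub, hx₂, hy₂, MonoidAlgebra.coeff_sub, Finsupp.sub_apply, MonoidAlgebra.coeff_single,
    MonoidAlgebra.coeff_single, Finsupp.single_eq_same, Finsupp.single_eq_of_ne hne, sub_zero] at h2
  exact h2

include hT₁ hT₂ in
theorem Rel.exists [IsLocalRing T₂]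
    (hJ : (RingHom.ker (algebraMap S T₁)).map (algebraMap S T₂) ≠ ⊤) (m : M) :
    ∃ n, Rel e₁ e₂ m n := by
  classical
  set K := RingHom.ker (algebraMap S T₁) with hK
  set J := K.map (algebraMap S T₂) with hJdef
  obtain ⟨x, hx⟩ := red_surjective hT₁ e₁ (MonoidAlgebra.single m 1)
  obtain ⟨hcou, hcom⟩ := isGLMod_of_red hT₁ e₁ hx
  set c := (red e₂ x).coeff with hc
  have hsum : c.sum (fun _ r => r) - 1 ∈ J := by
    have h1 : algebraMap S T₂ (Coalgebra.counit (R := S) x - 1) ∈ J := Ideal.mem_map_of_mem _ hcou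
    rw [map_sub, ← counit_red e₂, counit_eq_sum, map_one] at h1
    exact h1
  have hten : ∀ p q : M, (if p = q then c p else 0) - c p * c q ∈ J := by
    intro p q
    have h1 := coeff_redTen_mem e₂ hcom (p, q)
    rw [map_sub, redTen_comul, redTen_tmul, map_sub, MonoidAlgebra.coeff_sub, Finsupp.sub_apply,
      tensorEquiv_comul_coeff, tensorEquiv_tmul_coeff] at h1
    exact h1
  have hdich : ∀ p, c p ∈ J ∨ 1 - c p ∈ J := by
    intro p
    have h1 := hten p p
    rw [if_pos rfl] at h1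
    have h2 : c p * (1 - c p) ∈ J := by
      have : c p * (1 - c p) = c p - c p * c p := by ring
      rw [this]; exact h1
    rcases IsLocalRing.isUnit_or_isUnit_one_sub_self (c p) with h | h
    · right
      exact (Ideal.unit_mul_mem_iff_mem J h).1 h2
    · left
      rw [mul_comm] at h2
      exact (Ideal.unit_mul_mem_iff_mem J h).1 h2
  have hex : ∃ n, 1 - c n ∈ J := by
    by_contra hne
    push Not at hne
    have h1 : c.sum (fun _ r => r) ∈ J :=
      Ideal.sum_mem _ fun p _ => (hdich p).resolve_right (hne p)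
    apply hJ
    rw [Ideal.eq_top_iff_one]
    have := J.sub_mem h1 hsum
    simpa using this
  obtain ⟨n, hn⟩ := hex
  have hother : ∀ p, p ≠ n → c p ∈ J := by
    intro p hp
    have h1 := hten p n
    rw [if_neg hp, zero_sub, neg_mem_iff] at h1
    have h2 : c p = c p * (1 - c n) + c p * c n := by ring
    rw [h2]
    exact J.add_mem (J.mul_mem_left _ hn) h1
  obtain ⟨w, hw, hwe⟩ := exists_mem_of_coeff_mem hT₂ e₂ (I := K)
    (y := red e₂ x - MonoidAlgebra.single n 1) (by
      intro p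
      rw [MonoidAlgebra.coeff_sub, Finsupp.sub_apply, MonoidAlgebra.coeff_single]
      by_cases h : p = n
      · subst h
        rw [Finsupp.single_eq_same]
        have := J.neg_mem hn
        rw [neg_sub] at this
        exact this
      · rw [Finsupp.single_eq_of_ne h, sub_zero]
        exact hother p h)
  refine ⟨n, x - w, ?_, ?_⟩
  · rw [map_sub, hx, (red_eq_zero_iff hT₁ e₁ w).2 hw, sub_zero]
  · rw [map_sub, hwe, sub_sub_cancel]

end two

section main

variable {S : Type u} [CommRing S] [IsLocalRing S] {T₁ T₂ : Type u} [CommRing T₁] [CommRing T₂]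
  [Algebra S T₁] [Algebra S T₂] (hT₁ : Function.Surjective (algebraMap S T₁))
  (hT₂ : Function.Surjective (algebraMap S T₂))
  {B : Type u} [CommRing B] [Bialgebra S B] [Module.Flat S B]
  {M : Type u} [CommGroup M] (e₁ : (T₁ ⊗[S] B) ≃ₐc[T₁] MonoidAlgebra T₁ M)
  (e₂ : (T₂ ⊗[S] B) ≃ₐc[T₂] MonoidAlgebra T₂ M)

include hT₁ hT₂ e₁ e₂ in
/-- glueing: `B` is diagonalisable of type `M` if it is so over two closed subschemes with
intersection of the ideals `0`. -/
theorem glue
    (hK : RingHom.ker (algebraMap S T₁) ⊓ RingHom.ker (algebraMap S T₂) = ⊥)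
    (hK' : RingHom.ker (algebraMap S T₁) ⊔ RingHom.ker (algebraMap S T₂) ≠ ⊤) :
    Nonempty (MonoidAlgebra S M ≃ₐc[S] B) := by
  classical
  have hne : ∀ (T T' : Type u) [CommRing T] [CommRing T'] [Algebra S T] [Algebra S T']
      (hT : Function.Surjective (algebraMap S T)) (hT' : Function.Surjective (algebraMap S T')),
      RingHom.ker (algebraMap S T) ⊔ RingHom.ker (algebraMap S T') ≠ ⊤ →
      (RingHom.ker (algebraMap S T)).map (algebraMap S T') ≠ ⊤ := by
    intro T T' _ _ _ _ hT hT' h htop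
    apply h
    have := congrArg (Ideal.comap (algebraMap S T')) htop
    rw [Ideal.comap_map_of_surjective _ hT', Ideal.comap_top, ← RingHom.ker_eq_comap_bot] at this
    exact this
  have hJ := hne T₁ T₂ hT₁ hT₂ hK'
  have hJ' := hne T₂ T₁ hT₂ hT₁ (by rwa [sup_comm])
  have hnt₂ : Nontrivial T₂ := by
    by_contra h
    rw [not_nontrivial_iff_subsingleton] at h
    exact hJ (Subsingleton.elim _ _)
  have hnt₁ : Nontrivial T₁ := by
    by_contra h
    rw [not_nontrivial_iff_subsingleton] at h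
    exact hJ' (Subsingleton.elim _ _)
  have hl₂ : IsLocalRing T₂ := IsLocalRing.of_surjective' (algebraMap S T₂) hT₂
  have hl₁ : IsLocalRing T₁ := IsLocalRing.of_surjective' (algebraMap S T₁) hT₁
  choose σ hσ using Rel.exists hT₁ hT₂ e₁ e₂ hJ
  choose τ hτ using Rel.exists hT₂ hT₁ e₂ e₁ hJ'
  have hστ : ∀ n, σ (τ n) = n := fun n =>
    Rel.unique hT₁ e₁ e₂ hJ (hσ (τ n)) ((hτ n).symm)
  have hτσ : ∀ m, τ (σ m) = m := fun m =>
    Rel.unique hT₂ e₂ e₁ hJ' (hτ (σ m)) ((hσ m).symm)
  have hσmul : ∀ m m', σ (m * m') = σ m * σ m' := fun m m' =>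
    Rel.unique hT₁ e₁ e₂ hJ (hσ _) ((hσ m).mul e₁ e₂ (hσ m'))
  have hσone : σ 1 = 1 := Rel.unique hT₁ e₁ e₂ hJ (hσ _) (Rel.one e₁ e₂)
  choose g hg₁ hg₂ using hσ
  have huniq : ∀ x y : B, red e₁ x = red e₁ y → red e₂ x = red e₂ y → x = y := by
    intro x y h₁ h₂
    rw [← sub_eq_zero]
    apply eq_zero_of_mem_of_mem hT₁ hT₂ hK
    · rw [← red_eq_zero_iff hT₁ e₁, map_sub, h₁, sub_self]
    · rw [← red_eq_zero_iff hT₂ e₂, map_sub, h₂, sub_self]
  have hgl : ∀ m, IsGroupLikeElem S (g m) := by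
    intro m
    obtain ⟨h1, h2⟩ := isGLMod_of_red hT₁ e₁ (hg₁ m)
    obtain ⟨h3, h4⟩ := isGLMod_of_red hT₂ e₂ (hg₂ m)
    refine ⟨?_, ?_⟩
    · rw [← sub_eq_zero]
      have : Coalgebra.counit (R := S) (g m) - 1 ∈
          RingHom.ker (algebraMap S T₁) ⊓ RingHom.ker (algebraMap S T₂) := ⟨h1, h3⟩
      rw [hK] at this
      exact this
    · rw [← sub_eq_zero]
      exact eq_zero_of_mem_of_mem hT₁ hT₂ hK _ h2 h4
  have hgone : g 1 = 1 := huniq _ _ (by rw [hg₁, map_one]; rfl)
    (by rw [hg₂, hσone, map_one]; rfl)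
  have hgmul : ∀ m m', g (m * m') = g m * g m' := fun m m' => huniq _ _
    (by rw [map_mul, hg₁, hg₁, hg₁, MonoidAlgebra.single_mul_single, mul_one])
    (by rw [map_mul, hg₂, hg₂, hg₂, hσmul, MonoidAlgebra.single_mul_single, mul_one])
  let φ : M →* GroupLike S B :=
    { toFun := fun m => ⟨g m, hgl m⟩
      map_one' := by ext; exact hgone
      map_mul' := fun m m' => by ext; exact hgmul m m' }
  let F : MonoidAlgebra S M →ₐc[S] B :=
    (MonoidAlgebra.liftGroupLikeBialgHom (R := S) (A := B)).comp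
      (MonoidAlgebra.mapDomainBialgHom S φ)
  have hF : ∀ m r, F (MonoidAlgebra.single m r) = r • g m := by
    intro m r
    simp [F, φ, MonoidAlgebra.liftGroupLikeBialgHom]
  have hF' : ∀ x : MonoidAlgebra S M, F x = Finsupp.linearCombination S g x.coeff := by
    intro x
    induction x using MonoidAlgebra.induction_linear with
    | zero => simp
    | add x y hx hy => rw [map_add, hx, hy, MonoidAlgebra.coeff_add, map_add]
    | single m r => rw [hF, MonoidAlgebra.coeff_single, Finsupp.linearCombination_single]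
  -- reindexing for `e₂`
  have hreidx : ∀ c : M →₀ S, Finsupp.linearCombination S g c =
      Finsupp.linearCombination S (fun n => g (τ n)) (c.mapDomain σ) := by
    intro c
    rw [Finsupp.linearCombination_mapDomain]
    congr 2
    funext m
    simp [hτσ]
  have hg₂' : ∀ n, red e₂ (g (τ n)) = MonoidAlgebra.single n 1 := by
    intro n
    rw [hg₂, hστ]
  have hσinj : Function.Injective σ := Function.LeftInverse.injective hτσ
  have hlin : Function.Bijective (Finsupp.linearCombination S g) := by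
    constructor
    · rw [← LinearMap.ker_eq_bot, eq_bot_iff]
      intro c hc
      rw [LinearMap.mem_ker] at hc
      rw [Submodule.mem_bot]
      ext m
      have h1 : algebraMap S T₁ (c m) = 0 := by
        rw [← coeff_red_linearCombination e₁ g hg₁, hc, map_zero]; simp
      have h2 : algebraMap S T₂ (c m) = 0 := by
        have h3 := coeff_red_linearCombination e₂ (fun n => g (τ n)) hg₂' (c.mapDomain σ) (σ m)
        rw [← hreidx, hc, map_zero, Finsupp.mapDomain_apply hσinj] at h3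
        rw [← h3]; simp
      have : c m ∈ RingHom.ker (algebraMap S T₁) ⊓ RingHom.ker (algebraMap S T₂) := ⟨h1, h2⟩
      rw [hK] at this
      exact this
    · have hs₁ : (⊤ : Submodule S B) ≤ LinearMap.range (Finsupp.linearCombination S g) ⊔
          RingHom.ker (algebraMap S T₁) • ⊤ := by
        intro x _
        obtain ⟨c, hc⟩ := exists_sub_mem hT₁ e₁ g hg₁ x
        have : x = Finsupp.linearCombination S g c + (x - Finsupp.linearCombination S g c) := by
          abel
        rw [this]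
        exact Submodule.add_mem_sup ⟨c, rfl⟩ hc
      have hs₂ : (⊤ : Submodule S B) ≤ LinearMap.range (Finsupp.linearCombination S g) ⊔
          RingHom.ker (algebraMap S T₂) • ⊤ := by
        intro x _
        obtain ⟨c, hc⟩ := exists_sub_mem hT₂ e₂ (fun n => g (τ n)) hg₂' x
        have h1 : Finsupp.linearCombination S (fun n => g (τ n)) c =
            Finsupp.linearCombination S g (c.mapDomain τ) := by
          rw [Finsupp.linearCombination_mapDomain]; rfl
        have : x = Finsupp.linearCombination S g (c.mapDomain τ) +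
            (x - Finsupp.linearCombination S g (c.mapDomain τ)) := by abel
        rw [this]
        refine Submodule.add_mem_sup ⟨_, rfl⟩ ?_
        rw [← h1]; exact hc
      rw [← LinearMap.range_eq_top, eq_top_iff]
      calc (⊤ : Submodule S B) ≤ LinearMap.range (Finsupp.linearCombination S g) ⊔
            RingHom.ker (algebraMap S T₁) • ⊤ := hs₁
        _ ≤ LinearMap.range (Finsupp.linearCombination S g) ⊔
            RingHom.ker (algebraMap S T₁) • (LinearMap.range (Finsupp.linearCombination S g) ⊔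
              RingHom.ker (algebraMap S T₂) • ⊤) := by gcongr
        _ ≤ LinearMap.range (Finsupp.linearCombination S g) := by
          rw [Submodule.smul_sup, ← sup_assoc]
          refine sup_le (sup_le le_rfl Submodule.smul_le_right) ?_
          rw [← Submodule.mul_smul]
          have : RingHom.ker (algebraMap S T₁) * RingHom.ker (algebraMap S T₂) = ⊥ :=
            eq_bot_iff.2 (Ideal.mul_le_inf.trans hK.le)
          rw [this]
          simp
  have hbij : Function.Bijective F := by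
    have h2 : (F : MonoidAlgebra S M → B) =
        (Finsupp.linearCombination S g) ∘ (MonoidAlgebra.coeffEquiv (R := S) (M := M)) := by
      ext x; exact hF' x
    rw [h2]
    exact hlin.comp (MonoidAlgebra.coeffEquiv (R := S) (M := M)).bijective
  exact ⟨BialgEquiv.ofBijective F hbij⟩

end main

open FibDef in
/-- Glueing along two ideals `J₁`, `J₂` of a local ring with `J₁ J₂ = 0`. -/
theorem nonempty_equiv_of_mul_eq_bot (R A M : Type u) [CommRing R] [IsLocalRing R] [CommRing A]
    [HopfAlgebra R A] [CommGroup M] [Module.Flat R A] (J₁ J₂ : Ideal R)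
    (hJ₁ : J₁ ≠ ⊤) (hJ₂ : J₂ ≠ ⊤) (hJ : J₁ * J₂ = ⊥)
    (h1 : DiagMod R A M J₁) (h2 : DiagMod R A M J₂) :
    Nonempty (A ≃ₐc[R] MonoidAlgebra R M) := by
  obtain ⟨e₁⟩ := h1
  obtain ⟨e₂⟩ := h2
  let I : Ideal R := J₁ ⊓ J₂
  letI a₁ : Algebra (R ⧸ I) (R ⧸ J₁) := (Ideal.Quotient.factor (inf_le_left : I ≤ J₁)).toAlgebra
  letI a₂ : Algebra (R ⧸ I) (R ⧸ J₂) := (Ideal.Quotient.factor (inf_le_right : I ≤ J₂)).toAlgebra
  haveI t₁ : IsScalarTower R (R ⧸ I) (R ⧸ J₁) := IsScalarTower.of_algebraMap_eq fun x => rfl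
  haveI t₂ : IsScalarTower R (R ⧸ I) (R ⧸ J₂) := IsScalarTower.of_algebraMap_eq fun x => rfl
  have hm₁ : J₁ ≤ IsLocalRing.maximalIdeal R := IsLocalRing.le_maximalIdeal hJ₁
  have hm₂ : J₂ ≤ IsLocalRing.maximalIdeal R := IsLocalRing.le_maximalIdeal hJ₂
  have hnt : Nontrivial (R ⧸ I) := Ideal.Quotient.nontrivial_iff.2 (by
    intro h
    exact hJ₁ (top_le_iff.1 (h ▸ (inf_le_left : I ≤ J₁))))
  have hloc : IsLocalRing (R ⧸ I) := IsLocalRing.of_surjective' (Ideal.Quotient.mk I)
    Ideal.Quotient.mk_surjective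
  have hs₁ : Function.Surjective (algebraMap (R ⧸ I) (R ⧸ J₁)) := by
    intro x
    obtain ⟨r, rfl⟩ := Ideal.Quotient.mk_surjective x
    exact ⟨Ideal.Quotient.mk I r, rfl⟩
  have hs₂ : Function.Surjective (algebraMap (R ⧸ I) (R ⧸ J₂)) := by
    intro x
    obtain ⟨r, rfl⟩ := Ideal.Quotient.mk_surjective x
    exact ⟨Ideal.Quotient.mk I r, rfl⟩
  have hk₁ : ∀ r : R, Ideal.Quotient.mk I r ∈ RingHom.ker (algebraMap (R ⧸ I) (R ⧸ J₁)) ↔
      r ∈ J₁ := by
    intro r
    rw [RingHom.mem_ker]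
    change Ideal.Quotient.mk J₁ r = 0 ↔ _
    rw [Ideal.Quotient.eq_zero_iff_mem]
  have hk₂ : ∀ r : R, Ideal.Quotient.mk I r ∈ RingHom.ker (algebraMap (R ⧸ I) (R ⧸ J₂)) ↔
      r ∈ J₂ := by
    intro r
    rw [RingHom.mem_ker]
    change Ideal.Quotient.mk J₂ r = 0 ↔ _
    rw [Ideal.Quotient.eq_zero_iff_mem]
  have hK : RingHom.ker (algebraMap (R ⧸ I) (R ⧸ J₁)) ⊓
      RingHom.ker (algebraMap (R ⧸ I) (R ⧸ J₂)) = ⊥ := by
    rw [eq_bot_iff]
    rintro x ⟨h1, h2⟩
    obtain ⟨r, rfl⟩ := Ideal.Quotient.mk_surjective x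
    rw [Submodule.mem_bot, Ideal.Quotient.eq_zero_iff_mem]
    exact ⟨(hk₁ r).1 h1, (hk₂ r).1 h2⟩
  have hK' : RingHom.ker (algebraMap (R ⧸ I) (R ⧸ J₁)) ⊔
      RingHom.ker (algebraMap (R ⧸ I) (R ⧸ J₂)) ≠ ⊤ := by
    intro h
    have h1 : RingHom.ker (algebraMap (R ⧸ I) (R ⧸ J₁)) ≤ IsLocalRing.maximalIdeal (R ⧸ I) := by
      refine IsLocalRing.le_maximalIdeal ?_
      intro h
      have : Ideal.Quotient.mk I 1 ∈ RingHom.ker (algebraMap (R ⧸ I) (R ⧸ J₁)) := by
        rw [h]; exact Submodule.mem_top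
      exact hJ₁ ((Ideal.eq_top_iff_one _).2 ((hk₁ 1).1 this))
    have h2 : RingHom.ker (algebraMap (R ⧸ I) (R ⧸ J₂)) ≤ IsLocalRing.maximalIdeal (R ⧸ I) := by
      refine IsLocalRing.le_maximalIdeal ?_
      intro h
      have : Ideal.Quotient.mk I 1 ∈ RingHom.ker (algebraMap (R ⧸ I) (R ⧸ J₂)) := by
        rw [h]; exact Submodule.mem_top
      exact hJ₂ ((Ideal.eq_top_iff_one _).2 ((hk₂ 1).1 this))
    exact (IsLocalRing.maximalIdeal.isMaximal (R ⧸ I)).ne_top (top_le_iff.1 (h ▸ sup_le h1 h2))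
  obtain ⟨e⟩ := glue (S := R ⧸ I) (B := (R ⧸ I) ⊗[R] A) hs₁ hs₂
    ((cancelBC R (R ⧸ I) (R ⧸ J₁) A).trans e₁) ((cancelBC R (R ⧸ I) (R ⧸ J₂) A).trans e₂) hK hK'
  have hker : RingHom.ker (algebraMap R (R ⧸ I)) = I := Ideal.mk_ker
  obtain ⟨e', -⟩ := exists_equiv_sq (S := R) (T := R ⧸ I) (B := A) e.symm
    Ideal.Quotient.mk_surjective (by
      rw [hker, eq_bot_iff]
      calc I * I ≤ J₁ * J₂ := Ideal.mul_mono inf_le_left inf_le_right
        _ = ⊥ := hJ)
  exact ⟨e'.symm⟩

open FibDef in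
/-- The glueing lemma in the form asked for in the proof of S2975. -/
theorem diagMod_bot_of_mul_eq_zero (R A M : Type u) [CommRing R] [IsLocalRing R] [CommRing A]
    [HopfAlgebra R A] [CommGroup M] [Group.FG M] [Module.Flat R A] (a b : R)
    (ha : a ∈ IsLocalRing.maximalIdeal R) (hb : b ∈ IsLocalRing.maximalIdeal R) (hab : a * b = 0)
    (h1 : DiagMod R A M (Ideal.span {a})) (h2 : DiagMod R A M (Ideal.span {b})) :
    DiagMod R A M ⊥ := by
  have hne : ∀ x : R, x ∈ IsLocalRing.maximalIdeal R → Ideal.span {x} ≠ ⊤ := by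
    intro x hx h
    rw [Ideal.span_singleton_eq_top] at h
    exact (IsLocalRing.mem_maximalIdeal x).1 hx h
  obtain ⟨e⟩ := nonempty_equiv_of_mul_eq_bot R A M (Ideal.span {a}) (Ideal.span {b})
    (hne a ha) (hne b hb)
    (by rw [Ideal.span_singleton_mul_span_singleton, hab, Ideal.span_singleton_eq_bot]) h1 h2
  exact ⟨BCIso.bcMonoidAlgebra (R ⧸ (⊥ : Ideal R)) e⟩

end Groth.Agent.Sga3A.FibGlue
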