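import Groth.Agent.Sga3A.MTTorsion
import Groth.Agent.Sga3A.GLHom
import Groth.Agent.Sga3A.BCIso
import Groth.Agent.Sga3A.FibDef
import Mathlib.RingTheory.Bialgebra.Quotient
import Mathlib.RingTheory.LocalRing.ResidueField.Basic

/-!
# A finite free quotient of the torsion is a bialgebra quotient (for S2975)
-/

set_option autoImplicit false
set_option linter.unusedSectionVars false
universe u

open TensorProduct IsLocalRing

namespace Groth.Agent.Sga3A.FibTors1b

open MTBasis MTTorsion FibDef BCIso GLHom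

section general

variable {R A S M : Type u} [CommRing R] [CommRing A] [HopfAlgebra R A] [CommRing S] [Algebra R S]
  [CommGroup M] (e : (S ⊗[R] A) ≃ₐc[S] MonoidAlgebra S M) (l : ℕ)

/-- `S ⊗ A → S[M/l]` as a bialgebra map -/
noncomputable def tq : S ⊗[R] A →ₐc[S] MonoidAlgebra S (Q M l) :=
  (MonoidAlgebra.mapDomainBialgHom S (QuotientGroup.mk' (powMonoidHom l : M →* M).range)).comp
    (e : S ⊗[R] A →ₐc[S] MonoidAlgebra S M)

lemma tq_apply (x : S ⊗[R] A) : tq e l x =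
    MonoidAlgebra.mapDomainBialgHom S (QuotientGroup.mk' (powMonoidHom l : M →* M).range) (e x) := rfl

lemma tq_symm_single (m : M) : tq e l (e.symm (MonoidAlgebra.single m 1)) =
    MonoidAlgebra.single (QuotientGroup.mk m) 1 := by
  rw [tq_apply, BialgEquiv.apply_symm_apply, MonoidAlgebra.mapDomainBialgHom_single]
  rfl

lemma tq_surjective : Function.Surjective (tq e l) := by
  intro y
  induction y using MonoidAlgebra.induction_linear with
  | zero => exact ⟨0, map_zero _⟩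
  | add x y hx hy =>
    obtain ⟨x', rfl⟩ := hx
    obtain ⟨y', rfl⟩ := hy
    exact ⟨x' + y', map_add _ _ _⟩
  | single q s =>
    obtain ⟨m, rfl⟩ := QuotientGroup.mk_surjective q
    refine ⟨s • e.symm (MonoidAlgebra.single m 1), ?_⟩
    rw [map_smul, tq_symm_single, MonoidAlgebra.smul_single, smul_eq_mul, mul_one]

lemma tq_torsion {a : A} (ha : a ∈ SGA3b.torsionIdeal R A l) : tq e l (1 ⊗ₜ a) = 0 := by
  refine map_torsionIdeal_eq_zero S (GBasis.ofBialgEquiv e) l (tq e l : S ⊗[R] A →ₐ[S] MonoidAlgebra S (Q M l)) ?_ ha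
  intro m
  rw [GBasis.ofBialgEquiv_b]
  change (tq e l (e.symm (MonoidAlgebra.single m 1))) ^ l = 1
  rw [tq_symm_single, MonoidAlgebra.single_pow, one_pow, ← QuotientGroup.mk_pow]
  have : ((m ^ l : M) : Q M l) = 1 := (QuotientGroup.eq_one_iff _).mpr ⟨m, rfl⟩
  rw [this]
  rfl

variable (I : Ideal A) (hI : SGA3b.torsionIdeal R A l ≤ I) (hI0 : ∀ x ∈ I, tq e l (1 ⊗ₜ x) = 0)

/-- `S ⊗ A → S ⊗ (A/I)` -/
noncomputable def pj (R S : Type u) [CommRing R] [CommRing S] [Algebra R S] {A : Type u} [CommRing A]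
    [Algebra R A] (I : Ideal A) : S ⊗[R] A →ₐ[S] S ⊗[R] (A ⧸ I) :=
  Algebra.TensorProduct.map (AlgHom.id S S) (Ideal.Quotient.mkₐ R I)

@[simp] lemma pj_tmul (s : S) (a : A) : pj R S I (s ⊗ₜ a) = s ⊗ₜ Ideal.Quotient.mk I a := rfl

lemma pj_surjective : Function.Surjective (pj R S I) := by
  intro y
  induction y using TensorProduct.induction_on with
  | zero => exact ⟨0, map_zero _⟩
  | add y z hy hz =>
    obtain ⟨y', rfl⟩ := hy
    obtain ⟨z', rfl⟩ := hz
    exact ⟨y' + z', map_add _ _ _⟩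
  | tmul s b =>
    obtain ⟨a, rfl⟩ := Ideal.Quotient.mk_surjective b
    exact ⟨s ⊗ₜ a, rfl⟩

/-- `A/I → S[M/l]` -/
noncomputable def th0 : A ⧸ I →ₐ[R] MonoidAlgebra S (Q M l) :=
  Ideal.Quotient.liftₐ I (((tq e l : S ⊗[R] A →ₐ[S] MonoidAlgebra S (Q M l)).restrictScalars R).comp
      (Algebra.TensorProduct.includeRight : A →ₐ[R] S ⊗[R] A)) (fun a ha => hI0 a ha)

lemma th0_mk (a : A) : th0 e l I hI0 (Ideal.Quotient.mk I a) = tq e l (1 ⊗ₜ a) := rfl

/-- `S ⊗ (A/I) → S[M/l]` -/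
noncomputable def th1 : S ⊗[R] (A ⧸ I) →ₐ[S] MonoidAlgebra S (Q M l) :=
  Algebra.TensorProduct.lift (Algebra.ofId _ _) (th0 e l I hI0) (fun _ _ => .all _ _)

lemma th1_tmul (s : S) (a : A) :
    th1 e l I hI0 (s ⊗ₜ Ideal.Quotient.mk I a) = s • tq e l (1 ⊗ₜ a) := by
  rw [th1, Algebra.TensorProduct.lift_tmul, th0_mk, Algebra.ofId_apply, Algebra.smul_def]

lemma th1_pj (x : S ⊗[R] A) : th1 e l I hI0 (pj R S I x) = tq e l x := by
  induction x using TensorProduct.induction_on with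
  | zero => simp
  | add x y hx hy => rw [map_add, map_add, map_add, hx, hy]
  | tmul s a =>
    rw [pj_tmul, th1_tmul]
    have h1 : s ⊗ₜ[R] a = s • ((1 : S) ⊗ₜ[R] a) := by simp [TensorProduct.smul_tmul']
    rw [h1, map_smul]

/-- `M/l → S ⊗ (A/I)` -/
noncomputable def qh : Q M l →* S ⊗[R] (A ⧸ I) :=
  QuotientGroup.lift _ ((pj R S I : S ⊗[R] A →* _).comp (GBasis.ofBialgEquiv e).hom) (by
    rintro _ ⟨m, rfl⟩
    have h0 := pow_sub_one_mem S (GBasis.ofBialgEquiv e) l m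
    have h1 : (SGA3b.torsionIdeal R A l).map (Algebra.TensorProduct.includeRight : A →ₐ[R] S ⊗[R] A) ≤
        RingHom.ker (pj R S I) := by
      rw [Ideal.map_le_iff_le_comap]
      intro a ha
      rw [Ideal.mem_comap, RingHom.mem_ker]
      simp [Ideal.Quotient.eq_zero_iff_mem.mpr (hI ha)]
    have h := h1 h0
    rw [RingHom.mem_ker, map_sub, map_one, sub_eq_zero] at h
    rw [MonoidHom.mem_ker, MonoidHom.comp_apply, powMonoidHom_apply, map_pow]
    exact h)

lemma qh_mk (m : M) : qh e l I hI (QuotientGroup.mk m) = pj R S I (e.symm (MonoidAlgebra.single m 1)) := rfl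

/-- the inverse -/
noncomputable def th2 : MonoidAlgebra S (Q M l) →ₐ[S] S ⊗[R] (A ⧸ I) :=
  MonoidAlgebra.lift S _ _ (qh e l I hI)

lemma th2_single (m : M) : th2 e l I hI (MonoidAlgebra.single (QuotientGroup.mk m) 1) =
    pj R S I (e.symm (MonoidAlgebra.single m 1)) := by
  rw [th2, MonoidAlgebra.lift_single, one_smul, qh_mk]

lemma th2_tq (x : S ⊗[R] A) : th2 e l I hI (tq e l x) = pj R S I x := by
  have h : ∀ y : MonoidAlgebra S M, th2 e l I hI (tq e l (e.symm y)) = pj R S I (e.symm y) := by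
    intro y
    induction y using MonoidAlgebra.induction_linear with
    | zero => simp
    | add x y hx hy => simp only [map_add, hx, hy]
    | single m s =>
      have h1 : (MonoidAlgebra.single m s : MonoidAlgebra S M) = s • MonoidAlgebra.single m 1 := by
        rw [MonoidAlgebra.smul_single, smul_eq_mul, mul_one]
      rw [h1, map_smul, map_smul, map_smul, map_smul, tq_symm_single, th2_single]
  have := h (e x)
  rwa [BialgEquiv.symm_apply_apply] at this

/-- the isomorphism `S ⊗ (A/I) = S[M/l]` -/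
noncomputable def th : S ⊗[R] (A ⧸ I) ≃ₐ[S] MonoidAlgebra S (Q M l) :=
  AlgEquiv.ofAlgHom (th1 e l I hI0) (th2 e l I hI) (by
    apply AlgHom.ext
    intro y
    obtain ⟨x, rfl⟩ := tq_surjective e l y
    rw [AlgHom.comp_apply, th2_tq, th1_pj, AlgHom.id_apply]) (by
    apply AlgHom.ext
    intro x
    obtain ⟨y, rfl⟩ := pj_surjective (R := R) (S := S) I x
    rw [AlgHom.comp_apply, th1_pj, th2_tq, AlgHom.id_apply])

lemma th_pj (x : S ⊗[R] A) : th e l I hI hI0 (pj R S I x) = tq e l x := th1_pj e l I hI0 x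

/-- the base change of a tensor square -/
noncomputable def tau : (A ⧸ I) ⊗[R] (A ⧸ I) →ₗ[R]
    MonoidAlgebra S (Q M l) ⊗[S] MonoidAlgebra S (Q M l) :=
  ((TensorProduct.map (th e l I hI hI0).toLinearMap (th e l I hI hI0).toLinearMap).restrictScalars R) ∘ₗ
    ((TensorProduct.AlgebraTensorModule.distribBaseChange R S (A ⧸ I) (A ⧸ I)).restrictScalars R).toLinearMap ∘ₗ
      (TensorProduct.mk R S _ 1)

lemma tau_tmul (a b : A) : tau e l I hI hI0 (Ideal.Quotient.mk I a ⊗ₜ Ideal.Quotient.mk I b) =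
    tq e l (1 ⊗ₜ a) ⊗ₜ tq e l (1 ⊗ₜ b) := by
  rw [← th_pj e l I hI hI0, ← th_pj e l I hI hI0]
  simp [tau]

lemma tau_map (w : A ⊗[R] A) : tau e l I hI hI0
    (TensorProduct.map (Ideal.Quotient.mkₐ R I).toLinearMap (Ideal.Quotient.mkₐ R I).toLinearMap w) =
    TensorProduct.map (tq e l : S ⊗[R] A →ₗ[S] MonoidAlgebra S (Q M l)) (tq e l : S ⊗[R] A →ₗ[S] MonoidAlgebra S (Q M l))
      (TensorProduct.AlgebraTensorModule.distribBaseChange R S A A (1 ⊗ₜ w)) := by
  induction w using TensorProduct.induction_on with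
  | zero => simp
  | tmul a b =>
    rw [TensorProduct.map_tmul]
    refine (tau_tmul e l I hI hI0 a b).trans ?_
    simp
  | add x y hx hy => rw [map_add, map_add, hx, hy, TensorProduct.tmul_add, map_add, map_add]

lemma tau_comul (a : A) : tau e l I hI hI0
    (TensorProduct.map (Ideal.Quotient.mkₐ R I).toLinearMap (Ideal.Quotient.mkₐ R I).toLinearMap
      (Coalgebra.comul (R := R) a)) = Coalgebra.comul (R := S) (tq e l (1 ⊗ₜ a)) := by
  rw [tau_map, ← comul_one_tmul]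
  exact CoalgHomClass.map_comp_comul_apply (tq e l) _

lemma tau_comm (w : (A ⧸ I) ⊗[R] (A ⧸ I)) : tau e l I hI hI0 (TensorProduct.comm R _ _ w) =
    TensorProduct.comm S _ _ (tau e l I hI hI0 w) := by
  induction w using TensorProduct.induction_on with
  | zero => simp
  | tmul a b =>
    obtain ⟨a, rfl⟩ := Ideal.Quotient.mk_surjective a
    obtain ⟨b, rfl⟩ := Ideal.Quotient.mk_surjective b
    rw [TensorProduct.comm_tmul, tau_tmul, tau_tmul, TensorProduct.comm_tmul]
  | add x y hx hy => rw [map_add, map_add, hx, hy, map_add, map_add]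

lemma tau_eq_zero {z : (A ⧸ I) ⊗[R] (A ⧸ I)} (hz : tau e l I hI hI0 z = 0) :
    (1 : S) ⊗ₜ[R] z = 0 := by
  have h1 : TensorProduct.congr (th e l I hI hI0).toLinearEquiv (th e l I hI hI0).toLinearEquiv
      (TensorProduct.AlgebraTensorModule.distribBaseChange R S (A ⧸ I) (A ⧸ I) (1 ⊗ₜ z)) = 0 := hz
  rw [LinearEquiv.map_eq_zero_iff, LinearEquiv.map_eq_zero_iff] at h1
  exact h1

lemma hI0_of {r : R} (hr : algebraMap R S r = 0)
    (hI' : I ≤ SGA3b.torsionIdeal R A l ⊔ Ideal.span {algebraMap R A r}) :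
    ∀ x ∈ I, tq e l (1 ⊗ₜ x) = 0 := by
  intro x hx
  obtain ⟨t, ht, y, hy, rfl⟩ := Submodule.mem_sup.mp (hI' hx)
  obtain ⟨z, rfl⟩ := Ideal.mem_span_singleton'.mp hy
  rw [TensorProduct.tmul_add, map_add, tq_torsion e l ht, zero_add]
  have : (1 : S) ⊗ₜ[R] (z * algebraMap R A r) = 0 := by
    rw [mul_comm, ← Algebra.smul_def, ← TensorProduct.smul_tmul, Algebra.smul_def, hr, zero_mul,
      TensorProduct.zero_tmul]
  rw [this, map_zero]

include hI0 in
lemma counit_eq {x : A} (hx : x ∈ I) : algebraMap R S (Coalgebra.counit x) = 0 := by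
  have h1 : Coalgebra.counit (R := S) ((1 : S) ⊗ₜ[R] x) = Coalgebra.counit (R := S) (tq e l (1 ⊗ₜ x)) :=
    (CoalgHomClass.counit_comp_apply (tq e l) _).symm
  rw [hI0 x hx, map_zero, TensorProduct.counit_tmul] at h1
  rw [← h1]
  simp [Algebra.smul_def]

end general

section main

variable {R : Type u} [CommRing R] [IsDomain R] [IsLocalRing R]

lemma exists_mem (hR : ¬ IsField R) : ∃ r ∈ maximalIdeal R, r ≠ 0 := by
  by_contra h
  push Not at h
  exact hR (IsLocalRing.isField_iff_maximalIdeal_eq.mpr (le_antisymm (fun x hx => h x hx) bot_le))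

lemma eq_zero_of_forall (hR : ¬ IsField R) {x : R}
    (h : ∀ r ∈ maximalIdeal R, r ≠ 0 → x ∈ Ideal.span {r}) : x = 0 := by
  by_contra hx
  obtain ⟨r, hr, hr0⟩ := exists_mem hR
  have hxm : x ∈ maximalIdeal R :=
    (Ideal.span_singleton_le_iff_mem _).mpr hr (h r hr hr0)
  obtain ⟨c, hc⟩ := Ideal.mem_span_singleton'.mp (h (x * x) (Ideal.mul_mem_left _ _ hxm) (mul_ne_zero hx hx))
  have h1 : c * x = 1 := by
    apply mul_right_cancel₀ hx
    rw [one_mul, mul_assoc, hc]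
  exact (IsLocalRing.mem_maximalIdeal x).mp hxm (IsUnit.of_mul_eq_one c (by rw [mul_comm, h1]))

lemma eq_zero_of_forall' (hR : ¬ IsField R) {N : Type*} [AddCommGroup N] [Module R N] [Module.Free R N]
    {z : N} (h : ∀ r ∈ maximalIdeal R, r ≠ 0 → z ∈ (Ideal.span {r} • ⊤ : Submodule R N)) : z = 0 := by
  rw [← (Module.Free.chooseBasis R N).repr.map_eq_zero_iff]
  ext i
  refine eq_zero_of_forall hR fun r hr hr0 => ?_
  refine Submodule.smul_induction_on (h r hr hr0) ?_ ?_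
  · intro a ha n _
    rw [map_smul, Finsupp.smul_apply, smul_eq_mul]
    exact Ideal.mul_mem_right _ _ ha
  · intro x y hx hy
    rw [map_add, Finsupp.add_apply]
    exact add_mem hx hy

variable {A M : Type u} [CommRing A] [HopfAlgebra R A] [CommGroup M]

section

variable (hR : ¬ IsField R) (h : ∀ r ∈ maximalIdeal R, r ≠ 0 → DiagMod R A M (Ideal.span {r}))
  (l : ℕ) (I : Ideal A) (hI : SGA3b.torsionIdeal R A l ≤ I)
  (hI' : ∀ r ∈ maximalIdeal R, r ≠ 0 →
    I ≤ SGA3b.torsionIdeal R A l ⊔ Ideal.span {algebraMap R A r})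
  (hfree : Module.Free R (A ⧸ I))

include hR h hI hI' hfree in
/-- the key separation lemma -/
lemma key (z : (A ⧸ I) ⊗[R] (A ⧸ I))
    (hz : ∀ (r : R) (_ : r ∈ maximalIdeal R) (_ : r ≠ 0)
      (e : ((R ⧸ Ideal.span {r}) ⊗[R] A) ≃ₐc[R ⧸ Ideal.span {r}] MonoidAlgebra (R ⧸ Ideal.span {r}) M)
      (hI0 : ∀ x ∈ I, tq e l (1 ⊗ₜ x) = 0), tau e l I hI hI0 z = 0) : z = 0 := by
  refine eq_zero_of_forall' hR fun r hr hr0 => ?_
  obtain ⟨e⟩ := h r hr hr0
  have hI0 : ∀ x ∈ I, tq e l (1 ⊗ₜ x) = 0 :=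
    hI0_of e l I (r := r) (Ideal.Quotient.eq_zero_iff_mem.mpr (Ideal.mem_span_singleton_self r))
      (hI' r hr hr0)
  exact (one_tmul_eq_zero_iff _ z).mp (tau_eq_zero e l I hI hI0 (hz r hr hr0 e hI0))

include hR h hI hI' hfree in
lemma isCoideal : (I.restrictScalars R).IsCoideal := by
  refine ⟨?_, ?_⟩
  · intro x hx
    refine eq_zero_of_forall hR fun r hr hr0 => ?_
    obtain ⟨e⟩ := h r hr hr0
    have hI0 : ∀ x ∈ I, tq e l (1 ⊗ₜ x) = 0 :=
      hI0_of e l I (r := r) (Ideal.Quotient.eq_zero_iff_mem.mpr (Ideal.mem_span_singleton_self r))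
        (hI' r hr hr0)
    exact Ideal.Quotient.eq_zero_iff_mem.mp (counit_eq e l I hI0 hx)
  · intro x hx
    refine key hR h l I hI hI' hfree _ fun r hr hr0 e hI0 => ?_
    refine (tau_comul e l I hI hI0 x).trans ?_
    rw [hI0 x hx, map_zero]

include hR h hI hI' hfree in
lemma isCocomm [(I.restrictScalars R).IsCoideal] : Coalgebra.IsCocomm R (A ⧸ I) := by
  refine ⟨LinearMap.ext fun b => ?_⟩
  obtain ⟨a, rfl⟩ := Ideal.Quotient.mk_surjective b
  rw [LinearMap.comp_apply, ← sub_eq_zero]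
  refine key hR h l I hI hI' hfree _ fun r hr hr0 e hI0 => ?_
  rw [Bialgebra.Quotient.comul_mk, map_sub]
  refine (congrArg₂ (· - ·) (tau_comm e l I hI hI0 _) rfl).trans ?_
  have h1 := tau_comul e l I hI hI0 a
  exact sub_eq_zero.mpr ((congrArg _ h1).trans ((Coalgebra.comm_comul _ _).trans h1.symm))

end

end main

section final

variable {R A S M : Type u} [CommRing R] [CommRing A] [HopfAlgebra R A] [CommRing S] [Algebra R S]
  [CommGroup M] (e : (S ⊗[R] A) ≃ₐc[S] MonoidAlgebra S M) (l : ℕ)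
  (I : Ideal A) (hI : SGA3b.torsionIdeal R A l ≤ I) (hI0 : ∀ x ∈ I, tq e l (1 ⊗ₜ x) = 0)
  [(I.restrictScalars R).IsCoideal]

lemma pj_eq (x : S ⊗[R] A) : pj R S I x = mapBialg S (Bialgebra.Quotient.mkBialgHom (R := R) I) x := rfl

/-- the isomorphism `S ⊗ (A/I) = S[M/l]` of bialgebras -/
noncomputable def thB : S ⊗[R] (A ⧸ I) ≃ₐc[S] MonoidAlgebra S (Q M l) :=
  BialgEquiv.ofAlgEquiv (th e l I hI hI0)
    (by
      apply AlgHom.ext
      intro x
      obtain ⟨y, rfl⟩ := pj_surjective (R := R) (S := S) I x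
      change Coalgebra.counit (R := S) (th e l I hI hI0 (pj R S I y)) =
        Coalgebra.counit (R := S) (pj R S I y)
      rw [th_pj, pj_eq, CoalgHomClass.counit_comp_apply, CoalgHomClass.counit_comp_apply])
    (by
      apply AlgHom.ext
      intro x
      obtain ⟨y, rfl⟩ := pj_surjective (R := R) (S := S) I x
      change Algebra.TensorProduct.map (th e l I hI hI0 : S ⊗[R] (A ⧸ I) →ₐ[S] MonoidAlgebra S (Q M l))
          (th e l I hI hI0 : S ⊗[R] (A ⧸ I) →ₐ[S] MonoidAlgebra S (Q M l))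
          (Coalgebra.comul (R := S) (pj R S I y)) =
        Coalgebra.comul (R := S) (th e l I hI hI0 (pj R S I y))
      rw [th_pj, pj_eq, ← CoalgHomClass.map_comp_comul_apply, ← CoalgHomClass.map_comp_comul_apply]
      generalize Coalgebra.comul (R := S) y = w
      induction w using TensorProduct.induction_on with
      | zero => simp
      | tmul a b =>
        change th e l I hI hI0 (pj R S I a) ⊗ₜ th e l I hI hI0 (pj R S I b) = tq e l a ⊗ₜ tq e l b
        rw [th_pj, th_pj]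
      | add x y hx hy => rw [map_add, map_add, map_add, hx, hy])

lemma thB_tmul (a : A) : thB e l I hI hI0 (1 ⊗ₜ Ideal.Quotient.mk I a) = tq e l (1 ⊗ₜ a) :=
  th_pj e l I hI hI0 (1 ⊗ₜ a)

end final

theorem exists_quotient_of_ideal (R A M : Type u) [CommRing R] [IsDomain R] [IsLocalRing R]
    (hR : ¬ IsField R) [CommRing A] [HopfAlgebra R A] [CommGroup M] [Group.FG M]
    (h : ∀ r ∈ maximalIdeal R, r ≠ 0 → DiagMod R A M (Ideal.span {r}))
    (e₀ : (ResidueField R ⊗[R] A) ≃ₐc[ResidueField R] MonoidAlgebra (ResidueField R) M)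
    (l : ℕ) (_ : 0 < l) (I : Ideal A) (hI : SGA3b.torsionIdeal R A l ≤ I)
    (hI' : ∀ r ∈ maximalIdeal R, r ≠ 0 →
      I ≤ SGA3b.torsionIdeal R A l ⊔ Ideal.span {algebraMap R A r})
    (hfin : Module.Finite R (A ⧸ I)) (hfree : Module.Free R (A ⧸ I)) :
    ∃ (B : Type u) (_ : CommRing B) (_ : Bialgebra R B) (π : A →ₐc[R] B)
      (eB : (ResidueField R ⊗[R] B) ≃ₐc[ResidueField R]
        MonoidAlgebra (ResidueField R) (M ⧸ (powMonoidHom l : M →* M).range)),
      Function.Surjective π ∧ Module.Finite R B ∧ Module.Free R B ∧ Coalgebra.IsCocomm R B ∧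
        ∀ a, eB (1 ⊗ₜ π a) =
          MonoidAlgebra.mapDomainBialgHom _ (QuotientGroup.mk' _) (e₀ (1 ⊗ₜ a)) := by
  have := isCoideal hR h l I hI hI' hfree
  obtain ⟨r, hr, hr0⟩ := exists_mem hR
  have hI0 : ∀ x ∈ I, tq e₀ l (1 ⊗ₜ x) = 0 :=
    hI0_of e₀ l I (r := r) (Ideal.Quotient.eq_zero_iff_mem.mpr hr) (hI' r hr hr0)
  exact ⟨A ⧸ I, inferInstance, inferInstance, Bialgebra.Quotient.mkBialgHom (R := R) I,
    thB e₀ l I hI hI0, Ideal.Quotient.mk_surjective, hfin, hfree,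
    isCocomm hR h l I hI hI' hfree, fun a => thB_tmul e₀ l I hI hI0 a⟩

end Groth.Agent.Sga3A.FibTors1b
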