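import Groth.Agent.Sga3A.MTBasis
import Groth.Agent.S0522
import Mathlib.RingTheory.Coalgebra.Convolution
import Mathlib.LinearAlgebra.Dual.BaseChange
import Mathlib.LinearAlgebra.Dual.Lemmas
import Mathlib.LinearAlgebra.FreeModule.Finite.Basic
import Mathlib.RingTheory.Henselian
import Mathlib.RingTheory.LocalRing.ResidueField.Basic
import Mathlib.RingTheory.Nakayama

/-!
# A finite free cocommutative bialgebra over a henselian local ring whose closed fibre is a group
algebra is a group algebra
-/

set_option autoImplicit false

set_option linter.unusedSectionVars false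

open TensorProduct IsLocalRing

namespace Groth.Agent.Sga3A.FibTors2

open MTBasis

section ev

variable {R A S : Type*} [CommRing R] [CommRing A] [Bialgebra R A] [CommRing S] [Algebra R S]

/-- evaluation of the base change of a linear form -/
noncomputable def evL (x : S ⊗[R] A) : WithConv (A →ₗ[R] R) →ₗ[R] S where
  toFun l := Module.Dual.baseChange S l.ofConv x
  map_add' l l' := by simp
  map_smul' r l := by simp

@[simp] lemma evL_tmul (s : S) (a : A) (l : WithConv (A →ₗ[R] R)) : evL (s ⊗ₜ a) l = l a • s := rfl

lemma evL_apply (x : S ⊗[R] A) (l : WithConv (A →ₗ[R] R)) :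
    evL x l = Module.Dual.baseChange S l.ofConv x := rfl

lemma evL_add (x y : S ⊗[R] A) (l : WithConv (A →ₗ[R] R)) :
    evL (x + y) l = evL x l + evL y l := by
  rw [evL_apply, map_add, ← evL_apply, ← evL_apply]

lemma evL_one (x : S ⊗[R] A) :
    evL x (1 : WithConv (A →ₗ[R] R)) = Coalgebra.counit (R := S) x := by
  induction x using TensorProduct.induction_on with
  | zero => simp [evL_apply]
  | tmul s a => simp
  | add x y hx hy => rw [evL_apply, map_add, map_add, ← evL_apply, ← evL_apply, hx, hy]

lemma comul_one_tmul (a : A) : Coalgebra.comul (R := S) ((1 : S) ⊗ₜ[R] a) =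
    TensorProduct.AlgebraTensorModule.distribBaseChange R S A A
      ((1 : S) ⊗ₜ[R] Coalgebra.comul (R := R) a) := by
  rw [TensorProduct.comul_tmul]
  simp only [CommSemiring.comul_apply]
  generalize Coalgebra.comul (R := R) a = y
  induction y using TensorProduct.induction_on with
  | zero => simp
  | tmul r a => simp
  | add x y hx hy => rw [TensorProduct.tmul_add, TensorProduct.tmul_add, map_add, map_add, hx, hy]

lemma evL_mul (x : S ⊗[R] A) (l l' : WithConv (A →ₗ[R] R)) :
    evL x (l * l') = LinearMap.mul' S S (TensorProduct.map (Module.Dual.baseChange S l.ofConv)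
      (Module.Dual.baseChange S l'.ofConv) (Coalgebra.comul (R := S) x)) := by
  induction x using TensorProduct.induction_on with
  | zero => simp [evL_apply]
  | tmul s a =>
    have h1 : s ⊗ₜ[R] a = s • ((1 : S) ⊗ₜ[R] a) := by simp [TensorProduct.smul_tmul']
    rw [h1, map_smul, map_smul, map_smul, evL_apply, map_smul, comul_one_tmul]
    congr 1
    rw [← evL_apply, evL_tmul, LinearMap.convMul_apply]
    generalize Coalgebra.comul (R := R) a = y
    induction y using TensorProduct.induction_on with
    | zero => simp
    | tmul r a => simp [mul_smul, smul_comm (l.ofConv r)]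
    | add x y hx hy =>
      rw [map_add, map_add, TensorProduct.tmul_add, add_smul, map_add, map_add, map_add, hx, hy]
  | add x y hx hy =>
    rw [evL_apply, map_add, map_add, map_add, map_add, ← evL_apply, ← evL_apply, hx, hy]

/-- evaluation at a group-like element is an algebra homomorphism on the dual algebra -/
noncomputable def ev (x : S ⊗[R] A) (hx : IsGroupLikeElem S x) : WithConv (A →ₗ[R] R) →ₐ[R] S :=
  AlgHom.ofLinearMap (evL x) (by rw [evL_one, hx.counit_eq_one]) (fun l l' => by
    rw [evL_mul, hx.comul_eq_tmul_self]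
    simp [evL_apply])

@[simp] lemma ev_apply (x : S ⊗[R] A) (hx : IsGroupLikeElem S x) (l : WithConv (A →ₗ[R] R)) :
    ev x hx l = evL x l := rfl

end ev

section main

universe u

variable {R B G : Type u} [CommRing R] [HenselianLocalRing R] [CommRing B] [Bialgebra R B]
  [Module.Finite R B] [Module.Free R B] [Coalgebra.IsCocomm R B] [CommGroup G] [Finite G]
  (e : (ResidueField R ⊗[R] B) ≃ₐc[ResidueField R] MonoidAlgebra (ResidueField R) G)

/-- the dual algebra -/
abbrev D (R B : Type u) [CommRing R] [CommRing B] [Bialgebra R B] : Type u := WithConv (B →ₗ[R] R)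

/-- the dual algebra is the dual module -/
noncomputable def dEquiv (R B : Type u) [CommRing R] [CommRing B] [Bialgebra R B] :
    D R B ≃ₗ[R] Module.Dual R B where
  toFun l := l.ofConv
  invFun l := WithConv.toConv l
  left_inv _ := rfl
  right_inv _ := rfl
  map_add' _ _ := rfl
  map_smul' _ _ := rfl

instance : Module.Finite R (D R B) := Module.Finite.equiv (dEquiv R B).symm

instance : Module.Free R (D R B) := Module.Free.of_equiv (dEquiv R B).symm

/-- the group-like elements of the closed fibre -/
noncomputable def xg (g : G) : ResidueField R ⊗[R] B := e.symm (MonoidAlgebra.single g 1)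

lemma xg_gl (g : G) : IsGroupLikeElem (ResidueField R) (xg e g) :=
  (MonoidAlgebra.isGroupLikeElem_single_one (R := ResidueField R) (A := ResidueField R) g).map e.symm

/-- reduction of the dual algebra -/
noncomputable def rho : D R B →ₐ[R] (G → ResidueField R) :=
  AlgHom.pi fun g => ev (xg e g) (xg_gl e g)

@[simp] lemma rho_apply (l : D R B) (g : G) : rho e l g = evL (xg e g) l := rfl

lemma linear_ext {f f' : ResidueField R ⊗[R] B →ₗ[ResidueField R] ResidueField R}
    (h : ∀ g, f (xg e g) = f' (xg e g)) : f = f' := by
  have h1 : f ∘ₗ (e.symm : MonoidAlgebra (ResidueField R) G ≃ₐ[ResidueField R] _).toLinearMap =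
      f' ∘ₗ (e.symm : MonoidAlgebra (ResidueField R) G ≃ₐ[ResidueField R] _).toLinearMap := by
    apply (MonoidAlgebra.basis G (ResidueField R)).ext
    intro g
    rw [MonoidAlgebra.basis_apply]
    exact h g
  ext b
  have h2 := LinearMap.congr_fun h1 (e (1 ⊗ₜ b))
  simpa using h2

lemma baseChange_eq_of_rho_eq {l l' : D R B} (h : rho e l = rho e l') :
    Module.Dual.baseChange (ResidueField R) l.ofConv =
      Module.Dual.baseChange (ResidueField R) l'.ofConv :=
  linear_ext e fun g => congrFun h g

lemma mem_maximalIdeal_of_rho_eq_zero {l : D R B} (h : rho e l = 0) (b : B) :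
    l b ∈ maximalIdeal R := by
  have h1 := baseChange_eq_of_rho_eq e (l := l) (l' := 0) (by rw [h, map_zero])
  have h2 := LinearMap.congr_fun h1 (1 ⊗ₜ b)
  rw [← residue_eq_zero_iff]
  simpa [Algebra.smul_def] using h2

lemma rho_eq_zero_iff {l : D R B} : rho e l = 0 ↔ l ∈ (maximalIdeal R • ⊤ : Submodule R (D R B)) := by
  constructor
  · intro h
    let β := Module.Free.chooseBasis R B
    have h1 : l = ∑ i, l (β i) • ((dEquiv R B).symm (β.coord i)) := by
      apply (dEquiv R B).injective
      apply β.ext
      intro j
      rw [map_sum]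
      simp only [map_smul, LinearEquiv.apply_symm_apply, LinearMap.coe_sum, Finset.sum_apply,
        LinearMap.smul_apply, Module.Basis.coord_apply, Module.Basis.repr_self, smul_eq_mul]
      rw [Finset.sum_eq_single j]
      · rw [Finsupp.single_eq_same, mul_one]
        rfl
      · intro i _ hij
        simp [Ne.symm hij]
      · simp
    rw [h1]
    exact Submodule.sum_mem _ fun i _ =>
      Submodule.smul_mem_smul (mem_maximalIdeal_of_rho_eq_zero e h _) trivial
  · intro h
    induction h using Submodule.smul_induction_on' with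
    | smul r hr n _ =>
      rw [map_smul]
      ext g
      have : algebraMap R (ResidueField R) r = 0 := by
        rw [ResidueField.algebraMap_eq, residue_eq_zero_iff]; exact hr
      simp only [Pi.smul_apply, Algebra.smul_def, this, zero_mul, Pi.zero_apply]
    | add x _ y _ hx hy => rw [map_add, hx, hy, add_zero]

lemma rho_surjective : Function.Surjective (rho e) := by
  intro c
  classical
  let β := Module.Free.chooseBasis R B
  let φ : ResidueField R ⊗[R] B →ₗ[ResidueField R] ResidueField R :=
    ((MonoidAlgebra.basis G (ResidueField R)).constr (ResidueField R) c) ∘ₗ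
      (e : _ ≃ₐ[ResidueField R] MonoidAlgebra (ResidueField R) G).toLinearMap
  have hr : ∀ i, ∃ r : R, residue R r = φ (1 ⊗ₜ β i) := fun i => residue_surjective _
  choose r hr using hr
  refine ⟨(dEquiv R B).symm (β.constr R r), ?_⟩
  ext g
  rw [rho_apply, evL_apply]
  have h1 : Module.Dual.baseChange (ResidueField R) (((dEquiv R B).symm (β.constr R r)).ofConv) = φ := by
    apply (β.baseChange (ResidueField R)).ext
    intro i
    rw [Module.Basis.baseChange_apply, ← hr i]
    change (β.constr R r) (β i) • (1 : ResidueField R) = _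
    rw [Module.Basis.constr_basis, Algebra.smul_def, mul_one]
    rfl
  rw [h1]
  simp [φ, xg, ← MonoidAlgebra.basis_apply]

/-- lifting of the idempotents of the reduction of the dual algebra -/
lemma exists_idem (c : G → ResidueField R) (hc : IsIdempotentElem c) :
    ∃ f : D R B, IsIdempotentElem f ∧ rho e f = c := by
  obtain ⟨d, rfl⟩ := rho_surjective e c
  have hH := Groth.Agent.S0522.bijOn_of_henselianRing R (maximalIdeal R) inferInstance (D R B)
    (Algebra.IsIntegral.of_finite R (D R B))
  have key : ∀ x : D R B, x ∈ Ideal.map (algebraMap R (D R B)) (maximalIdeal R) ↔ rho e x = 0 := by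
    intro x
    rw [rho_eq_zero_iff, Ideal.smul_top_eq_map]
    rfl
  have hd : IsIdempotentElem (Ideal.Quotient.mk (Ideal.map (algebraMap R (D R B)) (maximalIdeal R)) d) := by
    rw [IsIdempotentElem, ← map_mul, Ideal.Quotient.mk_eq_mk_iff_sub_mem, key, map_sub, map_mul,
      hc.eq, sub_self]
  obtain ⟨f, hf, hfd⟩ := hH.surjOn hd
  refine ⟨f, hf, ?_⟩
  rw [Ideal.Quotient.mk_eq_mk_iff_sub_mem, key, map_sub, sub_eq_zero] at hfd
  exact hfd

lemma idem_ext {f f' : D R B} (hf : IsIdempotentElem f) (hf' : IsIdempotentElem f')
    (h : rho e f = rho e f') : f = f' := by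
  have hH := Groth.Agent.S0522.bijOn_of_henselianRing R (maximalIdeal R) inferInstance (D R B)
    (Algebra.IsIntegral.of_finite R (D R B))
  apply hH.injOn hf hf'
  rw [Ideal.Quotient.mk_eq_mk_iff_sub_mem]
  have : rho e (f - f') = 0 := by rw [map_sub, h, sub_self]
  rw [rho_eq_zero_iff, Ideal.smul_top_eq_map] at this
  exact this

variable [DecidableEq G]

/-- the idempotent lifting the characteristic function of `g` -/
noncomputable def fg (g : G) : D R B :=
  (exists_idem e (Pi.single g 1) (by
    ext h; simp [Pi.single_apply])).choose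

lemma fg_idem (g : G) : IsIdempotentElem (fg e g) :=
  (exists_idem e (Pi.single g 1) (by
    ext h; simp [Pi.single_apply])).choose_spec.1

lemma rho_fg (g : G) : rho e (fg e g) = Pi.single g 1 :=
  (exists_idem e (Pi.single g 1) (by
    ext h; simp [Pi.single_apply])).choose_spec.2

lemma fg_mul (g h : G) : fg e g * fg e h = if g = h then fg e g else 0 := by
  split_ifs with hgh
  · subst hgh
    exact fg_idem e g
  · apply idem_ext e ((fg_idem e g).mul_of_commute (Commute.all _ _) (fg_idem e h)) IsIdempotentElem.zero
    rw [map_mul, rho_fg, rho_fg, map_zero]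
    ext k
    simp only [Pi.mul_apply, Pi.single_apply, Pi.zero_apply]
    split_ifs with h1 h2 <;> simp_all

lemma sum_fg [Fintype G] : ∑ g, fg e g = (1 : D R B) := by
  apply idem_ext e _ IsIdempotentElem.one
  · rw [map_sum, map_one]
    simp only [rho_fg]
    ext k
    simp
  · rw [IsIdempotentElem, Finset.sum_mul_sum]
    simp [fg_mul]

lemma coeff_fg (g h : G) : evL (xg e g) (fg e h) = if g = h then 1 else 0 := by
  have := congrFun (rho_fg e h) g
  rw [rho_apply] at this
  rw [this, Pi.single_apply]

lemma exists_unit (g : G) : ∃ b : B, IsUnit (fg e g b) := by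
  by_contra! hcon
  have h1 : fg e g ∈ (maximalIdeal R • ⊤ : Submodule R (D R B)) := by
    let β := Module.Free.chooseBasis R B
    have h1 : fg e g = ∑ i, (fg e g) (β i) • ((dEquiv R B).symm (β.coord i)) := by
      apply (dEquiv R B).injective
      apply β.ext
      intro j
      rw [map_sum]
      simp only [map_smul, LinearEquiv.apply_symm_apply, LinearMap.coe_sum, Finset.sum_apply,
        LinearMap.smul_apply, Module.Basis.coord_apply, Module.Basis.repr_self, smul_eq_mul]
      rw [Finset.sum_eq_single j]
      · rw [Finsupp.single_eq_same, mul_one]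
        rfl
      · intro i _ hij
        simp [Ne.symm hij]
      · simp
    rw [h1]
    exact Submodule.sum_mem _ fun i _ =>
      Submodule.smul_mem_smul ((mem_maximalIdeal _).2 (hcon _)) trivial
  rw [← rho_eq_zero_iff e] at h1
  have h2 := congrFun (h1.symm.trans (rho_fg e g)) g
  simp at h2

lemma linearIndependent_fg : LinearIndependent R (fg e) := by
  have := Fintype.ofFinite G
  rw [Fintype.linearIndependent_iff]
  intro r hr g
  have h1 : r g • fg e g = 0 := by
    have h2 := congrArg (fun x => x * fg e g) hr
    simp only [zero_mul, Finset.sum_mul, smul_mul_assoc, fg_mul] at h2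
    simpa using h2
  obtain ⟨b, hb⟩ := exists_unit e g
  have h2 : r g * fg e g b = 0 := by
    have := congrArg (fun l : D R B => l b) h1
    exact this
  exact (hb.mul_left_eq_zero).1 h2

lemma span_fg : ⊤ ≤ Submodule.span R (Set.range (fg e)) := by
  have := Fintype.ofFinite G
  apply Submodule.le_of_le_smul_of_le_jacobson_bot (I := maximalIdeal R) Module.Finite.fg_top
    (IsLocalRing.maximalIdeal_le_jacobson _)
  intro d _
  choose r hr using fun g => residue_surjective (rho e d g)
  have h1 : d - ∑ g, r g • fg e g ∈ (maximalIdeal R • ⊤ : Submodule R (D R B)) := by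
    rw [← rho_eq_zero_iff e, map_sub, map_sum, sub_eq_zero]
    simp only [map_smul, rho_fg]
    ext k
    rw [Finset.sum_apply, Finset.sum_eq_single k]
    · rw [Pi.smul_apply, Pi.single_eq_same, Algebra.smul_def, mul_one, ResidueField.algebraMap_eq, hr]
    · intro g _ hg
      rw [Pi.smul_apply, Pi.single_eq_of_ne (Ne.symm hg), smul_zero]
    · simp
  have h2 : d = ∑ g, r g • fg e g + (d - ∑ g, r g • fg e g) := by abel
  rw [h2]
  exact Submodule.add_mem_sup (Submodule.sum_mem _ fun g _ => Submodule.smul_mem _ _
    (Submodule.subset_span ⟨g, rfl⟩)) h1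

/-- the basis of the dual by the lifted idempotents -/
noncomputable def fbasis : Module.Basis G R (Module.Dual R B) :=
  (Module.Basis.mk (linearIndependent_fg e) (span_fg e)).map (dEquiv R B)

lemma fbasis_apply (g : G) (b : B) : fbasis e g b = fg e g b := by
  rw [fbasis, Module.Basis.map_apply, Module.Basis.mk_apply]
  rfl

/-- the basis of group-like elements -/
noncomputable def bb : Module.Basis G R B :=
  (fbasis e).dualBasis.map (Module.evalEquiv R B).symm

lemma fg_bb (g h : G) : fg e g (bb e h) = if g = h then 1 else 0 := by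
  rw [← fbasis_apply]
  have h1 : Module.evalEquiv R B (bb e h) = (fbasis e).dualBasis h := by
    rw [bb, Module.Basis.map_apply, LinearEquiv.apply_symm_apply]
  have h2 := LinearMap.congr_fun h1 (fbasis e g)
  rw [Module.Basis.dualBasis_apply_self] at h2
  exact h2

lemma bb_repr (x : B) (g : G) : (bb e).repr x g = fg e g x := by
  have : (bb e).coord g = (fg e g).ofConv := by
    apply (bb e).ext
    intro h
    rw [Module.Basis.coord_apply, Module.Basis.repr_self, Finsupp.single_apply]
    have := fg_bb e g h
    rw [show (fg e g).ofConv (bb e h) = fg e g (bb e h) from rfl, this]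
    simp [eq_comm]
  exact LinearMap.congr_fun this x

lemma tensor_repr (z : B ⊗[R] B) (g h : G) : ((bb e).tensorProduct (bb e)).repr z (g, h) =
    LinearMap.mul' R R (TensorProduct.map (fg e g).ofConv (fg e h).ofConv z) := by
  induction z using TensorProduct.induction_on with
  | zero => simp
  | tmul x y =>
    rw [Module.Basis.tensorProduct_repr_tmul_apply, bb_repr, bb_repr, TensorProduct.map_tmul,
      LinearMap.mul'_apply, smul_eq_mul, mul_comm]
  | add x y hx hy => rw [map_add, Finsupp.add_apply, hx, hy, map_add, map_add]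

lemma bb_gl (g : G) : IsGroupLikeElem R (bb e g) where
  counit_eq_one := by
    have := Fintype.ofFinite G
    have h1 : (1 : D R B) (bb e g) = Coalgebra.counit (R := R) (bb e g) := by
      rw [LinearMap.convOne_apply]; rfl
    rw [← h1, ← sum_fg e]
    have h2 : (∑ g', fg e g' : D R B) (bb e g) = ∑ g', fg e g' (bb e g) := by
      change (dEquiv R B (∑ g', fg e g')) (bb e g) = _
      rw [map_sum, LinearMap.sum_apply]
      rfl
    rw [h2]
    simp [fg_bb]
  comul_eq_tmul_self := by
    apply ((bb e).tensorProduct (bb e)).repr.injective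
    ext ⟨h, k⟩
    rw [tensor_repr, tensor_repr, TensorProduct.map_tmul, LinearMap.mul'_apply]
    have h1 : LinearMap.mul' R R (TensorProduct.map (fg e h).ofConv (fg e k).ofConv
        (Coalgebra.comul (R := R) (bb e g))) = (fg e h * fg e k) (bb e g) := by
      rw [LinearMap.convMul_apply]
    rw [h1, fg_mul]
    change _ = fg e h (bb e g) * fg e k (bb e g)
    rw [fg_bb, fg_bb]
    split_ifs <;> simp_all [fg_bb]

/-- group-like elements are determined by their reduction -/
lemma eq_bb {x : B} (hx : IsGroupLikeElem R x) {g : G} (h : (1 : ResidueField R) ⊗ₜ[R] x = xg e g) :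
    x = bb e g := by
  have h1 : ∀ k, fg e k x * fg e k x = fg e k x := by
    intro k
    have h2 : (fg e k * fg e k) x = fg e k x * fg e k x := by
      rw [LinearMap.convMul_apply, hx.comul_eq_tmul_self, TensorProduct.map_tmul, LinearMap.mul'_apply]
    rw [← h2, (fg_idem e k).eq]
  have h2 : ∀ k, residue R (fg e k x) = if g = k then 1 else 0 := by
    intro k
    rw [← coeff_fg e g k, ← h, evL_tmul, Algebra.smul_def, mul_one]
    rfl
  apply (bb e).repr.injective
  ext k
  rw [bb_repr, bb_repr, fg_bb]
  have h3 := h2 k
  split_ifs with hk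
  · rw [if_pos hk.symm] at h3
    have hu : IsUnit (fg e k x) := by
      rw [← residue_ne_zero_iff_isUnit, h3]
      exact one_ne_zero
    exact hu.mul_left_cancel (by rw [h1, mul_one])
  · rw [if_neg (Ne.symm hk)] at h3
    have hu : IsUnit (1 - fg e k x) := by
      rw [← residue_ne_zero_iff_isUnit, map_sub, h3, map_one, sub_zero]
      exact one_ne_zero
    have h4 : (1 - fg e k x) * fg e k x = 0 := by rw [sub_mul, one_mul, h1, sub_self]
    exact hu.mul_right_eq_zero.1 h4

lemma one_tmul_bb (g : G) : (1 : ResidueField R) ⊗ₜ[R] bb e g = xg e g := by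
  apply ((bb e).baseChange (ResidueField R)).repr.injective
  ext k
  have key : ∀ z : ResidueField R ⊗[R] B, ((bb e).baseChange (ResidueField R)).repr z k =
      evL z (fg e k) := by
    intro z
    induction z using TensorProduct.induction_on with
    | zero => simp [evL_apply]
    | tmul s b =>
      rw [Module.Basis.baseChange_repr_tmul, bb_repr, evL_tmul]
    | add x y hx hy => rw [map_add, Finsupp.add_apply, hx, hy, evL_add]
  rw [key, key, coeff_fg, evL_tmul, fg_bb]
  by_cases hkg : k = g
  · rw [if_pos hkg, if_pos hkg.symm, one_smul]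
  · rw [if_neg hkg, if_neg (Ne.symm hkg), zero_smul]

lemma xg_mul (g h : G) : xg e (g * h) = xg e g * xg e h := by
  rw [xg, xg, xg, ← map_mul, MonoidAlgebra.single_mul_single, one_mul]

lemma xg_one : xg e 1 = 1 := by
  rw [xg, ← MonoidAlgebra.one_def, map_one]

/-- the multiplicative basis of group-like elements -/
noncomputable def gb : GBasis R B G where
  b := bb e
  one := by
    symm
    apply eq_bb e (IsGroupLikeElem.one)
    rw [xg_one, Algebra.TensorProduct.one_def]
  mul g h := by
    symm
    apply eq_bb e ((bb_gl e g).mul (bb_gl e h))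
    rw [xg_mul, ← one_tmul_bb, ← one_tmul_bb, Algebra.TensorProduct.tmul_mul_tmul, one_mul]
  gl := bb_gl e

end main

universe u

theorem exists_equiv_of_closedFibre (R B G : Type u) [CommRing R] [HenselianLocalRing R]
    [CommRing B] [Bialgebra R B] [Module.Finite R B] [Module.Free R B] [Coalgebra.IsCocomm R B]
    [CommGroup G] [Finite G]
    (e : (ResidueField R ⊗[R] B) ≃ₐc[ResidueField R] MonoidAlgebra (ResidueField R) G) :
    ∃ E : B ≃ₐc[R] MonoidAlgebra R G,
      ∀ b, MonoidAlgebra.mapRingHom G (residue R) (E b) = e (1 ⊗ₜ b) := by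
  classical
  refine ⟨(gb e).bialgEquiv.symm, fun b => ?_⟩
  obtain ⟨y, rfl⟩ : ∃ y, b = (gb e).bialgEquiv y :=
    ⟨(gb e).bialgEquiv.symm b, ((gb e).bialgEquiv.apply_symm_apply b).symm⟩
  rw [BialgEquiv.symm_apply_apply]
  induction y using MonoidAlgebra.induction_linear with
  | zero => simp
  | add x y hx hy => rw [map_add, hx, hy, map_add, TensorProduct.tmul_add, map_add]
  | single g r =>
    rw [GBasis.bialgEquiv_single]
    have h1 : (1 : ResidueField R) ⊗ₜ[R] (r • (gb e).b g) = residue R r • xg e g := by
      rw [← one_tmul_bb, TensorProduct.tmul_smul, ← ResidueField.algebraMap_eq, algebraMap_smul]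
      rfl
    rw [h1, map_smul, xg, BialgEquiv.apply_symm_apply]
    simp

end Groth.Agent.Sga3A.FibTors2
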