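import Groth.Agent.Sga3A.FibTors1
import Groth.Agent.Sga3A.FibTors1b
import Groth.Agent.Sga3A.FibTors2
import Groth.Agent.Sga3A.FibDef
import Mathlib.GroupTheory.FiniteAbelian.Basic
import Mathlib.RingTheory.Henselian
import Mathlib.FieldTheory.IsSepClosed
import Groth.Prelude.Def_SGA3b

/-!
# The finite quotients `A → R[M/l]`
-/

set_option autoImplicit false
universe u

open TensorProduct SGA3b IsLocalRing

namespace Groth.Agent.Sga3A.FibTors

open FibDef

theorem exists_quotient_torsion (R A M : Type u) [CommRing R] [IsDomain R] [HenselianLocalRing R]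
    (hR : ¬ IsField R) [CommRing A] [HopfAlgebra R A] [CommGroup M]
    [Group.FG M] [Module.Flat R A] [Algebra.FinitePresentation R A]
    (_ : IsMultType (FractionRing R) (FractionRing R ⊗[R] A))
    (h : ∀ r ∈ maximalIdeal R, r ≠ 0 → DiagMod R A M (Ideal.span {r}))
    (e₀ : (ResidueField R ⊗[R] A) ≃ₐc[ResidueField R] MonoidAlgebra (ResidueField R) M)
    (l : ℕ) (hl : 0 < l) :
    ∃ q : A →ₐc[R] MonoidAlgebra R (M ⧸ (powMonoidHom l : M →* M).range), Function.Surjective q ∧
      ∀ a : A, MonoidAlgebra.mapRingHom _ (residue R) (q a) =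
        MonoidAlgebra.mapDomain (QuotientGroup.mk' (powMonoidHom l : M →* M).range)
          (e₀ (1 ⊗ₜ[R] a)) := by
  obtain ⟨I, g1, g2, g3, g4⟩ := FibTors1.exists_ideal_torsion hR h l hl
  obtain ⟨B, _, _, π, eB, hπ, h1, h2, h3, heB⟩ :=
    FibTors1b.exists_quotient_of_ideal R A M hR h e₀ l hl I g1 g2 g3 g4
  have hfin : Finite (M ⧸ (powMonoidHom l : M →* M).range) := by
    apply CommGroup.finite_of_fg_isMulTorsion
    intro x
    rw [isOfFinOrder_iff_pow_eq_one]
    refine ⟨l, hl, ?_⟩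
    obtain ⟨y, rfl⟩ := QuotientGroup.mk_surjective x
    rw [← QuotientGroup.mk_pow]
    exact (QuotientGroup.eq_one_iff _).mpr ⟨y, rfl⟩
  obtain ⟨E, hE⟩ := FibTors2.exists_equiv_of_closedFibre R B _ eB
  refine ⟨(E : B →ₐc[R] _).comp π, ?_, fun a => ?_⟩
  · intro x
    obtain ⟨b, rfl⟩ := EquivLike.surjective E x
    obtain ⟨a, rfl⟩ := hπ b
    exact ⟨a, rfl⟩
  · change MonoidAlgebra.mapRingHom _ (residue R) (E (π a)) = _
    rw [hE, heB]
    rfl

end Groth.Agent.Sga3A.FibTors
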