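import Groth.Agent.Sga3A.FibCompat
import Groth.Agent.Sga3A.FibChain
import Groth.Agent.Sga3A.FibTors
import Groth.Agent.Sga3A.NilDescent
import Groth.Agent.Sga3A.TypeLemma
import Groth.Agent.Sga3A.FibGlue
import Groth.Agent.Sga3A.MultBC
import Mathlib.RingTheory.Henselian
import Mathlib.FieldTheory.IsSepClosed
import Mathlib.RingTheory.LocalRing.ResidueField.Fiber

/-!
# S2975 over a strictly henselian local ring
-/

set_option autoImplicit false
universe u

open TensorProduct SGA3b IsLocalRing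

namespace Groth.Agent.Sga3A.FibLocal

open FibRes BCIso MTBasis FibDef FibDomain FibCompat Polynomial

/-- A group of multiplicative type over a field is diagonalisable over some extension field. -/
theorem exists_splitting_field (K B : Type u) [Field K] [CommRing B] [HopfAlgebra K B]
    (h : IsMultType K B) :
    ∃ (L : Type u) (_ : Field L) (_ : Algebra K L) (N : Type u) (_ : CommGroup N),
      Nonempty ((L ⊗[K] B) ≃ₐc[L] MonoidAlgebra L N) := by
  obtain ⟨S, iS, iA, hS, hd⟩ := MultBC.IsMultType.const_of_isLocalRing h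
  have hnt : Nontrivial S := (FaithfulSMul.algebraMap_injective K S).nontrivial
  obtain ⟨m, hm⟩ := Ideal.exists_maximal S
  let _ : Field (S ⧸ m) := Ideal.Quotient.field m
  have hd' := MultBC.isDiag_tower (R := K) (S := S) (T := S ⧸ m)
    (MultBC.IsDiag.baseChange (S ⧸ m) hd)
  obtain ⟨N, iN, e⟩ := hd'
  exact ⟨S ⧸ m, inferInstance, inferInstance, N, iN, e⟩

/-- The domain case. -/
theorem exists_equiv_of_domain' (R A M : Type u) [CommRing R] [IsDomain R] [HenselianLocalRing R]
    [IsSepClosed (ResidueField R)] (hR : ¬ IsField R) [CommRing A] [HopfAlgebra R A] [CommGroup M]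
    [Group.FG M] [Module.Flat R A] [Algebra.FinitePresentation R A]
    (hK : IsMultType (FractionRing R) (FractionRing R ⊗[R] A))
    (hconn : ConnectedSpace (PrimeSpectrum (FractionRing R ⊗[R] A)))
    (h : ∀ r ∈ maximalIdeal R, r ≠ 0 → DiagMod R A M (Ideal.span {r}))
    (e₀ : (ResidueField R ⊗[R] A) ≃ₐc[ResidueField R] MonoidAlgebra (ResidueField R) M) :
    Nonempty (A ≃ₐc[R] MonoidAlgebra R M) := by
  classical
  choose q hqs hq using FibTors.exists_quotient_torsion R A M hR hK h e₀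
  let q' : ∀ l : ℕ, A →ₐc[R] MonoidAlgebra R (Q M l) := fun l =>
    if hl : 0 < l then q l hl else
      (BialgHom.ofAlgHom (Algebra.ofId R (MonoidAlgebra R (Q M l))) (by ext) (by ext)).comp
        (Bialgebra.counitBialgHom R A)
  have hq' : ∀ l (hl : 0 < l), q' l = q l hl := fun l hl => dif_pos hl
  have hC : ∀ r : R, r ≠ 0 → ¬ IsUnit r → Compat q' r := fun r hr0 hru =>
    compat_of_residue q' e₀ (fun l hl a => by rw [hq' l hl, hq l hl]; rfl) r hru
      (h r ((mem_maximalIdeal r).mpr hru) hr0)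
  obtain ⟨L, _, _, N, _, ⟨e⟩⟩ := exists_splitting_field _ _ hK
  let _ : Algebra R L := ((algebraMap (FractionRing R) L).comp (algebraMap R (FractionRing R))).toAlgebra
  have : IsScalarTower R (FractionRing R) L := IsScalarTower.of_algebraMap_eq (fun _ => rfl)
  have hR' : ∃ r : R, r ≠ 0 ∧ ¬ IsUnit r := by
    by_contra hcon
    push Not at hcon
    exact hR ⟨⟨0, 1, zero_ne_one⟩, mul_comm, fun {a} ha => (hcon a ha).exists_right_inv⟩
  exact exists_equiv_of_domain hR' q' (fun l hl => by rw [hq' l hl]; exact hqs l hl)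
    ((cancelBialg R (FractionRing R) L A).symm.trans e) hC

/-- Quotients of henselian local rings are henselian. -/
theorem henselianLocalRing_quotient (R : Type u) [CommRing R] [HenselianLocalRing R] (J : Ideal R)
    (hJ : J ≠ ⊤) : HenselianLocalRing (R ⧸ J) := by
  have hnt : Nontrivial (R ⧸ J) := Ideal.Quotient.nontrivial_iff.mpr hJ
  have hloc : IsLocalRing (R ⧸ J) :=
    IsLocalRing.of_surjective' (Ideal.Quotient.mk J) Ideal.Quotient.mk_surjective
  have hlh : IsLocalHom (Ideal.Quotient.mk J) := Ideal.Quotient.mk_surjective.isLocalHom _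
  refine ⟨?_⟩
  intro f hf a₀ h1 h2
  obtain ⟨F, hF, -, hFm⟩ := lifts_and_degree_eq_and_monic (f := Ideal.Quotient.mk J)
    (by
      rw [Polynomial.mem_lifts]
      exact Polynomial.map_surjective _ Ideal.Quotient.mk_surjective f) hf
  obtain ⟨b, rfl⟩ := Ideal.Quotient.mk_surjective a₀
  rw [← hF, Polynomial.eval_map_apply] at h1
  rw [← hF, Polynomial.derivative_map, Polynomial.eval_map_apply] at h2
  obtain ⟨a, ha, ha'⟩ := HenselianLocalRing.is_henselian F hFm b
    ((mem_maximalIdeal _).mpr fun hu => (mem_maximalIdeal _).mp h1 (hu.map _))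
    (isUnit_of_map_unit (Ideal.Quotient.mk J) _ h2)
  refine ⟨Ideal.Quotient.mk J a, ?_, ?_⟩
  · rw [← hF]
    exact Polynomial.IsRoot.map ha
  · rw [← map_sub]
    exact (mem_maximalIdeal _).mpr fun hu =>
      (mem_maximalIdeal _).mp ha' (isUnit_of_map_unit (Ideal.Quotient.mk J) _ hu)

theorem isSepClosed_of_ringEquiv {k k' : Type*} [Field k] [Field k'] [IsSepClosed k] (φ : k ≃+* k') :
    IsSepClosed k' := by
  refine IsSepClosed.of_exists_root _ fun p _ hirr hsep => ?_
  obtain ⟨x, hx⟩ := IsSepClosed.exists_root (p.map (φ.symm : k' →+* k))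
    (by rw [Polynomial.degree_map]; exact hirr.degree_pos.ne') (hsep.map)
  refine ⟨φ x, ?_⟩
  have h1 : (φ.symm : k' →+* k) (p.eval (φ x)) = 0 := by
    rw [← Polynomial.eval_map_apply]
    simpa using hx
  exact (map_eq_zero_iff _ φ.symm.injective).mp h1

theorem isSepClosed_residueField_quotient (R : Type u) [CommRing R] [IsLocalRing R]
    [IsSepClosed (ResidueField R)] (J : Ideal R) [IsLocalRing (R ⧸ J)] :
    IsSepClosed (ResidueField (R ⧸ J)) := by
  have hlh : IsLocalHom (Ideal.Quotient.mk J) := Ideal.Quotient.mk_surjective.isLocalHom _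
  exact isSepClosed_of_ringEquiv (RingEquiv.ofBijective
    (ResidueField.map (Ideal.Quotient.mk J))
    ⟨(ResidueField.map (Ideal.Quotient.mk J)).injective, fun y => by
      obtain ⟨y, rfl⟩ := residue_surjective y
      obtain ⟨y, rfl⟩ := Ideal.Quotient.mk_surjective y
      exact ⟨residue R y, rfl⟩⟩)

theorem isDiag_congr' {R A B : Type u} [CommRing R] [CommRing A] [CommRing B] [HopfAlgebra R A]
    [HopfAlgebra R B] (e : A ≃ₐc[R] B) (h : IsMultType R A) : IsMultType R B := by
  obtain ⟨s, hs, H⟩ := h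
  refine ⟨s, hs, fun f hf => ?_⟩
  obtain ⟨R', i1, i2, i3, h3⟩ := H f hf
  exact ⟨R', i1, i2, i3, MultBC.IsDiag.of_equiv
    (congrBialg R' (congrBialg (Localization.Away f) e)).symm h3⟩

theorem connectedSpace_of_ringEquiv {A B : Type*} [CommRing A] [CommRing B] (e : A ≃+* B)
    [ConnectedSpace (PrimeSpectrum A)] : ConnectedSpace (PrimeSpectrum B) :=
  (PrimeSpectrum.homeomorphOfRingEquiv e).surjective.connectedSpace
    (PrimeSpectrum.homeomorphOfRingEquiv e).continuous

theorem diagMod_iff_of_bot {R A M : Type u} [CommRing R] [CommRing A] [HopfAlgebra R A] [CommGroup M]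
    (h : DiagMod R A M ⊥) : Nonempty (A ≃ₐc[R] MonoidAlgebra R M) := by
  obtain ⟨e⟩ := TypeLemma.diag_of_algHom (R := R) (AlgEquiv.quotientBot R R : (R ⧸ (⊥ : Ideal R)) →ₐ[R] R) h
  exact ⟨(Bialgebra.TensorProduct.lid R A).symm.trans e⟩

/-- The strictly henselian case. -/
theorem exists_equiv_of_fibres (R A M : Type u) [CommRing R] [HenselianLocalRing R]
    [IsSepClosed (ResidueField R)] [CommRing A] [HopfAlgebra R A] [CommGroup M] [Group.FG M]
    [Module.Flat R A] [Algebra.FinitePresentation R A]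
    (e₀ : (ResidueField R ⊗[R] A) ≃ₐc[ResidueField R] MonoidAlgebra (ResidueField R) M)
    (hfib : ∀ (p : Ideal R) [p.IsPrime], IsMultType p.ResidueField (p.ResidueField ⊗[R] A) ∧
      ConnectedSpace (PrimeSpectrum (p.ResidueField ⊗[R] A))) :
    Nonempty (A ≃ₐc[R] MonoidAlgebra R M) := by
  classical
  by_contra hcon
  have hbot : ¬ DiagMod R A M ⊥ := fun h => hcon (diagMod_iff_of_bot h)
  obtain ⟨J, -, hJ⟩ := zorn_le_nonempty₀ {J : Ideal R | J ≤ maximalIdeal R ∧ ¬ DiagMod R A M J}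
    (by
      intro c hcs hc y hy
      refine ⟨sSup c, ⟨sSup_le fun J hJ => (hcs hJ).1, fun h => ?_⟩, fun z hz => le_sSup hz⟩
      obtain ⟨J, hJc, hJ⟩ := FibChain.exists_mem_diagMod_of_sSup R A M c ⟨y, hy⟩ hc h
      exact (hcs hJc).2 hJ) ⊥ ⟨bot_le, hbot⟩
  obtain ⟨⟨hJm, hJn⟩, hJmax⟩ := hJ
  have hJtop : J ≠ ⊤ := fun h => (maximalIdeal.isMaximal R).ne_top (top_le_iff.mp (h ▸ hJm))
  have hens : HenselianLocalRing (R ⧸ J) := henselianLocalRing_quotient R J hJtop
  have hsep : IsSepClosed (ResidueField (R ⧸ J)) := isSepClosed_residueField_quotient R J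
  -- larger ideals
  have hup : ∀ I : Ideal (R ⧸ J), I ≠ ⊥ → I ≤ maximalIdeal (R ⧸ J) →
      DiagMod (R ⧸ J) ((R ⧸ J) ⊗[R] A) M I := by
    intro I hI hIm
    have h1 : J ≤ I.comap (Ideal.Quotient.mk J) := by
      intro x hx
      rw [Ideal.mem_comap, Ideal.Quotient.eq_zero_iff_mem.mpr hx]
      exact I.zero_mem
    have h2 : ¬ (I.comap (Ideal.Quotient.mk J) ≤ J) := by
      intro h
      apply hI
      rw [eq_bot_iff]
      intro x hx
      obtain ⟨x, rfl⟩ := Ideal.Quotient.mk_surjective x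
      exact Ideal.Quotient.eq_zero_iff_mem.mpr (h hx)
    have h3 : I.comap (Ideal.Quotient.mk J) ≤ maximalIdeal R := by
      refine IsLocalRing.le_maximalIdeal fun h => ?_
      rw [Ideal.comap_eq_top_iff] at h
      rw [h] at hIm
      exact (maximalIdeal.isMaximal (R ⧸ J)).ne_top (top_le_iff.mp hIm)
    have h4 : DiagMod R A M (I.comap (Ideal.Quotient.mk J)) := by
      by_contra h5
      exact h2 (hJmax ⟨h3, h5⟩ h1)
    let f : (R ⧸ I.comap (Ideal.Quotient.mk J)) →ₐ[R] (R ⧸ J) ⧸ I :=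
      Ideal.quotientMapₐ I (Ideal.Quotient.mkₐ R J) le_rfl
    obtain ⟨e⟩ := TypeLemma.diag_of_algHom f h4
    exact ⟨(cancelBialg R (R ⧸ J) ((R ⧸ J) ⧸ I) A).trans e⟩
  have hdom : IsDomain (R ⧸ J) := by
    have : NoZeroDivisors (R ⧸ J) := by
      refine ⟨fun {a b} hab => ?_⟩
      by_contra hcon'
      push Not at hcon'
      have ha : a ∈ maximalIdeal (R ⧸ J) := by
        rw [mem_maximalIdeal]
        intro hu
        exact hcon'.2 ((hu.mul_right_eq_zero).mp hab)
      have hb : b ∈ maximalIdeal (R ⧸ J) := by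
        rw [mem_maximalIdeal]
        intro hu
        exact hcon'.1 ((hu.mul_left_eq_zero).mp hab)
      apply hJn
      exact diagMod_iff_of_bot (FibGlue.diagMod_bot_of_mul_eq_zero (R ⧸ J) ((R ⧸ J) ⊗[R] A) M a b ha hb hab
        (hup _ (by rw [Ne, Ideal.span_singleton_eq_bot]; exact hcon'.1)
          (by rwa [Ideal.span_singleton_le_iff_mem]))
        (hup _ (by rw [Ne, Ideal.span_singleton_eq_bot]; exact hcon'.2)
          (by rwa [Ideal.span_singleton_le_iff_mem])))
    exact NoZeroDivisors.to_isDomain _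
  have hprime : J.IsPrime := (Ideal.Quotient.isDomain_iff_prime J).mp hdom
  have hnf : ¬ IsField (R ⧸ J) := by
    intro h
    have h1 : J.IsMaximal := Ideal.Quotient.maximal_of_isField J h
    have h2 : J = maximalIdeal R := eq_maximalIdeal h1
    subst h2
    exact hJn ⟨e₀⟩
  -- closed fibre
  have hlh : IsLocalHom (Ideal.Quotient.mk J) := Ideal.Quotient.mk_surjective.isLocalHom _
  let g : ResidueField R →ₐ[R] ResidueField (R ⧸ J) :=
    { ResidueField.map (Ideal.Quotient.mk J) with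
      commutes' := fun r => rfl }
  obtain ⟨e₁⟩ := TypeLemma.diag_of_algHom g ⟨e₀⟩
  -- generic fibre
  obtain ⟨hm, hc⟩ := hfib J
  let K' := FractionRing (R ⧸ J)
  let i₀ : J.ResidueField ≃ₐ[R ⧸ J] K' := IsLocalization.algEquiv (nonZeroDivisors (R ⧸ J)) _ _
  let i : J.ResidueField ≃ₐ[R] K' := i₀.restrictScalars R
  have hK : IsMultType K' (K' ⊗[R ⧸ J] ((R ⧸ J) ⊗[R] A)) := by
    let _ : Algebra J.ResidueField K' := i.toRingHom.toAlgebra
    have : IsScalarTower R J.ResidueField K' := .of_algebraMap_eq' (i : J.ResidueField →ₐ[R] K').comp_algebraMap.symm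
    exact isDiag_congr' ((cancelBialg R J.ResidueField K' A).trans (cancelBialg R (R ⧸ J) K' A).symm)
      (NilDescent.isMultType_baseChange K' hm)
  have hconn : ConnectedSpace (PrimeSpectrum (K' ⊗[R ⧸ J] ((R ⧸ J) ⊗[R] A))) := by
    let a1 : (J.ResidueField ⊗[R] A) ≃+* K' ⊗[R] A :=
      (Algebra.TensorProduct.congr i (AlgEquiv.refl (R := R) (A₁ := A))).toRingEquiv
    let a2 : (K' ⊗[R ⧸ J] ((R ⧸ J) ⊗[R] A)) ≃+* K' ⊗[R] A :=
      (Algebra.TensorProduct.cancelBaseChange R (R ⧸ J) K' K' A).toRingEquiv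
    exact connectedSpace_of_ringEquiv (A := J.ResidueField ⊗[R] A)
      (B := K' ⊗[R ⧸ J] ((R ⧸ J) ⊗[R] A)) (a1.trans a2.symm)
  refine hJn (exists_equiv_of_domain' (R ⧸ J) ((R ⧸ J) ⊗[R] A) M hnf hK hconn ?_
    ((cancelBialg R (R ⧸ J) (ResidueField (R ⧸ J)) A).trans e₁))
  intro r hr hr0
  exact hup _ (by rw [Ne, Ideal.span_singleton_eq_bot]; exact hr0)
    (by rwa [Ideal.span_singleton_le_iff_mem])

end Groth.Agent.Sga3A.FibLocal
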