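import Groth.Agent.Sga3A.MTBasis
import Groth.Prelude.Def_SGA3b
import Mathlib.GroupTheory.FiniteAbelian.Basic
import Mathlib.RingTheory.Finiteness.ModuleFinitePresentation
import Mathlib.RingTheory.Finiteness.Descent
import Mathlib.RingTheory.Flat.EquationalCriterion

/-!
# The torsion subgroup `ₙG` of a group of multiplicative type
-/

set_option autoImplicit false

open TensorProduct

namespace Groth.Agent.Sga3A.MTTorsion

open MTBasis

universe u

section powConv

variable (R A : Type u) [CommRing R] [CommRing A] [HopfAlgebra R A]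

lemma powConv_zero_apply (a : A) : SGA3b.powConv R A 0 a = algebraMap R A (Coalgebra.counit a) := by
  rw [SGA3b.powConv, pow_zero]
  rfl

lemma powConv_succ_apply (n : ℕ) (a : A) :
    SGA3b.powConv R A (n + 1) a =
      Algebra.TensorProduct.lift (SGA3b.powConv R A n) (AlgHom.id R A) (fun _ _ => .all _ _)
        (Coalgebra.comul (R := R) a) := by
  rw [SGA3b.powConv, pow_succ]
  exact AlgHom.convMul_apply _ _ a

variable {R A} in
lemma powConv_groupLike {x : A} (hx : IsGroupLikeElem R x) (n : ℕ) : SGA3b.powConv R A n x = x ^ n := by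
  induction n with
  | zero => rw [powConv_zero_apply, hx.counit_eq_one, map_one, pow_zero]
  | succ n ih =>
    rw [powConv_succ_apply, hx.comul_eq_tmul_self]
    simp [ih, pow_succ]

variable (S : Type u) [CommRing S] [Algebra R S]

lemma powConv_one_tmul (n : ℕ) (a : A) :
    SGA3b.powConv S (S ⊗[R] A) n (1 ⊗ₜ a) = 1 ⊗ₜ SGA3b.powConv R A n a := by
  induction n generalizing a with
  | zero =>
    rw [powConv_zero_apply, powConv_zero_apply, TensorProduct.counit_tmul, Bialgebra.counit_one,
      Algebra.smul_def, mul_one]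
    rw [Algebra.TensorProduct.algebraMap_apply, Algebra.algebraMap_self, RingHom.id_apply,
      Algebra.algebraMap_eq_smul_one, Algebra.algebraMap_eq_smul_one, TensorProduct.smul_tmul]
  | succ n ih =>
    rw [powConv_succ_apply, powConv_succ_apply, comul_one_tmul]
    generalize Coalgebra.comul (R := R) a = y
    induction y using TensorProduct.induction_on with
    | zero => simp
    | tmul b c => simp [ih]
    | add y z hy hz => rw [TensorProduct.tmul_add, map_add, map_add, map_add, TensorProduct.tmul_add, hy, hz]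

/-- the extension of the torsion ideal -/
lemma powConv_sub_mem (n : ℕ) (y : S ⊗[R] A) :
    SGA3b.powConv S (S ⊗[R] A) n y - algebraMap S _ (Coalgebra.counit (R := S) y) ∈
      (SGA3b.torsionIdeal R A n).map (Algebra.TensorProduct.includeRight : A →ₐ[R] S ⊗[R] A) := by
  induction y using TensorProduct.induction_on with
  | zero => simp
  | add y z hy hz =>
    have := Ideal.add_mem _ hy hz
    convert this using 1
    rw [map_add, map_add, map_add]
    ring
  | tmul s a =>
    have h1 : s ⊗ₜ[R] a = s • ((1 : S) ⊗ₜ[R] a) := by simp [TensorProduct.smul_tmul']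
    rw [h1, map_smul, map_smul, powConv_one_tmul, smul_eq_mul, map_mul, ← Algebra.smul_def, ← smul_sub]
    have h2 : (1 : S) ⊗ₜ[R] SGA3b.powConv R A n a - algebraMap S (S ⊗[R] A)
        (Coalgebra.counit (R := S) ((1 : S) ⊗ₜ[R] a)) =
        (Algebra.TensorProduct.includeRight : A →ₐ[R] S ⊗[R] A)
          (SGA3b.powConv R A n (a - algebraMap R A (Coalgebra.counit (R := R) a))) := by
      rw [map_sub, AlgHom.commutes, TensorProduct.counit_tmul, Bialgebra.counit_one,
        Algebra.smul_def, mul_one]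
      rw [Algebra.TensorProduct.algebraMap_apply, Algebra.algebraMap_self, RingHom.id_apply,
        Algebra.TensorProduct.includeRight_apply, TensorProduct.tmul_sub, Algebra.algebraMap_eq_smul_one,
        Algebra.algebraMap_eq_smul_one, TensorProduct.smul_tmul]
    rw [h2, Algebra.smul_def]
    apply Ideal.mul_mem_left
    apply Ideal.mem_map_of_mem
    apply Ideal.mem_map_of_mem
    rw [RingHom.mem_ker, map_sub, Bialgebra.counitAlgHom_apply, AlgHom.commutes]
    simp

variable {R A} in
/-- algebra maps killing the torsion ideal -/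
lemma map_torsionIdeal_eq_zero {M : Type*} [CommGroup M] (g : GBasis S (S ⊗[R] A) M) (n : ℕ)
    {C : Type*} [CommRing C] [Algebra S C] (f : S ⊗[R] A →ₐ[S] C) (hf : ∀ m, f (g.b m) ^ n = 1)
    {a : A} (ha : a ∈ SGA3b.torsionIdeal R A n) : f (1 ⊗ₜ a) = 0 := by
  have h1 : f.comp (SGA3b.powConv S (S ⊗[R] A) n) =
      (Algebra.ofId S C).comp (Bialgebra.counitAlgHom S (S ⊗[R] A)) := by
    apply AlgHom.toLinearMap_injective
    apply g.b.ext
    intro m
    simp only [AlgHom.toLinearMap_apply, AlgHom.comp_apply]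
    rw [powConv_groupLike (g.gl m), map_pow, hf, Bialgebra.counitAlgHom_apply, (g.gl m).counit_eq_one,
      map_one]
  have h2 : SGA3b.torsionIdeal R A n ≤ RingHom.ker (f.toRingHom.comp
      (Algebra.TensorProduct.includeRight : A →ₐ[R] S ⊗[R] A).toRingHom) := by
    rw [SGA3b.torsionIdeal, Ideal.map_le_iff_le_comap]
    intro c hc
    rw [RingHom.mem_ker, Bialgebra.counitAlgHom_apply] at hc
    rw [Ideal.mem_comap, RingHom.mem_ker]
    have h3 := DFunLike.congr_fun h1 (1 ⊗ₜ c)
    simp only [AlgHom.comp_apply] at h3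
    rw [powConv_one_tmul, Bialgebra.counitAlgHom_apply, TensorProduct.counit_tmul, hc, zero_smul, map_zero] at h3
    exact h3
  exact h2 ha

variable {R A} in
lemma pow_sub_one_mem {M : Type*} [CommGroup M] (g : GBasis S (S ⊗[R] A) M) (n : ℕ) (m : M) :
    g.b m ^ n - 1 ∈
      (SGA3b.torsionIdeal R A n).map (Algebra.TensorProduct.includeRight : A →ₐ[R] S ⊗[R] A) := by
  have := powConv_sub_mem R A S n (g.b m)
  rwa [powConv_groupLike (g.gl m), (g.gl m).counit_eq_one, map_one] at this

end powConv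

section quot

variable {R A S : Type u} [CommRing R] [CommRing A] [HopfAlgebra R A] [CommRing S] [Algebra R S]
  {M : Type*} [CommGroup M] (g : GBasis S (S ⊗[R] A) M) (n : ℕ)

/-- the quotient `M/M^n`. -/
abbrev Q (M : Type*) [CommGroup M] (n : ℕ) := M ⧸ (powMonoidHom n : M →* M).range

lemma finite_Q (M : Type*) [CommGroup M] [Group.FG M] (n : ℕ) (hn : 0 < n) : Finite (Q M n) := by
  apply CommGroup.finite_of_fg_isMulTorsion
  intro x
  rw [isOfFinOrder_iff_pow_eq_one]
  refine ⟨n, hn, ?_⟩
  obtain ⟨y, rfl⟩ := QuotientGroup.mk_surjective x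
  rw [← QuotientGroup.mk_pow]
  exact (QuotientGroup.eq_one_iff _).mpr ⟨y, rfl⟩

/-- `S ⊗ A → S[M/n]` -/
noncomputable def toQ : S ⊗[R] A →ₐ[S] MonoidAlgebra S (Q M n) :=
  (MonoidAlgebra.mapDomainAlgHom S S (QuotientGroup.mk' (powMonoidHom n : M →* M).range)).comp
    (g.bialgEquiv.symm : S ⊗[R] A ≃ₐ[S] MonoidAlgebra S M).toAlgHom

@[simp] lemma toQ_b (m : M) : toQ g n (g.b m) = MonoidAlgebra.single (QuotientGroup.mk m) 1 := by
  have h : (g.bialgEquiv.symm : S ⊗[R] A ≃ₐ[S] MonoidAlgebra S M).toAlgHom (g.b m) =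
      MonoidAlgebra.single m 1 := by
    have : g.b m = g.bialgEquiv (MonoidAlgebra.single m 1) := by simp
    rw [this]
    exact g.bialgEquiv.symm_apply_apply _
  rw [toQ, AlgHom.comp_apply, h]
  simp

/-- `A/J_n → S[M/n]` -/
noncomputable def quotToQ : A ⧸ SGA3b.torsionIdeal R A n →ₐ[R] MonoidAlgebra S (Q M n) :=
  Ideal.Quotient.liftₐ _ (((toQ g n).restrictScalars R).comp
      (Algebra.TensorProduct.includeRight : A →ₐ[R] S ⊗[R] A)) (by
    intro a ha
    apply map_torsionIdeal_eq_zero S g n (toQ g n) _ ha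
    intro m
    rw [toQ_b, MonoidAlgebra.single_pow, one_pow, ← QuotientGroup.mk_pow]
    have : ((m ^ n : M) : Q M n) = 1 := (QuotientGroup.eq_one_iff _).mpr ⟨m, rfl⟩
    rw [this]
    rfl)

lemma quotToQ_mk (a : A) : quotToQ g n (Ideal.Quotient.mk _ a) = toQ g n (1 ⊗ₜ a) := rfl

/-- `S ⊗ (A/J_n) → S[M/n]` -/
noncomputable def bcQuotToQ : S ⊗[R] (A ⧸ SGA3b.torsionIdeal R A n) →ₐ[S] MonoidAlgebra S (Q M n) :=
  Algebra.TensorProduct.lift (Algebra.ofId _ _) (quotToQ g n) (fun _ _ => .all _ _)

/-- the projection `S ⊗ A → S ⊗ (A/J_n)` -/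
noncomputable def proj (R A S : Type u) [CommRing R] [CommRing A] [HopfAlgebra R A] [CommRing S] [Algebra R S] (n : ℕ) :
    S ⊗[R] A →ₐ[S] S ⊗[R] (A ⧸ SGA3b.torsionIdeal R A n) :=
  Algebra.TensorProduct.map (AlgHom.id S S) (Ideal.Quotient.mkₐ R _)

lemma bcQuotToQ_proj (x : S ⊗[R] A) : bcQuotToQ g n (proj R A S n x) = toQ g n x := by
  have : (bcQuotToQ g n).comp (proj R A S n) = toQ g n := by
    ext a
    simp [bcQuotToQ, proj, quotToQ_mk]
  exact DFunLike.congr_fun this x

lemma proj_eq_zero {x : S ⊗[R] A}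
    (hx : x ∈ (SGA3b.torsionIdeal R A n).map (Algebra.TensorProduct.includeRight : A →ₐ[R] S ⊗[R] A)) :
    proj R A S n x = 0 := by
  have : (SGA3b.torsionIdeal R A n).map (Algebra.TensorProduct.includeRight : A →ₐ[R] S ⊗[R] A) ≤
      RingHom.ker (proj R A S n) := by
    rw [Ideal.map_le_iff_le_comap]
    intro a ha
    rw [Ideal.mem_comap, RingHom.mem_ker]
    simp [proj, Ideal.Quotient.eq_zero_iff_mem.mpr ha]
  exact this hx

/-- `M/n → S ⊗ (A/J_n)` -/
noncomputable def qHom : Q M n →* S ⊗[R] (A ⧸ SGA3b.torsionIdeal R A n) :=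
  QuotientGroup.lift _ ((proj R A S n : S ⊗[R] A →* _).comp g.hom) (by
    rintro _ ⟨m, rfl⟩
    have h := proj_eq_zero n (pow_sub_one_mem S g n m)
    rw [map_sub, map_one, sub_eq_zero] at h
    rw [MonoidHom.mem_ker, MonoidHom.comp_apply, powMonoidHom_apply, map_pow]
    exact h)

@[simp] lemma qHom_mk (m : M) : qHom g n (QuotientGroup.mk m) = proj R A S n (g.b m) := rfl

/-- `S[M/n] → S ⊗ (A/J_n)` -/
noncomputable def qToBC : MonoidAlgebra S (Q M n) →ₐ[S] S ⊗[R] (A ⧸ SGA3b.torsionIdeal R A n) :=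
  MonoidAlgebra.lift S _ _ (qHom g n)

@[simp] lemma qToBC_single (m : M) :
    qToBC g n (MonoidAlgebra.single (QuotientGroup.mk m) 1) = proj R A S n (g.b m) := by
  simp [qToBC]

lemma qToBC_toQ (x : S ⊗[R] A) : qToBC g n (toQ g n x) = proj R A S n x := by
  have : (qToBC g n).comp (toQ g n) = proj R A S n := by
    apply AlgHom.toLinearMap_injective
    apply g.b.ext
    intro m
    simp
  exact DFunLike.congr_fun this x

lemma proj_surjective : Function.Surjective (proj R A S n) := by
  intro y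
  induction y using TensorProduct.induction_on with
  | zero => exact ⟨0, map_zero _⟩
  | add y z hy hz =>
    obtain ⟨y', rfl⟩ := hy
    obtain ⟨z', rfl⟩ := hz
    exact ⟨y' + z', map_add _ _ _⟩
  | tmul s b =>
    obtain ⟨a, rfl⟩ := Ideal.Quotient.mk_surjective b
    exact ⟨s ⊗ₜ a, rfl⟩

/-- the isomorphism `S ⊗ (A/J_n) = S[M/n]` -/
noncomputable def equivQ : S ⊗[R] (A ⧸ SGA3b.torsionIdeal R A n) ≃ₐ[S] MonoidAlgebra S (Q M n) :=
  AlgEquiv.ofAlgHom (bcQuotToQ g n) (qToBC g n) (by
    apply MonoidAlgebra.algHom_ext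
    · intro x
      obtain ⟨m, rfl⟩ := QuotientGroup.mk_surjective x
      rw [AlgHom.comp_apply, qToBC_single, bcQuotToQ_proj, toQ_b, AlgHom.id_apply]
    · exact Subsingleton.elim _ _) (by
    apply AlgHom.ext
    intro x
    obtain ⟨y, rfl⟩ := proj_surjective (R := R) (A := A) (S := S) n x
    rw [AlgHom.comp_apply, bcQuotToQ_proj, qToBC_toQ, AlgHom.id_apply])

lemma equivQ_proj_b (m : M) : equivQ g n (proj R A S n (g.b m)) = MonoidAlgebra.single (QuotientGroup.mk m) 1 := by
  rw [← toQ_b g n m, ← bcQuotToQ_proj]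
  rfl

include g in
lemma finite_quot [Module.FaithfullyFlat R S] [Group.FG M] (hn : 0 < n) :
    Module.Finite R (A ⧸ SGA3b.torsionIdeal R A n) := by
  have := finite_Q M n hn
  have : Module.Finite S (S ⊗[R] (A ⧸ SGA3b.torsionIdeal R A n)) :=
    Module.Finite.of_surjective (equivQ g n).symm.toLinearEquiv.toLinearMap (equivQ g n).symm.surjective
  exact Module.Finite.of_finite_tensorProduct_of_faithfullyFlat S

include g in
lemma flat_quot [Module.FaithfullyFlat R S] :
    Module.Flat R (A ⧸ SGA3b.torsionIdeal R A n) := by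
  have : Module.Flat S (S ⊗[R] (A ⧸ SGA3b.torsionIdeal R A n)) :=
    Module.Flat.of_linearEquiv (equivQ g n).toLinearEquiv
  exact Module.Flat.of_flat_tensorProduct R _ S

include g in
lemma finitePresentation_quot [Module.FaithfullyFlat R S] [Group.FG M] (hn : 0 < n) :
    Module.FinitePresentation R (A ⧸ SGA3b.torsionIdeal R A n) := by
  have := finite_Q M n hn
  have h1 := finite_quot g n hn
  have h3 : Module.FinitePresentation S (MonoidAlgebra S (Q M n)) := by
    have : Module.Free S (MonoidAlgebra S (Q M n)) := Module.Free.of_basis (MonoidAlgebra.basis _ _)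
    have : Module.Finite S (MonoidAlgebra S (Q M n)) := Module.Finite.of_basis (MonoidAlgebra.basis _ _)
    exact Module.finitePresentation_of_projective _ _
  have : Module.FinitePresentation S (S ⊗[R] (A ⧸ SGA3b.torsionIdeal R A n)) :=
    Module.FinitePresentation.of_equiv (equivQ g n).symm.toLinearEquiv
  have h2 : Algebra.FinitePresentation R (A ⧸ SGA3b.torsionIdeal R A n) :=
    Algebra.FinitePresentation.of_finitePresentation_tensorProduct_of_faithfullyFlat S
  exact Module.FinitePresentation.of_finite_of_finitePresentation R _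

include g in
lemma projective_quot [Module.FaithfullyFlat R S] [Group.FG M] (hn : 0 < n) :
    Module.Projective R (A ⧸ SGA3b.torsionIdeal R A n) := by
  have := finitePresentation_quot g n hn
  have := flat_quot g n
  exact Module.Flat.projective_of_finitePresentation

include g in
lemma exists_dualBasis [Module.FaithfullyFlat R S] [Group.FG M] (hn : 0 < n) :
    ∃ (k : ℕ) (b : Fin k → A) (β : Fin k → (A →ₗ[R] R)),
      (∀ i, ∀ j ∈ SGA3b.torsionIdeal R A n, β i j = 0) ∧
      ∀ a, a - ∑ i, β i a • b i ∈ SGA3b.torsionIdeal R A n := by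
  have := finite_quot g n hn
  have := projective_quot g n hn
  obtain ⟨k, f, hf⟩ := Module.Finite.exists_fin' R (A ⧸ SGA3b.torsionIdeal R A n)
  obtain ⟨s, hs⟩ := Module.projective_lifting_property f LinearMap.id hf
  choose b hb using fun i : Fin k => Ideal.Quotient.mk_surjective (I := SGA3b.torsionIdeal R A n) (f (Pi.single i 1))
  refine ⟨k, b, fun i => (LinearMap.proj i ∘ₗ s) ∘ₗ (Ideal.Quotient.mkₐ R (SGA3b.torsionIdeal R A n)).toLinearMap, ?_, ?_⟩
  · intro i j hj
    simp [Ideal.Quotient.eq_zero_iff_mem.mpr hj]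
  · intro a
    rw [← Ideal.Quotient.eq_zero_iff_mem, map_sub, map_sum, sub_eq_zero]
    have h1 := LinearMap.congr_fun hs (Ideal.Quotient.mk (SGA3b.torsionIdeal R A n) a)
    simp only [LinearMap.comp_apply, LinearMap.id_apply] at h1
    have h2 : s (Ideal.Quotient.mk (SGA3b.torsionIdeal R A n) a) =
        ∑ i, (s (Ideal.Quotient.mk (SGA3b.torsionIdeal R A n) a) i) • (Pi.single i (1 : R) : Fin k → R) := by
      ext j
      simp [Finset.sum_apply, Pi.single_apply]
    rw [← h1, h2, map_sum]
    refine Finset.sum_congr rfl fun i _ => ?_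
    rw [map_smul, ← hb i]
    rfl

end quot

end Groth.Agent.Sga3A.MTTorsion
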