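import Groth.Agent.Hensel.LocalSplit
import Groth.Agent.Sga3A.MTTorsion
import Groth.Agent.Sga3A.FibDef

/-!
# A finite free Hopf quotient of the torsion of a group that is diagonalisable modulo every
nonzero element (for S2975)
-/

set_option autoImplicit false
universe u

open TensorProduct IsLocalRing

namespace Groth.Agent.Sga3A.FibTors1

/-- quasi-finiteness at a point of a finite closed fibre -/
theorem quasiFiniteAt_of_finite_fibre {R D : Type u} [CommRing R] [IsLocalRing R] [CommRing D]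
    [Algebra R D] [Algebra.FiniteType R D]
    (hfin : Module.Finite R (D ⧸ (maximalIdeal R).map (algebraMap R D))) (q : Ideal D)
    [q.IsPrime] (hq : q.LiesOver (maximalIdeal R)) : Algebra.QuasiFiniteAt R q := by
  have : Algebra.WeaklyQuasiFiniteAt R q := by
    have h : q.under R = maximalIdeal R := hq.over.symm
    have h2 : Module.Finite R (D ⧸ (q.under R).map (algebraMap R D)) := by rw [h]; exact hfin
    infer_instance
  exact .of_weaklyQuasiFiniteAt _

/-- If `C/rC` is finite for some `r` in the maximal ideal, the part with empty closed fibre -/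
theorem exists_split {R C : Type u} [CommRing R] [HenselianLocalRing R] [CommRing C]
    [Algebra R C] [Algebra.FiniteType R C]
    (hfin : Module.Finite R (C ⧸ (maximalIdeal R).map (algebraMap R C))) :
    ∃ e : C, IsIdempotentElem e ∧ Module.Finite R (C ⧸ Ideal.span ({1 - e} : Set C)) ∧
      (maximalIdeal R).map (algebraMap R C) ⊔ Ideal.span {e} = ⊤ := by
  obtain ⟨e, he, hf, H⟩ := Groth.Agent.Hensel.LocalSplit.finiteType_split R C
  refine ⟨e, he, hf, ?_⟩
  by_contra hne
  obtain ⟨q, hq, hle⟩ := Ideal.exists_le_maximal _ hne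
  have hle1 : (maximalIdeal R).map (algebraMap R C) ≤ q := le_sup_left.trans hle
  have hle2 : Ideal.span {e} ≤ q := le_sup_right.trans hle
  have hq' : (q.map (Ideal.Quotient.mk (Ideal.span {e}))).IsMaximal :=
    Ideal.IsMaximal.map_of_surjective_of_ker_le Ideal.Quotient.mk_surjective
      (by rwa [Ideal.mk_ker])
  have hlo : (q.map (Ideal.Quotient.mk (Ideal.span {e}))).LiesOver (maximalIdeal R) := by
    refine ⟨?_⟩
    refine (IsLocalRing.maximalIdeal.isMaximal R).eq_of_le
      (Ideal.comap_isPrime _ (q.map (Ideal.Quotient.mk (Ideal.span {e})))).ne_top ?_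
    intro x hx
    rw [Ideal.mem_comap]
    exact Ideal.mem_map_of_mem _ (hle1 (Ideal.mem_map_of_mem _ hx))
  refine H _ hlo (quasiFiniteAt_of_finite_fibre ?_ _ hlo)
  let f : (C ⧸ (maximalIdeal R).map (algebraMap R C)) →ₐ[R]
      ((C ⧸ Ideal.span {e}) ⧸ (maximalIdeal R).map (algebraMap R (C ⧸ Ideal.span {e}))) :=
    Ideal.Quotient.liftₐ _ ((Ideal.Quotient.mkₐ R _).comp (Ideal.Quotient.mkₐ R _)) (by
      intro a ha
      have h1 : (maximalIdeal R).map (algebraMap R C) ≤ RingHom.ker
          ((Ideal.Quotient.mkₐ R ((maximalIdeal R).map (algebraMap R (C ⧸ Ideal.span {e})))).comp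
            (Ideal.Quotient.mkₐ R (Ideal.span {e}))) := by
        rw [Ideal.map_le_iff_le_comap]
        intro x hx
        rw [Ideal.mem_comap, RingHom.mem_ker, AlgHom.commutes]
        rw [IsScalarTower.algebraMap_apply R (C ⧸ Ideal.span {e})]
        exact Ideal.Quotient.eq_zero_iff_mem.mpr (Ideal.mem_map_of_mem _ hx)
      exact h1 ha)
  refine Module.Finite.of_surjective f.toLinearMap ?_
  intro y
  obtain ⟨y, rfl⟩ := Ideal.Quotient.mk_surjective y
  obtain ⟨y, rfl⟩ := Ideal.Quotient.mk_surjective y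
  exact ⟨Ideal.Quotient.mk _ y, rfl⟩

/-- the intersection of the ideals `rR`, `r` nonzero in the maximal ideal, is zero -/
theorem eq_zero_of_forall_dvd {R : Type u} [CommRing R] [IsDomain R] [IsLocalRing R]
    (hR : ¬ IsField R) {x : R} (h : ∀ r ∈ maximalIdeal R, r ≠ 0 → r ∣ x) : x = 0 := by
  by_contra hx
  obtain ⟨t, ht, ht0⟩ : ∃ t ∈ maximalIdeal R, t ≠ 0 := by
    have h1 : maximalIdeal R ≠ ⊥ := fun h => hR (IsLocalRing.isField_iff_maximalIdeal_eq.mpr h)
    exact Submodule.exists_mem_ne_zero_of_ne_bot h1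
  obtain ⟨y, hy⟩ := h (t * x) (Ideal.mul_mem_right _ _ ht) (mul_ne_zero ht0 hx)
  have h2 : x * (1 - t * y) = 0 := by linear_combination hy
  rcases mul_eq_zero.mp h2 with h3 | h3
  · exact hx h3
  · exact (IsLocalRing.mem_maximalIdeal _).mp ht (IsUnit.of_mul_eq_one y (by linear_combination -h3))

theorem one_tmul_eq_zero_iff {R C : Type u} [CommRing R] [CommRing C] [Algebra R C] (I : Ideal R)
    (c : C) : (1 : R ⧸ I) ⊗ₜ[R] c = 0 ↔ c ∈ I.map (algebraMap R C) := by
  rw [← Submodule.restrictScalars_mem R (I.map (algebraMap R C)), ← Ideal.smul_top_eq_map,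
    ← LinearMap.ker_tensorProductMk]
  rfl

theorem one_tmul_surjective {R C : Type u} [CommRing R] [CommRing C] [Algebra R C] (I : Ideal R)
    (x : (R ⧸ I) ⊗[R] C) : ∃ c : C, (1 : R ⧸ I) ⊗ₜ[R] c = x := by
  induction x using TensorProduct.induction_on with
  | zero => exact ⟨0, by simp⟩
  | tmul s b =>
    obtain ⟨s, rfl⟩ := Ideal.Quotient.mk_surjective s
    refine ⟨s • b, ?_⟩
    rw [← TensorProduct.smul_tmul]
    congr 1
    rw [Algebra.smul_def, mul_one]; rfl
  | add x y hx hy =>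
    obtain ⟨a, ha⟩ := hx
    obtain ⟨b, hb⟩ := hy
    exact ⟨a + b, by rw [TensorProduct.tmul_add, ha, hb]⟩

theorem exists_ideal {R C : Type u} [CommRing R] [IsDomain R] [HenselianLocalRing R]
    (hR : ¬ IsField R) [CommRing C] [Algebra R C] [Algebra.FiniteType R C] (n : ℕ)
    (h : ∀ r ∈ maximalIdeal R, r ≠ 0 → Nonempty (Module.Basis (Fin n) (R ⧸ Ideal.span {r})
      ((R ⧸ Ideal.span {r}) ⊗[R] C))) :
    ∃ J : Ideal C, Module.Finite R (C ⧸ J) ∧ Module.Free R (C ⧸ J) ∧
      ∀ r ∈ maximalIdeal R, r ≠ 0 → J ≤ Ideal.span {algebraMap R C r} := by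
  classical
  -- finiteness of quotients of `C/rC`
  have hfinq : ∀ r ∈ maximalIdeal R, r ≠ 0 → ∀ K : Ideal C, algebraMap R C r ∈ K →
      Module.Finite R (C ⧸ K) := by
    intro r hr hr0 K hK
    obtain ⟨b⟩ := h r hr hr0
    have h1 : Module.Finite (R ⧸ Ideal.span {r}) ((R ⧸ Ideal.span {r}) ⊗[R] C) :=
      Module.Finite.of_basis b
    have h2 : Module.Finite R ((R ⧸ Ideal.span {r}) ⊗[R] C) :=
      Module.Finite.trans (R ⧸ Ideal.span {r}) _
    have hr' : ∀ a ∈ Ideal.span {r}, algebraMap R (C ⧸ K) a = 0 := by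
      intro a ha
      obtain ⟨a, rfl⟩ := Ideal.mem_span_singleton'.mp ha
      rw [map_mul, IsScalarTower.algebraMap_apply R C (C ⧸ K) r]
      rw [show algebraMap C (C ⧸ K) (algebraMap R C r) = 0 from Ideal.Quotient.eq_zero_iff_mem.mpr hK,
        mul_zero]
    let f : (R ⧸ Ideal.span {r}) ⊗[R] C →ₐ[R] C ⧸ K :=
      Algebra.TensorProduct.lift
        (Ideal.Quotient.liftₐ (Ideal.span {r}) (Algebra.ofId R (C ⧸ K)) hr')
        (Ideal.Quotient.mkₐ R K) (fun _ _ => .all _ _)
    refine Module.Finite.of_surjective f.toLinearMap ?_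
    intro y
    obtain ⟨y, rfl⟩ := Ideal.Quotient.mk_surjective y
    refine ⟨1 ⊗ₜ y, ?_⟩
    change f (1 ⊗ₜ y) = _
    simp only [f, Algebra.TensorProduct.lift_tmul, map_one, one_mul]
    rfl
  obtain ⟨t, ht, ht0⟩ : ∃ t ∈ maximalIdeal R, t ≠ 0 := by
    have h1 : maximalIdeal R ≠ ⊥ := fun h => hR (IsLocalRing.isField_iff_maximalIdeal_eq.mpr h)
    exact Submodule.exists_mem_ne_zero_of_ne_bot h1
  obtain ⟨e, he, hfe, hm⟩ := exists_split (R := R) (C := C)
    (hfinq t ht ht0 _ (Ideal.mem_map_of_mem _ ht))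
  -- `(r, e) = 1`
  have htop : ∀ r ∈ maximalIdeal R, r ≠ 0 → Ideal.span {algebraMap R C r} ⊔ Ideal.span {e} = ⊤ := by
    intro r hr hr0
    set K : Ideal C := Ideal.span {algebraMap R C r} ⊔ Ideal.span {e} with hK
    have hfK : Module.Finite R (C ⧸ K) := hfinq r hr hr0 K
      ((le_sup_left : _ ≤ K) (Ideal.mem_span_singleton_self _))
    have h1 : (⊤ : Submodule R (C ⧸ K)) ≤ maximalIdeal R • (⊤ : Submodule R (C ⧸ K)) := by
      have h2 : (maximalIdeal R).map (algebraMap R (C ⧸ K)) = ⊤ := by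
        rw [IsScalarTower.algebraMap_eq R C (C ⧸ K), ← Ideal.map_map]
        have h3 := congrArg (Ideal.map (algebraMap C (C ⧸ K))) hm
        rw [Ideal.map_sup, Ideal.map_top] at h3
        have h4 : Ideal.map (algebraMap C (C ⧸ K)) (Ideal.span {e}) = ⊥ := by
          rw [Ideal.map_span, Set.image_singleton, Ideal.span_singleton_eq_bot]
          exact Ideal.Quotient.eq_zero_iff_mem.mpr
            ((le_sup_right : _ ≤ K) (Ideal.mem_span_singleton_self _))
        rw [h4, sup_bot_eq] at h3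
        exact h3
      rw [Ideal.smul_top_eq_map, h2]
      exact le_rfl
    have h3 := Submodule.eq_bot_of_le_smul_of_le_jacobson_bot (maximalIdeal R)
      (⊤ : Submodule R (C ⧸ K)) hfK.fg_top h1 (IsLocalRing.maximalIdeal_le_jacobson _)
    rw [Ideal.eq_top_iff_one, ← Ideal.Quotient.eq_zero_iff_mem]
    exact (Submodule.eq_bot_iff _).mp h3 _ trivial
  have hJ : ∀ r ∈ maximalIdeal R, r ≠ 0 →
      Ideal.span {1 - e} ≤ Ideal.span {algebraMap R C r} := by
    intro r hr hr0
    rw [Ideal.span_singleton_le_iff_mem]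
    have h1 : (1 : C) ∈ Ideal.span {algebraMap R C r} ⊔ Ideal.span {e} := by
      rw [htop r hr hr0]; trivial
    obtain ⟨x, hx, y, hy, hxy⟩ := Submodule.mem_sup.mp h1
    obtain ⟨y, rfl⟩ := Ideal.mem_span_singleton'.mp hy
    have h2 : 1 - e = (1 - e) * x := by
      have hee : e * e = e := he
      linear_combination (-(1 - e)) * hxy + (- y) * hee
    rw [h2]
    exact Ideal.mul_mem_left _ _ hx
  refine ⟨Ideal.span {1 - e}, hfe, ?_, hJ⟩
  -- a basis
  obtain ⟨b⟩ := h t ht ht0
  choose v hv using fun i => one_tmul_surjective (Ideal.span {t}) (b i)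
  have hdecomp : ∀ c : C, ∃ a : Fin n → R, c - ∑ i, a i • v i ∈ Ideal.span {algebraMap R C t} := by
    intro c
    choose a ha using fun i => Ideal.Quotient.mk_surjective (b.repr (1 ⊗ₜ c) i)
    refine ⟨a, ?_⟩
    have h1 : (1 : R ⧸ Ideal.span {t}) ⊗ₜ[R] (c - ∑ i, a i • v i) = 0 := by
      rw [TensorProduct.tmul_sub, TensorProduct.tmul_sum, sub_eq_zero]
      conv_lhs => rw [← b.sum_repr (1 ⊗ₜ c)]
      refine Finset.sum_congr rfl fun i _ => ?_
      rw [← ha i, ← hv i, TensorProduct.tmul_smul]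
      rfl
    rw [one_tmul_eq_zero_iff, Ideal.map_span, Set.image_singleton] at h1
    exact h1
  set w : Fin n → C ⧸ Ideal.span {1 - e} := fun i => Ideal.Quotient.mk _ (v i) with hw
  have hspan : ⊤ ≤ Submodule.span R (Set.range w) := by
    refine Submodule.le_of_le_smul_of_le_jacobson_bot (I := maximalIdeal R) hfe.fg_top
      (IsLocalRing.maximalIdeal_le_jacobson _) ?_
    intro x _
    obtain ⟨c, rfl⟩ := Ideal.Quotient.mk_surjective x
    obtain ⟨a, ha⟩ := hdecomp c
    have h1 : Ideal.Quotient.mk (Ideal.span {1 - e}) c =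
        ∑ i, a i • w i + Ideal.Quotient.mk (Ideal.span {1 - e}) (c - ∑ i, a i • v i) := by
      rw [map_sub, map_sum]
      simp only [hw]
      have h2 : ∀ i, Ideal.Quotient.mk (Ideal.span {1 - e}) (a i • v i) =
          a i • Ideal.Quotient.mk (Ideal.span {1 - e}) (v i) := fun i => rfl
      simp only [h2]
      ring
    rw [h1]
    refine Submodule.add_mem_sup ?_ ?_
    · exact Submodule.sum_mem _ fun i _ => Submodule.smul_mem _ _ (Submodule.subset_span ⟨i, rfl⟩)
    · obtain ⟨d, hd⟩ := Ideal.mem_span_singleton'.mp ha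
      rw [← hd, mul_comm, ← Algebra.smul_def]
      exact Submodule.smul_mem_smul ht
        (Submodule.mem_top (x := Ideal.Quotient.mk (Ideal.span {1 - e}) d))
  have hli : LinearIndependent R w := by
    rw [Fintype.linearIndependent_iff]
    intro a ha i
    refine eq_zero_of_forall_dvd hR fun r hr hr0 => ?_
    obtain ⟨b'⟩ := h r hr hr0
    -- the surjective endomorphism
    let ψ : (Fin n → R ⧸ Ideal.span {r}) →ₗ[R ⧸ Ideal.span {r}] (R ⧸ Ideal.span {r}) ⊗[R] C :=
      Fintype.linearCombination (R ⧸ Ideal.span {r}) (fun i => (1 : R ⧸ Ideal.span {r}) ⊗ₜ[R] v i)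
    have hψ : ∀ a : Fin n → R, ψ (fun i => Ideal.Quotient.mk _ (a i)) = 1 ⊗ₜ (∑ i, a i • v i) := by
      intro a
      simp only [ψ, Fintype.linearCombination_apply, TensorProduct.tmul_sum, TensorProduct.tmul_smul]
      rfl
    have hψs : Function.Surjective ψ := by
      intro x
      obtain ⟨c, rfl⟩ := one_tmul_surjective _ x
      have h1 : Ideal.Quotient.mk (Ideal.span {1 - e}) c ∈ Submodule.span R (Set.range w) :=
        hspan trivial
      obtain ⟨a, ha⟩ := (Submodule.mem_span_range_iff_exists_fun R).mp h1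
      refine ⟨fun i => Ideal.Quotient.mk _ (a i), ?_⟩
      rw [hψ, ← sub_eq_zero, ← TensorProduct.tmul_sub, one_tmul_eq_zero_iff, Ideal.map_span,
        Set.image_singleton]
      refine hJ r hr hr0 ?_
      rw [← Ideal.Quotient.eq_zero_iff_mem, map_sub, ← ha, map_sum]
      exact sub_self _
    have hinj : Function.Injective ψ := by
      have h1 : Function.Injective (b'.equivFun.toLinearMap ∘ₗ ψ) :=
        OrzechProperty.injective_of_surjective_endomorphism _
          (b'.equivFun.surjective.comp hψs)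
      intro x y hxy
      exact h1 (congrArg b'.equivFun hxy)
    have h2 : ψ (fun i => Ideal.Quotient.mk _ (a i)) = 0 := by
      rw [hψ, one_tmul_eq_zero_iff, Ideal.map_span, Set.image_singleton]
      refine hJ r hr hr0 ?_
      rw [← Ideal.Quotient.eq_zero_iff_mem, map_sum]
      exact ha
    have h3 := congrFun (hinj (h2.trans (map_zero ψ).symm)) i
    exact Ideal.mem_span_singleton.mp (Ideal.Quotient.eq_zero_iff_mem.mp h3)
  exact Module.Free.of_basis (Module.Basis.mk hli hspan)

/-- the ideal cutting out the finite part of the torsion -/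
theorem exists_ideal_torsion {R A M : Type u} [CommRing R] [IsDomain R] [HenselianLocalRing R]
    (hR : ¬ IsField R) [CommRing A] [HopfAlgebra R A] [CommGroup M] [Group.FG M]
    [Algebra.FinitePresentation R A]
    (h : ∀ r ∈ maximalIdeal R, r ≠ 0 → FibDef.DiagMod R A M (Ideal.span {r})) (l : ℕ) (hl : 0 < l) :
    ∃ I : Ideal A, SGA3b.torsionIdeal R A l ≤ I ∧
      (∀ r ∈ maximalIdeal R, r ≠ 0 →
        I ≤ SGA3b.torsionIdeal R A l ⊔ Ideal.span {algebraMap R A r}) ∧
      Module.Finite R (A ⧸ I) ∧ Module.Free R (A ⧸ I) := by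
  have hQ := MTTorsion.finite_Q M l hl
  have hft : Algebra.FiniteType R (A ⧸ SGA3b.torsionIdeal R A l) :=
    Algebra.FiniteType.of_surjective (Ideal.Quotient.mkₐ R _) (Ideal.Quotient.mkₐ_surjective R _)
  have hb : ∀ r ∈ maximalIdeal R, r ≠ 0 → Nonempty (Module.Basis
      (Fin (Nat.card (MTTorsion.Q M l))) (R ⧸ Ideal.span {r})
      ((R ⧸ Ideal.span {r}) ⊗[R] (A ⧸ SGA3b.torsionIdeal R A l))) := by
    intro r hr hr0
    obtain ⟨e⟩ := h r hr hr0
    refine ⟨((MonoidAlgebra.basis _ _).map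
      (MTTorsion.equivQ (MTBasis.GBasis.ofBialgEquiv e) l).symm.toLinearEquiv).reindex ?_⟩
    exact Finite.equivFin _
  obtain ⟨J, hJf, hJfree, hJ⟩ := exists_ideal hR _ hb
  let φ : A →ₐ[R] (A ⧸ SGA3b.torsionIdeal R A l) ⧸ J :=
    (Ideal.Quotient.mkₐ R J).comp (Ideal.Quotient.mkₐ R (SGA3b.torsionIdeal R A l))
  have hφ : Function.Surjective φ :=
    (Ideal.Quotient.mkₐ_surjective R J).comp (Ideal.Quotient.mkₐ_surjective R _)
  let ε := Ideal.quotientKerAlgEquivOfSurjective hφ
  refine ⟨RingHom.ker φ, ?_, ?_, ?_, ?_⟩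
  · intro a ha
    rw [RingHom.mem_ker]
    change Ideal.Quotient.mk J (Ideal.Quotient.mk (SGA3b.torsionIdeal R A l) a) = 0
    rw [Ideal.Quotient.eq_zero_iff_mem.mpr ha, map_zero]
  · intro r hr hr0 a ha
    rw [RingHom.mem_ker] at ha
    have h1 : Ideal.Quotient.mk (SGA3b.torsionIdeal R A l) a ∈ J := Ideal.Quotient.eq_zero_iff_mem.mp ha
    obtain ⟨d, hd⟩ := Ideal.mem_span_singleton'.mp (hJ r hr hr0 h1)
    obtain ⟨d, rfl⟩ := Ideal.Quotient.mk_surjective d
    have h2 : a - d * algebraMap R A r ∈ SGA3b.torsionIdeal R A l := by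
      rw [← Ideal.Quotient.eq]
      rw [← hd]
      rfl
    rw [show a = (a - d * algebraMap R A r) + d * algebraMap R A r by ring]
    exact Submodule.add_mem_sup h2 (Ideal.mul_mem_left _ _ (Ideal.mem_span_singleton_self _))
  · exact Module.Finite.equiv ε.toLinearEquiv.symm
  · exact Module.Free.of_equiv ε.toLinearEquiv.symm

end Groth.Agent.Sga3A.FibTors1
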