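import Groth.Agent.Sga3A.MTTorsion
import Groth.Agent.Sga3A.BCIso

/-!
# The closed fibre of a finite quotient (for S2975)
-/

set_option autoImplicit false
universe u

open TensorProduct IsLocalRing

namespace Groth.Agent.Sga3A.FibTors1a

open MTTorsion MTBasis

/-- an algebra map whose composite with a surjective bialgebra map is a bialgebra map is a
bialgebra map -/
theorem exists_bialgHom_of_comp {S X Y Z : Type*} [CommRing S] [CommRing X] [CommRing Y]
    [CommRing Z] [Bialgebra S X] [Bialgebra S Y] [Bialgebra S Z] (p : X →ₐc[S] Y)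
    (hp : Function.Surjective p) (F : X →ₐc[S] Z) (F' : Y →ₐ[S] Z) (h : ∀ x, F' (p x) = F x) :
    ∃ G : Y →ₐc[S] Z, ∀ y, G y = F' y := by
  refine ⟨BialgHom.ofAlgHom F' ?_ ?_, fun y => rfl⟩
  · apply AlgHom.ext
    intro y
    obtain ⟨x, rfl⟩ := hp y
    change Coalgebra.counit (R := S) (F' (p x)) = Coalgebra.counit (R := S) (p x)
    rw [h, CoalgHomClass.counit_comp_apply, CoalgHomClass.counit_comp_apply]
  · apply AlgHom.ext
    intro y
    obtain ⟨x, rfl⟩ := hp y
    change TensorProduct.map F'.toLinearMap F'.toLinearMap (Coalgebra.comul (R := S) (p x)) =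
      Coalgebra.comul (R := S) (F' (p x))
    rw [h, ← CoalgHomClass.map_comp_comul_apply, ← CoalgHomClass.map_comp_comul_apply]
    generalize Coalgebra.comul (R := S) x = z
    induction z using TensorProduct.induction_on with
    | zero => simp
    | tmul a b =>
      simp only [TensorProduct.map_tmul]
      congr 1 <;> exact h _
    | add a b ha hb => rw [map_add, map_add, ha, hb, map_add]

theorem exists_equiv {R A M B : Type u} [CommRing R] [IsLocalRing R] [CommRing A] [HopfAlgebra R A]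
    [CommGroup M] [CommRing B] [Bialgebra R B] (l : ℕ)
    (e₀ : (ResidueField R ⊗[R] A) ≃ₐc[ResidueField R] MonoidAlgebra (ResidueField R) M)
    (π : A →ₐc[R] B) (hπ : Function.Surjective π)
    (h0 : ∀ a ∈ SGA3b.torsionIdeal R A l, π a = 0)
    (h1 : ∀ a, π a = 0 → a ∈ SGA3b.torsionIdeal R A l ⊔ (maximalIdeal R).map (algebraMap R A)) :
    ∃ eB : (ResidueField R ⊗[R] B) ≃ₐc[ResidueField R]
        MonoidAlgebra (ResidueField R) (M ⧸ (powMonoidHom l : M →* M).range),
      ∀ a, eB (1 ⊗ₜ π a) = MonoidAlgebra.mapDomainBialgHom _ (QuotientGroup.mk' _) (e₀ (1 ⊗ₜ a)) := by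
  set κ := ResidueField R
  let g : GBasis κ (κ ⊗[R] A) M := GBasis.ofBialgEquiv e₀
  let F : κ ⊗[R] A →ₐc[κ] MonoidAlgebra κ (Q M l) :=
    (MonoidAlgebra.mapDomainBialgHom κ (QuotientGroup.mk' _)).comp (e₀ : κ ⊗[R] A →ₐc[κ] MonoidAlgebra κ M)
  have hF : ∀ x, F x = toQ g l x := by
    intro x
    have : (F : κ ⊗[R] A →ₐ[κ] MonoidAlgebra κ (Q M l)).toLinearMap = (toQ g l).toLinearMap := by
      refine g.b.ext fun m => ?_
      change F (g.b m) = toQ g l (g.b m)
      rw [toQ_b]
      change MonoidAlgebra.mapDomainBialgHom κ (QuotientGroup.mk' _)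
        (e₀ (e₀.symm (MonoidAlgebra.single m 1))) = _
      rw [BialgEquiv.apply_symm_apply]
      simp
    exact LinearMap.congr_fun this x
  -- the map `κ ⊗ B → κ[Q]`
  have hkill : ∀ a : A, π a = 0 → F (1 ⊗ₜ a) = 0 := by
    intro a ha
    obtain ⟨s, hs, c, hc, rfl⟩ := Submodule.mem_sup.mp (h1 a ha)
    rw [TensorProduct.tmul_add, map_add]
    have e1 : F (1 ⊗ₜ s) = 0 := by
      rw [hF, ← quotToQ_mk, Ideal.Quotient.eq_zero_iff_mem.mpr hs, map_zero]
    have e2 : F (1 ⊗ₜ c) = 0 := by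
      have : (maximalIdeal R).map (algebraMap R A) ≤ RingHom.ker
          ((F : κ ⊗[R] A →ₐ[κ] MonoidAlgebra κ (Q M l)).toRingHom.comp
            (Algebra.TensorProduct.includeRight : A →ₐ[R] κ ⊗[R] A).toRingHom) := by
        rw [Ideal.map_le_iff_le_comap]
        intro x hx
        rw [Ideal.mem_comap, RingHom.mem_ker]
        change F ((1 : κ) ⊗ₜ[R] algebraMap R A x) = 0
        rw [Algebra.algebraMap_eq_smul_one, ← TensorProduct.smul_tmul, Algebra.smul_def, mul_one]
        have : algebraMap R κ x = 0 := by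
          rw [IsLocalRing.ResidueField.algebraMap_eq, IsLocalRing.residue_eq_zero_iff]
          exact hx
        rw [this, TensorProduct.zero_tmul, map_zero]
      exact this hc
    rw [e1, e2, add_zero]
  let f₀ : B →ₐ[R] MonoidAlgebra κ (Q M l) :=
    (Ideal.Quotient.liftₐ (RingHom.ker (π : A →ₐ[R] B))
      (((F : κ ⊗[R] A →ₐ[κ] MonoidAlgebra κ (Q M l)).restrictScalars R).comp
        (Algebra.TensorProduct.includeRight : A →ₐ[R] κ ⊗[R] A)) (fun a ha => hkill a ha)).comp
      (Ideal.quotientKerAlgEquivOfSurjective (f := (π : A →ₐ[R] B)) hπ).symm.toAlgHom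
  have hf₀ : ∀ a, f₀ (π a) = F (1 ⊗ₜ a) := by
    intro a
    have h2 : (Ideal.quotientKerAlgEquivOfSurjective (f := (π : A →ₐ[R] B)) hπ).symm (π a) =
        Ideal.Quotient.mk _ a := by
      rw [AlgEquiv.symm_apply_eq]; rfl
    simp only [f₀, AlgHom.comp_apply]
    erw [h2]
    rfl
  let F' : κ ⊗[R] B →ₐ[κ] MonoidAlgebra κ (Q M l) :=
    Algebra.TensorProduct.lift (Algebra.ofId _ _) f₀ (fun _ _ => .all _ _)
  have hF' : ∀ x, F' (BCIso.mapBialg κ π x) = F x := by
    intro x
    have : F'.comp (BCIso.mapBialg κ π : κ ⊗[R] A →ₐ[κ] κ ⊗[R] B) =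
        (F : κ ⊗[R] A →ₐ[κ] MonoidAlgebra κ (Q M l)) := by
      apply Algebra.TensorProduct.ext (Subsingleton.elim _ _)
      apply AlgHom.ext
      intro a
      change F' (1 ⊗ₜ π a) = F (1 ⊗ₜ a)
      simp only [F', Algebra.TensorProduct.lift_tmul, map_one, one_mul]
      exact hf₀ a
    exact DFunLike.congr_fun this x
  have hπs : Function.Surjective (BCIso.mapBialg κ π) := by
    intro y
    induction y using TensorProduct.induction_on with
    | zero => exact ⟨0, map_zero _⟩
    | tmul s b =>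
      obtain ⟨a, rfl⟩ := hπ b
      exact ⟨s ⊗ₜ a, rfl⟩
    | add y z hy hz =>
      obtain ⟨y', rfl⟩ := hy
      obtain ⟨z', rfl⟩ := hz
      exact ⟨y' + z', map_add _ _ _⟩
  obtain ⟨G, hG⟩ := exists_bialgHom_of_comp (BCIso.mapBialg κ π) hπs F F' hF'
  have hGF : ∀ x, G (BCIso.mapBialg κ π x) = F x := fun x => (hG _).trans (hF' x)
  have hGs : Function.Surjective G := by
    intro z
    have h2 : Function.Surjective F := by
      intro z
      induction z using MonoidAlgebra.induction_linear with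
      | zero => exact ⟨0, map_zero _⟩
      | add y z hy hz =>
        obtain ⟨y', rfl⟩ := hy
        obtain ⟨z', rfl⟩ := hz
        exact ⟨y' + z', map_add _ _ _⟩
      | single q c =>
        obtain ⟨m, rfl⟩ := QuotientGroup.mk_surjective q
        refine ⟨c • g.b m, ?_⟩
        rw [map_smul, hF, toQ_b, MonoidAlgebra.smul_single, smul_eq_mul, mul_one]
    obtain ⟨x, rfl⟩ := h2 z
    exact ⟨_, hGF x⟩
  have hGi : Function.Injective G := by
    rw [injective_iff_map_eq_zero]
    intro y hy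
    obtain ⟨x, rfl⟩ := hπs y
    rw [hGF, hF] at hy
    have h2 : proj R A κ l x = 0 := by rw [← qToBC_toQ g l x, hy, map_zero]
    let p' : κ ⊗[R] (A ⧸ SGA3b.torsionIdeal R A l) →ₐ[κ] κ ⊗[R] B :=
      Algebra.TensorProduct.map (AlgHom.id κ κ)
        (Ideal.Quotient.liftₐ _ (π : A →ₐ[R] B) (fun a ha => h0 a ha))
    have h3 : p' (proj R A κ l x) = BCIso.mapBialg κ π x := by
      have : p'.comp (proj R A κ l) = (BCIso.mapBialg κ π : κ ⊗[R] A →ₐ[κ] κ ⊗[R] B) := by
        ext a
        rfl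
      exact DFunLike.congr_fun this x
    rw [← h3, h2, map_zero]
  refine ⟨BialgEquiv.ofBijective G ⟨hGi, hGs⟩, fun a => ?_⟩
  exact hGF (1 ⊗ₜ a)

end Groth.Agent.Sga3A.FibTors1a
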