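import Groth.Agent.Sga3A.FibTors1
import Groth.Agent.Sga3A.FibTors1b

/-!
# A finite free Hopf quotient of the torsion (for S2975)
-/

set_option autoImplicit false
universe u

open TensorProduct IsLocalRing

namespace Groth.Agent.Sga3A.FibTors1

open FibDef

/-- Over a henselian local domain which is not a field, a group that is diagonalisable of type `M`
modulo every nonzero element of the maximal ideal has a finite free cocommutative quotient
bialgebra lifting `M / M^l` on the closed fibre. -/
theorem exists_finite_quotient (R A M : Type u) [CommRing R] [IsDomain R] [HenselianLocalRing R]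
    (hR : ¬ IsField R) [CommRing A] [HopfAlgebra R A] [CommGroup M] [Group.FG M] [Module.Flat R A]
    [Algebra.FinitePresentation R A]
    (_hK : SGA3b.IsMultType (FractionRing R) (FractionRing R ⊗[R] A))
    (h : ∀ r ∈ maximalIdeal R, r ≠ 0 → DiagMod R A M (Ideal.span {r}))
    (e₀ : (ResidueField R ⊗[R] A) ≃ₐc[ResidueField R] MonoidAlgebra (ResidueField R) M)
    (l : ℕ) (hl : 0 < l) :
    ∃ (B : Type u) (_ : CommRing B) (_ : Bialgebra R B) (π : A →ₐc[R] B)
      (eB : (ResidueField R ⊗[R] B) ≃ₐc[ResidueField R]
        MonoidAlgebra (ResidueField R) (M ⧸ (powMonoidHom l : M →* M).range)),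
      Function.Surjective π ∧ Module.Finite R B ∧ Module.Free R B ∧ Coalgebra.IsCocomm R B ∧
      ∀ a, eB (1 ⊗ₜ π a) =
        MonoidAlgebra.mapDomainBialgHom _ (QuotientGroup.mk' _) (e₀ (1 ⊗ₜ a)) := by
  obtain ⟨I, h1, h2, h3, h4⟩ := exists_ideal_torsion hR h l hl
  exact FibTors1b.exists_quotient_of_ideal R A M hR h e₀ l hl I h1 h2 h3 h4

end Groth.Agent.Sga3A.FibTors1
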