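import Groth.Agent.Sga3A.GLBasic

/-!
Unique lifting of group-like elements modulo nil ideals (team sga3-a).
-/

open TensorProduct

namespace Groth.Agent.Sga3A.GLLift

open BCIso GLBasic SGA3b

universe u v w x y

section MonoidAlgebra

variable {R : Type u} [CommRing R] {M : Type v} [CommMonoid M]

theorem eq_of_sub_mem_monoidAlgebra {J : Ideal R} (hJ : ∀ x ∈ J, IsNilpotent x)
    {x y : MonoidAlgebra R M} (hx : IsGroupLikeElem R x) (hy : IsGroupLikeElem R y)
    (hxy : x - y ∈ (J • ⊤ : Submodule R (MonoidAlgebra R M))) : x = y := by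
  rw [mem_smul_top_iff_coeff] at hxy
  rw [isGroupLikeElem_iff_coeff] at hx hy
  apply ext_coeff
  intro m
  apply eq_of_isNilpotent_sub_of_isIdempotentElem (hx.2.1 m) (hy.2.1 m)
  have := hxy m
  rw [GLBasic.coeff_sub] at this
  exact hJ _ this

theorem exists_lift_monoidAlgebra {J : Ideal R} (hJ : ∀ x ∈ J, IsNilpotent x)
    {x : MonoidAlgebra R M} (hx : IsGLMod J x) :
    ∃ y : MonoidAlgebra R M, IsGroupLikeElem R y ∧
      y - x ∈ (J • ⊤ : Submodule R (MonoidAlgebra R M)) := by
  classical
  obtain ⟨h1, h2⟩ := hx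
  rw [counit_eq_sum] at h1
  have h3 : ∀ m n, (if m = n then x.coeff m else 0) - x.coeff m * x.coeff n ∈ J := by
    intro m n
    have h4 := map_mem_smul_top (MonoidAlgebra.tensorEquiv R).toLinearMap h2
    rw [mem_smul_top_iff_coeff] at h4
    have h5 := h4 (m, n)
    rw [map_sub, GLBasic.coeff_sub] at h5
    change (MonoidAlgebra.tensorEquiv R (Coalgebra.comul (R := R) x)).coeff (m, n) -
      (MonoidAlgebra.tensorEquiv R (x ⊗ₜ[R] x)).coeff (m, n) ∈ J at h5
    rwa [tensorEquiv_comul_coeff, tensorEquiv_tmul_coeff] at h5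
  let s := x.coeff.support
  have hker : ∀ z ∈ RingHom.ker (Ideal.Quotient.mk J), IsNilpotent z := by
    intro z hz
    rw [Ideal.mk_ker] at hz
    exact hJ z hz
  have hc : CompleteOrthogonalIdempotents (fun i : s => Ideal.Quotient.mk J (x.coeff i)) := by
    refine ⟨⟨?_, ?_⟩, ?_⟩
    · intro i
      change Ideal.Quotient.mk J _ * Ideal.Quotient.mk J _ = Ideal.Quotient.mk J _
      have := h3 i i
      rw [if_pos rfl] at this
      rw [← map_mul]
      exact ((Ideal.Quotient.mk_eq_mk_iff_sub_mem _ _).2 this).symm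
    · intro i j hij
      change Ideal.Quotient.mk J _ * Ideal.Quotient.mk J _ = 0
      have := h3 i j
      rw [if_neg (fun h => hij (Subtype.ext h)), zero_sub, neg_mem_iff] at this
      rw [← map_mul]
      exact Ideal.Quotient.eq_zero_iff_mem.2 this
    · rw [← map_sum, ← map_one (Ideal.Quotient.mk J)]
      rw [Ideal.Quotient.mk_eq_mk_iff_sub_mem]
      rw [Finset.sum_coe_sort s (fun i => x.coeff i)]
      exact h1
  obtain ⟨e, he, hex⟩ := CompleteOrthogonalIdempotents.lift_of_isNilpotent_ker
    (Ideal.Quotient.mk J) hker hc (fun i => ⟨x.coeff i, rfl⟩)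
  let c : M → R := fun m => if h : m ∈ s then e ⟨m, h⟩ else 0
  have hcs : ∀ i : s, c i = e i := fun i => by simp [c]
  have hc0 : ∀ m, m ∉ s → c m = 0 := fun m hm => by simp [c, hm]
  let y : MonoidAlgebra R M := MonoidAlgebra.ofCoeff
    (Finsupp.onFinset s c (fun m hm => by by_contra h; exact hm (hc0 m h)))
  have hy : ∀ m, y.coeff m = c m := fun m => rfl
  refine ⟨y, ?_, ?_⟩
  · rw [isGroupLikeElem_iff_coeff]
    refine ⟨?_, ?_, ?_⟩
    · rw [MonoidAlgebra.coeff_ofCoeff, Finsupp.onFinset_sum _ (fun _ => rfl)]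
      rw [← Finset.sum_coe_sort s c, ← he.complete]
      exact Finset.sum_congr rfl fun i _ => hcs i
    · intro m
      rw [hy]
      by_cases hm : m ∈ s
      · rw [hcs ⟨m, hm⟩]; exact he.idem _
      · rw [hc0 m hm, mul_zero]
    · intro m n hmn
      rw [hy, hy]
      by_cases hm : m ∈ s
      · by_cases hn : n ∈ s
        · rw [hcs ⟨m, hm⟩, hcs ⟨n, hn⟩]
          exact he.ortho (fun h => hmn (congrArg Subtype.val h))
        · rw [hc0 n hn, mul_zero]
      · rw [hc0 m hm, zero_mul]
  · rw [mem_smul_top_iff_coeff]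
    intro m
    rw [GLBasic.coeff_sub, hy]
    by_cases hm : m ∈ s
    · rw [hcs ⟨m, hm⟩, ← Ideal.Quotient.mk_eq_mk_iff_sub_mem]
      exact congrFun hex ⟨m, hm⟩
    · rw [hc0 m hm]
      have : x.coeff m = 0 := by simpa [s] using hm
      rw [this, sub_zero]; exact J.zero_mem

end MonoidAlgebra

section Lift

variable (R : Type u) [CommRing R] (A : Type v) [CommRing A] [Bialgebra R A]

/-- Group-likes of `A` congruent modulo a nil ideal are equal. -/
def GLUniq : Prop := ∀ (J : Ideal R), (∀ x ∈ J, IsNilpotent x) → ∀ x y : A, IsGroupLikeElem R x →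
  IsGroupLikeElem R y → x - y ∈ (J • ⊤ : Submodule R A) → x = y

/-- Elements of `A` which are group-like modulo a nil ideal lift to group-like elements. -/
def GLExist : Prop := ∀ (J : Ideal R), (∀ x ∈ J, IsNilpotent x) → ∀ x : A, IsGLMod J x →
  ∃ y : A, IsGroupLikeElem R y ∧ y - x ∈ (J • ⊤ : Submodule R A)

variable {R A} {B : Type w} [CommRing B] [Bialgebra R B]

theorem GLUniq.congr (e : A ≃ₐc[R] B) (h : GLUniq R A) : GLUniq R B := by
  intro J hJ x y hx hy hxy
  apply EquivLike.injective e.symm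
  refine h J hJ _ _ (hx.map e.symm) (hy.map e.symm) ?_
  rw [← map_sub]
  exact map_mem_smul_top ((e.symm : B ≃ₐc[R] A) : B →ₗ[R] A) hxy

theorem GLExist.congr (e : A ≃ₐc[R] B) (h : GLExist R A) : GLExist R B := by
  intro J hJ x hx
  obtain ⟨y, hy, hyx⟩ := h J hJ (e.symm x) (hx.map (e.symm : B →ₐc[R] A))
  refine ⟨e y, hy.map e, ?_⟩
  have h2 := map_mem_smul_top ((e : A ≃ₐc[R] B) : A →ₗ[R] B) hyx
  rw [map_sub] at h2
  have h3 : ((e : A ≃ₐc[R] B) : A →ₗ[R] B) (e.symm x) = x := e.apply_symm_apply x
  rw [h3] at h2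
  exact h2

theorem glUniq_monoidAlgebra (M : Type w) [CommMonoid M] : GLUniq R (MonoidAlgebra R M) :=
  fun _ hJ _ _ hx hy hxy => eq_of_sub_mem_monoidAlgebra hJ hx hy hxy

theorem glExist_monoidAlgebra (M : Type w) [CommMonoid M] : GLExist R (MonoidAlgebra R M) :=
  fun _ hJ _ hx => exists_lift_monoidAlgebra hJ hx

end Lift

section Diag

variable {R : Type u} [CommRing R] {A : Type u} [CommRing A] [HopfAlgebra R A]

theorem glUniq_of_isDiag (h : IsDiag R A) : GLUniq R A := by
  obtain ⟨M, _, ⟨e⟩⟩ := h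
  exact (glUniq_monoidAlgebra (R := R) M).congr e.symm

theorem glExist_of_isDiag (h : IsDiag R A) : GLExist R A := by
  obtain ⟨M, _, ⟨e⟩⟩ := h
  exact (glExist_monoidAlgebra (R := R) M).congr e.symm

end Diag

section Descent

variable {R : Type u} [CommRing R] {A : Type u} [CommRing A] [Bialgebra R A]

/-- base change of group-likes along an algebra homomorphism -/
theorem isGroupLikeElem_map_id {S W : Type u} [CommRing S] [CommRing W] [Algebra R S] [Algebra R W]
    (f : S →ₐ[R] W) {x : S ⊗[R] A} (hx : IsGroupLikeElem S x) :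
    IsGroupLikeElem W (Algebra.TensorProduct.map f (AlgHom.id R A) x) := by
  let : Algebra S W := f.toAlgebra
  have : IsScalarTower R S W := IsScalarTower.of_algebraMap_eq fun r => (f.commutes r).symm
  have h1 : IsGroupLikeElem W ((1 : W) ⊗ₜ[S] x) := isGroupLikeElem_one_tmul hx
  have h2 := h1.map (cancelBialg R S W A)
  have h3 : cancelBialg R S W A ((1 : W) ⊗ₜ[S] x) =
      Algebra.TensorProduct.map f (AlgHom.id R A) x := by
    clear h1 h2 hx
    induction x using TensorProduct.induction_on with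
    | zero => simp only [TensorProduct.tmul_zero, map_zero]
    | tmul s a =>
      rw [cancelBialg_tmul, one_mul]
      rfl
    | add x y hx hy => simp only [TensorProduct.tmul_add, map_add, hx, hy]
  rwa [h3] at h2

variable {ι : Type u} {S : ι → Type u} [∀ i, CommRing (S i)] [∀ i, Algebra R (S i)]

theorem isGroupLikeElem_of_family (hS : JointlyPure R S) {a : A}
    (h : ∀ i, IsGroupLikeElem (S i) ((1 : S i) ⊗ₜ[R] a)) : IsGroupLikeElem R a := by
  refine ⟨?_, ?_⟩
  · rw [← sub_eq_zero]
    apply hS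
    intro i
    have := (h i).counit_eq_one
    rw [counit_one_tmul] at this
    have h2 : (1 : S i) ⊗ₜ[R] (Coalgebra.counit (R := R) a - 1) =
        (algebraMap R (S i) (Coalgebra.counit (R := R) a) - 1) ⊗ₜ[R] (1 : R) := by
      rw [TensorProduct.tmul_sub, TensorProduct.sub_tmul]
      congr 1
      rw [Algebra.algebraMap_eq_smul_one, ← TensorProduct.smul_tmul', ← TensorProduct.tmul_smul,
        smul_eq_mul, mul_one]
    rw [h2, this, sub_self, TensorProduct.zero_tmul]
  · rw [← sub_eq_zero]
    apply hS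
    intro i
    have := (h i).comul_eq_tmul_self
    rw [comul_one_tmul] at this
    apply (TensorProduct.AlgebraTensorModule.distribBaseChange R (S i) A A).injective
    rw [TensorProduct.tmul_sub, map_sub, this, map_zero]
    simp

/-- Uniqueness of lifts descends along jointly pure families. -/
theorem glUniq_of_family (hS : JointlyPure R S) (h : ∀ i, GLUniq (S i) (S i ⊗[R] A)) :
    GLUniq R A := by
  intro J hJ x y hx hy hxy
  rw [← sub_eq_zero]
  apply hS
  intro i
  rw [TensorProduct.tmul_sub, sub_eq_zero]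
  refine h i (J.map (algebraMap R (S i))) (isNilpotent_of_mem_map hJ) _ _
    (isGroupLikeElem_one_tmul hx) (isGroupLikeElem_one_tmul hy) ?_
  rw [← TensorProduct.tmul_sub]
  exact tmul_mem_smul_top 1 hxy

/-- Existence of lifts descends along finite jointly pure families. -/
theorem glExist_of_family [Finite ι] (hS : JointlyPure R S)
    (h : ∀ i, GLExist (S i) (S i ⊗[R] A))
    (hu : ∀ i j, GLUniq (S i ⊗[R] S j) ((S i ⊗[R] S j) ⊗[R] A)) : GLExist R A := by
  intro J hJ x hx
  choose y hy hyx using fun i => h i (J.map (algebraMap R (S i))) (isNilpotent_of_mem_map hJ)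
    ((1 : S i) ⊗ₜ[R] x) hx.one_tmul
  have key : ∀ i j, (1 : S i) ⊗ₜ[R] y j = (TensorProduct.mk R (S j) A 1).lTensor (S i) (y i) := by
    intro i j
    let f : S i →ₐ[R] (S i ⊗[R] S j) := Algebra.TensorProduct.includeLeft
    let g : S j →ₐ[R] (S i ⊗[R] S j) := Algebra.TensorProduct.includeRight
    have e1 : ∀ z : S i ⊗[R] A, TensorProduct.assoc R (S i) (S j) A
        (Algebra.TensorProduct.map f (AlgHom.id R A) z) =
        (TensorProduct.mk R (S j) A 1).lTensor (S i) z := by
      intro z
      induction z using TensorProduct.induction_on with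
      | zero => simp only [map_zero]
      | tmul s a => simp [f]
      | add a b ha hb => simp only [map_add, ha, hb]
    have e2 : ∀ z : S j ⊗[R] A, TensorProduct.assoc R (S i) (S j) A
        (Algebra.TensorProduct.map g (AlgHom.id R A) z) = (1 : S i) ⊗ₜ[R] z := by
      intro z
      induction z using TensorProduct.induction_on with
      | zero => simp only [map_zero, TensorProduct.tmul_zero]
      | tmul s a => simp [g]
      | add a b ha hb => simp only [map_add, TensorProduct.tmul_add, ha, hb]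
    rw [← e1, ← e2]
    congr 1
    refine hu i j (J.map (algebraMap R (S i ⊗[R] S j))) (isNilpotent_of_mem_map hJ) _ _
      (isGroupLikeElem_map_id g (hy j)) (isGroupLikeElem_map_id f (hy i)) ?_
    rw [mem_map_smul_top_iff]
    have hi := (mem_map_smul_top_iff _).1 (hyx i)
    have hj := (mem_map_smul_top_iff _).1 (hyx j)
    have hi2 := map_mem_smul_top (Algebra.TensorProduct.map f (AlgHom.id R A)).toLinearMap hi
    have hj2 := map_mem_smul_top (Algebra.TensorProduct.map g (AlgHom.id R A)).toLinearMap hj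
    rw [map_sub] at hi2 hj2
    have := Submodule.sub_mem _ hj2 hi2
    have h3 : (Algebra.TensorProduct.map f (AlgHom.id R A)).toLinearMap ((1 : S i) ⊗ₜ[R] x) =
        (Algebra.TensorProduct.map g (AlgHom.id R A)).toLinearMap ((1 : S j) ⊗ₜ[R] x) := by
      simp [f, g]
    rw [h3, sub_sub_sub_cancel_right] at this
    exact this
  obtain ⟨a, ha⟩ := hS.exists_eq y key
  refine ⟨a, isGroupLikeElem_of_family hS fun i => ?_, hS.mem_smul_top _ fun i => ?_⟩
  · rw [ha i]; exact hy i
  · rw [TensorProduct.tmul_sub, ha i]; exact hyx i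

end Descent

end Groth.Agent.Sga3A.GLLift
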