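import Groth.Agent.Sga3A.MTBasis
import Groth.Agent.Sga3A.GLLift
import Mathlib.RingTheory.LocalProperties.Basic
import Mathlib.RingTheory.Localization.BaseChange

/-!
# Group-like elements modulo ideals, over rings complete (or henselian) along an ideal

First part: congruences, local rings, uniqueness.
-/

set_option autoImplicit false

open TensorProduct

namespace Groth.Agent.Sga3A.GLComp146

open MTBasis GLBasic GLLift

universe u

section basic

variable {R : Type u} [CommRing R] {A : Type u} [CommRing A] [Bialgebra R A]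

lemma isGLMod_mono {J L : Ideal R} (h : J ≤ L) {x : A} (hx : IsGLMod J x) : IsGLMod L x :=
  ⟨h hx.1, Submodule.smul_mono h le_rfl hx.2⟩

lemma tmul_mem_smul_top_left {J : Ideal R} {N P : Type u} [AddCommGroup N] [Module R N] [AddCommGroup P]
    [Module R P] {x : N} (hx : x ∈ (J • ⊤ : Submodule R N)) (y : P) :
    x ⊗ₜ[R] y ∈ (J • ⊤ : Submodule R (N ⊗[R] P)) :=
  map_mem_smul_top ((TensorProduct.mk R N P).flip y) hx

lemma tmul_mem_smul_top_right {J : Ideal R} {N P : Type u} [AddCommGroup N] [Module R N] [AddCommGroup P]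
    [Module R P] (x : N) {y : P} (hy : y ∈ (J • ⊤ : Submodule R P)) :
    x ⊗ₜ[R] y ∈ (J • ⊤ : Submodule R (N ⊗[R] P)) :=
  map_mem_smul_top (TensorProduct.mk R N P x) hy

lemma isGLMod_congr {J : Ideal R} {x y : A} (hx : IsGLMod J x) (hxy : y - x ∈ (J • ⊤ : Submodule R A)) :
    IsGLMod J y := by
  constructor
  · have h1 : Coalgebra.counit (R := R) (y - x) ∈ J := by
      have := map_mem_smul_top (Coalgebra.counit (R := R) (A := A)) hxy
      rwa [smul_eq_mul, Ideal.mul_top] at this
    rw [map_sub] at h1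
    have := J.add_mem h1 hx.1
    simpa using this
  · have h1 := map_mem_smul_top (Coalgebra.comul (R := R) (A := A)) hxy
    have h2 := tmul_mem_smul_top_left hxy y
    have h3 := tmul_mem_smul_top_right x hxy
    have h4 : Coalgebra.comul (R := R) y - y ⊗ₜ[R] y = (Coalgebra.comul (R := R) x - x ⊗ₜ[R] x) +
        Coalgebra.comul (R := R) (y - x) - ((y - x) ⊗ₜ[R] y + x ⊗ₜ[R] (y - x)) := by
      rw [map_sub, TensorProduct.sub_tmul, TensorProduct.tmul_sub]
      abel
    rw [h4]
    exact Submodule.sub_mem _ (Submodule.add_mem _ hx.2 h1) (Submodule.add_mem _ h2 h3)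

lemma isGroupLikeElem_iff_isGLMod_bot {x : A} : IsGroupLikeElem R x ↔ IsGLMod (⊥ : Ideal R) x := by
  constructor
  · exact IsGLMod.of_isGroupLikeElem
  · rintro ⟨h1, h2⟩
    rw [Submodule.bot_smul, Submodule.mem_bot, sub_eq_zero] at h2
    rw [Ideal.mem_bot, sub_eq_zero] at h1
    exact ⟨h1, h2⟩

/-- `1 ⊗ n = 0` in `(R ⧸ J) ⊗ N` iff `n ∈ J N`. -/
lemma one_tmul_quot_eq_zero_iff (J : Ideal R) {N : Type u} [AddCommGroup N] [Module R N] (n : N) :
    (1 : R ⧸ J) ⊗ₜ[R] n = 0 ↔ n ∈ (J • ⊤ : Submodule R N) := by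
  have e := TensorProduct.quotTensorEquivQuotSMul N J
  rw [← (TensorProduct.quotTensorEquivQuotSMul N J).map_eq_zero_iff]
  rw [← Submodule.Quotient.mk_eq_zero]
  have : TensorProduct.quotTensorEquivQuotSMul N J ((1 : R ⧸ J) ⊗ₜ[R] n) = Submodule.Quotient.mk n := by
    have := TensorProduct.quotTensorEquivQuotSMul_mk_tmul J (1 : R) n
    rw [one_smul] at this
    exact this
  rw [this]

lemma isGroupLikeElem_quot {J : Ideal R} {x : A} (hx : IsGLMod J x) :
    IsGroupLikeElem (R ⧸ J) ((1 : R ⧸ J) ⊗ₜ[R] x) := by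
  rw [isGroupLikeElem_iff_isGLMod_bot]
  have h := hx.one_tmul (S := R ⧸ J)
  have : J.map (algebraMap R (R ⧸ J)) = ⊥ := Ideal.map_quotient_self J
  rwa [this] at h

end basic

section local_ring

variable {S : Type u} [CommRing S] {B : Type u} [CommRing B] [Bialgebra S B] {M : Type u} [CommGroup M]
  (g : GBasis S B M)

include g in
/-- coordinates of elements of `J B`. -/
lemma repr_mem {J : Ideal S} {x : B} (hx : x ∈ (J • ⊤ : Submodule S B)) (m : M) : g.b.repr x m ∈ J := by
  have := map_mem_smul_top (g.b.coord m) hx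
  rwa [smul_eq_mul, Ideal.mul_top] at this

lemma mem_of_repr {J : Ideal S} {x : B} (hx : ∀ m, g.b.repr x m ∈ J) : x ∈ (J • ⊤ : Submodule S B) := by
  rw [← g.b.linearCombination_repr x, Finsupp.linearCombination_apply]
  exact Submodule.sum_mem _ fun m _ => Submodule.smul_mem_smul (hx m) Submodule.mem_top

lemma exists_b_of_isGLMod [IsLocalRing S] {J : Ideal S} (hJ : J ≠ ⊤) {x : B} (hx : IsGLMod J x) :
    ∃ m, g.b m - x ∈ (J • ⊤ : Submodule S B) := by
  have : Nontrivial (S ⧸ J) := Ideal.Quotient.nontrivial_iff.mpr hJ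
  have : IsLocalRing (S ⧸ J) := .of_surjective' (Ideal.Quotient.mk J) Ideal.Quotient.mk_surjective
  obtain ⟨m, hm⟩ := (g.baseChange (S ⧸ J)).exists_eq (isGroupLikeElem_quot hx)
  refine ⟨m, ?_⟩
  rw [← one_tmul_quot_eq_zero_iff, TensorProduct.tmul_sub, hm, sub_eq_zero]
  exact (Module.Basis.baseChange_apply (S ⧸ J) g.b m).symm

lemma eq_of_b_sub_mem {J : Ideal S} (hJ : J ≠ ⊤) {m n : M} (h : g.b m - g.b n ∈ (J • ⊤ : Submodule S B)) :
    m = n := by
  by_contra hmn
  have := repr_mem g h m
  rw [map_sub, Finsupp.sub_apply, g.b.repr_self, g.b.repr_self, Finsupp.single_eq_same,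
    Finsupp.single_eq_of_ne (fun h => hmn h), sub_zero] at this
  exact hJ ((Ideal.eq_top_iff_one _).mpr this)

include g in
/-- uniqueness over a local ring -/
lemma uniq_local [IsLocalRing S] {J L : Ideal S} (hJL : J ≤ L) (hL : L ≠ ⊤) {x y : B} (hx : IsGLMod J x)
    (hy : IsGLMod J y) (hxy : x - y ∈ (L • ⊤ : Submodule S B)) : x - y ∈ (J • ⊤ : Submodule S B) := by
  have hJ : J ≠ ⊤ := fun h => hL (top_le_iff.mp (h ▸ hJL))
  obtain ⟨m, hm⟩ := exists_b_of_isGLMod g hJ hx
  obtain ⟨n, hn⟩ := exists_b_of_isGLMod g hJ hy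
  have h1 : g.b m - g.b n ∈ (L • ⊤ : Submodule S B) := by
    have := Submodule.add_mem _ (Submodule.sub_mem _ (Submodule.smul_mono hJL le_rfl hm)
      (Submodule.smul_mono hJL le_rfl hn)) hxy
    have e : g.b m - g.b n = g.b m - x - (g.b n - y) + (x - y) := by abel
    rw [e]
    exact this
  have h2 := eq_of_b_sub_mem g hL h1
  subst h2
  have := Submodule.sub_mem _ hn hm
  have e : x - y = g.b m - y - (g.b m - x) := by abel
  rw [e]
  exact this

end local_ring

section global

variable {R : Type u} [CommRing R]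

lemma jointlyPure_maximal (R : Type u) [CommRing R] :
    JointlyPure R (fun m : MaximalSpectrum R => Localization.AtPrime m.asIdeal) := by
  intro N _ _ n hn
  refine Module.eq_zero_of_localization_maximal (fun P _ => Localization.AtPrime P ⊗[R] N)
    (fun P _ => TensorProduct.mk R (Localization.AtPrime P) N 1) n ?_
  intro P hP
  exact hn ⟨P, hP⟩

lemma mem_smul_top_of_local {N : Type u} [AddCommGroup N] [Module R N] {J : Ideal R} (n : N)
    (h : ∀ (m : Ideal R) [m.IsMaximal], J ≤ m →
      (1 : Localization.AtPrime m) ⊗ₜ[R] n ∈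
        ((J.map (algebraMap R (Localization.AtPrime m))) • ⊤ :
          Submodule (Localization.AtPrime m) (Localization.AtPrime m ⊗[R] N))) :
    n ∈ (J • ⊤ : Submodule R N) := by
  refine (jointlyPure_maximal R).mem_smul_top n fun m => ?_
  by_cases hm : J ≤ m.asIdeal
  · exact h m.asIdeal hm
  · obtain ⟨r, hr, hrm⟩ := SetLike.not_le_iff_exists.mp hm
    have : J.map (algebraMap R (Localization.AtPrime m.asIdeal)) = ⊤ := by
      apply Ideal.eq_top_of_isUnit_mem _ (Ideal.mem_map_of_mem _ hr)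
      exact IsLocalization.map_units (Localization.AtPrime m.asIdeal) (⟨r, hrm⟩ : m.asIdeal.primeCompl)
    rw [this, Submodule.top_smul]
    trivial

lemma map_ne_top {m : Ideal R} [m.IsPrime] {J : Ideal R} (h : J ≤ m) :
    J.map (algebraMap R (Localization.AtPrime m)) ≠ ⊤ := by
  intro hJ
  have h1 : J.map (algebraMap R (Localization.AtPrime m)) ≤
      IsLocalRing.maximalIdeal (Localization.AtPrime m) := by
    rw [← Localization.AtPrime.map_eq_maximalIdeal]
    exact Ideal.map_mono h
  rw [hJ, top_le_iff] at h1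
  exact (IsLocalRing.maximalIdeal.isMaximal (Localization.AtPrime m)).ne_top h1

variable {A : Type u} [CommRing A] [Bialgebra R A] {M : Type u} [CommGroup M]

/-- Uniqueness: group-likes modulo `J` which are congruent modulo a bigger ideal with the same maximal ideals are
congruent modulo `J`. -/
theorem uniq (hloc : ∀ (m : Ideal R) [m.IsMaximal], Nonempty (GBasis (Localization.AtPrime m)
      (Localization.AtPrime m ⊗[R] A) M)) {J L : Ideal R} (hJL : J ≤ L)
    (hL : ∀ (m : Ideal R) [m.IsMaximal], J ≤ m → L ≤ m) {x y : A} (hx : IsGLMod J x)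
    (hy : IsGLMod J y) (hxy : x - y ∈ (L • ⊤ : Submodule R A)) : x - y ∈ (J • ⊤ : Submodule R A) := by
  apply mem_smul_top_of_local
  intro m _ hm
  obtain ⟨g⟩ := hloc m
  rw [TensorProduct.tmul_sub]
  refine uniq_local g (Ideal.map_mono hJL) (map_ne_top (hL m hm)) hx.one_tmul hy.one_tmul ?_
  rw [← TensorProduct.tmul_sub]
  exact tmul_mem_smul_top 1 hxy

end global

end Groth.Agent.Sga3A.GLComp146
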