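import Groth.Agent.Sga3A.GLGlue146
import Mathlib.RingTheory.LocalRing.ResidueField.Ideal

/-!
# Diagonalisability from the lifting of group-like elements

`exists_gbasis`: a bialgebra which is locally diagonalisable, is diagonalisable modulo an ideal `I` contained in all
maximal ideals, and such that group-likes lift modulo `I`, is diagonalisable.
-/

set_option autoImplicit false

open TensorProduct

namespace Groth.Agent.Sga3A.GLDiag146

open MTBasis GLBasic GLLift GLComp146 GLGlue146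

universe u

variable {R : Type u} [CommRing R] {A : Type u} [CommRing A] [Bialgebra R A] {M : Type u} [CommGroup M]

lemma isGLMod_of_quot {J : Ideal R} {x : A} (hx : IsGroupLikeElem (R ⧸ J) ((1 : R ⧸ J) ⊗ₜ[R] x)) : IsGLMod J x := by
  constructor
  · have h := hx.counit_eq_one
    rw [GLBasic.counit_one_tmul, ← sub_eq_zero, ← map_one (algebraMap R (R ⧸ J)), ← map_sub] at h
    exact Ideal.Quotient.eq_zero_iff_mem.mp h
  · have h2 := hx.comul_eq_tmul_self
    rw [← one_tmul_quot_eq_zero_iff]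
    rw [GLBasic.comul_one_tmul] at h2
    have h3 : ((1 : R ⧸ J) ⊗ₜ[R] x) ⊗ₜ[R ⧸ J] ((1 : R ⧸ J) ⊗ₜ[R] x) =
      TensorProduct.AlgebraTensorModule.distribBaseChange R (R ⧸ J) A A (1 ⊗ₜ (x ⊗ₜ x)) := by simp
    rw [h3] at h2
    rw [TensorProduct.tmul_sub, sub_eq_zero]
    exact (LinearEquiv.injective _) h2

lemma exists_one_tmul_quot (J : Ideal R) {N : Type u} [AddCommGroup N] [Module R N] (z : (R ⧸ J) ⊗[R] N) :
    ∃ n : N, (1 : R ⧸ J) ⊗ₜ[R] n = z := by
  induction z using TensorProduct.induction_on with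
  | zero => exact ⟨0, TensorProduct.tmul_zero _ _⟩
  | tmul s n =>
    obtain ⟨r, rfl⟩ := Ideal.Quotient.mk_surjective s
    refine ⟨r • n, ?_⟩
    rw [← TensorProduct.smul_tmul]
    congr 1
    rw [Algebra.smul_def, mul_one]
    rfl
  | add x y hx hy =>
    obtain ⟨a, rfl⟩ := hx
    obtain ⟨b, rfl⟩ := hy
    exact ⟨a + b, TensorProduct.tmul_add _ _ _⟩

theorem exists_gbasis {I : Ideal R} (hI : ∀ (m : Ideal R) [m.IsMaximal], I ≤ m)
    (hloc : ∀ (m : Ideal R) [m.IsMaximal], Nonempty (GBasis (Localization.AtPrime m)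
      (Localization.AtPrime m ⊗[R] A) M))
    (hlift : ∀ x : A, IsGLMod I x → ∃ y : A, IsGroupLikeElem R y ∧ y - x ∈ (I • ⊤ : Submodule R A))
    {M' : Type u} [CommGroup M'] (g₀ : GBasis (R ⧸ I) ((R ⧸ I) ⊗[R] A) M') :
    Nonempty (GBasis R A M') := by
  -- the lifted family
  have h1 : ∀ m' : M', ∃ y : A, IsGroupLikeElem R y ∧ (1 : R ⧸ I) ⊗ₜ[R] y = g₀.b m' := by
    intro m'
    obtain ⟨x, hx⟩ := exists_one_tmul_quot I (g₀.b m')
    obtain ⟨y, hy, hyx⟩ := hlift x (isGLMod_of_quot (by rw [hx]; exact g₀.gl m'))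
    refine ⟨y, hy, ?_⟩
    rw [← hx, ← sub_eq_zero, ← TensorProduct.tmul_sub, one_tmul_quot_eq_zero_iff]
    exact hyx
  choose y hy hyb using h1
  -- uniqueness
  have huniq : ∀ a b : A, IsGroupLikeElem R a → IsGroupLikeElem R b →
      (1 : R ⧸ I) ⊗ₜ[R] a = (1 : R ⧸ I) ⊗ₜ[R] b → a = b := by
    intro a b ha hb hab
    rw [← sub_eq_zero, ← TensorProduct.tmul_sub, one_tmul_quot_eq_zero_iff] at hab
    have := uniq hloc (J := ⊥) (L := I) bot_le (fun m _ _ => hI m) (isGroupLikeElem_iff_isGLMod_bot.mp ha)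
      (isGroupLikeElem_iff_isGLMod_bot.mp hb) hab
    rwa [Submodule.bot_smul, Submodule.mem_bot, sub_eq_zero] at this
  -- local comparison
  have hcomp : ∀ (m : Ideal R) [m.IsMaximal] (g : GBasis (Localization.AtPrime m)
      (Localization.AtPrime m ⊗[R] A) M), ∃ φ : M' → M, Function.Bijective φ ∧
        ∀ m', (1 : Localization.AtPrime m) ⊗ₜ[R] y m' = g.b (φ m') := by
    intro m _ g
    have h2 : ∀ m', ∃ n, (1 : Localization.AtPrime m) ⊗ₜ[R] y m' = g.b n := fun m' =>
      g.exists_eq (GLBasic.isGroupLikeElem_one_tmul (hy m'))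
    choose φ hφ using h2
    let φ₁ : R ⧸ I →ₐ[R] m.ResidueField := Ideal.Quotient.liftₐ I (Algebra.ofId R _)
      (fun r hr => Ideal.algebraMap_residueField_eq_zero.mpr (hI m hr))
    let φ₂ : Localization.AtPrime m →ₐ[R] m.ResidueField := IsScalarTower.toAlgHom R (Localization.AtPrime m) _
    have h3 : ∀ m', (g₀.bc φ₁).b m' = (g.bc φ₂).b (φ m') := by
      intro m'
      rw [GBasis.bc_b, GBasis.bc_b, ← hφ, ← hyb, bc_tmul, bc_tmul, map_one, map_one]
    refine ⟨φ, ⟨?_, ?_⟩, hφ⟩
    · intro a b hab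
      apply (g₀.bc φ₁).b_injective
      rw [h3, h3, hab]
    · intro n
      obtain ⟨m', hm'⟩ := (g₀.bc φ₁).exists_eq ((g.bc φ₂).gl n)
      refine ⟨m', ?_⟩
      apply (g.bc φ₂).b_injective
      rw [← h3, ← hm']
  -- linear independence
  have hli : LinearIndependent R y := by
    rw [linearIndependent_iff]
    intro l hl
    ext m'
    rw [Finsupp.coe_zero, Pi.zero_apply]
    refine Module.eq_zero_of_localization_maximal (fun P _ => Localization.AtPrime P)
      (fun P _ => Algebra.linearMap R (Localization.AtPrime P)) _ ?_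
    intro m _
    obtain ⟨g⟩ := hloc m
    obtain ⟨φ, hφ, hφy⟩ := hcomp m g
    have h4 : (1 : Localization.AtPrime m) ⊗ₜ[R] (Finsupp.linearCombination R y l) = 0 := by
      rw [hl, TensorProduct.tmul_zero]
    rw [Finsupp.linearCombination_apply, Finsupp.sum, TensorProduct.tmul_sum] at h4
    have h5 : ∑ i ∈ l.support, (algebraMap R (Localization.AtPrime m) (l i)) • (g.b ∘ φ) i = 0 := by
      rw [← h4]
      refine Finset.sum_congr rfl fun i _ => ?_
      rw [Function.comp_apply, ← hφy, TensorProduct.tmul_smul, algebraMap_smul]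
    have h6 := (linearIndependent_iff'.mp (g.b.linearIndependent.comp φ hφ.injective)) _ _ h5
    by_cases hm' : m' ∈ l.support
    · exact h6 m' hm'
    · rw [Finsupp.notMem_support_iff] at hm'
      rw [hm', map_zero]
  -- generation
  have hsp : ⊤ ≤ Submodule.span R (Set.range y) := by
    intro a _
    rw [← Finsupp.range_linearCombination]
    apply (jointlyPure_maximal R).mem_range
    rintro ⟨m, hm⟩
    obtain ⟨g⟩ := hloc m
    obtain ⟨φ, hφ, hφy⟩ := hcomp m g
    change (1 : Localization.AtPrime m) ⊗ₜ[R] a ∈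
      LinearMap.range ((Finsupp.linearCombination R y).lTensor (Localization.AtPrime m))
    generalize (1 : Localization.AtPrime m) ⊗ₜ[R] a = b
    rw [← g.b.linearCombination_repr b, Finsupp.linearCombination_apply, Finsupp.sum]
    refine Submodule.sum_mem _ fun n _ => ?_
    obtain ⟨m', rfl⟩ := hφ.surjective n
    refine ⟨(g.b.repr b (φ m')) ⊗ₜ Finsupp.single m' 1, ?_⟩
    rw [LinearMap.lTensor_tmul, Finsupp.linearCombination_single, one_smul, ← hφy, TensorProduct.smul_tmul',
      smul_eq_mul, mul_one]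
  refine ⟨⟨Module.Basis.mk hli hsp, ?_, ?_, ?_⟩⟩
  · rw [Module.Basis.mk_apply]
    apply huniq _ _ (hy 1) IsGroupLikeElem.one
    rw [hyb, g₀.one]
    rfl
  · intro m n
    simp only [Module.Basis.mk_apply]
    apply huniq _ _ (hy _) ((hy m).mul (hy n))
    rw [hyb, g₀.mul, ← hyb, ← hyb, Algebra.TensorProduct.tmul_mul_tmul, one_mul]
  · intro m
    rw [Module.Basis.mk_apply]
    exact hy m

end Groth.Agent.Sga3A.GLDiag146
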