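import Groth.Agent.Sga3A.GLComp146
import Mathlib.RingTheory.Ideal.MinimalPrime.Noetherian

/-!
# Lifting group-like elements modulo an ideal: gluing along finite intersections of ideals
-/

set_option autoImplicit false

open TensorProduct

namespace Groth.Agent.Sga3A.GLGlue146

open MTBasis GLBasic GLLift GLComp146

universe u

section flat

variable {R : Type u} [CommRing R] {N : Type u} [AddCommGroup N] [Module R N] [Module.Flat R N]

lemma mem_inf_smul_top (J₁ J₂ : Ideal R) {n : N} (h₁ : n ∈ (J₁ • ⊤ : Submodule R N))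
    (h₂ : n ∈ (J₂ • ⊤ : Submodule R N)) : n ∈ ((J₁ ⊓ J₂) • ⊤ : Submodule R N) := by
  rw [← one_tmul_quot_eq_zero_iff] at h₁ h₂ ⊢
  let f : R ⧸ (J₁ ⊓ J₂) →ₐ[R] (R ⧸ J₁) × (R ⧸ J₂) :=
    AlgHom.prod (Ideal.Quotient.factorₐ R inf_le_left) (Ideal.Quotient.factorₐ R inf_le_right)
  have hf : Function.Injective f.toLinearMap := by
    rw [injective_iff_map_eq_zero]
    intro x hx
    obtain ⟨r, rfl⟩ := Ideal.Quotient.mk_surjective x
    have h3 : Ideal.Quotient.mk J₁ r = 0 := congrArg Prod.fst hx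
    have h4 : Ideal.Quotient.mk J₂ r = 0 := congrArg Prod.snd hx
    rw [Ideal.Quotient.eq_zero_iff_mem] at h3 h4 ⊢
    exact ⟨h3, h4⟩
  apply Module.Flat.rTensor_preserves_injective_linearMap (M := N) f.toLinearMap hf
  rw [map_zero, LinearMap.rTensor_tmul]
  have h5 : f.toLinearMap 1 = LinearMap.inl R (R ⧸ J₁) (R ⧸ J₂) 1 + LinearMap.inr R (R ⧸ J₁) (R ⧸ J₂) 1 := by
    change f 1 = _
    rw [map_one]
    simp
    rfl
  rw [h5, TensorProduct.add_tmul]
  have h6 : (LinearMap.inl R (R ⧸ J₁) (R ⧸ J₂) 1) ⊗ₜ[R] n = 0 := by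
    have := congrArg ((LinearMap.inl R (R ⧸ J₁) (R ⧸ J₂)).rTensor N) h₁
    rwa [map_zero, LinearMap.rTensor_tmul] at this
  have h7 : (LinearMap.inr R (R ⧸ J₁) (R ⧸ J₂) 1) ⊗ₜ[R] n = 0 := by
    have := congrArg ((LinearMap.inr R (R ⧸ J₁) (R ⧸ J₂)).rTensor N) h₂
    rwa [map_zero, LinearMap.rTensor_tmul] at this
  rw [h6, h7, add_zero]

end flat

variable {R : Type u} [CommRing R] (A : Type u) [CommRing A] [Bialgebra R A] {M : Type u} [CommGroup M]

/-- Elements which are group-like modulo `J + I` lift to elements which are group-like modulo `J`. -/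
def Lift (I J : Ideal R) : Prop :=
  ∀ x : A, IsGLMod (J ⊔ I) x → ∃ y : A, IsGLMod J y ∧ y - x ∈ ((J ⊔ I) • ⊤ : Submodule R A)

variable {A}

lemma lift_top (I : Ideal R) : Lift A I ⊤ := by
  intro x _
  refine ⟨x, ⟨trivial, ?_⟩, ?_⟩
  · rw [Submodule.top_smul]; trivial
  · rw [sub_self]; exact Submodule.zero_mem _

theorem lift_inf [Module.Flat R A] {I : Ideal R} (hI : ∀ (m : Ideal R) [m.IsMaximal], I ≤ m)
    (hloc : ∀ (m : Ideal R) [m.IsMaximal], Nonempty (GBasis (Localization.AtPrime m)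
      (Localization.AtPrime m ⊗[R] A) M)) {J₁ J₂ : Ideal R} (h₁ : Lift A I J₁) (h₂ : Lift A I J₂) :
    Lift A I (J₁ ⊓ J₂) := by
  intro x hx
  have hle₁ : J₁ ⊓ J₂ ⊔ I ≤ J₁ ⊔ I := sup_le_sup_right inf_le_left _
  have hle₂ : J₁ ⊓ J₂ ⊔ I ≤ J₂ ⊔ I := sup_le_sup_right inf_le_right _
  obtain ⟨y₁, hy₁, hyx₁⟩ := h₁ x (isGLMod_mono hle₁ hx)
  obtain ⟨y₂, hy₂, hyx₂⟩ := h₂ x (isGLMod_mono hle₂ hx)
  have h3 : y₁ - y₂ ∈ ((J₁ ⊔ J₂) • ⊤ : Submodule R A) := by
    refine uniq hloc (L := J₁ ⊔ J₂ ⊔ I) le_sup_left (fun m _ hm => sup_le hm (hI m))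
      (isGLMod_mono le_sup_left hy₁) (isGLMod_mono le_sup_right hy₂) ?_
    have e : y₁ - y₂ = (y₁ - x) - (y₂ - x) := by abel
    rw [e]
    refine Submodule.sub_mem _ (Submodule.smul_mono ?_ le_rfl hyx₁) (Submodule.smul_mono ?_ le_rfl hyx₂)
    · exact sup_le_sup_right le_sup_left _
    · exact sup_le_sup_right le_sup_right _
  rw [Submodule.sup_smul, Submodule.mem_sup] at h3
  obtain ⟨a, ha, b, hb, hab⟩ := h3
  have e1 : (y₁ - a) - y₁ = -a := by abel
  have e2 : (y₁ - a) - y₂ = b := by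
    have : y₁ = a + b + y₂ := by rw [hab]; abel
    rw [this]; abel
  have g1 : IsGLMod J₁ (y₁ - a) := isGLMod_congr hy₁ (by rw [e1]; exact Submodule.neg_mem _ ha)
  have g2 : IsGLMod J₂ (y₁ - a) := isGLMod_congr hy₂ (by rw [e2]; exact hb)
  have g3 : IsGLMod (J₁ ⊓ J₂) (y₁ - a) := ⟨⟨g1.1, g2.1⟩, mem_inf_smul_top _ _ g1.2 g2.2⟩
  refine ⟨y₁ - a, g3, ?_⟩
  refine uniq hloc (L := (J₁ ⊔ I) ⊓ (J₂ ⊔ I)) (le_inf hle₁ hle₂) (fun m hm' hm => ?_)
    (isGLMod_mono le_sup_left g3) hx ?_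
  · rcases (hm'.isPrime.inf_le).mp (le_sup_left.trans hm) with h | h
    · exact inf_le_left.trans (sup_le h (hI m))
    · exact inf_le_right.trans (sup_le h (hI m))
  · apply mem_inf_smul_top
    · have e : y₁ - a - x = (y₁ - x) + (y₁ - a - y₁) := by abel
      rw [e]
      refine Submodule.add_mem _ hyx₁ (Submodule.smul_mono le_sup_left le_rfl ?_)
      rw [e1]
      exact Submodule.neg_mem _ ha
    · have e : y₁ - a - x = (y₂ - x) + (y₁ - a - y₂) := by abel
      rw [e]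
      refine Submodule.add_mem _ hyx₂ (Submodule.smul_mono le_sup_left le_rfl ?_)
      rw [e2]
      exact hb

theorem lift_finset [Module.Flat R A] {I : Ideal R} (hI : ∀ (m : Ideal R) [m.IsMaximal], I ≤ m)
    (hloc : ∀ (m : Ideal R) [m.IsMaximal], Nonempty (GBasis (Localization.AtPrime m)
      (Localization.AtPrime m ⊗[R] A) M)) (s : Finset (Ideal R)) (h : ∀ p ∈ s, Lift A I p) :
    Lift A I (s.inf id) := by
  classical
  induction s using Finset.induction_on with
  | empty => rw [Finset.inf_empty]; exact lift_top I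
  | insert p s hp ih =>
    rw [Finset.inf_insert, id]
    exact lift_inf hI hloc (h p (Finset.mem_insert_self p s))
      (ih fun q hq => h q (Finset.mem_insert_of_mem hq))

theorem lift_nilradical [IsNoetherianRing R] [Module.Flat R A] {I : Ideal R}
    (hI : ∀ (m : Ideal R) [m.IsMaximal], I ≤ m)
    (hloc : ∀ (m : Ideal R) [m.IsMaximal], Nonempty (GBasis (Localization.AtPrime m)
      (Localization.AtPrime m ⊗[R] A) M)) (h : ∀ (p : Ideal R) [p.IsPrime], Lift A I p) :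
    Lift A I (nilradical R) := by
  have hfin : (minimalPrimes R).Finite := minimalPrimes.finite_of_isNoetherianRing R
  have h1 : hfin.toFinset.inf id = nilradical R := by
    rw [Finset.inf_id_eq_sInf, hfin.coe_toFinset]
    exact Ideal.sInf_minimalPrimes
  rw [← h1]
  refine lift_finset hI hloc _ fun p hp => ?_
  have : p ∈ minimalPrimes R := hfin.mem_toFinset.mp hp
  have : p.IsPrime := this.1.1
  exact h p

/-- Elements group-like modulo `I` lift to group-like elements. -/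
theorem exists_lift {I : Ideal R}
    (hloc : ∀ (m : Ideal R) [m.IsMaximal], Nonempty (GBasis (Localization.AtPrime m)
      (Localization.AtPrime m ⊗[R] A) M)) (hex : GLExist R A) (h : Lift A I (nilradical R)) (x : A)
    (hx : IsGLMod I x) : ∃ y : A, IsGroupLikeElem R y ∧ y - x ∈ (I • ⊤ : Submodule R A) := by
  obtain ⟨y, hy, hyx⟩ := h x (isGLMod_mono le_sup_right hx)
  obtain ⟨z, hz, hzy⟩ := hex (nilradical R) (fun x hx => mem_nilradical.mp hx) y hy
  refine ⟨z, hz, ?_⟩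
  refine uniq hloc (L := nilradical R ⊔ I) le_sup_right (fun m hm' hm => sup_le ?_ hm)
    (IsGLMod.of_isGroupLikeElem hz) hx ?_
  · exact nilradical_le_prime m
  · have e : z - x = (z - y) + (y - x) := by abel
    rw [e]
    exact Submodule.add_mem _ (Submodule.smul_mono le_sup_left le_rfl hzy) hyx

end Groth.Agent.Sga3A.GLGlue146
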