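import Groth.Agent.Sga3A.GLGlue146
import Groth.Agent.Sga3A.MTSpread
import Mathlib.RingTheory.LocalRing.ResidueField.Ideal

/-!
# Lifting group-like elements: the case of a prime ideal

`lift_prime`: if `V(p + I)` is connected, elements which are group-like modulo `p + I` lift to elements which are
group-like modulo `p`.
-/

set_option autoImplicit false

open TensorProduct

namespace Groth.Agent.Sga3A.GLPrime146

open MTBasis GLBasic GLLift GLComp146 GLGlue146 MTSpread

universe u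

variable {R : Type u} [CommRing R]

section field

variable (p : Ideal R) (K : Type u) [Field K] [Algebra R K] (hK : ∀ r : R, algebraMap R K r = 0 ↔ r ∈ p)

lemma mem_smul_top_of_one_tmul {p : Ideal R} {K : Type u} [Field K] [Algebra R K]
    (hK : ∀ r : R, algebraMap R K r = 0 ↔ r ∈ p) {N : Type u} [AddCommGroup N] [Module R N] [Module.Flat R N]
    {n : N} (hn : (1 : K) ⊗ₜ[R] n = 0) : n ∈ (p • ⊤ : Submodule R N) := by
  rw [← one_tmul_quot_eq_zero_iff]
  let f : R ⧸ p →ₐ[R] K := Ideal.Quotient.liftₐ p (Algebra.ofId R K) (fun r hr => (hK r).mpr hr)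
  have hf : Function.Injective f.toLinearMap := by
    rw [injective_iff_map_eq_zero]
    intro x hx
    obtain ⟨r, rfl⟩ := Ideal.Quotient.mk_surjective x
    exact Ideal.Quotient.eq_zero_iff_mem.mpr ((hK r).mp hx)
  apply Module.Flat.rTensor_preserves_injective_linearMap (M := N) f.toLinearMap hf
  rw [map_zero, LinearMap.rTensor_tmul]
  have : f.toLinearMap 1 = 1 := map_one f
  rw [this, hn]

/-- the map `R_q → K` for `p ≤ q`. -/
noncomputable def sig (q : Ideal R) [q.IsPrime] (hq : p ≤ q) : Localization.AtPrime q →ₐ[R] K :=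
  IsLocalization.liftAlgHom (M := q.primeCompl) (f := Algebra.ofId R K) (fun s => by
    rw [isUnit_iff_ne_zero]
    exact fun h => s.2 (hq ((hK _).mp h)))

variable {A : Type u} [CommRing A] [Bialgebra R A] [Module.Flat R A]

lemma mem_smul_top_of_bc_sig (q : Ideal R) [q.IsPrime] (hq : p ≤ q) {v : Localization.AtPrime q ⊗[R] A}
    (hv : bc A (sig p K hK q hq) v = 0) :
    v ∈ (p.map (algebraMap R (Localization.AtPrime q)) • ⊤ :
      Submodule (Localization.AtPrime q) (Localization.AtPrime q ⊗[R] A)) := by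
  obtain ⟨w, hw, n, hn⟩ := exists_smul_eq q.primeCompl v
  have h1 : bc A (sig p K hK q hq) ((1 : Localization.AtPrime q) ⊗ₜ[R] n) = 0 := by
    rw [← hn, bc_smul, hv, smul_zero]
  rw [bc_tmul, map_one] at h1
  have h2 := mem_smul_top_of_one_tmul hK h1
  have h3 : (1 : Localization.AtPrime q) ⊗ₜ[R] n ∈ (p.map (algebraMap R (Localization.AtPrime q)) • ⊤ :
      Submodule (Localization.AtPrime q) (Localization.AtPrime q ⊗[R] A)) := tmul_mem_smul_top 1 h2
  rw [← hn] at h3
  exact (Submodule.smul_mem_iff_of_isUnit _ (IsLocalization.map_units (Localization.AtPrime q)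
    (⟨w, hw⟩ : q.primeCompl))).mp h3

/-- `z` comes from a group-like over `R_q` which is congruent to `x` modulo `L`. -/
def P (L : Ideal R) (x : A) (q : Ideal R) [q.IsPrime] (hq : p ≤ q) (z : K ⊗[R] A) : Prop :=
  ∃ y : Localization.AtPrime q ⊗[R] A, IsGroupLikeElem (Localization.AtPrime q) y ∧
    y - 1 ⊗ₜ[R] x ∈ (L.map (algebraMap R (Localization.AtPrime q)) • ⊤ :
      Submodule (Localization.AtPrime q) (Localization.AtPrime q ⊗[R] A)) ∧
    bc A (sig p K hK q hq) y = z

variable {M : Type u} [CommGroup M]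

omit [Module.Flat R A] in
lemma P_unique {L : Ideal R} {x : A} {q : Ideal R} [q.IsPrime] (hq : p ≤ q) (hL : L ≤ q)
    (g : GBasis (Localization.AtPrime q) (Localization.AtPrime q ⊗[R] A) M) {z z' : K ⊗[R] A}
    (hz : P p K hK L x q hq z) (hz' : P p K hK L x q hq z') : z = z' := by
  obtain ⟨y, hy, hyx, rfl⟩ := hz
  obtain ⟨y', hy', hyx', rfl⟩ := hz'
  have h : y - y' ∈ ((⊥ : Ideal (Localization.AtPrime q)) • ⊤ :
      Submodule (Localization.AtPrime q) (Localization.AtPrime q ⊗[R] A)) := by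
    refine uniq_local g bot_le (map_ne_top hL) (isGroupLikeElem_iff_isGLMod_bot.mp hy)
      (isGroupLikeElem_iff_isGLMod_bot.mp hy') ?_
    have e : y - y' = (y - 1 ⊗ₜ[R] x) - (y' - 1 ⊗ₜ[R] x) := by abel
    rw [e]
    exact Submodule.sub_mem _ hyx hyx'
  rw [Submodule.bot_smul, Submodule.mem_bot, sub_eq_zero] at h
  rw [h]

omit [Module.Flat R A] in
/-- Local constancy of the lift. -/
lemma P_locally {L : Ideal R} (hpL : p ≤ L) {x : A} (hx : IsGLMod L x) (q : Ideal R) [q.IsPrime] (hL : L ≤ q)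
    {w : R} (hw : w ∉ q) (g : GBasis (Localization.Away w) (Localization.Away w ⊗[R] A) M) :
    ∃ (z : K ⊗[R] A) (f : R), f ∉ q ∧ ∀ (q' : Ideal R) [q'.IsPrime] (hL' : L ≤ q'), f ∉ q' →
      P p K hK L x q' (hpL.trans hL') z := by
  have hG : ∀ (q' : Ideal R) [q'.IsPrime] (hL' : L ≤ q') (hw' : w ∉ q'),
      ∃ m, (g.bc (awL (W := q'.primeCompl) w hw')).b m - 1 ⊗ₜ[R] x ∈
        (L.map (algebraMap R (Localization.AtPrime q')) • ⊤ :
          Submodule (Localization.AtPrime q') (Localization.AtPrime q' ⊗[R] A)) := by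
    intro q' _ hL' hw'
    exact exists_b_of_isGLMod (g.bc (awL (W := q'.primeCompl) w hw')) (map_ne_top hL') hx.one_tmul
  have hcoord : ∀ (q' : Ideal R) [q'.IsPrime] (hw' : w ∉ q') (m n : M),
      (g.bc (awL (W := q'.primeCompl) w hw')).b m - 1 ⊗ₜ[R] x ∈
        (L.map (algebraMap R (Localization.AtPrime q')) • ⊤ :
          Submodule (Localization.AtPrime q') (Localization.AtPrime q' ⊗[R] A)) →
      Finsupp.single m 1 n - awL (W := q'.primeCompl) w hw' (g.b.repr (1 ⊗ₜ x) n) ∈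
        L.map (algebraMap R (Localization.AtPrime q')) := by
    intro q' _ hw' m n hm
    have h1 := repr_mem (g.bc (awL (W := q'.primeCompl) w hw')) hm n
    rw [map_sub, Finsupp.sub_apply, Module.Basis.repr_self] at h1
    have h2 : (1 : Localization.AtPrime q') ⊗ₜ[R] x =
        bc A (awL (W := q'.primeCompl) w hw') ((1 : Localization.Away w) ⊗ₜ[R] x) := by
      rw [bc_tmul, map_one]
    rw [h2, GBasis.bc_repr] at h1
    exact h1
  obtain ⟨m₀, hm₀⟩ := hG q hL hw
  set c : Localization.Away w := g.b.repr (1 ⊗ₜ x) m₀ with hc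
  obtain ⟨⟨r, s⟩, hrs⟩ := IsLocalization.surj (Submonoid.powers w) c
  have hmax : ∀ (q' : Ideal R) [q'.IsPrime] (_ : L ≤ q'), L.map (algebraMap R (Localization.AtPrime q')) ≤
      IsLocalRing.maximalIdeal (Localization.AtPrime q') := by
    intro q' _ hL'
    rw [← Localization.AtPrime.map_eq_maximalIdeal]
    exact Ideal.map_mono hL'
  have hru : ∀ (q' : Ideal R) [q'.IsPrime] (hw' : w ∉ q'),
      IsUnit (awL (W := q'.primeCompl) w hw' c) ↔ r ∉ q' := by
    intro q' _ hw'
    have h1 := congrArg (awL (W := q'.primeCompl) w hw') hrs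
    rw [map_mul, AlgHom.commutes, AlgHom.commutes] at h1
    have hs : IsUnit (algebraMap R (Localization.AtPrime q') s) := by
      obtain ⟨k, hk⟩ := s.2
      apply IsLocalization.map_units (Localization.AtPrime q') (⟨s, ?_⟩ : q'.primeCompl)
      intro hsq
      rw [← hk] at hsq
      exact hw' (Ideal.IsPrime.mem_of_pow_mem inferInstance k hsq)
    have h2 : IsUnit (algebraMap R (Localization.AtPrime q') r) ↔ r ∈ q'.primeCompl :=
      IsLocalization.AtPrime.isUnit_to_map_iff _ q' r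
    have h3 : r ∉ q' ↔ r ∈ q'.primeCompl := Iff.rfl
    rw [h3, ← h2, ← h1]
    exact ⟨fun h => h.mul hs, fun h => isUnit_of_mul_isUnit_left h⟩
  have hcu : IsUnit (awL (W := q.primeCompl) w hw c) := by
    have h1 := hmax q hL (hcoord q hw m₀ m₀ hm₀)
    rw [Finsupp.single_eq_same, ← hc] at h1
    by_contra h2
    have h3 := (IsLocalRing.mem_maximalIdeal _).mpr h2
    have h4 := Ideal.add_mem _ h1 h3
    rw [sub_add_cancel] at h4
    exact (IsLocalRing.mem_maximalIdeal _).mp h4 isUnit_one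
  have hrq := (hru q hw).mp hcu
  refine ⟨bc A ((sig p K hK q (hpL.trans hL)).comp (awL (W := q.primeCompl) w hw)) (g.b m₀), w * r,
    fun h => ?_, fun q' _ hL' hf => ?_⟩
  · rcases (Ideal.IsPrime.mem_or_mem inferInstance h : w ∈ q ∨ r ∈ q) with h | h
    · exact hw h
    · exact hrq h
  · have hw' : w ∉ q' := fun h => hf (Ideal.mul_mem_right _ _ h)
    have hr' : r ∉ q' := fun h => hf (Ideal.mul_mem_left _ _ h)
    obtain ⟨m, hm⟩ := hG q' hL' hw'
    have hmm : m = m₀ := by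
      by_contra hne
      have h1 := hmax q' hL' (hcoord q' hw' m m₀ hm)
      rw [Finsupp.single_eq_of_ne (fun h => hne h.symm), zero_sub, neg_mem_iff, ← hc] at h1
      exact (IsLocalRing.mem_maximalIdeal _).mp h1 ((hru q' hw').mpr hr')
    subst hmm
    refine ⟨_, (g.bc (awL (W := q'.primeCompl) w hw')).gl m, hm, ?_⟩
    rw [GBasis.bc_b, bc_bc]
    congr 2
    exact algHom_away_ext w _ _

omit [Module.Flat R A] in
/-- The constant value. -/
lemma exists_const {L : Ideal R} (hpL : p ≤ L) (hLtop : L ≠ ⊤) {x : A} (hx : IsGLMod L x)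
    (hnb : ∀ q : PrimeSpectrum R, ∃ w ∉ q.asIdeal,
      Nonempty (GBasis (Localization.Away w) (Localization.Away w ⊗[R] A) M))
    (hconn : IsPreconnected (PrimeSpectrum.zeroLocus (L : Set R))) :
    ∃ z : K ⊗[R] A, ∀ (q : Ideal R) [q.IsPrime] (hL : L ≤ q), P p K hK L x q (hpL.trans hL) z := by
  have hloc : ∀ (q : Ideal R) [q.IsPrime], Nonempty (GBasis (Localization.AtPrime q)
      (Localization.AtPrime q ⊗[R] A) M) := by
    intro q _
    obtain ⟨w, hw, ⟨g⟩⟩ := hnb ⟨q, inferInstance⟩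
    exact ⟨g.bc (awL (W := q.primeCompl) w hw)⟩
  have hP : ∀ (q : Ideal R) [q.IsPrime] (hL : L ≤ q), ∃ (z : K ⊗[R] A) (f : R), f ∉ q ∧
      ∀ (q' : Ideal R) [q'.IsPrime] (hL' : L ≤ q'), f ∉ q' → P p K hK L x q' (hpL.trans hL') z := by
    intro q _ hL
    obtain ⟨w, hw, ⟨g⟩⟩ := hnb ⟨q, inferInstance⟩
    exact P_locally p K hK hpL hx q hL hw g
  obtain ⟨m₀, hm₀, hLm₀⟩ := Ideal.exists_le_maximal L hLtop
  have := hm₀.isPrime
  obtain ⟨z, f₀, hf₀, hz⟩ := hP m₀ hLm₀
  refine ⟨z, fun q _ hL => ?_⟩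
  let U : Set (PrimeSpectrum R) := {a | ∃ f, f ∉ a.asIdeal ∧
    ∀ (q' : Ideal R) [q'.IsPrime] (hL' : L ≤ q'), f ∉ q' → P p K hK L x q' (hpL.trans hL') z}
  let V : Set (PrimeSpectrum R) := {a | ∃ z', z' ≠ z ∧ ∃ f, f ∉ a.asIdeal ∧
    ∀ (q' : Ideal R) [q'.IsPrime] (hL' : L ≤ q'), f ∉ q' → P p K hK L x q' (hpL.trans hL') z'}
  have hU : IsOpen U := by
    have : U = ⋃ (f : R) (_ : ∀ (q' : Ideal R) [q'.IsPrime] (hL' : L ≤ q'), f ∉ q' →
        P p K hK L x q' (hpL.trans hL') z), (PrimeSpectrum.basicOpen f : Set (PrimeSpectrum R)) := by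
      ext a
      simp only [U, Set.mem_ofPred_eq, Set.mem_iUnion]
      constructor
      · rintro ⟨f, h1, h2⟩
        exact ⟨f, fun q' _ => h2 q', h1⟩
      · rintro ⟨f, h1, h2⟩
        exact ⟨f, h2, fun q' _ => h1 q'⟩
    rw [this]
    exact isOpen_iUnion fun f => isOpen_iUnion fun _ => (PrimeSpectrum.basicOpen f).isOpen
  have hV : IsOpen V := by
    have : V = ⋃ (z' : K ⊗[R] A) (_ : z' ≠ z) (f : R) (_ : ∀ (q' : Ideal R) [q'.IsPrime] (hL' : L ≤ q'), f ∉ q' →
        P p K hK L x q' (hpL.trans hL') z'), (PrimeSpectrum.basicOpen f : Set (PrimeSpectrum R)) := by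
      ext a
      simp only [V, Set.mem_ofPred_eq, Set.mem_iUnion]
      constructor
      · rintro ⟨z', hz', f, h1, h2⟩
        exact ⟨z', hz', f, fun q' _ => h2 q', h1⟩
      · rintro ⟨z', hz', f, h1, h2⟩
        exact ⟨z', hz', f, h2, fun q' _ => h1 q'⟩
    rw [this]
    exact isOpen_iUnion fun z' => isOpen_iUnion fun _ => isOpen_iUnion fun f => isOpen_iUnion fun _ =>
      (PrimeSpectrum.basicOpen f).isOpen
  have hcov : PrimeSpectrum.zeroLocus (L : Set R) ⊆ U ∪ V := by
    intro a ha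
    obtain ⟨z', f, hf, h⟩ := hP a.asIdeal (PrimeSpectrum.mem_zeroLocus _ _ |>.mp ha)
    by_cases hzz : z' = z
    · subst hzz
      exact Or.inl ⟨f, hf, fun q' _ => h q'⟩
    · exact Or.inr ⟨z', hzz, f, hf, fun q' _ => h q'⟩
  have hne : (PrimeSpectrum.zeroLocus (L : Set R) ∩ U).Nonempty :=
    ⟨⟨m₀, inferInstance⟩, hLm₀, f₀, hf₀, fun q' _ => hz q'⟩
  have hVe : ¬ (PrimeSpectrum.zeroLocus (L : Set R) ∩ V).Nonempty := by
    intro hVne
    obtain ⟨a, haL, ⟨f, hf, h⟩, ⟨z', hz', f', hf', h'⟩⟩ := hconn U V hU hV hcov hne hVne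
    obtain ⟨g⟩ := hloc a.asIdeal
    exact hz' (P_unique p K hK (hpL.trans haL) haL g (h' a.asIdeal haL hf') (h a.asIdeal haL hf))
  have haL : (⟨q, inferInstance⟩ : PrimeSpectrum R) ∈ PrimeSpectrum.zeroLocus (L : Set R) := hL
  rcases hcov haL with ⟨f, hf, h⟩ | h
  · exact h q hL hf
  · exact absurd ⟨_, haL, h⟩ hVe

end field

variable {A : Type u} [CommRing A] [Bialgebra R A] [Module.Flat R A] {M : Type u} [CommGroup M]

/-- The prime case. -/
theorem lift_prime (p : Ideal R) [p.IsPrime] {I : Ideal R} (hI : ∀ (m : Ideal R) [m.IsMaximal], I ≤ m)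
    (hnb : ∀ q : PrimeSpectrum R, ∃ w ∉ q.asIdeal,
      Nonempty (GBasis (Localization.Away w) (Localization.Away w ⊗[R] A) M))
    (hconn : IsPreconnected (PrimeSpectrum.zeroLocus ((p ⊔ I : Ideal R) : Set R))) :
    Lift A I p := by
  intro x hx
  have hK : ∀ r : R, algebraMap R p.ResidueField r = 0 ↔ r ∈ p := fun r =>
    Ideal.algebraMap_residueField_eq_zero
  have hLtop : p ⊔ I ≠ ⊤ := by
    obtain ⟨m, hm, hpm⟩ := Ideal.exists_le_maximal p (Ideal.IsPrime.ne_top inferInstance)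
    exact fun h => hm.ne_top (top_le_iff.mp (h ▸ sup_le hpm (hI m)))
  obtain ⟨z, hz⟩ := exists_const p p.ResidueField hK le_sup_left hLtop hx hnb hconn
  -- `z` has a representative in `A`
  let D : Ideal R :=
    { carrier := {r | ∃ a : A, r • z = (1 : p.ResidueField) ⊗ₜ[R] a}
      zero_mem' := ⟨0, by rw [zero_smul, TensorProduct.tmul_zero]⟩
      add_mem' := by
        rintro r s ⟨a, ha⟩ ⟨b, hb⟩
        exact ⟨a + b, by rw [add_smul, ha, hb, TensorProduct.tmul_add]⟩
      smul_mem' := by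
        rintro r s ⟨a, ha⟩
        exact ⟨r • a, by rw [smul_eq_mul, mul_smul, ha, TensorProduct.tmul_smul]⟩ }
  have hD : D = ⊤ := by
    by_contra hne
    obtain ⟨m, hm, hDm⟩ := Ideal.exists_le_maximal D hne
    have hpm : p ≤ m := by
      intro r hr
      refine hDm (show ∃ a : A, r • z = (1 : p.ResidueField) ⊗ₜ[R] a from ⟨0, ?_⟩)
      rw [TensorProduct.tmul_zero, ← algebraMap_smul p.ResidueField r z, (hK r).mpr hr, zero_smul]
    obtain ⟨y, _, _, hyz⟩ := hz m (sup_le hpm (hI m))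
    obtain ⟨s, hs, a, ha⟩ := exists_smul_eq m.primeCompl y
    refine hs (hDm (show ∃ a : A, s • z = (1 : p.ResidueField) ⊗ₜ[R] a from ⟨a, ?_⟩))
    have h1 := congrArg (bc A (sig p p.ResidueField hK m hpm)) ha
    rw [bc_smul, AlgHom.commutes, bc_tmul, map_one, algebraMap_smul] at h1
    rw [← h1, ← hyz]
  obtain ⟨y, hy⟩ : ∃ y : A, z = (1 : p.ResidueField) ⊗ₜ[R] y := by
    obtain ⟨a, ha⟩ := (hD ▸ Submodule.mem_top : (1 : R) ∈ D)
    exact ⟨a, by rw [← ha, one_smul]⟩
  refine ⟨y, ?_, ?_⟩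
  · obtain ⟨m, hm, hpm⟩ := Ideal.exists_le_maximal p (Ideal.IsPrime.ne_top inferInstance)
    obtain ⟨y', hy', _, hyz⟩ := hz m (sup_le hpm (hI m))
    have h1 := isGroupLikeElem_bc (sig p p.ResidueField hK m hpm) hy'
    have h0 : bc A (sig p p.ResidueField hK m hpm) y' = z := hyz
    rw [h0, hy] at h1
    constructor
    · have h2 := h1.counit_eq_one
      rw [GLBasic.counit_one_tmul, ← sub_eq_zero, ← map_one (algebraMap R p.ResidueField), ← map_sub, hK] at h2
      exact h2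
    · have h2 := h1.comul_eq_tmul_self
      apply mem_smul_top_of_one_tmul hK
      rw [GLBasic.comul_one_tmul] at h2
      have h3 : ((1 : p.ResidueField) ⊗ₜ[R] y) ⊗ₜ[p.ResidueField] ((1 : p.ResidueField) ⊗ₜ[R] y) =
        TensorProduct.AlgebraTensorModule.distribBaseChange R p.ResidueField A A (1 ⊗ₜ (y ⊗ₜ y)) := by simp
      rw [h3] at h2
      rw [TensorProduct.tmul_sub, sub_eq_zero]
      exact (LinearEquiv.injective _) h2
  · apply mem_smul_top_of_local
    intro m _ hm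
    have hpm : p ≤ m := le_sup_left.trans hm
    obtain ⟨y', hy', hyx', hyz⟩ := hz m hm
    have h1 : (1 : Localization.AtPrime m) ⊗ₜ[R] y - y' ∈
        (p.map (algebraMap R (Localization.AtPrime m)) • ⊤ :
          Submodule (Localization.AtPrime m) (Localization.AtPrime m ⊗[R] A)) := by
      apply mem_smul_top_of_bc_sig p p.ResidueField hK m hpm
      rw [map_sub, bc_tmul, map_one, ← hy]
      have h0 : bc A (sig p p.ResidueField hK m hpm) y' = z := hyz
      rw [h0, sub_self]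
    have e : (1 : Localization.AtPrime m) ⊗ₜ[R] (y - x) =
        ((1 : Localization.AtPrime m) ⊗ₜ[R] y - y') + (y' - 1 ⊗ₜ[R] x) := by
      rw [TensorProduct.tmul_sub]; abel
    rw [e]
    exact Submodule.add_mem _ (Submodule.smul_mono (Ideal.map_mono le_sup_left) le_rfl h1) hyx'

end Groth.Agent.Sga3A.GLPrime146
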