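import Groth.Agent.Sga3A.GLLift
import Mathlib.RingTheory.LocalProperties.Exactness
import Mathlib.RingTheory.Localization.BaseChange

/-!
A Hopf algebra of multiplicative type is diagonalisable over the members of a finite jointly
faithfully flat family; consequences (team sga3-a).
-/

open TensorProduct

namespace Groth.Agent.Sga3A.MTFamily

open BCIso GLBasic GLLift SGA3b

universe u v w

variable {R : Type u} [CommRing R]

/-- An element of a module vanishing in all `R_f ⊗ N`, `f ∈ s`, vanishes if `s` spans `R`. -/
theorem eq_zero_of_away {s : Set R} (hs : Ideal.span s = ⊤) {N : Type v} [AddCommGroup N]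
    [Module R N] (n : N) (h : ∀ f ∈ s, (1 : Localization.Away f) ⊗ₜ[R] n = 0) : n = 0 := by
  have key : ∀ f ∈ s, ∃ k : ℕ, f ^ k • n = 0 := by
    intro f hf
    have h1 : IsLocalizedModule (Submonoid.powers f)
        (TensorProduct.mk R (Localization.Away f) N 1) := inferInstance
    have h2 := (IsLocalizedModule.eq_zero_iff (Submonoid.powers f)
      (TensorProduct.mk R (Localization.Away f) N 1)).1 (h f hf)
    obtain ⟨⟨_, k, rfl⟩, hc⟩ := h2
    exact ⟨k, hc⟩
  have := Submodule.mem_of_span_eq_top_of_smul_pow_mem (⊥ : Submodule R N) s hs n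
    (fun f => by
      obtain ⟨k, hk⟩ := key f f.2
      exact ⟨k, by rw [hk]; exact Submodule.zero_mem _⟩)
  simpa using this

/-- A Hopf algebra of multiplicative type is diagonalisable over all members of some finite jointly
pure family of flat algebras. -/
theorem exists_family {A : Type u} [CommRing A] [HopfAlgebra R A] (h : IsMultType R A) :
    ∃ (ι : Type u) (_ : Finite ι) (S : ι → Type u) (_ : ∀ i, CommRing (S i))
      (_ : ∀ i, Algebra R (S i)), JointlyPure R S ∧ (∀ i, Module.Flat R (S i)) ∧
        ∀ i, IsDiag (S i) (S i ⊗[R] A) := by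
  obtain ⟨s, hs, h⟩ := h
  obtain ⟨t, hts, ht⟩ := (Ideal.span_eq_top_iff_finite s).1 hs
  choose S hS1 hS2 hff hd using h
  let A1 : ∀ f (hf : f ∈ s), Algebra R (S f hf) := fun f hf =>
    ((algebraMap (Localization.Away f) (S f hf)).comp (algebraMap R (Localization.Away f))).toAlgebra
  have A2 : ∀ f (hf : f ∈ s), IsScalarTower R (Localization.Away f) (S f hf) := fun f hf =>
    IsScalarTower.of_algebraMap_eq fun _ => rfl
  refine ⟨t, inferInstance, fun f => S f (hts f.2), fun f => hS1 f (hts f.2),
    fun f => A1 f (hts f.2), ?_, ?_, ?_⟩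
  · intro N _ _ n hn
    refine eq_zero_of_away ht n fun f hf => ?_
    have := hff f (hts hf)
    have h1 := hn ⟨f, hf⟩
    apply FFDescent.one_tmul_injective (R := Localization.Away f) (S := S f (hts hf))
    apply (TensorProduct.AlgebraTensorModule.cancelBaseChange R (Localization.Away f)
      (S f (hts hf)) (S f (hts hf)) N).injective
    simpa using h1
  · intro f
    have := hff f (hts f.2)
    exact Module.Flat.trans R (Localization.Away (f : R)) (S f (hts f.2))
  · intro f
    exact (isDiag_cancel_iff (Localization.Away (f : R)) (S f (hts f.2))).1 (hd f (hts f.2))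

theorem glUniq_of_isMultType {A : Type u} [CommRing A] [HopfAlgebra R A] (h : IsMultType R A) :
    GLUniq R A := by
  obtain ⟨ι, _, S, _, _, hS, _, hd⟩ := exists_family h
  exact glUniq_of_family hS fun i => glUniq_of_isDiag (hd i)

theorem glExist_of_isMultType {A : Type u} [CommRing A] [HopfAlgebra R A] (h : IsMultType R A) :
    GLExist R A := by
  obtain ⟨ι, _, S, _, _, hS, _, hd⟩ := exists_family h
  refine glExist_of_family hS (fun i => glExist_of_isDiag (hd i)) fun i j => ?_
  have : IsDiag (S i ⊗[R] S j) ((S i ⊗[R] S j) ⊗[R] A) := isDiag_of_tower (S i) _ (hd i)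
  exact glUniq_of_isDiag this

end Groth.Agent.Sga3A.MTFamily
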