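import Groth.Agent.Sga3A.GLPrime146
import Groth.Agent.Sga3A.GLDiag146
import Groth.Agent.Sga3A.MTQuasi
import Groth.Agent.Sga3A.MTFamily
import Groth.Agent.Sga3A.NilDescent
import Groth.Agent.S0526
import Groth.Agent.S0530

/-!
# Diagonalisability over henselian pairs

* `isDiag_of_henselian`: a group of multiplicative type over a Noetherian ring `R`, henselian along `I`, which is
  Zariski-locally diagonalisable and diagonalisable modulo `I`, is diagonalisable;
* `exists_ff_gbasis`: a group of multiplicative type which is of constant type modulo `I ⊆ Jac(R)` is of constant type.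
-/

set_option autoImplicit false

open TensorProduct

namespace Groth.Agent.Sga3A.GLReduce146

open MTBasis GLBasic GLLift GLComp146 GLGlue146 GLPrime146 GLDiag146 SGA3b MultBC MTSpread

universe u

lemma isPreconnected_zeroLocus (R : Type u) [CommRing R] (I : Ideal R) [HenselianRing R I] (p : Ideal R)
    [p.IsPrime] : IsPreconnected (PrimeSpectrum.zeroLocus ((p ⊔ I : Ideal R) : Set R)) := by
  have h := Groth.Agent.S0530.result R I p
  have h1 : Set.range (PrimeSpectrum.comap (Ideal.Quotient.mk (p ⊔ I))) =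
      PrimeSpectrum.zeroLocus ((p ⊔ I : Ideal R) : Set R) := by
    rw [range_comap_of_surjective _ _ Ideal.Quotient.mk_surjective, Ideal.mk_ker]
  rw [← h1, ← Set.image_univ]
  exact isPreconnected_univ.image _ (PrimeSpectrum.continuous_comap _).continuousOn

lemma le_maximal_of_henselian {R : Type u} [CommRing R] (I : Ideal R) [hR : HenselianRing R I] (m : Ideal R)
    [hm : m.IsMaximal] : I ≤ m :=
  hR.jac.trans (sInf_le ⟨bot_le, hm⟩)

section

variable {R : Type u} [CommRing R] {A : Type u} [CommRing A] [HopfAlgebra R A] {M : Type u} [CommGroup M]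

theorem isDiag_of_henselian [IsNoetherianRing R] (I : Ideal R) [HenselianRing R I] [Module.Flat R A]
    (h : IsMultType R A)
    (hnb : ∀ q : PrimeSpectrum R, ∃ w ∉ q.asIdeal,
      Nonempty (GBasis (Localization.Away w) (Localization.Away w ⊗[R] A) M))
    (h0 : IsDiag (R ⧸ I) ((R ⧸ I) ⊗[R] A)) : IsDiag R A := by
  have hI : ∀ (m : Ideal R) [m.IsMaximal], I ≤ m := fun m _ => le_maximal_of_henselian I m
  have hloc : ∀ (m : Ideal R) [m.IsMaximal], Nonempty (GBasis (Localization.AtPrime m)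
      (Localization.AtPrime m ⊗[R] A) M) := by
    intro m _
    obtain ⟨w, hw, ⟨g⟩⟩ := hnb ⟨m, inferInstance⟩
    exact ⟨g.bc (awL (W := m.primeCompl) w hw)⟩
  have hl : Lift A I (nilradical R) := lift_nilradical hI hloc fun p _ =>
    lift_prime p hI hnb (isPreconnected_zeroLocus R I p)
  obtain ⟨M', _, ⟨e⟩⟩ := h0
  obtain ⟨g⟩ := exists_gbasis hI hloc (exists_lift hloc (MTFamily.glExist_of_isMultType h) hl)
    (GBasis.ofBialgEquiv e)
  exact MTConst.isDiag_of_gbasis g

end

section const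

variable {R : Type u} [CommRing R]

lemma faithfullyFlat_pi_of_maximal {ι : Type u} [Finite ι] (S : ι → Type u) [∀ i, CommRing (S i)]
    [∀ i, Algebra R (S i)] [∀ i, Module.Flat R (S i)]
    (h : ∀ (m : Ideal R) [m.IsMaximal], ∃ i, ∃ q : PrimeSpectrum (S i), q.asIdeal.comap (algebraMap R (S i)) = m) :
    Module.FaithfullyFlat R (∀ i, S i) := by
  have := TypeLemma.flat_pi (R := R) S
  refine ⟨fun m hm htop => ?_⟩
  obtain ⟨i, q, hq⟩ := h m
  have h1 : (1 : ∀ i, S i) ∈ (m • ⊤ : Submodule R (∀ i, S i)) := by rw [htop]; trivial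
  have h2 := map_mem_smul_top (LinearMap.proj i : (∀ i, S i) →ₗ[R] S i) h1
  have h3 : (m • ⊤ : Submodule R (S i)) ≤ q.asIdeal.restrictScalars R := by
    rw [Submodule.smul_le]
    intro r hr x _
    rw [Submodule.restrictScalars_mem, Algebra.smul_def]
    apply Ideal.mul_mem_right
    rw [← hq] at hr
    exact hr
  exact q.isPrime.ne_top ((Ideal.eq_top_iff_one _).mpr (h3 h2))

variable {A : Type u} [CommRing A] [HopfAlgebra R A]

theorem exists_ff_gbasis (I : Ideal R) (hI : ∀ (m : Ideal R) [m.IsMaximal], I ≤ m) (h : IsMultType R A)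
    (R₁ : Type u) [CommRing R₁] [Algebra (R ⧸ I) R₁] [Algebra R R₁] [IsScalarTower R (R ⧸ I) R₁]
    [Module.FaithfullyFlat (R ⧸ I) R₁] {M : Type u} [CommGroup M]
    (hd : Nonempty (R₁ ⊗[R] A ≃ₐc[R₁] MonoidAlgebra R₁ M)) :
    ∃ (S : Type u) (_ : CommRing S) (_ : Algebra R S) (_ : Module.FaithfullyFlat R S),
      Nonempty (GBasis S (S ⊗[R] A) M) := by
  obtain ⟨ι, _, S, _, _, hflat, hsurj, hdiag⟩ := TypeLemma.IsMultType.exists_family h
  let ι' : Type u := {i : ι // Nontrivial ((R ⧸ I) ⊗[R] S i)}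
  have key : ∀ i : ι', Nonempty (S i.1 ⊗[R] A ≃ₐc[S i.1] MonoidAlgebra (S i.1) M) := by
    rintro ⟨i, hi⟩
    obtain ⟨X, _, ⟨e⟩⟩ := hdiag i
    let T : Type u := R₁ ⊗[R ⧸ I] ((R ⧸ I) ⊗[R] S i)
    have : Nontrivial T :=
      (Module.FaithfullyFlat.tensorProduct_mk_injective (A := R ⧸ I) (B := R₁) ((R ⧸ I) ⊗[R] S i)).nontrivial
    let f : R₁ →ₐ[R] T := (Algebra.TensorProduct.includeLeft : R₁ →ₐ[R ⧸ I] T).restrictScalars R
    let f' : S i →ₐ[R] T :=
      ((Algebra.TensorProduct.includeRight : (R ⧸ I) ⊗[R] S i →ₐ[R ⧸ I] T).restrictScalars R).comp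
        Algebra.TensorProduct.includeRight
    obtain ⟨m⟩ := TypeLemma.mulEquiv_of_common (B := A) (T := T) f f' hd ⟨e⟩
    exact ⟨e.trans (MonoidAlgebra.domCongrBialgEquiv _ _ m.symm)⟩
  have hff : Module.FaithfullyFlat R (∀ i : ι', S i.1) := by
    have : ∀ i : ι', Module.Flat R (S i.1) := fun i => hflat i.1
    apply faithfullyFlat_pi_of_maximal (fun i : ι' => S i.1)
    intro m hm
    obtain ⟨i, q, hq⟩ := hsurj ⟨m, inferInstance⟩
    have hq' : q.asIdeal.comap (algebraMap R (S i)) = m := congrArg PrimeSpectrum.asIdeal hq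
    refine ⟨⟨i, ?_⟩, q, hq'⟩
    let a : R ⧸ I →ₐ[R] S i ⧸ q.asIdeal := Ideal.Quotient.liftₐ I (Algebra.ofId R _) (fun r hr => by
      have h1 : r ∈ q.asIdeal.comap (algebraMap R (S i)) := by rw [hq']; exact hI m hr
      exact Ideal.Quotient.eq_zero_iff_mem.mpr h1)
    let b : (R ⧸ I) ⊗[R] S i →ₐ[R] S i ⧸ q.asIdeal :=
      Algebra.TensorProduct.lift a (Ideal.Quotient.mkₐ R q.asIdeal) (fun _ _ => Commute.all _ _)
    have : Nontrivial (S i ⧸ q.asIdeal) := Ideal.Quotient.nontrivial_iff.mpr q.isPrime.ne_top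
    exact b.toRingHom.domain_nontrivial
  exact ⟨∀ i : ι', S i.1, inferInstance, inferInstance, hff,
    ⟨GBasis.ofBialgEquiv (DiagPi.diagPi fun i => (key i).some)⟩⟩

end const

end Groth.Agent.Sga3A.GLReduce146
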