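import Mathlib.RingTheory.HopfAlgebra.Basic
import Mathlib.RingTheory.HopfAlgebra.Convolution
import Mathlib.RingTheory.HopfAlgebra.TensorProduct
import Mathlib.RingTheory.Bialgebra.Equiv
import Mathlib.RingTheory.IsTensorProduct
import Mathlib.RingTheory.Flat.FaithfullyFlat.Basic
import Mathlib.RingTheory.Flat.FaithfullyFlat.Algebra
import Mathlib.LinearAlgebra.TensorProduct.Pi
import Mathlib.RingTheory.TensorProduct.Maps

/-!
# Forms of Hopf algebras (team sga3-a)

Let `S i` be a finite family of `R`-algebras with `∏ S i` faithfully flat over `R`, `B i` commutative `S i`-Hopf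
algebras and `A` a commutative `R`-algebra with `S i ⊗[R] A ≃ B i` as algebras.  If the comultiplications, counits and
antipodes of the `B i` restrict to `A`, then `A` has an `R`-Hopf algebra structure with `S i ⊗[R] A ≃ B i` as
bialgebras: `exists_hopfAlgebra`.
-/

set_option autoImplicit false

open TensorProduct

namespace Groth.Agent.Sga3A.HopfForm

universe u v w x

section m2

variable {R S : Type*} [CommRing R] [CommRing S] [Algebra R S]
  {A B C D : Type*} [CommRing A] [CommRing B] [CommRing C] [CommRing D] [Algebra R A] [Algebra R C]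
  [Algebra S B] [Algebra R B] [IsScalarTower R S B] [Algebra S D] [Algebra R D] [IsScalarTower R S D]

variable (S) in
/-- The map `A ⊗[R] C → B ⊗[S] D` induced by `A → B`, `C → D`. -/
noncomputable def m2 (f : A →ₐ[R] B) (g : C →ₐ[R] D) : A ⊗[R] C →ₐ[R] B ⊗[S] D :=
  Algebra.TensorProduct.lift
    (((Algebra.TensorProduct.includeLeft : B →ₐ[S] B ⊗[S] D).restrictScalars R).comp f)
    (((Algebra.TensorProduct.includeRight : D →ₐ[S] B ⊗[S] D).restrictScalars R).comp g)
    (fun _ _ => .all _ _)

@[simp] lemma m2_tmul (f : A →ₐ[R] B) (g : C →ₐ[R] D) (a : A) (c : C) :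
    m2 S f g (a ⊗ₜ c) = f a ⊗ₜ g c := by
  simp [m2]

lemma isBaseChange_m2 {f : A →ₐ[R] B} {g : C →ₐ[R] D} (hf : IsBaseChange S f.toLinearMap)
    (hg : IsBaseChange S g.toLinearMap) : IsBaseChange S (m2 S f g).toLinearMap := by
  refine IsBaseChange.of_equiv ((AlgebraTensorModule.distribBaseChange R S A C).trans
    (TensorProduct.congr hf.equiv hg.equiv)) (fun x => ?_)
  induction x using TensorProduct.induction_on with
  | zero => simp
  | tmul a c =>
    simp [IsBaseChange.equiv_tmul]
  | add x y hx hy => rw [TensorProduct.tmul_add, map_add, map_add, hx, hy]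

lemma span_range_of_isBaseChange {M N : Type*} [AddCommGroup M] [AddCommGroup N] [Module R M] [Module R N]
    [Module S N] [IsScalarTower R S N] {f : M →ₗ[R] N} (hf : IsBaseChange S f) :
    Submodule.span S (Set.range f) = ⊤ := by
  rw [eq_top_iff]
  rintro x -
  induction x using hf.inductionOn with
  | zero => exact Submodule.zero_mem _
  | tmul m => exact Submodule.subset_span ⟨m, rfl⟩
  | smul s n hn => exact Submodule.smul_mem _ _ hn
  | add x y hx hy => exact Submodule.add_mem _ hx hy

end m2

section joint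

variable {R : Type u} [CommRing R] {ι : Type v} {S : ι → Type w} [∀ i, CommRing (S i)] [∀ i, Algebra R (S i)]

/-- joint injectivity of base changes -/
lemma eq_zero_of_forall [Finite ι] [Module.FaithfullyFlat R (∀ i, S i)] {N : Type*} [AddCommGroup N] [Module R N]
    {N' : ι → Type*} [∀ i, AddCommGroup (N' i)] [∀ i, Module R (N' i)] [∀ i, Module (S i) (N' i)]
    [∀ i, IsScalarTower R (S i) (N' i)] (g : ∀ i, N →ₗ[R] N' i) (hg : ∀ i, IsBaseChange (S i) (g i))
    (n : N) (hn : ∀ i, g i n = 0) : n = 0 := by
  classical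
  have := Fintype.ofFinite ι
  apply Module.FaithfullyFlat.tensorProduct_mk_injective (A := R) (B := ∀ i, S i) N
  rw [map_zero]
  change (1 : ∀ i, S i) ⊗ₜ[R] n = 0
  apply (TensorProduct.comm R (∀ i, S i) N).injective
  rw [map_zero, TensorProduct.comm_tmul]
  apply (TensorProduct.piRight R R N S).injective
  rw [map_zero]
  ext i
  rw [Pi.zero_apply, TensorProduct.piRight_apply, TensorProduct.piRightHom_tmul]
  apply (TensorProduct.comm R N (S i)).injective
  rw [map_zero, TensorProduct.comm_tmul, Pi.one_apply]
  apply (hg i).equiv.injective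
  rw [map_zero, IsBaseChange.equiv_tmul, one_smul, hn]

lemma eq_of_forall [Finite ι] [Module.FaithfullyFlat R (∀ i, S i)] {N : Type*} [AddCommGroup N] [Module R N]
    {N' : ι → Type*} [∀ i, AddCommGroup (N' i)] [∀ i, Module R (N' i)] [∀ i, Module (S i) (N' i)]
    [∀ i, IsScalarTower R (S i) (N' i)] (g : ∀ i, N →ₗ[R] N' i) (hg : ∀ i, IsBaseChange (S i) (g i))
    (n n' : N) (hn : ∀ i, g i n = g i n') : n = n' := by
  rw [← sub_eq_zero]
  exact eq_zero_of_forall g hg _ (fun i => by rw [map_sub, hn, sub_self])

/-- Factor an algebra hom through a jointly injective family. -/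
lemma exists_factor {A C : Type*} [CommRing A] [CommRing C] [Algebra R A] [Algebra R C] {D : ι → Type*}
    [∀ i, CommRing (D i)] [∀ i, Algebra R (D i)] (g : ∀ i, C →ₐ[R] D i)
    (hg : ∀ c c', (∀ i, g i c = g i c') → c = c') (h : ∀ i, A →ₐ[R] D i)
    (H : ∀ a, ∃ c, ∀ i, g i c = h i a) : ∃ k : A →ₐ[R] C, ∀ i a, g i (k a) = h i a := by
  choose k hk using H
  refine ⟨{ toFun := k, map_one' := ?_, map_mul' := ?_, map_zero' := ?_, map_add' := ?_, commutes' := ?_ }, ?_⟩
  · apply hg; intro i; rw [hk, map_one, map_one]
  · intro a b; apply hg; intro i; rw [hk, map_mul, map_mul, hk, hk]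
  · apply hg; intro i; rw [hk, map_zero, map_zero]
  · intro a b; apply hg; intro i; rw [hk, map_add, map_add, hk, hk]
  · intro r; apply hg; intro i; rw [hk, AlgHom.commutes, AlgHom.commutes]
  · intro i a; exact hk a i

end joint

section main

variable {R : Type u} [CommRing R] {ι : Type v} {S : ι → Type w} [∀ i, CommRing (S i)] [∀ i, Algebra R (S i)]
  {B : ι → Type*} [∀ i, CommRing (B i)] [∀ i, HopfAlgebra (S i) (B i)] [∀ i, Algebra R (B i)]
  [∀ i, IsScalarTower R (S i) (B i)] {A : Type x} [CommRing A] [Algebra R A]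

theorem exists_hopfAlgebra [Finite ι] [Module.FaithfullyFlat R (∀ i, S i)] (f : ∀ i, A →ₐ[R] B i)
    (hf : ∀ i, IsBaseChange (S i) (f i).toLinearMap)
    (h2 : ∀ a : A, ∃ x : A ⊗[R] A, ∀ i, m2 (S i) (f i) (f i) x = Coalgebra.comul (R := S i) (f i a))
    (h0 : ∀ a : A, ∃ r : R, ∀ i, algebraMap R (S i) r = Coalgebra.counit (R := S i) (f i a))
    (h1 : ∀ a : A, ∃ b : A, ∀ i, f i b = HopfAlgebra.antipode (S i) (f i a)) :
    ∃ (A' : Type x) (_ : CommRing A') (_ : HopfAlgebra R A') (φ : A' ≃ₐ[R] A),
      ∀ i, ∃ e : S i ⊗[R] A' ≃ₐc[S i] B i, ∀ a : A', e (1 ⊗ₜ a) = f i (φ a) := by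
  classical
  have hf2 : ∀ i, IsBaseChange (S i) (m2 (S i) (f i) (f i)).toLinearMap := fun i =>
    isBaseChange_m2 (hf i) (hf i)
  have hf3 : ∀ i, IsBaseChange (S i) (m2 (S i) (f i) (m2 (S i) (f i) (f i))).toLinearMap := fun i =>
    isBaseChange_m2 (hf i) (hf2 i)
  have inj1 : ∀ x y : A, (∀ i, f i x = f i y) → x = y :=
    fun x y h => eq_of_forall (fun i => (f i).toLinearMap) hf x y h
  have inj2 : ∀ x y : A ⊗[R] A, (∀ i, m2 (S i) (f i) (f i) x = m2 (S i) (f i) (f i) y) → x = y :=
    fun x y h => eq_of_forall (fun i => (m2 (S i) (f i) (f i)).toLinearMap) hf2 x y h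
  have inj3 : ∀ x y : A ⊗[R] (A ⊗[R] A), (∀ i, m2 (S i) (f i) (m2 (S i) (f i) (f i)) x =
      m2 (S i) (f i) (m2 (S i) (f i) (f i)) y) → x = y :=
    fun x y h => eq_of_forall (fun i => (m2 (S i) (f i) (m2 (S i) (f i) (f i))).toLinearMap) hf3 x y h
  have inj0 : ∀ x y : R, (∀ i, Algebra.ofId R (S i) x = Algebra.ofId R (S i) y) → x = y :=
    fun x y h => eq_of_forall (fun i => (Algebra.linearMap R (S i))) (fun i => IsBaseChange.linearMap R (S i)) x y h
  obtain ⟨Δ, hΔ⟩ := exists_factor (fun i => m2 (S i) (f i) (f i)) inj2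
    (fun i => ((Bialgebra.comulAlgHom (S i) (B i)).restrictScalars R).comp (f i)) h2
  obtain ⟨ε, hε⟩ := exists_factor (fun i => Algebra.ofId R (S i)) inj0
    (fun i => ((Bialgebra.counitAlgHom (S i) (B i)).restrictScalars R).comp (f i)) h0
  obtain ⟨σ, hσ⟩ := exists_factor f inj1
    (fun i => ((HopfAlgebra.antipodeAlgHom (S i) (B i)).restrictScalars R).comp (f i)) h1
  simp only [AlgHom.coe_comp, Function.comp_apply, AlgHom.coe_restrictScalars',
    Bialgebra.comulAlgHom_apply, Bialgebra.counitAlgHom_apply, HopfAlgebra.antipodeAlgHom_apply] at hΔ hε hσ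
  -- compatibilities
  have c1 : ∀ i (x : A ⊗[R] A), m2 (S i) (f i) (m2 (S i) (f i) (f i)) (Algebra.TensorProduct.map (.id R A) Δ x) =
      (Coalgebra.comul (R := S i)).lTensor (B i) (m2 (S i) (f i) (f i) x) := by
    intro i x
    induction x using TensorProduct.induction_on with
    | zero => simp
    | tmul a c => simp [hΔ]
    | add x y hx hy => simp only [map_add, hx, hy]
  have c2 : ∀ i (x : A ⊗[R] A), m2 (S i) (f i) (m2 (S i) (f i) (f i))
      (Algebra.TensorProduct.assoc R R R A A A (Algebra.TensorProduct.map Δ (.id R A) x)) =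
      TensorProduct.assoc (S i) (B i) (B i) (B i)
        ((Coalgebra.comul (R := S i)).rTensor (B i) (m2 (S i) (f i) (f i) x)) := by
    intro i x
    induction x using TensorProduct.induction_on with
    | zero => simp
    | tmul a c =>
      simp only [Algebra.TensorProduct.map_tmul, AlgHom.coe_id, id_eq, m2_tmul, LinearMap.rTensor_tmul]
      rw [← hΔ]
      generalize Δ a = z
      induction z using TensorProduct.induction_on with
      | zero => simp
      | tmul a c => simp
      | add x y hx hy => simp only [map_add, TensorProduct.add_tmul, hx, hy]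
    | add x y hx hy => simp only [map_add, hx, hy]
  have c3 : ∀ i (x : A ⊗[R] A), f i (Algebra.TensorProduct.lid R A (Algebra.TensorProduct.map ε (.id R A) x)) =
      TensorProduct.lid (S i) (B i) ((Coalgebra.counit (R := S i)).rTensor (B i) (m2 (S i) (f i) (f i) x)) := by
    intro i x
    induction x using TensorProduct.induction_on with
    | zero => simp
    | tmul a c =>
      simp only [Algebra.TensorProduct.map_tmul, AlgHom.coe_id, id_eq, m2_tmul, LinearMap.rTensor_tmul]
      rw [← hε]
      simp [Algebra.ofId_apply, Algebra.smul_def, ← IsScalarTower.algebraMap_apply]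
    | add x y hx hy => simp only [map_add, hx, hy]
  have c4 : ∀ i (x : A ⊗[R] A), f i (Algebra.TensorProduct.rid R R A (Algebra.TensorProduct.map (.id R A) ε x)) =
      TensorProduct.rid (S i) (B i) ((Coalgebra.counit (R := S i)).lTensor (B i) (m2 (S i) (f i) (f i) x)) := by
    intro i x
    induction x using TensorProduct.induction_on with
    | zero => simp
    | tmul a c =>
      simp only [Algebra.TensorProduct.map_tmul, AlgHom.coe_id, id_eq, m2_tmul, LinearMap.lTensor_tmul]
      rw [← hε]
      simp [Algebra.ofId_apply, Algebra.smul_def, ← IsScalarTower.algebraMap_apply]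
    | add x y hx hy => simp only [map_add, hx, hy]
  have c5 : ∀ i (x : A ⊗[R] A), f i (Algebra.TensorProduct.lift σ (.id R A) (fun _ => Commute.all _) x) =
      LinearMap.mul' (S i) (B i) ((HopfAlgebra.antipode (S i)).rTensor (B i) (m2 (S i) (f i) (f i) x)) := by
    intro i x
    induction x using TensorProduct.induction_on with
    | zero => simp
    | tmul a c => simp [hσ]
    | add x y hx hy => simp only [map_add, hx, hy]
  have c6 : ∀ i (x : A ⊗[R] A), f i (Algebra.TensorProduct.lift (.id R A) σ (fun _ _ => Commute.all _ _) x) =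
      LinearMap.mul' (S i) (B i) ((HopfAlgebra.antipode (S i)).lTensor (B i) (m2 (S i) (f i) (f i) x)) := by
    intro i x
    induction x using TensorProduct.induction_on with
    | zero => simp
    | tmul a c => simp [hσ]
    | add x y hx hy => simp only [map_add, hx, hy]
  have hε' : ∀ i a, algebraMap R (S i) (ε a) = Coalgebra.counit (R := S i) (f i a) := hε
  let iB : Bialgebra R A := Bialgebra.ofAlgHom Δ ε
    (by
      ext a
      apply inj3
      intro i
      change m2 (S i) (f i) (m2 (S i) (f i) (f i))
        (Algebra.TensorProduct.assoc R R R A A A (Algebra.TensorProduct.map Δ (.id R A) (Δ a))) =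
        m2 (S i) (f i) (m2 (S i) (f i) (f i)) (Algebra.TensorProduct.map (.id R A) Δ (Δ a))
      rw [c1, c2, hΔ]
      exact Coalgebra.coassoc_apply (f i a))
    (by
      ext a
      apply (Algebra.TensorProduct.lid R A).injective
      apply inj1
      intro i
      change f i (Algebra.TensorProduct.lid R A (Algebra.TensorProduct.map ε (.id R A) (Δ a))) =
        f i (Algebra.TensorProduct.lid R A ((Algebra.TensorProduct.lid R A).symm a))
      rw [c3, hΔ, Coalgebra.rTensor_counit_comul]
      simp)
    (by
      ext a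
      apply (Algebra.TensorProduct.rid R R A).injective
      apply inj1
      intro i
      change f i (Algebra.TensorProduct.rid R R A (Algebra.TensorProduct.map (.id R A) ε (Δ a))) =
        f i (Algebra.TensorProduct.rid R R A ((Algebra.TensorProduct.rid R R A).symm a))
      rw [c4, hΔ, Coalgebra.lTensor_counit_comul]
      simp)
  let iH : HopfAlgebra R A := HopfAlgebra.ofAlgHom σ
    (by
      ext a
      apply inj1
      intro i
      change f i (Algebra.TensorProduct.lift σ (.id R A) (fun _ => Commute.all _) (Δ a)) = f i (algebraMap R A (ε a))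
      rw [c5, hΔ, AlgHom.commutes, IsScalarTower.algebraMap_apply R (S i) (B i), hε']
      exact HopfAlgebra.mul_antipode_rTensor_comul_apply (f i a))
    (by
      ext a
      apply inj1
      intro i
      change f i (Algebra.TensorProduct.lift (.id R A) σ (fun _ _ => Commute.all _ _) (Δ a)) = f i (algebraMap R A (ε a))
      rw [c6, hΔ, AlgHom.commutes, IsScalarTower.algebraMap_apply R (S i) (B i), hε']
      exact HopfAlgebra.mul_antipode_lTensor_comul_apply (f i a))
  refine ⟨A, inferInstance, iH, AlgEquiv.refl, fun i => ?_⟩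
  have hcomul : ∀ a : A, Coalgebra.comul (R := R) a = Δ a := fun a => rfl
  have hcounit : ∀ a : A, Coalgebra.counit (R := R) a = ε a := fun a => rfl
  let g : S i ⊗[R] A →ₐ[S i] B i := Algebra.TensorProduct.lift (Algebra.ofId _ _) (f i) (fun _ _ => .all _ _)
  have hg : ∀ s a, g (s ⊗ₜ a) = s • f i a := fun s a => by simp [g, Algebra.ofId_apply, Algebra.smul_def]
  have hgb : Function.Bijective g := by
    have : (g : S i ⊗[R] A → B i) = (hf i).equiv := by
      ext x
      induction x using TensorProduct.induction_on with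
      | zero => simp
      | tmul s a => rw [hg, IsBaseChange.equiv_tmul]; rfl
      | add x y hx hy => rw [map_add, map_add, hx, hy]
    rw [this]
    exact LinearEquiv.bijective _
  refine ⟨BialgEquiv.ofBijective (BialgHom.ofAlgHom g ?_ ?_) hgb, fun a => ?_⟩
  · ext a
    simp only [AlgHom.coe_comp, Function.comp_apply, AlgHom.coe_restrictScalars',
      Algebra.TensorProduct.includeRight_apply, Bialgebra.counitAlgHom_apply, hg, one_smul]
    rw [← hε]
    simp [hcounit, Algebra.ofId_apply, Algebra.smul_def]
  · ext a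
    simp only [AlgHom.coe_comp, Function.comp_apply, AlgHom.coe_restrictScalars',
      Algebra.TensorProduct.includeRight_apply, Bialgebra.comulAlgHom_apply, hg, one_smul]
    rw [← hΔ, TensorProduct.comul_tmul, hcomul]
    generalize Δ a = z
    induction z using TensorProduct.induction_on with
    | zero => simp
    | tmul a c => simp [hg]
    | add x y hx hy => simp only [TensorProduct.tmul_add, map_add, hx, hy]
  · change g (1 ⊗ₜ a) = _
    rw [hg, one_smul]; rfl

end main

end Groth.Agent.Sga3A.HopfForm
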