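import Groth.Agent.Sga3A.ModDesc
import Groth.Agent.Sga3A.HopfForm

/-!
# Faithfully flat descent of commutative Hopf algebras, family form (team sga3-a)

`S i` finite family of `R`-algebras with `∏ S i` faithfully flat over `R`, `B i` commutative Hopf algebra over `S i`,
`θ i j : B i →ₐ[S i] S i ⊗[R] B j` coaction (descent datum) compatible with the Hopf structures.  Then there is a Hopf
algebra `A` over `R` with `S i ⊗[R] A ≃ B i`: `exists_descent`.
-/

set_option autoImplicit false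

open TensorProduct

namespace Groth.Agent.Sga3A.HopfDesc

open ModDesc HopfForm

universe u v w x

section elements

variable {R : Type u} [CommRing R] {ι : Type v} {S : ι → Type w} [∀ i, CommRing (S i)] [∀ i, Algebra R (S i)]

/-- Descent of elements, family form. -/
theorem exists_of_coaction [Finite ι] [Module.FaithfullyFlat R (∀ i, S i)] {Q : Type*} [AddCommGroup Q]
    [Module R Q] {Q' : ι → Type*} [∀ i, AddCommGroup (Q' i)] [∀ i, Module R (Q' i)] [∀ i, Module (S i) (Q' i)]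
    [∀ i, IsScalarTower R (S i) (Q' i)] (g : ∀ i, Q →ₗ[R] Q' i) (hg : ∀ i, IsBaseChange (S i) (g i))
    (τ : ∀ i j, Q' i →ₗ[S i] S i ⊗[R] Q' j) (hτ : ∀ i j q, τ i j (g i q) = 1 ⊗ₜ g j q)
    (z : ∀ i, Q' i) (hz : ∀ i j, τ i j (z i) = 1 ⊗ₜ z j) : ∃ q, ∀ i, g i q = z i := by
  classical
  have := Fintype.ofFinite ι
  let G : Q →ₗ[R] (∀ i, Q' i) := LinearMap.pi g
  suffices h : z ∈ LinearMap.range G by
    obtain ⟨q, hq⟩ := h
    exact ⟨q, fun i => congrFun hq i⟩
  rw [← Submodule.Quotient.mk_eq_zero]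
  apply eq_zero_of_forall (R := R) (S := S) (fun i => TensorProduct.mk R (S i) ((∀ i, Q' i) ⧸ LinearMap.range G) 1)
    (fun i => TensorProduct.isBaseChange R _ (S i))
  intro i
  have key : (1 : S i) ⊗ₜ[R] z ∈ LinearMap.range (G.lTensor (S i)) := by
    have h1 : ∀ y : S i ⊗[R] Q, ∀ j,
        τ i j ((hg i).equiv y) = TensorProduct.piRight R R (S i) Q' (G.lTensor (S i) y) j := by
      intro y j
      induction y using TensorProduct.induction_on with
      | zero => simp
      | tmul s q =>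
        rw [IsBaseChange.equiv_tmul, map_smul, hτ]
        simp [G, TensorProduct.smul_tmul']
      | add x y hx hy => simp only [map_add, Pi.add_apply, hx, hy]
    refine ⟨(hg i).equiv.symm (z i), ?_⟩
    apply (TensorProduct.piRight R R (S i) Q').injective
    ext j
    rw [← h1, LinearEquiv.apply_symm_apply, hz]
    simp
  obtain ⟨y, hy⟩ := key
  have : (1 : S i) ⊗ₜ[R] (Submodule.Quotient.mk z : (∀ i, Q' i) ⧸ LinearMap.range G) =
      (LinearMap.range G).mkQ.lTensor (S i) ((1 : S i) ⊗ₜ[R] z) := by simp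
  change (1 : S i) ⊗ₜ[R] (Submodule.Quotient.mk z : (∀ i, Q' i) ⧸ LinearMap.range G) = 0
  rw [this, ← hy, ← LinearMap.comp_apply, ← LinearMap.lTensor_comp]
  simp [LinearMap.range_mkQ_comp]

end elements

lemma flat_of_pi {R : Type u} [CommRing R] {ι : Type v} {S : ι → Type w} [∀ i, CommRing (S i)]
    [∀ i, Algebra R (S i)] [Module.Flat R (∀ i, S i)] (i : ι) : Module.Flat R (S i) := by
  classical
  exact Module.Flat.of_retract (LinearMap.single R S i) (LinearMap.proj i) (by ext; simp)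

section hopf

variable {R : Type u} [CommRing R] {ι : Type v} {S : ι → Type w} [∀ i, CommRing (S i)] [∀ i, Algebra R (S i)]
  {B : ι → Type x} [∀ i, CommRing (B i)] [∀ i, HopfAlgebra (S i) (B i)] [∀ i, Algebra R (B i)]
  [∀ i, IsScalarTower R (S i) (B i)]

/-- The descended algebra. -/
def invAlg (θ : ∀ i j, B i →ₐ[S i] S i ⊗[R] B j) : Subalgebra R (∀ i, B i) where
  carrier := {v | ∀ i j, θ i j (v i) = 1 ⊗ₜ[R] v j}
  add_mem' {a b} ha hb i j := by
    simp only [Pi.add_apply, map_add, TensorProduct.tmul_add]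
    rw [ha i j, hb i j]
  mul_mem' {a b} ha hb i j := by
    simp only [Pi.mul_apply, map_mul]
    rw [ha i j, hb i j, Algebra.TensorProduct.tmul_mul_tmul, one_mul]
  algebraMap_mem' r i j := by
    rw [Pi.algebraMap_apply, Pi.algebraMap_apply, IsScalarTower.algebraMap_apply R (S i) (B i), AlgHom.commutes,
      Algebra.TensorProduct.algebraMap_apply, Algebra.algebraMap_self_apply, Algebra.algebraMap_eq_smul_one,
      Algebra.algebraMap_eq_smul_one, TensorProduct.smul_tmul]

/-- The extension of a descent datum to `B ⊗ B`. -/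
noncomputable def theta2 {S₁ S₂ B₁ B₂ : Type*} [CommRing S₁] [CommRing S₂] [CommRing B₁] [CommRing B₂]
    [Algebra R S₁] [Algebra R S₂] [Algebra S₁ B₁] [Algebra R B₂] [Algebra S₂ B₂] [IsScalarTower R S₂ B₂]
    (θ : B₁ →ₐ[S₁] S₁ ⊗[R] B₂) : B₁ ⊗[S₁] B₁ →ₐ[S₁] S₁ ⊗[R] (B₂ ⊗[S₂] B₂) :=
  Algebra.TensorProduct.lift
    ((Algebra.TensorProduct.map (AlgHom.id S₁ S₁)
      ((Algebra.TensorProduct.includeLeft : B₂ →ₐ[S₂] B₂ ⊗[S₂] B₂).restrictScalars R)).comp θ)
    ((Algebra.TensorProduct.map (AlgHom.id S₁ S₁)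
      ((Algebra.TensorProduct.includeRight : B₂ →ₐ[S₂] B₂ ⊗[S₂] B₂).restrictScalars R)).comp θ)
    (fun _ _ => .all _ _)

lemma theta2_tmul_of_eq {S₁ S₂ B₁ B₂ : Type*} [CommRing S₁] [CommRing S₂] [CommRing B₁] [CommRing B₂]
    [Algebra R S₁] [Algebra R S₂] [Algebra S₁ B₁] [Algebra R B₂] [Algebra S₂ B₂] [IsScalarTower R S₂ B₂]
    (θ : B₁ →ₐ[S₁] S₁ ⊗[R] B₂) {x y : B₁} {x' y' : B₂} (hx : θ x = 1 ⊗ₜ x') (hy : θ y = 1 ⊗ₜ y') :
    theta2 (S₂ := S₂) θ (x ⊗ₜ y) = 1 ⊗ₜ (x' ⊗ₜ y') := by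
  simp [theta2, hx, hy]

variable (θ : ∀ i j, B i →ₐ[S i] S i ⊗[R] B j)

theorem exists_descent [Finite ι] [Module.FaithfullyFlat R (∀ i, S i)]
    (hμ : ∀ i b, act R (S i) (B i) (θ i i b) = b)
    (hco : ∀ i j k (b : B i), ((θ j k).toLinearMap.restrictScalars R).lTensor (S i) (θ i j b) =
      (TensorProduct.mk R (S j) (B k) 1).lTensor (S i) (θ i k b))
    (hcounit : ∀ i j b, ((Coalgebra.counit (R := S j) (A := B j)).restrictScalars R).lTensor (S i) (θ i j b) =
      (Coalgebra.counit (R := S i) b) ⊗ₜ 1)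
    (hcomul : ∀ i j b, ((Coalgebra.comul (R := S j) (A := B j)).restrictScalars R).lTensor (S i) (θ i j b) =
      theta2 (θ i j) (Coalgebra.comul (R := S i) b))
    (hanti : ∀ i j b, ((HopfAlgebra.antipode (S j) (A := B j)).restrictScalars R).lTensor (S i) (θ i j b) =
      θ i j (HopfAlgebra.antipode (S i) b)) :
    ∃ (A : Type (max v x)) (_ : CommRing A) (_ : HopfAlgebra R A) (f : ∀ i, A →ₐ[R] B i),
      (∀ i, ∃ e : S i ⊗[R] A ≃ₐc[S i] B i, ∀ a : A, e (1 ⊗ₜ a) = f i a) ∧
      (∀ i j a, θ i j (f i a) = 1 ⊗ₜ f j a) ∧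
      ∀ b : ∀ i, B i, (∀ i j, θ i j (b i) = 1 ⊗ₜ b j) → ∃ a, ∀ i, f i a = b i := by
  classical
  have hflat : ∀ i, Module.Flat R (S i) := fun i => flat_of_pi i
  let A := invAlg θ
  let f : ∀ i, A →ₐ[R] B i := fun i => (Pi.evalAlgHom R B i).comp A.val
  have hfθ : ∀ i j a, θ i j (f i a) = 1 ⊗ₜ f j a := fun i j a => a.2 i j
  have hf : ∀ i, IsBaseChange (S i) (f i).toLinearMap := by
    intro i
    have := toV_bijective (fun i j => (θ i j).toLinearMap) hμ hco i
    refine IsBaseChange.of_equiv (LinearEquiv.ofBijective (toV (fun i j => (θ i j).toLinearMap) i) this) ?_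
    intro a
    exact one_smul (S i) _
  have h2 : ∀ a : A, ∃ x : A ⊗[R] A, ∀ i, m2 (S i) (f i) (f i) x = Coalgebra.comul (R := S i) (f i a) := by
    intro a
    refine exists_of_coaction (S := S) (fun i => (m2 (S i) (f i) (f i)).toLinearMap)
      (fun i => isBaseChange_m2 (hf i) (hf i)) (fun i j => (theta2 (S₂ := S j) (θ i j)).toLinearMap) ?_
      (fun i => Coalgebra.comul (R := S i) (f i a)) ?_
    · intro i j q
      induction q using TensorProduct.induction_on with
      | zero => simp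
      | tmul a b =>
        simp only [AlgHom.toLinearMap_apply, m2_tmul]
        exact theta2_tmul_of_eq _ (hfθ i j a) (hfθ i j b)
      | add x y hx hy => simp only [map_add, TensorProduct.tmul_add, hx, hy]
    · intro i j
      rw [AlgHom.toLinearMap_apply, ← hcomul, hfθ]
      simp
  have h0 : ∀ a : A, ∃ r : R, ∀ i, algebraMap R (S i) r = Coalgebra.counit (R := S i) (f i a) := by
    intro a
    refine exists_of_coaction (S := S) (fun i => (Algebra.linearMap R (S i)))
      (fun i => IsBaseChange.linearMap R (S i))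
      (fun i j => (Algebra.TensorProduct.includeLeft : S i →ₐ[S i] S i ⊗[R] S j).toLinearMap) ?_
      (fun i => Coalgebra.counit (R := S i) (f i a)) ?_
    · intro i j q
      simp [Algebra.algebraMap_eq_smul_one, TensorProduct.smul_tmul]
    · intro i j
      rw [AlgHom.toLinearMap_apply, Algebra.TensorProduct.includeLeft_apply, ← hcounit, hfθ]
      simp
  have h1 : ∀ a : A, ∃ b : A, ∀ i, f i b = HopfAlgebra.antipode (S i) (f i a) := by
    intro a
    refine ⟨⟨fun i => HopfAlgebra.antipode (S i) (f i a), fun i j => ?_⟩, fun i => rfl⟩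
    rw [← hanti, hfθ]
    simp
  obtain ⟨A', iA', iH, φ, hφ⟩ := exists_hopfAlgebra f hf h2 h0 h1
  refine ⟨A', iA', iH, fun i => (f i).comp (φ : A' →ₐ[R] A), fun i => ?_, fun i j a => hfθ i j (φ a), fun b hb => ?_⟩
  · obtain ⟨e, he⟩ := hφ i
    exact ⟨e, he⟩
  · exact ⟨φ.symm ⟨b, hb⟩, fun i => by simp [f]⟩

end hopf

end Groth.Agent.Sga3A.HopfDesc
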