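import Groth.Agent.Sga3A.MTBasis
import Groth.Agent.Sga3A.HopfDesc

/-!
# Descent of bialgebra isomorphisms (team sga3-a)

An `R`-algebra map `H : C → D` between bialgebras which, after base change to the members `S i` of a faithfully flat
family, maps a group-like basis to a group-like basis, is an isomorphism of bialgebras: `exists_bialgEquiv`.
-/

set_option autoImplicit false

open TensorProduct

namespace Groth.Agent.Sga3A.IsoDesc

open MTBasis HopfForm HopfDesc

universe u v w

section pi

variable {R : Type u} [CommRing R] {ι : Type v} {S : ι → Type w} [∀ i, CommRing (S i)] [∀ i, Algebra R (S i)]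

/-- base change of a faithfully flat finite family -/
lemma faithfullyFlat_pi_baseChange [Finite ι] [Module.FaithfullyFlat R (∀ i, S i)] (R' : Type*) [CommRing R']
    [Algebra R R'] : Module.FaithfullyFlat R' (∀ i, R' ⊗[R] S i) := by
  classical
  have := Fintype.ofFinite ι
  have e : R' ⊗[R] (∀ i, S i) ≃ₗ[R'] ∀ i, R' ⊗[R] S i := TensorProduct.piRight R R' R' S
  exact Module.FaithfullyFlat.of_linearEquiv _ _ e.symm

lemma mem_range_of_forall [Finite ι] [Module.FaithfullyFlat R (∀ i, S i)] {N P : Type*} [AddCommGroup N]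
    [AddCommGroup P] [Module R N] [Module R P] (f : N →ₗ[R] P) (p : P)
    (h : ∀ i, (1 : S i) ⊗ₜ[R] p ∈ LinearMap.range (f.lTensor (S i))) : p ∈ LinearMap.range f := by
  rw [← Submodule.Quotient.mk_eq_zero]
  apply eq_zero_of_forall (R := R) (S := S) (fun i => TensorProduct.mk R (S i) (P ⧸ LinearMap.range f) 1)
    (fun i => TensorProduct.isBaseChange R _ (S i))
  intro i
  obtain ⟨y, hy⟩ := h i
  have : (1 : S i) ⊗ₜ[R] (Submodule.Quotient.mk p : P ⧸ LinearMap.range f) =
      (LinearMap.range f).mkQ.lTensor (S i) ((1 : S i) ⊗ₜ[R] p) := by simp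
  change (1 : S i) ⊗ₜ[R] (Submodule.Quotient.mk p : P ⧸ LinearMap.range f) = 0
  rw [this, ← hy, ← LinearMap.comp_apply, ← LinearMap.lTensor_comp]
  simp [LinearMap.range_mkQ_comp]

lemma eq_of_forall_one_tmul [Finite ι] [Module.FaithfullyFlat R (∀ i, S i)] {N : Type*} [AddCommGroup N]
    [Module R N] {x y : N} (h : ∀ i, (1 : S i) ⊗ₜ[R] x = 1 ⊗ₜ y) : x = y :=
  eq_of_forall (R := R) (S := S) (fun i => TensorProduct.mk R (S i) N 1)
    (fun i => TensorProduct.isBaseChange R _ (S i)) x y h

end pi

section iso

variable {R : Type u} [CommRing R] {ι : Type v} {S : ι → Type w} [∀ i, CommRing (S i)] [∀ i, Algebra R (S i)]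
  {C D : Type*} [CommRing C] [CommRing D] [Bialgebra R C] [Bialgebra R D] {M : ι → Type*} [∀ i, CommGroup (M i)]

theorem exists_bialgEquiv [Finite ι] [Module.FaithfullyFlat R (∀ i, S i)] (H : C →ₐ[R] D)
    (p : ∀ i, GBasis (S i) (S i ⊗[R] C) (M i)) (q : ∀ i, GBasis (S i) (S i ⊗[R] D) (M i))
    (h : ∀ i m, H.toLinearMap.lTensor (S i) ((p i).b m) = (q i).b m) :
    ∃ e : C ≃ₐc[R] D, ∀ c, e c = H c := by
  -- `S i`-linear version of the base change of `H`
  let HS : ∀ i, S i ⊗[R] C →ₗ[S i] S i ⊗[R] D := fun i => TensorProduct.AlgebraTensorModule.lTensor (S i) (S i) H.toLinearMap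
  have hHS : ∀ i, HS i = ((p i).b.equiv (q i).b (Equiv.refl _) : S i ⊗[R] C →ₗ[S i] S i ⊗[R] D) := by
    intro i
    apply (p i).b.ext
    intro m
    rw [LinearEquiv.coe_coe, Module.Basis.equiv_apply]
    exact h i m
  have hbij : ∀ i, Function.Bijective (HS i) := by
    intro i
    rw [hHS]
    exact LinearEquiv.bijective _
  have hinj : Function.Injective H := by
    rw [injective_iff_map_eq_zero]
    intro x hx
    apply eq_of_forall_one_tmul (R := R) (S := S)
    intro i
    apply (hbij i).1
    change (1 : S i) ⊗ₜ[R] H x = HS i (1 ⊗ₜ 0)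
    rw [hx, TensorProduct.tmul_zero, TensorProduct.tmul_zero, map_zero]
  have hsurj : Function.Surjective H := by
    intro d
    have := mem_range_of_forall (R := R) (S := S) H.toLinearMap d (fun i => (hbij i).2 _)
    exact this
  have hcounit : ∀ c, Coalgebra.counit (R := R) (H c) = Coalgebra.counit (R := R) c := by
    intro c
    have h1 : ∀ i, (Coalgebra.counit (R := S i)) ∘ₗ HS i = Coalgebra.counit (R := S i) := by
      intro i
      apply (p i).b.ext
      intro m
      rw [LinearMap.comp_apply, ((p i).gl m).counit_eq_one]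
      have : HS i ((p i).b m) = (q i).b m := h i m
      rw [this, ((q i).gl m).counit_eq_one]
    apply eq_of_forall (R := R) (S := S) (fun i => Algebra.linearMap R (S i)) (fun i => IsBaseChange.linearMap R (S i))
    intro i
    have h2 := LinearMap.congr_fun (h1 i) (1 ⊗ₜ c)
    have h3 : HS i (1 ⊗ₜ c) = 1 ⊗ₜ H c := rfl
    rw [LinearMap.comp_apply, h3, TensorProduct.counit_tmul, TensorProduct.counit_tmul] at h2
    simpa [Algebra.smul_def] using h2
  have hcomul : ∀ c, Coalgebra.comul (R := R) (H c) = TensorProduct.map H.toLinearMap H.toLinearMap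
      (Coalgebra.comul (R := R) c) := by
    intro c
    have h1 : ∀ i, (Coalgebra.comul (R := S i)) ∘ₗ HS i = TensorProduct.map (HS i) (HS i) ∘ₗ
        Coalgebra.comul (R := S i) := by
      intro i
      apply (p i).b.ext
      intro m
      rw [LinearMap.comp_apply, LinearMap.comp_apply, ((p i).gl m).comul_eq_tmul_self]
      have : HS i ((p i).b m) = (q i).b m := h i m
      rw [this, ((q i).gl m).comul_eq_tmul_self, TensorProduct.map_tmul, this]
    apply eq_of_forall_one_tmul (R := R) (S := S)
    intro i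
    have h2 := LinearMap.congr_fun (h1 i) (1 ⊗ₜ c)
    have h3 : HS i (1 ⊗ₜ c) = 1 ⊗ₜ H c := rfl
    rw [LinearMap.comp_apply, LinearMap.comp_apply, h3, comul_one_tmul, comul_one_tmul] at h2
    apply (TensorProduct.AlgebraTensorModule.distribBaseChange R (S i) D D).injective
    rw [h2]
    generalize Coalgebra.comul (R := R) c = z
    induction z using TensorProduct.induction_on with
    | zero => simp
    | tmul a b =>
      simp only [AlgebraTensorModule.distribBaseChange_tmul, TensorProduct.map_tmul]
      rfl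
    | add x y hx hy => simp only [TensorProduct.tmul_add, map_add, hx, hy]
  exact ⟨BialgEquiv.ofBijective (BialgHom.ofAlgHom H (AlgHom.ext hcounit) (AlgHom.ext fun c => (hcomul c).symm))
    ⟨hinj, hsurj⟩, fun c => rfl⟩

end iso

end Groth.Agent.Sga3A.IsoDesc
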