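import Groth.Agent.Sga3A.Rigidity
import Mathlib.RingTheory.Ideal.IdempotentFG
import Mathlib.GroupTheory.QuotientGroup.Basic
import Mathlib.GroupTheory.Finiteness

/-!
# The kernel of a homomorphism from a diagonalisable group is locally diagonalisable
-/

set_option autoImplicit false
universe u
open TensorProduct SGA3b Coalgebra Bialgebra

namespace Groth.Agent.Sga3A.KernelLocal

open Groth.Agent.Sga3A.Rigidity

section Coeff

variable {R M C : Type*} [CommRing R] [CommGroup M] [CommRing C] [Bialgebra R C]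
  (φ : C →ₐc[R] MonoidAlgebra R M)

/-- The linear map `x ↦ x_n n`. -/
noncomputable def compL (R : Type*) {M : Type*} [CommRing R] (n : M) :
    MonoidAlgebra R M →ₗ[R] MonoidAlgebra R M :=
  MonoidAlgebra.lsingle n ∘ₗ coeffL R n

omit [CommGroup M] in
lemma compL_apply (n : M) (x : MonoidAlgebra R M) :
    compL R n x = MonoidAlgebra.single n (x.coeff n) := rfl

omit [CommGroup M] in
lemma rid_comul (n : M) :
    (TensorProduct.rid R (MonoidAlgebra R M)).toLinearMap ∘ₗ
      TensorProduct.map LinearMap.id (coeffL R n) ∘ₗ comul = compL R n := by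
  classical
  ext m : 2
  by_cases h : m = n
  · subst h
    ext k
    simp [compL]
  · ext k
    simp [compL, h]

/-- For all `c` and `n` there is `d` such that `φ d` is the `n`-component of `φ c`. -/
lemma exists_map_eq_single (c : C) (n : M) :
    ∃ d : C, φ d = MonoidAlgebra.single n ((φ c).coeff n) := by
  have h1 := congr($(rid_comul (R := R) n) (φ c))
  have h2 : comul (R := R) (φ c) = TensorProduct.map (φ : C →ₗ[R] MonoidAlgebra R M)
      (φ : C →ₗ[R] MonoidAlgebra R M) (comul c) :=
    (CoalgHomClass.map_comp_comul_apply φ c).symm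
  simp only [LinearMap.comp_apply] at h1
  rw [h2, ← (ℛ R c).eq] at h1
  simp only [map_sum, TensorProduct.map_tmul] at h1
  refine ⟨∑ i ∈ (ℛ R c).index, (φ ((ℛ R c).right i)).coeff n • (ℛ R c).left i, ?_⟩
  rw [map_sum]
  simp only [map_smul]
  rw [compL_apply] at h1
  rw [← h1]
  simp

/-- The ideal of all `r` such that `r n` is in the image of `φ`. -/
def aIdeal (n : M) : Ideal R where
  carrier := {r | ∃ d : C, φ d = MonoidAlgebra.single n r}
  zero_mem' := ⟨0, by simp⟩
  add_mem' := by
    rintro r r' ⟨d, hd⟩ ⟨d', hd'⟩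
    exact ⟨d + d', by rw [map_add, hd, hd', MonoidAlgebra.single_add]⟩
  smul_mem' := by
    rintro r r' ⟨d, hd⟩
    exact ⟨r • d, by rw [map_smul, hd, MonoidAlgebra.smul_single]⟩

lemma mem_aIdeal {n : M} {r : R} : r ∈ aIdeal φ n ↔ ∃ d : C, φ d = MonoidAlgebra.single n r :=
  Iff.rfl

lemma coeff_mem_aIdeal (c : C) (n : M) : (φ c).coeff n ∈ aIdeal φ n :=
  exists_map_eq_single φ c n

lemma aIdeal_le_mul (n : M) : aIdeal φ n ≤ aIdeal φ n * aIdeal φ n := by
  classical
  rintro r ⟨d, hd⟩
  have h1 := coeff_eq_sum φ d n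
  rw [hd] at h1
  simp only [MonoidAlgebra.coeff_single, Finsupp.single_eq_same] at h1
  rw [h1]
  exact Ideal.sum_mem _ fun i _ =>
    Ideal.mul_mem_mul (coeff_mem_aIdeal φ _ n) (coeff_mem_aIdeal φ _ n)

/-- the elements `r (n - 1)`, `r ∈ aIdeal n` are images of elements of the augmentation ideal -/
lemma exists_ker {n : M} {r : R} (hr : r ∈ aIdeal φ n) :
    ∃ d : C, counit (R := R) d = 0 ∧
      φ d = MonoidAlgebra.single n r - MonoidAlgebra.single 1 r := by
  obtain ⟨d, hd⟩ := hr
  have h1 : counit (R := R) d = r := by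
    rw [← CoalgHomClass.counit_comp_apply φ d, hd]
    simp
  refine ⟨d - algebraMap R C r, by simp [h1], ?_⟩
  rw [map_sub, hd]
  congr 1
  exact AlgHomClass.commutes φ r

/-- The augmentation ideal is mapped into every ideal containing all `r (n - 1)`,
`r ∈ aIdeal n`. -/
lemma map_mem {K : Ideal (MonoidAlgebra R M)}
    (hK : ∀ n : M, ∀ r ∈ aIdeal φ n, MonoidAlgebra.single n r - MonoidAlgebra.single 1 r ∈ K)
    (c : C) (hc : counit (R := R) c = 0) : φ c ∈ K := by
  classical
  have h1 : ∑ m ∈ (φ c).coeff.support, (φ c).coeff m = 0 := by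
    rw [← hc, ← CoalgHomClass.counit_comp_apply φ c]
    conv_rhs => rw [← (φ c).sum_coeff_single]
    simp [Finsupp.sum]
  have h2 : φ c = ∑ m ∈ (φ c).coeff.support,
      (MonoidAlgebra.single m ((φ c).coeff m) - MonoidAlgebra.single 1 ((φ c).coeff m)) := by
    rw [Finset.sum_sub_distrib]
    have h3 : ∑ m ∈ (φ c).coeff.support, MonoidAlgebra.single (1 : M) ((φ c).coeff m) = 0 := by
      have : ∑ m ∈ (φ c).coeff.support, MonoidAlgebra.single (1 : M) ((φ c).coeff m) =
          MonoidAlgebra.lsingle (R := R) (1 : M) (∑ m ∈ (φ c).coeff.support, (φ c).coeff m) := by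
        rw [map_sum]
        rfl
      rw [this, h1, map_zero]
    rw [h3, sub_zero]
    exact ((φ c).sum_coeff_single).symm
  rw [h2]
  exact Ideal.sum_mem _ fun m _ => hK m _ (coeff_mem_aIdeal φ c m)

/-- The ideal `∑_{n ∉ N} aIdeal n`. -/
noncomputable def aN (N : Subgroup M) : Ideal R := ⨆ n : {n : M // n ∉ N}, aIdeal φ n.1

lemma aIdeal_le_aN {N : Subgroup M} {n : M} (hn : n ∉ N) : aIdeal φ n ≤ aN φ N :=
  le_iSup (fun n : {n : M // n ∉ N} => aIdeal φ n.1) ⟨n, hn⟩

lemma aN_mul (N : Subgroup M) : IsIdempotentElem (aN φ N) := by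
  apply le_antisymm Ideal.mul_le_right
  apply iSup_le
  rintro ⟨n, hn⟩
  exact (aIdeal_le_mul φ n).trans (Ideal.mul_mono (aIdeal_le_aN φ hn) (aIdeal_le_aN φ hn))

lemma aN_fg (hfg : (RingHom.ker (counitAlgHom R C)).FG) (N : Subgroup M) : (aN φ N).FG := by
  classical
  obtain ⟨T, hT⟩ := hfg
  have hT0 : ∀ g ∈ T, counit (R := R) g = 0 := by
    intro g hg
    have : g ∈ RingHom.ker (counitAlgHom R C) := hT ▸ Ideal.subset_span hg
    exact this
  let q : MonoidAlgebra R M →ₐ[R] MonoidAlgebra R (M ⧸ N) :=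
    MonoidAlgebra.mapDomainAlgHom R R (QuotientGroup.mk' N)
  have hq : ∀ m r, q (MonoidAlgebra.single m r) = MonoidAlgebra.single (QuotientGroup.mk' N m) r :=
    fun m r => by simp [q]
  let U : Set R := ⋃ g ∈ T, Set.range fun m => (q (φ g)).coeff m
  have hU : U.Finite := Set.Finite.biUnion T.finite_toSet fun g _ => Finsupp.finite_range _
  let K : Ideal R → Ideal (MonoidAlgebra R (M ⧸ N)) := fun 𝔟 =>
    RingHom.ker (MonoidAlgebra.mapRingHom (M ⧸ N) (Ideal.Quotient.mk 𝔟))
  have hker : ∀ (𝔟 : Ideal R) (x : MonoidAlgebra R (M ⧸ N)),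
      x ∈ K 𝔟 ↔ ∀ m, x.coeff m ∈ 𝔟 := by
    intro 𝔟 x
    simp only [K, RingHom.mem_ker]
    constructor
    · intro hx m
      have := congr(($hx).coeff m)
      simpa [Ideal.Quotient.eq_zero_iff_mem] using this
    · intro hx
      ext m
      simpa [Ideal.Quotient.eq_zero_iff_mem] using hx m
  have heq : aN φ N = Ideal.span U := by
    apply le_antisymm
    · apply iSup_le
      rintro ⟨n, hn⟩ r hr
      obtain ⟨d, hd0, hd⟩ := exists_ker φ hr
      -- all elements of the augmentation ideal have coefficients in `span U`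
      have hle : RingHom.ker (counitAlgHom R C) ≤
          (K (Ideal.span U)).comap
            ((q : MonoidAlgebra R M →+* _).comp (φ : C →+* MonoidAlgebra R M)) := by
        rw [← hT, Ideal.span_le]
        intro g hg
        change q (φ g) ∈ K (Ideal.span U)
        rw [hker]
        intro m
        exact Ideal.subset_span (Set.mem_biUnion hg ⟨m, rfl⟩)
      have h1 : d ∈ RingHom.ker (counitAlgHom R C) := hd0
      have h2 : q (φ d) ∈ K (Ideal.span U) := hle h1
      rw [hker] at h2
      have h3 := h2 (QuotientGroup.mk' N n)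
      rw [hd, map_sub, hq, hq] at h3
      have h4 : (QuotientGroup.mk' N) n ≠ (QuotientGroup.mk' N) 1 := by
        intro h5
        rw [map_one] at h5
        exact hn ((QuotientGroup.eq_one_iff n).mp h5)
      rw [MonoidAlgebra.coeff_sub, Finsupp.sub_apply, MonoidAlgebra.coeff_single,
        MonoidAlgebra.coeff_single, Finsupp.single_eq_same, Finsupp.single_eq_of_ne' h4.symm,
        sub_zero] at h3
      exact h3
    · rw [Ideal.span_le]
      rintro r hr
      simp only [U, Set.mem_iUnion, Set.mem_range] at hr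
      obtain ⟨g, hg, m, rfl⟩ := hr
      have h1 : φ g ∈ (K (aN φ N)).comap (q : MonoidAlgebra R M →+* _) := by
        apply map_mem φ _ g (hT0 g hg)
        intro n r hr
        rw [Ideal.mem_comap]
        change q _ ∈ K (aN φ N)
        rw [map_sub, hq, hq]
        by_cases hn : n ∈ N
        · have : (QuotientGroup.mk' N) n = (QuotientGroup.mk' N) 1 := by
            rw [map_one]
            exact (QuotientGroup.eq_one_iff n).mpr hn
          rw [this, sub_self]
          exact Ideal.zero_mem _
        · have hr' : (Ideal.Quotient.mk (aN φ N)) r = 0 :=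
            Ideal.Quotient.eq_zero_iff_mem.mpr (aIdeal_le_aN φ hn hr)
          rw [RingHom.mem_ker, map_sub, MonoidAlgebra.mapRingHom_single,
            MonoidAlgebra.mapRingHom_single, hr']
          simp
      have h2 : q (φ g) ∈ K (aN φ N) := h1
      exact (hker _ _).mp h2 m
  rw [heq]
  exact ⟨hU.toFinset, by simp⟩

lemma exists_aN_eq (hfg : (RingHom.ker (counitAlgHom R C)).FG) (N : Subgroup M) :
    ∃ e : R, IsIdempotentElem e ∧ aN φ N = Ideal.span {e} :=
  ((aN φ N).isIdempotentElem_iff_of_fg (aN_fg φ hfg N)).mp (aN_mul φ N)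

end Coeff

section Local

/-- In a finitely generated commutative group, every subset is contained in the subgroup generated
by a finite subset of it. -/
lemma exists_finite_subset {M : Type*} [CommGroup M] [Group.FG M] (S : Set M) :
    ∃ T : Set M, T.Finite ∧ T ⊆ S ∧ S ⊆ Subgroup.closure T := by
  have h1 : Module.Finite ℤ (Additive M) :=
    Module.Finite.iff_addGroup_fg.mpr (GroupFG.iff_add_fg.mp inferInstance)
  have h2 : IsNoetherian ℤ (Additive M) := isNoetherian_of_isNoetherianRing_of_finite ℤ _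
  let S' : Set (Additive M) := Additive.toMul ⁻¹' S
  have h3 : (Submodule.span ℤ S').FG := IsNoetherian.noetherian _
  rw [Submodule.fg_span_iff_fg_span_finset_subset] at h3
  obtain ⟨T', hT', hspan⟩ := h3
  refine ⟨Additive.ofMul ⁻¹' (T' : Set (Additive M)), ?_, ?_, ?_⟩
  · exact T'.finite_toSet.preimage (Additive.ofMul.injective.injOn)
  · intro x hx
    exact hT' hx
  · intro x hx
    have h4 : Additive.ofMul x ∈ Submodule.span ℤ S' := Submodule.subset_span hx
    rw [hspan] at h4
    have h5 : ∀ y ∈ Submodule.span ℤ (T' : Set (Additive M)),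
        Additive.toMul y ∈ Subgroup.closure (Additive.ofMul ⁻¹' (T' : Set (Additive M))) := by
      intro y hy
      induction hy using Submodule.span_induction with
      | mem y hy => exact Subgroup.subset_closure hy
      | zero => exact Subgroup.one_mem _
      | add y z _ _ hy hz => exact Subgroup.mul_mem _ hy hz
      | smul n y _ hy => exact Subgroup.zpow_mem _ hy n
    exact h5 _ h4

variable {R M C B : Type*} [CommRing R] [CommGroup M] [CommRing C] [Bialgebra R C]
  [CommRing B] [Bialgebra R B]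
  (φ : C →ₐc[R] MonoidAlgebra R M) (π : MonoidAlgebra R M →ₐc[R] B)

/-- Construction of the isomorphism. -/
lemma nonempty_equiv (hπ : Function.Surjective π)
    (hker : RingHom.ker (π : MonoidAlgebra R M →+* B) =
      Ideal.map (φ : C →+* MonoidAlgebra R M) (RingHom.ker (counitAlgHom R C)))
    (N : Subgroup M) (S : Type*) [CommRing S] [Algebra R S]
    (h1 : ∀ n ∈ N, (1 : S) ⊗ₜ[R] π (MonoidAlgebra.single n 1) = 1)
    (h2 : ∀ n ∉ N, ∀ r ∈ aIdeal φ n, algebraMap R S r = 0) :
    Nonempty (S ⊗[R] B ≃ₐc[S] MonoidAlgebra S (M ⧸ N)) := by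
  classical
  -- the group homomorphism `M → S ⊗ B`
  let u : M →* S ⊗[R] B :=
    (((Algebra.TensorProduct.includeRight : B →ₐ[R] S ⊗[R] B).toRingHom.toMonoidHom).comp
      (π : MonoidAlgebra R M →* B)).comp (MonoidAlgebra.of R M)
  have hu : ∀ m, u m = (1 : S) ⊗ₜ[R] π (MonoidAlgebra.single m 1) := fun m => rfl
  have huN : N ≤ u.ker := fun n hn => by
    rw [MonoidHom.mem_ker, hu]
    exact h1 n hn
  let v : M ⧸ N →* S ⊗[R] B := QuotientGroup.lift N u huN
  have hv : ∀ m : M, v (QuotientGroup.mk' N m) = (1 : S) ⊗ₜ[R] π (MonoidAlgebra.single m 1) :=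
    fun m => rfl
  let Ψ : MonoidAlgebra S (M ⧸ N) →ₐ[S] S ⊗[R] B := MonoidAlgebra.lift S (S ⊗[R] B) (M ⧸ N) v
  have hΨ : ∀ m : M, Ψ (MonoidAlgebra.single (QuotientGroup.mk' N m) 1) =
      (1 : S) ⊗ₜ[R] π (MonoidAlgebra.single m 1) := by
    intro m
    simp only [Ψ, MonoidAlgebra.lift_single, one_smul]
    exact hv m
  -- the inverse
  let w : M →* MonoidAlgebra S (M ⧸ N) := (MonoidAlgebra.of S (M ⧸ N)).comp (QuotientGroup.mk' N)
  let g : MonoidAlgebra R M →ₐ[R] MonoidAlgebra S (M ⧸ N) :=
    MonoidAlgebra.lift R (MonoidAlgebra S (M ⧸ N)) M w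
  have hg : ∀ (m : M) (r : R), g (MonoidAlgebra.single m r) =
      MonoidAlgebra.single (QuotientGroup.mk' N m) (algebraMap R S r) := by
    intro m r
    simp only [g, MonoidAlgebra.lift_single]
    simp [w, Algebra.algebraMap_eq_smul_one]
  have hgker : ∀ x : MonoidAlgebra R M, π x = 0 → g x = 0 := by
    intro x hx
    have hx' : x ∈ RingHom.ker (π : MonoidAlgebra R M →+* B) := hx
    rw [hker] at hx'
    have hle : Ideal.map (φ : C →+* MonoidAlgebra R M) (RingHom.ker (counitAlgHom R C)) ≤
        RingHom.ker (g : MonoidAlgebra R M →+* MonoidAlgebra S (M ⧸ N)) := by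
      rw [Ideal.map_le_iff_le_comap]
      intro c hc
      rw [Ideal.mem_comap]
      refine map_mem φ (K := RingHom.ker (g : MonoidAlgebra R M →+* MonoidAlgebra S (M ⧸ N)))
        ?_ c hc
      intro n r hr
      change g _ = 0
      rw [map_sub, hg, hg]
      by_cases hn : n ∈ N
      · have : (QuotientGroup.mk' N) n = (QuotientGroup.mk' N) 1 := by
          rw [map_one]
          exact (QuotientGroup.eq_one_iff n).mpr hn
        rw [this, sub_self]
      · rw [h2 n hn r hr]
        simp
    exact hle hx'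
  let θ : B →ₐ[R] MonoidAlgebra S (M ⧸ N) :=
    (Ideal.Quotient.liftₐ (RingHom.ker (π : MonoidAlgebra R M →ₐ[R] B)) g hgker).comp
      (Ideal.quotientKerAlgEquivOfSurjective
        (f := (π : MonoidAlgebra R M →ₐ[R] B)) hπ).symm.toAlgHom
  have hθ : ∀ x, θ (π x) = g x := by
    intro x
    have h3 : (Ideal.quotientKerAlgEquivOfSurjective
        (f := (π : MonoidAlgebra R M →ₐ[R] B)) hπ).symm (π x) = Ideal.Quotient.mk _ x := by
      rw [AlgEquiv.symm_apply_eq]
      rfl
    change (Ideal.Quotient.liftₐ (RingHom.ker (π : MonoidAlgebra R M →ₐ[R] B)) g hgker)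
      ((Ideal.quotientKerAlgEquivOfSurjective
        (f := (π : MonoidAlgebra R M →ₐ[R] B)) hπ).symm (π x)) = g x
    rw [h3]
    rfl
  let Θ : S ⊗[R] B →ₐ[S] MonoidAlgebra S (M ⧸ N) :=
    Algebra.TensorProduct.lift (Algebra.ofId S _) θ (fun _ _ => Commute.all _ _)
  have hΘ : ∀ b, Θ (1 ⊗ₜ b) = θ b := by
    intro b
    simp only [Θ, Algebra.TensorProduct.lift_tmul, map_one, one_mul]
  have hΘΨ : Θ.comp Ψ = AlgHom.id S _ := by
    ext m
    obtain ⟨m, rfl⟩ := QuotientGroup.mk'_surjective N m
    simp only [AlgHom.coe_comp, Function.comp_apply]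
    rw [hΨ, hΘ, hθ, hg]
    simp
  have hΨΘ : Ψ.comp Θ = AlgHom.id S _ := by
    apply Algebra.TensorProduct.ext
    · ext
    · apply AlgHom.ext
      intro b
      obtain ⟨x, rfl⟩ := hπ b
      change Ψ (Θ (1 ⊗ₜ π x)) = 1 ⊗ₜ π x
      rw [hΘ, hθ]
      induction x using MonoidAlgebra.induction_linear with
      | zero => simp
      | add x y hx hy => rw [map_add, map_add, hx, hy, map_add, TensorProduct.tmul_add]
      | single m r =>
        have e1 : (MonoidAlgebra.single m r : MonoidAlgebra R M) =
          r • MonoidAlgebra.single m 1 := by simp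
        have e3 : MonoidAlgebra.single (QuotientGroup.mk' N m) (algebraMap R S r) =
          algebraMap R S r • MonoidAlgebra.single (QuotientGroup.mk' N m) (1 : S) := by
            rw [MonoidAlgebra.smul_single, smul_eq_mul, mul_one]
        rw [hg, e3, map_smul, hΨ, e1, map_smul, TensorProduct.tmul_smul, algebraMap_smul]
  refine ⟨(BialgEquiv.ofAlgEquiv (AlgEquiv.ofAlgHom Ψ Θ hΨΘ hΘΨ) ?_ ?_).symm⟩
  · ext m
    obtain ⟨m, rfl⟩ := QuotientGroup.mk'_surjective N m
    change counit (R := S) (Ψ (MonoidAlgebra.single (QuotientGroup.mk' N m) 1)) =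
      counit (R := S) (MonoidAlgebra.single (QuotientGroup.mk' N m) (1 : S))
    rw [hΨ]
    simp [CoalgHomClass.counit_comp_apply]
  · ext m
    obtain ⟨m, rfl⟩ := QuotientGroup.mk'_surjective N m
    change TensorProduct.map Ψ.toLinearMap Ψ.toLinearMap
        (comul (MonoidAlgebra.single (QuotientGroup.mk' N m) (1 : S))) =
      comul (Ψ (MonoidAlgebra.single (QuotientGroup.mk' N m) 1))
    rw [hΨ]
    have e2 : comul (R := R) (π (MonoidAlgebra.single m 1)) =
        π (MonoidAlgebra.single m 1) ⊗ₜ[R] π (MonoidAlgebra.single m 1) := by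
      rw [← CoalgHomClass.map_comp_comul_apply]
      simp
    rw [TensorProduct.comul_tmul, e2]
    simp only [MonoidAlgebra.comul_single, CommSemiring.comul_apply, TensorProduct.map_tmul,
      MonoidAlgebra.lsingle_apply, AlgHom.toLinearMap_apply, hΨ,
      TensorProduct.AlgebraTensorModule.tensorTensorTensorComm_tmul]

/-- **The kernel of a homomorphism from a diagonalisable group is locally diagonalisable.** -/
theorem exists_local (hfg : (RingHom.ker (counitAlgHom R C)).FG) [Group.FG M]
    (hπ : Function.Surjective π)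
    (hker : RingHom.ker (π : MonoidAlgebra R M →+* B) =
      Ideal.map (φ : C →+* MonoidAlgebra R M) (RingHom.ker (counitAlgHom R C)))
    (p : PrimeSpectrum R) :
    ∃ f ∉ p.asIdeal, ∃ N : Subgroup M, ∀ (S : Type*) [CommRing S] [Algebra R S],
      IsUnit (algebraMap R S f) → Nonempty (S ⊗[R] B ≃ₐc[S] MonoidAlgebra S (M ⧸ N)) := by
  classical
  obtain ⟨T, hTfin, hTS, hST⟩ := exists_finite_subset {n : M | ¬ (aIdeal φ n ≤ p.asIdeal)}
  let N := Subgroup.closure T
  obtain ⟨e, he, heN⟩ := exists_aN_eq φ hfg N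
  have hep : e ∈ p.asIdeal := by
    have : aN φ N ≤ p.asIdeal := by
      apply iSup_le
      rintro ⟨n, hn⟩
      by_contra hcon
      exact hn (hST hcon)
    exact this (heN ▸ Ideal.mem_span_singleton_self e)
  have hT : ∀ n ∈ T, ∃ r ∈ aIdeal φ n, r ∉ p.asIdeal := fun n hn =>
    Set.not_subset.mp (hTS hn)
  choose! r hr hrp using hT
  have hfin : T.Finite := hTfin
  refine ⟨(1 - e) * ∏ n ∈ hfin.toFinset, r n, ?_, N, ?_⟩
  · intro hmem
    rcases p.isPrime.mem_or_mem hmem with h1 | h1
    · apply p.isPrime.ne_top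
      rw [Ideal.eq_top_iff_one]
      have := p.asIdeal.add_mem h1 hep
      simpa using this
    · rw [p.isPrime.prod_mem_iff] at h1
      obtain ⟨n, hn, hn'⟩ := h1
      exact hrp n (hfin.mem_toFinset.mp hn) hn'
  · intro S _ _ hunit
    rw [map_mul, map_prod] at hunit
    have hu1 : IsUnit (algebraMap R S (1 - e)) := isUnit_of_mul_isUnit_left hunit
    have hu2 := isUnit_of_mul_isUnit_right hunit
    have he0 : algebraMap R S e = 0 := by
      have h3 : algebraMap R S (1 - e) * algebraMap R S e = 0 := by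
        rw [← map_mul, sub_mul, one_mul, he.eq, sub_self, map_zero]
      exact (hu1.mul_right_eq_zero).mp h3
    apply nonempty_equiv φ π hπ hker N S
    · intro n hn
      induction hn using Subgroup.closure_induction with
      | mem n hn =>
        have hur : IsUnit (algebraMap R S (r n)) := by
          have : algebraMap R S (r n) ∣ ∏ n ∈ hfin.toFinset, algebraMap R S (r n) :=
            Finset.dvd_prod_of_mem _ (hfin.mem_toFinset.mpr hn)
          exact isUnit_of_dvd_unit this hu2
        obtain ⟨d, hd0, hd⟩ := exists_ker φ (hr n hn)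
        have h4 : π (φ d) = 0 := by
          have : φ d ∈ RingHom.ker (π : MonoidAlgebra R M →+* B) := by
            rw [hker]
            exact Ideal.mem_map_of_mem _ hd0
          exact this
        rw [hd, map_sub] at h4
        have e1 : ∀ m : M, (MonoidAlgebra.single m (r n) : MonoidAlgebra R M) =
          (r n) • MonoidAlgebra.single m 1 := fun m => by simp
        rw [e1, e1, map_smul, map_smul, ← smul_sub] at h4
        have h5 : algebraMap R S (r n) •
            ((1 : S) ⊗ₜ[R] (π (MonoidAlgebra.single n 1) - π (MonoidAlgebra.single 1 1))) = 0 := by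
          rw [algebraMap_smul, ← TensorProduct.tmul_smul, h4, TensorProduct.tmul_zero]
        rw [hur.smul_eq_zero, TensorProduct.tmul_sub, sub_eq_zero] at h5
        rw [h5, ← MonoidAlgebra.one_def, map_one, Algebra.TensorProduct.one_def]
      | one => rw [← MonoidAlgebra.one_def, map_one, Algebra.TensorProduct.one_def]
      | mul x y _ _ hx hy =>
        have : (MonoidAlgebra.single (x * y) 1 : MonoidAlgebra R M) =
          MonoidAlgebra.single x 1 * MonoidAlgebra.single y 1 := by
            rw [MonoidAlgebra.single_mul_single, mul_one]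
        rw [this, map_mul, ← mul_one (1 : S), ← Algebra.TensorProduct.tmul_mul_tmul, hx, hy,
          mul_one]
      | inv x _ hx =>
        have h6 : ((1 : S) ⊗ₜ[R] π (MonoidAlgebra.single x 1)) *
            ((1 : S) ⊗ₜ[R] π (MonoidAlgebra.single x⁻¹ 1)) = 1 := by
          rw [Algebra.TensorProduct.tmul_mul_tmul, ← map_mul, MonoidAlgebra.single_mul_single,
            mul_inv_cancel, mul_one, mul_one, ← MonoidAlgebra.one_def, map_one,
            Algebra.TensorProduct.one_def]
        rwa [hx, one_mul] at h6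
    · intro n hn x hx
      have h7 : x ∈ Ideal.span {e} := heN ▸ aIdeal_le_aN φ hn hx
      obtain ⟨y, rfl⟩ := Ideal.mem_span_singleton'.mp h7
      rw [map_mul, he0, mul_zero]

end Local

end Groth.Agent.Sga3A.KernelLocal
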