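import Groth.Agent.Sga3A.MTBasis
import Mathlib.RingTheory.Bialgebra.MonoidAlgebra
import Mathlib.Algebra.MonoidAlgebra.Lift

/-!
# Lifting of group-like elements along maps which are bijective on idempotents (team sga3-a)

`IdemLift R R₀ T`: idempotents of `R₀ ⊗[R] T` lift uniquely to idempotents of `T`.
If `(R₀ ⊗[R] T) ⊗[R₀] A₀` has a group-like basis `b : M → _`, then group-like elements of it lift uniquely to
group-like elements of `T[M]`.
-/

set_option autoImplicit false

open TensorProduct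

namespace Groth.Agent.Sga3A.LiftIdem

open MTBasis

section push

variable {T T' M : Type*} [CommRing T] [CommRing T'] [CommGroup M]

lemma isGroupLikeElem_mapRingHom (φ : T →+* T') {x : MonoidAlgebra T M} (hx : IsGroupLikeElem T x) :
    IsGroupLikeElem T' (MonoidAlgebra.mapRingHom M φ x) where
  counit_eq_one := by
    have h := congrFun (congrArg DFunLike.coe (MonoidAlgebra.counitAlgHom_comp_mapRingHom (M := M) φ)) x
    simp only [RingHom.coe_comp, Function.comp_apply] at h
    refine h.trans ?_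
    change φ (Coalgebra.counit (R := T) x) = 1
    rw [hx.counit_eq_one, map_one]
  comul_eq_tmul_self := by
    have h := congrFun (congrArg DFunLike.coe (MonoidAlgebra.comulAlgHom_comp_mapRingHom (M := M) φ)) x
    simp only [RingHom.coe_comp, Function.comp_apply] at h
    refine h.trans ?_
    have : (Bialgebra.comulAlgHom T (MonoidAlgebra T M)).toRingHom x = x ⊗ₜ x := hx.comul_eq_tmul_self
    rw [this]
    exact Algebra.TensorProduct.mapRingHom_tmul ..

lemma isGroupLikeElem_mapDomain {M' : Type*} [CommGroup M'] (f : M →* M') {x : MonoidAlgebra T M}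
    (hx : IsGroupLikeElem T x) : IsGroupLikeElem T (MonoidAlgebra.mapDomainBialgHom T f x) :=
  hx.map _

/-- The bialgebra hom of a family of group-like elements. -/
noncomputable def liftGL {B : Type*} [CommRing B] [Bialgebra T B] (γ : M →* B) (hγ : ∀ m, IsGroupLikeElem T (γ m)) :
    MonoidAlgebra T M →ₐc[T] B :=
  BialgHom.ofAlgHom (MonoidAlgebra.lift T B M γ) (by ext m; simp [(hγ m).counit_eq_one])
    (by ext m; simp [(hγ m).comul_eq_tmul_self])

lemma liftGL_apply {B : Type*} [CommRing B] [Bialgebra T B] (γ : M →* B) (hγ : ∀ m, IsGroupLikeElem T (γ m))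
    (x : MonoidAlgebra T M) : liftGL γ hγ x = MonoidAlgebra.lift T B M γ x := rfl

/-- the standard basis -/
noncomputable def std (T M : Type*) [CommRing T] [CommGroup M] : GBasis T (MonoidAlgebra T M) M :=
  GBasis.ofBialgEquiv (BialgEquiv.refl T _)

@[simp] lemma std_b (m : M) : (std T M).b m = MonoidAlgebra.single m 1 := rfl

@[simp] lemma std_repr (x : MonoidAlgebra T M) (m : M) : (std T M).b.repr x m = x.coeff m := by
  induction x using MonoidAlgebra.induction_linear with
  | zero => simp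
  | add x y hx hy => simp [hx, hy]
  | single n r =>
    have : MonoidAlgebra.single n r = r • (std T M).b n := by simp
    rw [this, map_smul, Module.Basis.repr_self, std_b]
    simp

end push

/-- Idempotents of `R₀ ⊗[R] T` lift uniquely to idempotents of `T`. -/
def IdemLift (R R₀ T : Type*) [CommRing R] [CommRing R₀] [CommRing T] [Algebra R R₀] [Algebra R T] : Prop :=
  (∀ e : R₀ ⊗[R] T, IsIdempotentElem e → ∃ x : T, IsIdempotentElem x ∧ (1 : R₀) ⊗ₜ[R] x = e) ∧
  (∀ x y : T, IsIdempotentElem x → IsIdempotentElem y → (1 : R₀) ⊗ₜ[R] x = 1 ⊗ₜ y → x = y)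

section G

variable {R R₀ T T' A₀ : Type*} [CommRing R] [CommRing R₀] [CommRing T] [CommRing T'] [CommRing A₀]
  [Algebra R R₀] [Algebra R T] [Algebra R T'] [Bialgebra R₀ A₀] {M : Type*} [CommGroup M]

/-- reduction of an algebra hom -/
noncomputable def phi0 (R₀ : Type*) [CommRing R₀] [Algebra R R₀] (φ : T →ₐ[R] T') :
    R₀ ⊗[R] T →ₐ[R₀] R₀ ⊗[R] T' :=
  Algebra.TensorProduct.map (AlgHom.id R₀ R₀) φ

@[simp] lemma phi0_tmul (φ : T →ₐ[R] T') (r : R₀) (t : T) : phi0 R₀ φ (r ⊗ₜ t) = r ⊗ₜ φ t := rfl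

lemma phi0_comp {T'' : Type*} [CommRing T''] [Algebra R T''] (φ : T →ₐ[R] T') (ψ : T' →ₐ[R] T'') :
    phi0 R₀ (ψ.comp φ) = (phi0 R₀ ψ).comp (phi0 R₀ φ) := by
  ext; simp

/-- the map `T → (R₀ ⊗ T) ⊗ A₀` -/
noncomputable def inT (R R₀ T A₀ : Type*) [CommRing R] [CommRing R₀] [CommRing T] [CommRing A₀]
    [Algebra R R₀] [Algebra R T] [Bialgebra R₀ A₀] : T →+* (R₀ ⊗[R] T) ⊗[R₀] A₀ :=
  (algebraMap (R₀ ⊗[R] T) ((R₀ ⊗[R] T) ⊗[R₀] A₀)).comp
    (Algebra.TensorProduct.includeRight : T →ₐ[R] R₀ ⊗[R] T).toRingHom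

lemma inT_apply (t : T) : inT R R₀ T A₀ t = ((1 : R₀) ⊗ₜ[R] t) ⊗ₜ 1 := rfl

lemma inT_mul (t : T) (x : (R₀ ⊗[R] T) ⊗[R₀] A₀) :
    inT R R₀ T A₀ t * x = ((1 : R₀) ⊗ₜ[R] t) • x := by
  exact (Algebra.smul_def ((1 : R₀) ⊗ₜ[R] t) x).symm

lemma bc_inT (φ : T →ₐ[R] T') (t : T) :
    MTBasis.bc A₀ (phi0 R₀ φ) (inT R R₀ T A₀ t) = inT R R₀ T' A₀ (φ t) := by
  simp [inT_apply]

/-- The ring hom `T[M] → (R₀ ⊗ T) ⊗ A₀` attached to `b : M → (R₀ ⊗ T) ⊗ A₀`. -/
noncomputable def G (b : M →* (R₀ ⊗[R] T) ⊗[R₀] A₀) : MonoidAlgebra T M →+* (R₀ ⊗[R] T) ⊗[R₀] A₀ :=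
  MonoidAlgebra.liftNCRingHom (inT R R₀ T A₀) b (fun _ _ => .all _ _)

@[simp] lemma G_single (b : M →* (R₀ ⊗[R] T) ⊗[R₀] A₀) (m : M) (t : T) :
    G b (MonoidAlgebra.single m t) = inT R R₀ T A₀ t * b m := by
  simp [G]

lemma bc_G (φ : T →ₐ[R] T') (b : M →* (R₀ ⊗[R] T) ⊗[R₀] A₀) (b' : M →* (R₀ ⊗[R] T') ⊗[R₀] A₀)
    (h : ∀ m, MTBasis.bc A₀ (phi0 R₀ φ) (b m) = b' m) (y : MonoidAlgebra T M) :
    MTBasis.bc A₀ (phi0 R₀ φ) (G b y) = G b' (MonoidAlgebra.mapRingHom M φ.toRingHom y) := by
  induction y using MonoidAlgebra.induction_linear with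
  | zero => simp
  | add x y hx hy => simp only [map_add, hx, hy]
  | single m t =>
    rw [G_single, map_mul, bc_inT, h, MonoidAlgebra.mapRingHom_single, G_single]
    rfl

variable (g : GBasis (R₀ ⊗[R] T) ((R₀ ⊗[R] T) ⊗[R₀] A₀) M)

lemma repr_G (y : MonoidAlgebra T M) (m : M) : g.b.repr (G g.hom y) m = 1 ⊗ₜ y.coeff m := by
  induction y using MonoidAlgebra.induction_linear with
  | zero => simp
  | add x y hx hy =>
    simp only [map_add, Finsupp.add_apply, MonoidAlgebra.coeff_add, TensorProduct.tmul_add, hx, hy]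
  | single n t =>
    classical
    rw [G_single, inT_mul, map_smul, GBasis.hom_apply, Module.Basis.repr_self]
    simp only [Finsupp.smul_apply, Finsupp.single_apply, MonoidAlgebra.coeff_single, smul_eq_mul]
    split_ifs <;> simp

/-- uniqueness of lifts of group-like elements -/
lemma eq_of_G_eq (hT : IdemLift R R₀ T) {x y : MonoidAlgebra T M} (hx : IsGroupLikeElem T x)
    (hy : IsGroupLikeElem T y) (h : G g.hom x = G g.hom y) : x = y := by
  classical
  ext m
  have hx' := (std T M).repr_mul_repr hx m m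
  have hy' := (std T M).repr_mul_repr hy m m
  simp only [std_repr, if_true] at hx' hy'
  apply hT.2 _ _ hx' hy'
  rw [← repr_G g, ← repr_G g, h]

/-- existence of lifts of group-like elements -/
lemma exists_G_eq (hT : IdemLift R R₀ T) {x : (R₀ ⊗[R] T) ⊗[R₀] A₀} (hx : IsGroupLikeElem (R₀ ⊗[R] T) x) :
    ∃ y : MonoidAlgebra T M, IsGroupLikeElem T y ∧ G g.hom y = x := by
  classical
  have h1 : ∀ m, IsIdempotentElem (g.b.repr x m) := fun m => by
    have := g.repr_mul_repr hx m m
    rwa [if_pos rfl] at this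
  choose e he he' using fun m => hT.1 _ (h1 m)
  have horth : ∀ m n, m ≠ n → e m * e n = 0 := by
    intro m n hmn
    apply hT.2
    · exact (he m).mul (he n)
    · exact IsIdempotentElem.zero
    · have := g.repr_mul_repr hx m n
      rw [if_neg hmn, ← he', ← he', Algebra.TensorProduct.tmul_mul_tmul, one_mul] at this
      rw [this, TensorProduct.tmul_zero]
  have hz : ∀ m, g.b.repr x m = 0 → e m = 0 := by
    intro m hm
    apply hT.2 _ _ (he m) IsIdempotentElem.zero
    rw [he', hm, TensorProduct.tmul_zero]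
  set s := (g.b.repr x).support with hs
  have hmul : ∀ m n, e m * e n = if m = n then e m else 0 := by
    intro m n
    split_ifs with hmn
    · rw [← hmn]; exact he m
    · exact horth m n hmn
  have hsum : ∑ m ∈ s, e m = 1 := by
    apply hT.2 _ _ _ IsIdempotentElem.one
    · rw [TensorProduct.tmul_sum]
      simp only [he']
      exact g.sum_repr hx
    · change (∑ m ∈ s, e m) * (∑ m ∈ s, e m) = _
      rw [Finset.sum_mul_sum]
      simp only [hmul]
      apply Finset.sum_congr rfl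
      intro m hm
      rw [Finset.sum_ite_eq, if_pos hm]
  refine ⟨∑ m ∈ s, MonoidAlgebra.single m (e m), ⟨?_, ?_⟩, ?_⟩
  · rw [map_sum]
    simp only [MonoidAlgebra.counit_single, CommSemiring.counit_apply]
    exact hsum
  · rw [map_sum, TensorProduct.sum_tmul]
    apply Finset.sum_congr rfl
    intro m hm
    rw [TensorProduct.tmul_sum]
    have h2 : ∀ n ∈ s, (MonoidAlgebra.single m (e m) : MonoidAlgebra T M) ⊗ₜ[T] MonoidAlgebra.single n (e n) =
        if m = n then (MonoidAlgebra.single m (e m) : MonoidAlgebra T M) ⊗ₜ[T] MonoidAlgebra.single n 1 else 0 := by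
      intro n _
      have h3 : (MonoidAlgebra.single n (e n) : MonoidAlgebra T M) = e n • MonoidAlgebra.single n 1 := by simp
      rw [h3, TensorProduct.tmul_smul, TensorProduct.smul_tmul', MonoidAlgebra.smul_single, smul_eq_mul,
        mul_comm, hmul]
      split_ifs <;> simp
    rw [Finset.sum_congr rfl h2, Finset.sum_ite_eq, if_pos hm]
    have h3 : (MonoidAlgebra.single m (e m) : MonoidAlgebra T M) = e m • MonoidAlgebra.single m 1 := by simp
    rw [MonoidAlgebra.comul_single, CommSemiring.comul_apply, TensorProduct.map_tmul, MonoidAlgebra.lsingle_apply,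
      MonoidAlgebra.lsingle_apply, h3, TensorProduct.smul_tmul]
  · apply g.b.repr.injective
    ext m
    rw [repr_G]
    by_cases hm : m ∈ s
    · rw [← he' m]
      congr 1
      rw [MonoidAlgebra.coeff_sum, Finsupp.finsetSum_apply]
      simp only [MonoidAlgebra.coeff_single, Finsupp.single_apply]
      rw [Finset.sum_ite_eq' s m e, if_pos hm]
    · have h4 : g.b.repr x m = 0 := by simpa [hs] using hm
      rw [h4, MonoidAlgebra.coeff_sum, Finsupp.finsetSum_apply]
      simp only [MonoidAlgebra.coeff_single, Finsupp.single_apply]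
      rw [Finset.sum_ite_eq' s m e, if_neg hm, TensorProduct.tmul_zero]

end G

end Groth.Agent.Sga3A.LiftIdem
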