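import Groth.Agent.Sga3A.LiftTheta
import Groth.Agent.Sga3A.IsoDesc

/-!
# Lifting of locally split groups of multiplicative type (team sga3-a)

`exists_lift`: let `R₀` be an `R`-algebra, `A₀` a Hopf algebra over `R₀`, `S i` a finite family of `R`-algebras with
`∏ S i` faithfully flat, such that `A₀` is diagonalisable over each `R₀ ⊗[R] S i`.  If idempotents of `R₀ ⊗ T` lift
uniquely to `T` for `T = S i, S i ⊗ S j, S i ⊗ (S j ⊗ S k)`, then `A₀` lifts to a Hopf algebra `A` over `R` which is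
diagonalisable over each `S i`.
-/

set_option autoImplicit false

open TensorProduct

namespace Groth.Agent.Sga3A.LiftMain

open MTBasis LiftIdem ModDesc HopfDesc HopfForm LiftTheta IsoDesc

universe u v

section general

variable {R R₀ T T' A₀ : Type u} [CommRing R] [CommRing R₀] [CommRing T] [CommRing T'] [CommRing A₀]
  [Algebra R R₀] [Algebra R T] [Algebra R T'] [Bialgebra R₀ A₀] {M₂ M₃ : Type u} [CommGroup M₂] [CommGroup M₃]

lemma G_smul (b : M₂ →* (R₀ ⊗[R] T) ⊗[R₀] A₀) (t : T) (x : MonoidAlgebra T M₂) :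
    G b (t • x) = inT R R₀ T A₀ t * G b x := by
  have : t • x = MonoidAlgebra.single 1 t * x := by
    rw [Algebra.smul_def]; rfl
  rw [this, map_mul, G_single, map_one, mul_one]

lemma mapRingHom_smul {T T' M : Type*} [CommRing T] [CommRing T'] [CommGroup M] (φ : T →+* T') (t : T)
    (x : MonoidAlgebra T M) :
    MonoidAlgebra.mapRingHom M φ (t • x) = φ t • MonoidAlgebra.mapRingHom M φ x := by
  induction x using MonoidAlgebra.induction_linear with
  | zero => simp
  | add x y hx hy => simp only [map_add, smul_add, hx, hy]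
  | single m t => simp

lemma G_lift (φ : T →ₐ[R] T') (δ : M₂ →* MonoidAlgebra T' M₃) (b₂ : M₂ →* (R₀ ⊗[R] T) ⊗[R₀] A₀)
    (b₃ : M₃ →* (R₀ ⊗[R] T') ⊗[R₀] A₀) (h : ∀ n, G b₃ (δ n) = MTBasis.bc A₀ (phi0 R₀ φ) (b₂ n))
    (y : MonoidAlgebra T M₂) :
    G b₃ (MonoidAlgebra.lift T' (MonoidAlgebra T' M₃) M₂ δ (MonoidAlgebra.mapRingHom M₂ φ.toRingHom y)) =
      MTBasis.bc A₀ (phi0 R₀ φ) (G b₂ y) := by
  induction y using MonoidAlgebra.induction_linear with
  | zero => simp
  | add x y hx hy => simp only [map_add, hx, hy]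
  | single m t =>
    rw [MonoidAlgebra.mapRingHom_single, MonoidAlgebra.lift_single, G_smul, h, G_single, map_mul, bc_inT]
    rfl

lemma phi0_id : phi0 R₀ (AlgHom.id R T) = AlgHom.id R₀ (R₀ ⊗[R] T) := by
  ext; simp

lemma bc_id_apply {S A : Type*} [CommRing S] [CommRing A] [Algebra R S] [Bialgebra R A] (x : S ⊗[R] A) :
    MTBasis.bc A (AlgHom.id R S) x = x := by
  have : MTBasis.bc A (AlgHom.id R S) = AlgHom.id R _ := by ext <;> simp
  rw [this]; rfl

end general

section cocycle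

variable {R : Type u} [CommRing R] {S₁ S₂ S₃ M₁ M₂ M₃ : Type u} [CommRing S₁] [CommRing S₂] [CommRing S₃]
  [Algebra R S₁] [Algebra R S₂] [Algebra R S₃] [CommGroup M₁] [CommGroup M₂] [CommGroup M₃]

/-- `S₁ ⊗ (S₂ ⊗ S₃[M₃]) → (S₁ ⊗ (S₂ ⊗ S₃))[M₃]` -/
noncomputable def E : S₁ ⊗[R] (S₂ ⊗[R] MonoidAlgebra S₃ M₃) →ₗ[R] MonoidAlgebra (S₁ ⊗[R] (S₂ ⊗[R] S₃)) M₃ :=
  (eq12 R S₁ (S₂ ⊗[R] S₃) M₃).toLinearMap.restrictScalars R ∘ₗ
    ((eq12 R S₂ S₃ M₃).toLinearMap.restrictScalars R).lTensor S₁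

lemma E_injective : Function.Injective (E : S₁ ⊗[R] (S₂ ⊗[R] MonoidAlgebra S₃ M₃) →ₗ[R] _) := by
  apply Function.Injective.comp (eq12 R S₁ (S₂ ⊗[R] S₃) M₃).injective
  exact (LinearEquiv.lTensor S₁ ((eq12 R S₂ S₃ M₃).toLinearEquiv.restrictScalars R)).injective

lemma E_tmul (s : S₁) (z : S₂ ⊗[R] MonoidAlgebra S₃ M₃) :
    E (s ⊗ₜ[R] z) = eq12 R S₁ (S₂ ⊗[R] S₃) M₃ (s ⊗ₜ eq12 R S₂ S₃ M₃ z) := rfl

/-- inclusion `T → S₁ ⊗ T` applied to coefficients -/
lemma eq12_tmul (s : S₁) (z : MonoidAlgebra S₂ M₂) :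
    eq12 R S₁ S₂ M₂ (s ⊗ₜ z) = (s ⊗ₜ[R] (1 : S₂)) •
      MonoidAlgebra.mapRingHom M₂ (Algebra.TensorProduct.includeRight : S₂ →ₐ[R] S₁ ⊗[R] S₂).toRingHom z := by
  induction z using MonoidAlgebra.induction_linear with
  | zero => simp
  | add x y hx hy => simp only [map_add, TensorProduct.tmul_add, smul_add, hx, hy]
  | single m t => simp

variable (R S₁ S₂ S₃) in
/-- `S₁ ⊗ S₂ → S₁ ⊗ (S₂ ⊗ S₃)` -/
noncomputable def f12 : S₁ ⊗[R] S₂ →ₐ[R] S₁ ⊗[R] (S₂ ⊗[R] S₃) :=
  Algebra.TensorProduct.map (AlgHom.id R S₁) Algebra.TensorProduct.includeLeft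

variable (R S₁ S₂ S₃) in
/-- `S₁ ⊗ S₃ → S₁ ⊗ (S₂ ⊗ S₃)` -/
noncomputable def f13 : S₁ ⊗[R] S₃ →ₐ[R] S₁ ⊗[R] (S₂ ⊗[R] S₃) :=
  Algebra.TensorProduct.map (AlgHom.id R S₁) Algebra.TensorProduct.includeRight

variable (R S₁ S₂ S₃) in
/-- `S₂ ⊗ S₃ → S₁ ⊗ (S₂ ⊗ S₃)` -/
noncomputable def f23 : S₂ ⊗[R] S₃ →ₐ[R] S₁ ⊗[R] (S₂ ⊗[R] S₃) := Algebra.TensorProduct.includeRight

lemma E_θ (γ : M₂ →* MonoidAlgebra (S₂ ⊗[R] S₃) M₃) (y : MonoidAlgebra (S₁ ⊗[R] S₂) M₂) :
    E (((θ γ).toLinearMap.restrictScalars R).lTensor S₁ ((eq12 R S₁ S₂ M₂).symm y)) =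
      MonoidAlgebra.lift (S₁ ⊗[R] (S₂ ⊗[R] S₃)) (MonoidAlgebra (S₁ ⊗[R] (S₂ ⊗[R] S₃)) M₃) M₂
        ((MonoidAlgebra.mapRingHom M₃ (f23 R S₁ S₂ S₃).toRingHom).toMonoidHom.comp γ)
        (MonoidAlgebra.mapRingHom M₂ (f12 R S₁ S₂ S₃).toRingHom y) := by
  induction y using induction_single_tmul with
  | h0 => simp
  | hadd x y hx hy => simp only [map_add, hx, hy]
  | hs m s t =>
    rw [eq12_symm_single, LinearMap.lTensor_tmul, E_tmul, LinearMap.restrictScalars_apply, AlgHom.toLinearMap_apply,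
      θ_single, map_smul, AlgEquiv.apply_symm_apply, MonoidAlgebra.mapRingHom_single, MonoidAlgebra.lift_single,
      eq12_tmul]
    have h1 : t • γ m = (t ⊗ₜ[R] (1 : S₃)) • γ m := (algebraMap_smul (S₂ ⊗[R] S₃) t (γ m)).symm
    rw [h1, mapRingHom_smul, smul_smul]
    congr 1
    simp [f12]

lemma E_mk (y : MonoidAlgebra (S₁ ⊗[R] S₃) M₃) :
    E ((TensorProduct.mk R S₂ (MonoidAlgebra S₃ M₃) 1).lTensor S₁ ((eq12 R S₁ S₃ M₃).symm y)) =
      MonoidAlgebra.mapRingHom M₃ (f13 R S₁ S₂ S₃).toRingHom y := by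
  induction y using induction_single_tmul with
  | h0 => simp
  | hadd x y hx hy => simp only [map_add, hx, hy]
  | hs m s t =>
    rw [eq12_symm_single, LinearMap.lTensor_tmul, E_tmul, TensorProduct.mk_apply, eq12_tmul_single,
      eq12_tmul_single, MonoidAlgebra.mapRingHom_single]
    rfl

end cocycle

section family

variable {R R₀ A₀ : Type u} [CommRing R] [CommRing R₀] [Algebra R R₀] [CommRing A₀] [HopfAlgebra R₀ A₀]
  {ι : Type v} {S M : ι → Type u} [∀ i, CommRing (S i)] [∀ i, Algebra R (S i)] [∀ i, CommGroup (M i)]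
  (g : ∀ i, GBasis (R₀ ⊗[R] S i) ((R₀ ⊗[R] S i) ⊗[R₀] A₀) (M i))

/-- The group-like basis of `A₀` over `R₀ ⊗ T` obtained from the one over `R₀ ⊗ S j` along `α : S j → T`. -/
noncomputable def bh {T : Type u} [CommRing T] [Algebra R T] (j : ι) (α : S j →ₐ[R] T) :
    GBasis (R₀ ⊗[R] T) ((R₀ ⊗[R] T) ⊗[R₀] A₀) (M j) :=
  (g j).bc (phi0 R₀ α)

lemma bh_b {T : Type u} [CommRing T] [Algebra R T] (j : ι) (α : S j →ₐ[R] T) (m : M j) :
    (bh g j α).b m = MTBasis.bc A₀ (phi0 R₀ α) ((g j).b m) := GBasis.bc_b _ _ _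

lemma bc_bh {T T' : Type u} [CommRing T] [Algebra R T] [CommRing T'] [Algebra R T'] (j : ι) (α : S j →ₐ[R] T)
    (φ : T →ₐ[R] T') (m : M j) :
    MTBasis.bc A₀ (phi0 R₀ φ) ((bh g j α).b m) = (bh g j (φ.comp α)).b m := by
  rw [bh_b, bh_b, bc_bc, ← phi0_comp]

/-- existence of the descent data -/
lemma exists_γ (h2 : ∀ i j, IdemLift R R₀ (S i ⊗[R] S j)) (i j : ι) :
    ∃ γ : M i →* MonoidAlgebra (S i ⊗[R] S j) (M j),
      (∀ m, IsGroupLikeElem (S i ⊗[R] S j) (γ m)) ∧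
      ∀ m, G (bh g j (Algebra.TensorProduct.includeRight : S j →ₐ[R] S i ⊗[R] S j)).hom (γ m) =
        (bh g i (Algebra.TensorProduct.includeLeft : S i →ₐ[R] S i ⊗[R] S j)).b m := by
  choose γ hγ hγ' using fun m : M i => exists_G_eq
    (bh g j (Algebra.TensorProduct.includeRight : S j →ₐ[R] S i ⊗[R] S j)) (h2 i j)
    ((bh g i (Algebra.TensorProduct.includeLeft : S i →ₐ[R] S i ⊗[R] S j)).gl m)
  refine ⟨{ toFun := γ, map_one' := ?_, map_mul' := ?_ }, hγ, hγ'⟩
  · apply eq_of_G_eq (bh g j (Algebra.TensorProduct.includeRight : S j →ₐ[R] S i ⊗[R] S j)) (h2 i j) (hγ 1)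
      IsGroupLikeElem.one
    rw [hγ', GBasis.one, map_one]
  · intro m n
    apply eq_of_G_eq (bh g j (Algebra.TensorProduct.includeRight : S j →ₐ[R] S i ⊗[R] S j)) (h2 i j) (hγ _)
      ((hγ m).mul (hγ n))
    rw [hγ', GBasis.mul, map_mul, hγ', hγ']

section rho

variable {S₁ S₂ : Type u} [CommRing S₁] [CommRing S₂] [Algebra R S₁] [Algebra R S₂]

/-- comparison map `(R₀ ⊗ S₁) ⊗ ((R₀ ⊗ S₂) ⊗ A₀) → (R₀ ⊗ (S₁ ⊗ S₂)) ⊗ A₀` -/
noncomputable def rho (R R₀ S₁ S₂ A₀ : Type u) [CommRing R] [CommRing R₀] [Algebra R R₀] [CommRing A₀]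
    [Algebra R₀ A₀] [CommRing S₁] [CommRing S₂] [Algebra R S₁] [Algebra R S₂] :
    (R₀ ⊗[R] S₁) ⊗[R₀] ((R₀ ⊗[R] S₂) ⊗[R₀] A₀) ≃ₗ[R₀] (R₀ ⊗[R] (S₁ ⊗[R] S₂)) ⊗[R₀] A₀ :=
  (TensorProduct.assoc R₀ (R₀ ⊗[R] S₁) (R₀ ⊗[R] S₂) A₀).symm.trans
    (TensorProduct.congr (AlgebraTensorModule.distribBaseChange R R₀ S₁ S₂).symm (LinearEquiv.refl R₀ A₀))

lemma distrib_symm_one_left (r : R₀) (t : S₂) :
    (AlgebraTensorModule.distribBaseChange R R₀ S₁ S₂).symm ((1 : R₀ ⊗[R] S₁) ⊗ₜ (r ⊗ₜ t)) = r ⊗ₜ (1 ⊗ₜ t) := by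
  rw [LinearEquiv.symm_apply_eq, AlgebraTensorModule.distribBaseChange_tmul, Algebra.TensorProduct.one_def]
  rw [show (r ⊗ₜ[R] (1 : S₁)) = r • ((1 : R₀) ⊗ₜ[R] (1 : S₁)) by simp [TensorProduct.smul_tmul'],
    TensorProduct.smul_tmul]
  simp [TensorProduct.smul_tmul']

lemma distrib_symm_one_right (r : R₀) (s : S₁) :
    (AlgebraTensorModule.distribBaseChange R R₀ S₁ S₂).symm ((r ⊗ₜ s) ⊗ₜ (1 : R₀ ⊗[R] S₂)) = r ⊗ₜ (s ⊗ₜ 1) := by
  rw [LinearEquiv.symm_apply_eq, AlgebraTensorModule.distribBaseChange_tmul, Algebra.TensorProduct.one_def]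

lemma rho_mk (z : (R₀ ⊗[R] S₁) ⊗[R₀] A₀) :
    rho R R₀ S₁ S₂ A₀ ((TensorProduct.mk R₀ (R₀ ⊗[R] S₂) A₀ 1).lTensor (R₀ ⊗[R] S₁) z) =
      MTBasis.bc A₀ (phi0 R₀ (Algebra.TensorProduct.includeLeft : S₁ →ₐ[R] S₁ ⊗[R] S₂)) z := by
  induction z using TensorProduct.induction_on with
  | zero => simp
  | add x y hx hy => simp only [map_add, hx, hy]
  | tmul x a =>
    induction x using TensorProduct.induction_on with
    | zero => simp
    | add x y hx hy => simp only [TensorProduct.add_tmul, map_add, hx, hy]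
    | tmul r s =>
      simp only [rho, LinearMap.lTensor_tmul, TensorProduct.mk_apply, LinearEquiv.trans_apply,
        TensorProduct.assoc_symm_tmul, TensorProduct.congr_tmul, distrib_symm_one_right, LinearEquiv.refl_apply,
        MTBasis.bc_tmul, phi0_tmul, Algebra.TensorProduct.includeLeft_apply]

lemma rho_one_tmul (z : (R₀ ⊗[R] S₂) ⊗[R₀] A₀) :
    rho R R₀ S₁ S₂ A₀ (1 ⊗ₜ z) =
      MTBasis.bc A₀ (phi0 R₀ (Algebra.TensorProduct.includeRight : S₂ →ₐ[R] S₁ ⊗[R] S₂)) z := by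
  induction z using TensorProduct.induction_on with
  | zero => simp
  | add x y hx hy => simp only [TensorProduct.tmul_add, map_add, hx, hy]
  | tmul x a =>
    induction x using TensorProduct.induction_on with
    | zero => simp
    | add x y hx hy => simp only [TensorProduct.add_tmul, TensorProduct.tmul_add, map_add, hx, hy]
    | tmul r s =>
      simp only [rho, LinearEquiv.trans_apply,
        TensorProduct.assoc_symm_tmul, TensorProduct.congr_tmul, distrib_symm_one_left, LinearEquiv.refl_apply,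
        MTBasis.bc_tmul, phi0_tmul, Algebra.TensorProduct.includeRight_apply]

end rho

lemma lift_eq_lift_map {S₁ T M₁ M₂ : Type u} [CommRing S₁] [CommRing T] [Algebra S₁ T] [CommGroup M₁] [CommGroup M₂]
    (γ : M₁ →* MonoidAlgebra T M₂) (y : MonoidAlgebra S₁ M₁) :
    MonoidAlgebra.lift S₁ (MonoidAlgebra T M₂) M₁ γ y =
      MonoidAlgebra.lift T (MonoidAlgebra T M₂) M₁ γ (MonoidAlgebra.mapRingHom M₁ (algebraMap S₁ T) y) := by
  induction y using MonoidAlgebra.induction_linear with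
  | zero => simp
  | add x y hx hy => simp only [map_add, hx, hy]
  | single m s => rw [MonoidAlgebra.mapRingHom_single, MonoidAlgebra.lift_single, MonoidAlgebra.lift_single,
      algebraMap_smul]

lemma lmul'_comp_includeRight {S : Type u} [CommRing S] [Algebra R S] :
    (Algebra.TensorProduct.lmul' R (S := S)).comp Algebra.TensorProduct.includeRight = AlgHom.id R S := by
  ext; simp

lemma lmul'_comp_includeLeft {S : Type u} [CommRing S] [Algebra R S] :
    (Algebra.TensorProduct.lmul' R (S := S)).comp Algebra.TensorProduct.includeLeft = AlgHom.id R S := by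
  ext; simp

include g in
theorem exists_lift [Finite ι] [Module.FaithfullyFlat R (∀ i, S i)]
    (h1 : ∀ i, IdemLift R R₀ (S i)) (h2 : ∀ i j, IdemLift R R₀ (S i ⊗[R] S j))
    (h3 : ∀ i j k, IdemLift R R₀ (S i ⊗[R] (S j ⊗[R] S k))) :
    ∃ (A : Type (max v u)) (_ : CommRing A) (_ : HopfAlgebra R A),
      (∀ i, Nonempty (S i ⊗[R] A ≃ₐc[S i] MonoidAlgebra (S i) (M i))) ∧ Nonempty (R₀ ⊗[R] A ≃ₐc[R₀] A₀) := by
  classical
  choose γ hγ hγ' using exists_γ g h2
  have c1 : ∀ i (b : MonoidAlgebra (S i) (M i)), act R (S i) (MonoidAlgebra (S i) (M i)) (θ (γ i i) b) = b := by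
    intro i b
    induction b using MonoidAlgebra.induction_linear with
    | zero => simp
    | add x y hx hy => simp only [map_add, hx, hy]
    | single m s =>
      rw [θ_single, map_smul, act_eq12_symm]
      have : MonoidAlgebra.mapRingHom (M i) (Algebra.TensorProduct.lmul' R (S := S i)).toRingHom (γ i i m) =
          MonoidAlgebra.single m 1 := by
        apply eq_of_G_eq (g i) (h1 i) (isGroupLikeElem_mapRingHom _ (hγ i i m))
          (MonoidAlgebra.isGroupLikeElem_single_one m)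
        rw [← bc_G (Algebra.TensorProduct.lmul' R (S := S i)) (bh g i (Algebra.TensorProduct.includeRight)).hom
          (g i).hom, hγ', bc_bh, G_single, lmul'_comp_includeLeft, map_one, one_mul, bh_b, phi0_id, bc_id_apply]
        · rfl
        · intro n
          rw [GBasis.hom_apply, bc_bh, lmul'_comp_includeRight, bh_b, phi0_id, bc_id_apply]
          rfl
      rw [this]
      simp
  have c2 : ∀ i j k (b : MonoidAlgebra (S i) (M i)),
      ((θ (γ j k)).toLinearMap.restrictScalars R).lTensor (S i) (θ (γ i j) b) =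
      (TensorProduct.mk R (S j) (MonoidAlgebra (S k) (M k)) 1).lTensor (S i) (θ (γ i k) b) := by
    intro i j k b
    induction b using MonoidAlgebra.induction_linear with
    | zero => simp
    | add x y hx hy => simp only [map_add, hx, hy]
    | single m s =>
      rw [θ_single, θ_single]
      have e1 : ((θ (γ j k)).toLinearMap.restrictScalars R).lTensor (S i) (s • (eq12 R (S i) (S j) (M j)).symm (γ i j m)) =
        s • ((θ (γ j k)).toLinearMap.restrictScalars R).lTensor (S i) ((eq12 R (S i) (S j) (M j)).symm (γ i j m)) :=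
        map_smul (TensorProduct.AlgebraTensorModule.lTensor (S i) (S i)
          ((θ (γ j k)).toLinearMap.restrictScalars R)) s _
      have e2 : (TensorProduct.mk R (S j) (MonoidAlgebra (S k) (M k)) 1).lTensor (S i)
          (s • (eq12 R (S i) (S k) (M k)).symm (γ i k m)) =
        s • (TensorProduct.mk R (S j) (MonoidAlgebra (S k) (M k)) 1).lTensor (S i)
          ((eq12 R (S i) (S k) (M k)).symm (γ i k m)) :=
        map_smul (TensorProduct.AlgebraTensorModule.lTensor (S i) (S i)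
          (TensorProduct.mk R (S j) (MonoidAlgebra (S k) (M k)) 1)) s _
      rw [e1, e2]
      congr 1
      apply E_injective
      rw [E_θ, E_mk]
      have hc1 : (f13 R (S i) (S j) (S k)).comp Algebra.TensorProduct.includeRight =
          (f23 R (S i) (S j) (S k)).comp Algebra.TensorProduct.includeRight := by
        ext; simp [f13, f23]
      have hc2 : (f12 R (S i) (S j) (S k)).comp Algebra.TensorProduct.includeRight =
          (f23 R (S i) (S j) (S k)).comp Algebra.TensorProduct.includeLeft := by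
        ext; simp [f12, f23]
      have hc3 : (f12 R (S i) (S j) (S k)).comp Algebra.TensorProduct.includeLeft =
          (f13 R (S i) (S j) (S k)).comp Algebra.TensorProduct.includeLeft := by
        ext; simp [f12, f13]
      apply eq_of_G_eq (bh g k ((f23 R (S i) (S j) (S k)).comp Algebra.TensorProduct.includeRight)) (h3 i j k)
      · exact (isGroupLikeElem_mapRingHom _ (hγ i j m)).map (liftGL _
          (fun n => isGroupLikeElem_mapRingHom (f23 R (S i) (S j) (S k)).toRingHom (hγ j k n)))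
      · exact isGroupLikeElem_mapRingHom _ (hγ i k m)
      · rw [G_lift (f12 R (S i) (S j) (S k)) _
          (bh g j (Algebra.TensorProduct.includeRight : S j →ₐ[R] S i ⊗[R] S j)).hom, hγ', bc_bh,
          ← bc_G (f13 R (S i) (S j) (S k)) (bh g k (Algebra.TensorProduct.includeRight : S k →ₐ[R] S i ⊗[R] S k)).hom,
          hγ', bc_bh, hc3]
        · intro n
          rw [GBasis.hom_apply, GBasis.hom_apply, bc_bh, hc1]
        · intro n
          rw [MonoidHom.comp_apply]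
          change G _ (MonoidAlgebra.mapRingHom (M k) (f23 R (S i) (S j) (S k)).toRingHom (γ j k n)) = _
          rw [← bc_G (f23 R (S i) (S j) (S k)) (bh g k (Algebra.TensorProduct.includeRight : S k →ₐ[R] S j ⊗[R] S k)).hom,
            hγ', bc_bh, GBasis.hom_apply, bc_bh, hc2]
          intro n'
          rw [GBasis.hom_apply, GBasis.hom_apply, bc_bh]
  obtain ⟨A, iA, iH, f, he, hf, -⟩ := exists_descent (R := R) (S := S) (B := fun i => MonoidAlgebra (S i) (M i))
    (fun i j => θ (γ i j)) c1 c2 (fun i j b => counit_θ _ (hγ i j) b) (fun i j b => comul_θ _ (hγ i j) b)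
    (fun i j b => antipode_θ _ (hγ i j) b)
  refine ⟨A, iA, iH, fun i => ⟨(he i).choose⟩, ?_⟩
  choose e he using he
  have hff := faithfullyFlat_pi_baseChange (R := R) (S := S) R₀
  -- the maps `A → (R₀ ⊗ S i) ⊗ A₀`
  let Gf : ∀ i, A →ₐ[R] (R₀ ⊗[R] S i) ⊗[R₀] A₀ := fun i =>
    { (G (g i).hom).comp (f i).toRingHom with
      commutes' := fun r => by
        change G (g i).hom (f i (algebraMap R A r)) = _
        rw [AlgHom.commutes, IsScalarTower.algebraMap_apply R (S i) (MonoidAlgebra (S i) (M i)),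
          MonoidAlgebra.coe_algebraMap, Function.comp_apply, G_single, map_one, mul_one,
          Algebra.algebraMap_self_apply, inT_apply, Algebra.TensorProduct.algebraMap_apply]
        congr 1
        rw [Algebra.algebraMap_eq_smul_one, TensorProduct.tmul_smul, Algebra.algebraMap_eq_smul_one]
        rfl }
  have hGf : ∀ i a, Gf i a = G (g i).hom (f i a) := fun i a => rfl
  let hh : ∀ i, R₀ ⊗[R] A →ₐ[R₀] (R₀ ⊗[R] S i) ⊗[R₀] A₀ := fun i =>
    Algebra.TensorProduct.lift (Algebra.ofId R₀ _) (Gf i) (fun _ _ => .all _ _)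
  have hhh : ∀ i r a, hh i (r ⊗ₜ a) = r • G (g i).hom (f i a) := fun i r a => by
    simp only [hh, Algebra.TensorProduct.lift_tmul, Algebra.ofId_apply, ← Algebra.smul_def, hGf]
  -- compatibility
  have hcomp : ∀ i j (a : A), MTBasis.bc A₀ (phi0 R₀ (Algebra.TensorProduct.includeLeft : S i →ₐ[R] S i ⊗[R] S j))
      (G (g i).hom (f i a)) =
      MTBasis.bc A₀ (phi0 R₀ (Algebra.TensorProduct.includeRight : S j →ₐ[R] S i ⊗[R] S j))
      (G (g j).hom (f j a)) := by
    intro i j a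
    have h4 := congrArg (eq12 R (S i) (S j) (M j)) (hf i j a)
    rw [eq12_θ, eq12_tmul, ← Algebra.TensorProduct.one_def, one_smul, lift_eq_lift_map] at h4
    have h5 := congrArg (G (bh g j (Algebra.TensorProduct.includeRight : S j →ₐ[R] S i ⊗[R] S j)).hom) h4
    have h6 := G_lift (Algebra.TensorProduct.includeLeft : S i →ₐ[R] S i ⊗[R] S j) (γ i j) (g i).hom
      (bh g j (Algebra.TensorProduct.includeRight : S j →ₐ[R] S i ⊗[R] S j)).hom
      (fun n => by rw [hγ', bh_b]; rfl) (f i a)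
    have h7 := bc_G (Algebra.TensorProduct.includeRight : S j →ₐ[R] S i ⊗[R] S j) (g j).hom
      (bh g j (Algebra.TensorProduct.includeRight : S j →ₐ[R] S i ⊗[R] S j)).hom
      (fun n => by rw [GBasis.hom_apply, GBasis.hom_apply, bh_b]) (f j a)
    rw [← h6, h7]
    exact h5
  obtain ⟨H, hH⟩ := exists_factor (R := R₀) (A := R₀ ⊗[R] A) (C := A₀)
    (D := fun i => (R₀ ⊗[R] S i) ⊗[R₀] A₀)
    (fun i => (Algebra.TensorProduct.includeRight : A₀ →ₐ[R₀] (R₀ ⊗[R] S i) ⊗[R₀] A₀))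
    (fun c c' h => eq_of_forall_one_tmul (R := R₀) (S := fun i => R₀ ⊗[R] S i) h) hh (by
      intro x
      refine exists_of_coaction (R := R₀) (S := fun i => R₀ ⊗[R] S i) (Q := A₀)
        (Q' := fun i => (R₀ ⊗[R] S i) ⊗[R₀] A₀) (fun i => TensorProduct.mk R₀ (R₀ ⊗[R] S i) A₀ 1)
        (fun i => TensorProduct.isBaseChange R₀ A₀ (R₀ ⊗[R] S i))
        (fun i j => TensorProduct.AlgebraTensorModule.lTensor (R₀ ⊗[R] S i) (R₀ ⊗[R] S i)
          (TensorProduct.mk R₀ (R₀ ⊗[R] S j) A₀ 1)) (fun i j q => rfl) (fun i => hh i x) ?_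
      intro i j
      apply (rho R R₀ (S i) (S j) A₀).injective
      change rho R R₀ (S i) (S j) A₀
        ((TensorProduct.mk R₀ (R₀ ⊗[R] S j) A₀ 1).lTensor (R₀ ⊗[R] S i) (hh i x)) = _
      rw [rho_mk, rho_one_tmul]
      induction x using TensorProduct.induction_on with
      | zero => simp
      | add x y hx hy => simp only [map_add, hx, hy]
      | tmul r a => rw [hhh, hhh, map_smul, map_smul, hcomp])
  obtain ⟨E, hE⟩ := exists_bialgEquiv (R := R₀) (S := fun i => R₀ ⊗[R] S i) H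
    (fun i => ((GBasis.ofBialgEquiv (e i)).bc (Algebra.TensorProduct.includeRight : S i →ₐ[R] R₀ ⊗[R] S i)).map
      (cancelBC R R₀ (R₀ ⊗[R] S i) A).symm) g (by
    intro i m
    have h8 : ∀ w : S i ⊗[R] A, H.toLinearMap.lTensor (R₀ ⊗[R] S i) ((cancelBC R R₀ (R₀ ⊗[R] S i) A).symm
        (MTBasis.bc A (Algebra.TensorProduct.includeRight : S i →ₐ[R] R₀ ⊗[R] S i) w)) = G (g i).hom (e i w) := by
      intro w
      induction w using TensorProduct.induction_on with
      | zero => simp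
      | add x y hx hy => simp only [map_add, hx, hy]
      | tmul s a =>
        have h9 : (cancelBC R R₀ (R₀ ⊗[R] S i) A).symm (((1 : R₀) ⊗ₜ[R] s) ⊗ₜ[R] a) =
            ((1 : R₀) ⊗ₜ[R] s) ⊗ₜ[R₀] ((1 : R₀) ⊗ₜ[R] a) := by
          apply (EquivLike.injective (cancelBC R R₀ (R₀ ⊗[R] S i) A))
          rw [BialgEquiv.apply_symm_apply, cancelBC_tmul, one_smul]
        have h10 : (s ⊗ₜ[R] a : S i ⊗[R] A) = s • ((1 : S i) ⊗ₜ[R] a) := by
          rw [TensorProduct.smul_tmul', smul_eq_mul, mul_one]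
        rw [MTBasis.bc_tmul, Algebra.TensorProduct.includeRight_apply, h9, LinearMap.lTensor_tmul,
          AlgHom.toLinearMap_apply, h10, map_smul, he, G_smul, inT_mul]
        have h11 := hH i ((1 : R₀) ⊗ₜ[R] a)
        rw [hhh, one_smul, Algebra.TensorProduct.includeRight_apply] at h11
        rw [← h11, TensorProduct.smul_tmul', smul_eq_mul, mul_one]
    have h12 := h8 ((e i).symm (MonoidAlgebra.single m 1))
    rw [BialgEquiv.apply_symm_apply, G_single, map_one, one_mul] at h12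
    rw [GBasis.map_b, GBasis.bc_b]
    exact h12)
  exact ⟨E⟩

end family

end Groth.Agent.Sga3A.LiftMain
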