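import Groth.Agent.Sga3A.LiftIdem
import Groth.Agent.Sga3A.HopfDesc
import Mathlib.RingTheory.HopfAlgebra.MonoidAlgebra
import Mathlib.RingTheory.TensorProduct.MonoidAlgebra

/-!
# Descent data between group algebras (team sga3-a)

`θ γ : S₁[M₁] → S₁ ⊗[R] S₂[M₂]` attached to `γ : M₁ →* (S₁ ⊗[R] S₂)[M₂]`, and its compatibility with the Hopf
algebra structures when the values of `γ` are group-like.
-/

set_option autoImplicit false

open TensorProduct

namespace Groth.Agent.Sga3A.LiftTheta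

open MTBasis LiftIdem ModDesc HopfDesc

universe u

variable {R : Type u} [CommRing R]

section e

variable (R) (S₁ S₂ M₂ : Type u) [CommRing S₁] [CommRing S₂] [Algebra R S₁] [Algebra R S₂] [CommGroup M₂]

/-- `S₁ ⊗[R] S₂[M₂] ≃ (S₁ ⊗[R] S₂)[M₂]` -/
noncomputable def eq12 : S₁ ⊗[R] MonoidAlgebra S₂ M₂ ≃ₐ[S₁] MonoidAlgebra (S₁ ⊗[R] S₂) M₂ :=
  MonoidAlgebra.rTensorEquivAlgEquiv R S₁ S₁ S₂

variable {R S₁ S₂ M₂}

@[simp] lemma eq12_tmul_single (s : S₁) (t : S₂) (m : M₂) :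
    eq12 R S₁ S₂ M₂ (s ⊗ₜ MonoidAlgebra.single m t) = MonoidAlgebra.single m (s ⊗ₜ t) := by
  simp [eq12, TensorProduct.smul_tmul']

@[simp] lemma eq12_symm_single (s : S₁) (t : S₂) (m : M₂) :
    (eq12 R S₁ S₂ M₂).symm (MonoidAlgebra.single m (s ⊗ₜ t)) = s ⊗ₜ MonoidAlgebra.single m t := by
  simp [eq12]

/-- additive induction for `(S₁ ⊗ S₂)[M]` -/
lemma induction_single_tmul {p : MonoidAlgebra (S₁ ⊗[R] S₂) M₂ → Prop} (x : MonoidAlgebra (S₁ ⊗[R] S₂) M₂)
    (h0 : p 0) (hadd : ∀ x y, p x → p y → p (x + y))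
    (hs : ∀ m s t, p (MonoidAlgebra.single m (s ⊗ₜ t))) : p x := by
  induction x using MonoidAlgebra.induction_linear with
  | zero => exact h0
  | add x y hx hy => exact hadd x y hx hy
  | single m r =>
    induction r using TensorProduct.induction_on with
    | zero => rw [MonoidAlgebra.single_zero]; exact h0
    | tmul s t => exact hs m s t
    | add x y hx hy => rw [MonoidAlgebra.single_add]; exact hadd _ _ hx hy

lemma act_eq12_symm {S M : Type u} [CommRing S] [Algebra R S] [CommGroup M]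
    (y : MonoidAlgebra (S ⊗[R] S) M) :
    act R S (MonoidAlgebra S M) ((eq12 R S S M).symm y) =
      MonoidAlgebra.mapRingHom M (Algebra.TensorProduct.lmul' R (S := S)).toRingHom y := by
  induction y using induction_single_tmul with
  | h0 => simp
  | hadd x y hx hy => simp only [map_add, hx, hy]
  | hs m s t => simp

lemma counit_eq12_symm (y : MonoidAlgebra (S₁ ⊗[R] S₂) M₂) :
    ((Coalgebra.counit (R := S₂) (A := MonoidAlgebra S₂ M₂)).restrictScalars R).lTensor S₁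
      ((eq12 R S₁ S₂ M₂).symm y) = Coalgebra.counit (R := S₁ ⊗[R] S₂) y := by
  induction y using induction_single_tmul with
  | h0 => simp
  | hadd x y hx hy => simp only [map_add, hx, hy]
  | hs m s t => simp

lemma antipode_eq12_symm (y : MonoidAlgebra (S₁ ⊗[R] S₂) M₂) :
    ((HopfAlgebra.antipode S₂ (A := MonoidAlgebra S₂ M₂)).restrictScalars R).lTensor S₁
      ((eq12 R S₁ S₂ M₂).symm y) = (eq12 R S₁ S₂ M₂).symm (HopfAlgebra.antipode (S₁ ⊗[R] S₂) y) := by
  induction y using induction_single_tmul with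
  | h0 => simp
  | hadd x y hx hy => simp only [map_add, hx, hy]
  | hs m s t => simp

/-- `S₁ ⊗ S₂ → S₁ ⊗ (S₂[M] ⊗ S₂[M])` -/
noncomputable def Kring (R S₁ S₂ M₂ : Type u) [CommRing R] [CommRing S₁] [CommRing S₂] [Algebra R S₁] [Algebra R S₂]
    [CommGroup M₂] : S₁ ⊗[R] S₂ →+* S₁ ⊗[R] (MonoidAlgebra S₂ M₂ ⊗[S₂] MonoidAlgebra S₂ M₂) :=
  (Algebra.TensorProduct.map (AlgHom.id R S₁)
      ((Algebra.ofId S₂ (MonoidAlgebra S₂ M₂ ⊗[S₂] MonoidAlgebra S₂ M₂)).restrictScalars R)).toRingHom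

/-- `M × M → S₁ ⊗ (S₂[M] ⊗ S₂[M])` -/
noncomputable def Kmon (R S₁ S₂ M₂ : Type u) [CommRing R] [CommRing S₁] [CommRing S₂] [Algebra R S₁] [Algebra R S₂]
    [CommGroup M₂] : M₂ × M₂ →* S₁ ⊗[R] (MonoidAlgebra S₂ M₂ ⊗[S₂] MonoidAlgebra S₂ M₂) where
  toFun p := 1 ⊗ₜ (MonoidAlgebra.single p.1 1 ⊗ₜ MonoidAlgebra.single p.2 1)
  map_one' := rfl
  map_mul' p q := by simp

/-- `(S₁ ⊗ S₂)[M × M] → S₁ ⊗ (S₂[M] ⊗ S₂[M])` -/
noncomputable def K : MonoidAlgebra (S₁ ⊗[R] S₂) (M₂ × M₂) →+*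
    S₁ ⊗[R] (MonoidAlgebra S₂ M₂ ⊗[S₂] MonoidAlgebra S₂ M₂) :=
  MonoidAlgebra.liftNCRingHom (Kring R S₁ S₂ M₂) (Kmon R S₁ S₂ M₂) (fun x y => Commute.all (Kring R S₁ S₂ M₂ x) (Kmon R S₁ S₂ M₂ y))

lemma K_single (m n : M₂) (s : S₁) (t : S₂) :
    K (R := R) (MonoidAlgebra.single (m, n) (s ⊗ₜ t)) =
      s ⊗ₜ (MonoidAlgebra.single m t ⊗ₜ[S₂] MonoidAlgebra.single n (1 : S₂)) := by
  simp [K, Kring, Kmon, Algebra.ofId_apply, Algebra.TensorProduct.algebraMap_apply]

lemma lTensor_comul_eq12_symm (y : MonoidAlgebra (S₁ ⊗[R] S₂) M₂) :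
    ((Coalgebra.comul (R := S₂) (A := MonoidAlgebra S₂ M₂)).restrictScalars R).lTensor S₁
      ((eq12 R S₁ S₂ M₂).symm y) =
    K (MonoidAlgebra.mapDomainBialgHom (S₁ ⊗[R] S₂) ((MonoidHom.id M₂).prod (MonoidHom.id M₂)) y) := by
  induction y using induction_single_tmul with
  | h0 => simp
  | hadd x y hx hy => simp only [map_add, hx, hy]
  | hs m s t =>
    rw [eq12_symm_single, MonoidAlgebra.mapDomainBialgHom_single, MonoidHom.prod_apply, MonoidHom.id_apply, K_single]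
    have h1 : (MonoidAlgebra.single m t : MonoidAlgebra S₂ M₂) = t • MonoidAlgebra.single m 1 := by simp
    rw [h1, TensorProduct.smul_tmul, ← h1]
    simp

lemma mul_eq12_symm (x y : MonoidAlgebra (S₁ ⊗[R] S₂) M₂) :
    (Algebra.TensorProduct.map (AlgHom.id S₁ S₁)
      ((Algebra.TensorProduct.includeLeft : MonoidAlgebra S₂ M₂ →ₐ[S₂] MonoidAlgebra S₂ M₂ ⊗[S₂] MonoidAlgebra S₂ M₂).restrictScalars R))
      ((eq12 R S₁ S₂ M₂).symm x) *
    (Algebra.TensorProduct.map (AlgHom.id S₁ S₁)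
      ((Algebra.TensorProduct.includeRight : MonoidAlgebra S₂ M₂ →ₐ[S₂] MonoidAlgebra S₂ M₂ ⊗[S₂] MonoidAlgebra S₂ M₂).restrictScalars R))
      ((eq12 R S₁ S₂ M₂).symm y) =
    K (MonoidAlgebra.mapDomainBialgHom (S₁ ⊗[R] S₂) (MonoidHom.inl M₂ M₂) x *
      MonoidAlgebra.mapDomainBialgHom (S₁ ⊗[R] S₂) (MonoidHom.inr M₂ M₂) y) := by
  induction x using induction_single_tmul with
  | h0 => simp
  | hadd x x' hx hx' => simp only [map_add, add_mul, hx, hx']
  | hs m s t =>
    induction y using induction_single_tmul with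
    | h0 => simp
    | hadd y y' hy hy' => simp only [map_add, mul_add, hy, hy']
    | hs m' s' t' =>
      rw [eq12_symm_single, eq12_symm_single, MonoidAlgebra.mapDomainBialgHom_single,
        MonoidAlgebra.mapDomainBialgHom_single, MonoidAlgebra.single_mul_single,
        Algebra.TensorProduct.tmul_mul_tmul, MonoidHom.inl_apply, MonoidHom.inr_apply, Prod.mk_mul_mk, one_mul,
        mul_one, K_single]
      simp only [Algebra.TensorProduct.map_tmul, AlgHom.coe_id, id_eq, AlgHom.coe_restrictScalars',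
        Algebra.TensorProduct.includeLeft_apply, Algebra.TensorProduct.includeRight_apply,
        Algebra.TensorProduct.tmul_mul_tmul, mul_one, one_mul]
      congr 1
      have h1 : (MonoidAlgebra.single m' t' : MonoidAlgebra S₂ M₂) = t' • MonoidAlgebra.single m' 1 := by simp
      rw [h1, ← TensorProduct.smul_tmul, MonoidAlgebra.smul_single, smul_eq_mul, mul_comm]

lemma diag_eq_of_isGroupLikeElem {T M : Type*} [CommRing T] [CommGroup M] {y : MonoidAlgebra T M}
    (hy : IsGroupLikeElem T y) :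
    MonoidAlgebra.mapDomainBialgHom T ((MonoidHom.id M).prod (MonoidHom.id M)) y =
      MonoidAlgebra.mapDomainBialgHom T (MonoidHom.inl M M) y *
        MonoidAlgebra.mapDomainBialgHom T (MonoidHom.inr M M) y := by
  have h1 : ∀ x : MonoidAlgebra T M, MonoidAlgebra.tensorEquiv T (Coalgebra.comul (R := T) x) =
      MonoidAlgebra.mapDomainBialgHom T ((MonoidHom.id M).prod (MonoidHom.id M)) x := by
    intro x
    induction x using MonoidAlgebra.induction_linear with
    | zero => simp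
    | add x y hx hy => simp only [map_add, hx, hy]
    | single m t =>
      rw [MonoidAlgebra.comul_single, CommSemiring.comul_apply, TensorProduct.map_tmul,
        MonoidAlgebra.lsingle_apply, MonoidAlgebra.lsingle_apply, MonoidAlgebra.tensorEquiv_single_tmul_single,
        MonoidAlgebra.mapDomainBialgHom_single, MonoidHom.prod_apply, MonoidHom.id_apply, one_mul]
  have h2 : ∀ x y : MonoidAlgebra T M, MonoidAlgebra.tensorEquiv T (x ⊗ₜ y) =
      MonoidAlgebra.mapDomainBialgHom T (MonoidHom.inl M M) x *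
        MonoidAlgebra.mapDomainBialgHom T (MonoidHom.inr M M) y := by
    intro x y
    induction x using MonoidAlgebra.induction_linear with
    | zero => simp
    | add x y hx hy => simp only [map_add, TensorProduct.add_tmul, add_mul, hx, hy]
    | single m t =>
      induction y using MonoidAlgebra.induction_linear with
      | zero => simp
      | add x y hx hy => simp only [map_add, TensorProduct.tmul_add, mul_add, hx, hy]
      | single m' t' =>
        rw [MonoidAlgebra.tensorEquiv_single_tmul_single, MonoidAlgebra.mapDomainBialgHom_single,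
          MonoidAlgebra.mapDomainBialgHom_single, MonoidAlgebra.single_mul_single, MonoidHom.inl_apply,
          MonoidHom.inr_apply, Prod.mk_mul_mk, one_mul, mul_one]
  rw [← h1, ← h2, hy.comul_eq_tmul_self]

lemma comul_eq12_symm {y : MonoidAlgebra (S₁ ⊗[R] S₂) M₂} (hy : IsGroupLikeElem (S₁ ⊗[R] S₂) y) :
    ((Coalgebra.comul (R := S₂) (A := MonoidAlgebra S₂ M₂)).restrictScalars R).lTensor S₁
      ((eq12 R S₁ S₂ M₂).symm y) =
    (Algebra.TensorProduct.map (AlgHom.id S₁ S₁)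
      ((Algebra.TensorProduct.includeLeft : MonoidAlgebra S₂ M₂ →ₐ[S₂] MonoidAlgebra S₂ M₂ ⊗[S₂] MonoidAlgebra S₂ M₂).restrictScalars R))
      ((eq12 R S₁ S₂ M₂).symm y) *
    (Algebra.TensorProduct.map (AlgHom.id S₁ S₁)
      ((Algebra.TensorProduct.includeRight : MonoidAlgebra S₂ M₂ →ₐ[S₂] MonoidAlgebra S₂ M₂ ⊗[S₂] MonoidAlgebra S₂ M₂).restrictScalars R))
      ((eq12 R S₁ S₂ M₂).symm y) := by
  rw [mul_eq12_symm, lTensor_comul_eq12_symm, diag_eq_of_isGroupLikeElem hy]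

end e

section theta

variable {S₁ S₂ S₃ M₁ M₂ M₃ : Type u} [CommRing S₁] [CommRing S₂] [CommRing S₃] [Algebra R S₁] [Algebra R S₂]
  [Algebra R S₃] [CommGroup M₁] [CommGroup M₂] [CommGroup M₃]

/-- the descent datum attached to a family of group-like elements -/
noncomputable def θ (γ : M₁ →* MonoidAlgebra (S₁ ⊗[R] S₂) M₂) :
    MonoidAlgebra S₁ M₁ →ₐ[S₁] S₁ ⊗[R] MonoidAlgebra S₂ M₂ :=
  (eq12 R S₁ S₂ M₂).symm.toAlgHom.comp (MonoidAlgebra.lift S₁ (MonoidAlgebra (S₁ ⊗[R] S₂) M₂) M₁ γ)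

lemma θ_single (γ : M₁ →* MonoidAlgebra (S₁ ⊗[R] S₂) M₂) (m : M₁) (s : S₁) :
    θ γ (MonoidAlgebra.single m s) = s • (eq12 R S₁ S₂ M₂).symm (γ m) := by
  simp [θ]

lemma eq12_θ (γ : M₁ →* MonoidAlgebra (S₁ ⊗[R] S₂) M₂) (x : MonoidAlgebra S₁ M₁) :
    eq12 R S₁ S₂ M₂ (θ γ x) = MonoidAlgebra.lift S₁ (MonoidAlgebra (S₁ ⊗[R] S₂) M₂) M₁ γ x := by
  simp [θ]

lemma counit_θ (γ : M₁ →* MonoidAlgebra (S₁ ⊗[R] S₂) M₂) (hγ : ∀ m, IsGroupLikeElem (S₁ ⊗[R] S₂) (γ m))
    (x : MonoidAlgebra S₁ M₁) :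
    ((Coalgebra.counit (R := S₂) (A := MonoidAlgebra S₂ M₂)).restrictScalars R).lTensor S₁ (θ γ x) =
      (Coalgebra.counit (R := S₁) x) ⊗ₜ 1 := by
  induction x using MonoidAlgebra.induction_linear with
  | zero => simp
  | add x y hx hy => simp only [map_add, TensorProduct.add_tmul, hx, hy]
  | single m s =>
    rw [θ_single]
    have h1 : ∀ z, ((Coalgebra.counit (R := S₂) (A := MonoidAlgebra S₂ M₂)).restrictScalars R).lTensor S₁ (s • z) =
      s • ((Coalgebra.counit (R := S₂) (A := MonoidAlgebra S₂ M₂)).restrictScalars R).lTensor S₁ z := fun z =>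
        map_smul (TensorProduct.AlgebraTensorModule.lTensor S₁ S₁
          ((Coalgebra.counit (R := S₂) (A := MonoidAlgebra S₂ M₂)).restrictScalars R)) s z
    rw [h1, counit_eq12_symm, (hγ m).counit_eq_one]
    simp [Algebra.TensorProduct.one_def, TensorProduct.smul_tmul']

lemma antipode_θ (γ : M₁ →* MonoidAlgebra (S₁ ⊗[R] S₂) M₂) (hγ : ∀ m, IsGroupLikeElem (S₁ ⊗[R] S₂) (γ m))
    (x : MonoidAlgebra S₁ M₁) :
    ((HopfAlgebra.antipode S₂ (A := MonoidAlgebra S₂ M₂)).restrictScalars R).lTensor S₁ (θ γ x) =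
      θ γ (HopfAlgebra.antipode S₁ x) := by
  induction x using MonoidAlgebra.induction_linear with
  | zero => simp
  | add x y hx hy => simp only [map_add, hx, hy]
  | single m s =>
    rw [θ_single]
    have h1 : ∀ z, ((HopfAlgebra.antipode S₂ (A := MonoidAlgebra S₂ M₂)).restrictScalars R).lTensor S₁ (s • z) =
      s • ((HopfAlgebra.antipode S₂ (A := MonoidAlgebra S₂ M₂)).restrictScalars R).lTensor S₁ z := fun z =>
        map_smul (TensorProduct.AlgebraTensorModule.lTensor S₁ S₁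
          ((HopfAlgebra.antipode S₂ (A := MonoidAlgebra S₂ M₂)).restrictScalars R)) s z
    rw [h1, antipode_eq12_symm, MonoidAlgebra.antipode_single, θ_single]
    have h2 : HopfAlgebra.antipode (S₁ ⊗[R] S₂) (γ m) = γ m⁻¹ := by
      have h3 := (hγ m).antipode_mul_cancel
      have h4 : γ m * γ m⁻¹ = 1 := by rw [← map_mul, mul_inv_cancel, map_one]
      calc HopfAlgebra.antipode (S₁ ⊗[R] S₂) (γ m) = HopfAlgebra.antipode (S₁ ⊗[R] S₂) (γ m) * (γ m * γ m⁻¹) := by
            rw [h4, mul_one]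
        _ = γ m⁻¹ := by rw [← mul_assoc, h3, one_mul]
    rw [h2]
    simp

lemma comul_θ (γ : M₁ →* MonoidAlgebra (S₁ ⊗[R] S₂) M₂) (hγ : ∀ m, IsGroupLikeElem (S₁ ⊗[R] S₂) (γ m))
    (x : MonoidAlgebra S₁ M₁) :
    ((Coalgebra.comul (R := S₂) (A := MonoidAlgebra S₂ M₂)).restrictScalars R).lTensor S₁ (θ γ x) =
      theta2 (θ γ) (Coalgebra.comul (R := S₁) x) := by
  induction x using MonoidAlgebra.induction_linear with
  | zero => simp
  | add x y hx hy => simp only [map_add, hx, hy]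
  | single m s =>
    rw [θ_single]
    have h1 : ∀ z, ((Coalgebra.comul (R := S₂) (A := MonoidAlgebra S₂ M₂)).restrictScalars R).lTensor S₁ (s • z) =
      s • ((Coalgebra.comul (R := S₂) (A := MonoidAlgebra S₂ M₂)).restrictScalars R).lTensor S₁ z := fun z =>
        map_smul (TensorProduct.AlgebraTensorModule.lTensor S₁ S₁
          ((Coalgebra.comul (R := S₂) (A := MonoidAlgebra S₂ M₂)).restrictScalars R)) s z
    rw [h1, comul_eq12_symm (hγ m)]
    have h2 : Coalgebra.comul (R := S₁) (MonoidAlgebra.single m s : MonoidAlgebra S₁ M₁) =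
        s • (MonoidAlgebra.single m 1 ⊗ₜ MonoidAlgebra.single m 1) := by
      rw [← (MonoidAlgebra.isGroupLikeElem_single_one (R := S₁) (A := S₁) m).comul_eq_tmul_self, ← map_smul]
      simp
    rw [h2, map_smul, theta2, Algebra.TensorProduct.lift_tmul, AlgHom.comp_apply, AlgHom.comp_apply, θ_single,
      one_smul]

end theta

end Groth.Agent.Sga3A.LiftTheta
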