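import Groth.Agent.Sga3A.MTTorsion
import Mathlib.LinearAlgebra.Dual.BaseChange
import Mathlib.RingTheory.Coalgebra.Convolution
import Mathlib.RingTheory.TotallySplit
import Mathlib.RingTheory.Etale.Descent

/-!
# The Cartier dual of `ₙG` is finite étale
-/

set_option autoImplicit false

open TensorProduct

namespace Groth.Agent.Sga3A.MTDual

open MTBasis MTTorsion

universe u

section cocomm

variable {R A S : Type*} [CommRing R] [CommRing A] [HopfAlgebra R A] [CommRing S] [Algebra R S]
  {M : Type*} [CommGroup M] (g : GBasis S (S ⊗[R] A) M)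

include g in
lemma isCocomm_of_gbasis [Module.FaithfullyFlat R S] : Coalgebra.IsCocomm R A where
  comm_comp_comul := by
    ext a
    have h1 : (TensorProduct.comm S (S ⊗[R] A) (S ⊗[R] A)).toLinearMap ∘ₗ
        (Coalgebra.comul (R := S) (A := S ⊗[R] A)) = Coalgebra.comul (R := S) (A := S ⊗[R] A) := by
      apply g.b.ext
      intro m
      simp [(g.gl m).comul_eq_tmul_self]
    have h2 := LinearMap.congr_fun h1 (1 ⊗ₜ a)
    rw [LinearMap.comp_apply, comul_one_tmul] at h2
    apply one_tmul_injective (R := R) S (A ⊗[R] A)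
    apply (TensorProduct.AlgebraTensorModule.distribBaseChange R S A A).injective
    simp only
    rw [← h2, LinearMap.comp_apply]
    generalize Coalgebra.comul (R := R) a = y
    induction y using TensorProduct.induction_on with
    | zero => simp
    | tmul r a => simp
    | add x y hx hy => 
      rw [map_add, TensorProduct.tmul_add, TensorProduct.tmul_add, map_add, map_add, map_add, hx, hy]

end cocomm

section ev

variable {R A S : Type*} [CommRing R] [CommRing A] [HopfAlgebra R A] [CommRing S] [Algebra R S]

/-- evaluation of the base change of a linear form -/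
noncomputable def evL (x : S ⊗[R] A) : WithConv (A →ₗ[R] R) →ₗ[R] S where
  toFun l := Module.Dual.baseChange S l.ofConv x
  map_add' l l' := by simp
  map_smul' r l := by simp

@[simp] lemma evL_tmul (s : S) (a : A) (l : WithConv (A →ₗ[R] R)) : evL (s ⊗ₜ a) l = l a • s := rfl

lemma evL_apply (x : S ⊗[R] A) (l : WithConv (A →ₗ[R] R)) : evL x l = Module.Dual.baseChange S l.ofConv x := rfl

lemma evL_one (x : S ⊗[R] A) : evL x (1 : WithConv (A →ₗ[R] R)) = Coalgebra.counit (R := S) x := by
  induction x using TensorProduct.induction_on with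
  | zero => simp [evL_apply]
  | tmul s a => simp
  | add x y hx hy => rw [evL_apply, map_add, map_add, ← evL_apply, ← evL_apply, hx, hy]

lemma evL_mul (x : S ⊗[R] A) (l l' : WithConv (A →ₗ[R] R)) :
    evL x (l * l') = LinearMap.mul' S S (TensorProduct.map (Module.Dual.baseChange S l.ofConv)
      (Module.Dual.baseChange S l'.ofConv) (Coalgebra.comul (R := S) x)) := by
  induction x using TensorProduct.induction_on with
  | zero => simp [evL_apply]
  | tmul s a =>
    have h1 : s ⊗ₜ[R] a = s • ((1 : S) ⊗ₜ[R] a) := by simp [TensorProduct.smul_tmul']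
    rw [h1, map_smul, map_smul, map_smul, evL_apply, map_smul, comul_one_tmul]
    congr 1
    rw [← evL_apply, evL_tmul, LinearMap.convMul_apply]
    generalize Coalgebra.comul (R := R) a = y
    induction y using TensorProduct.induction_on with
    | zero => simp
    | tmul r a => simp [mul_smul, smul_comm (l.ofConv r)]
    | add x y hx hy =>
      rw [map_add, map_add, TensorProduct.tmul_add, add_smul, map_add, map_add, map_add, hx, hy]
  | add x y hx hy => rw [evL_apply, map_add, map_add, map_add, map_add, ← evL_apply, ← evL_apply, hx, hy]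

/-- evaluation at a group-like element is an algebra homomorphism on the dual algebra -/
noncomputable def ev (x : S ⊗[R] A) (hx : IsGroupLikeElem S x) : WithConv (A →ₗ[R] R) →ₐ[R] S :=
  AlgHom.ofLinearMap (evL x) (by rw [evL_one, hx.counit_eq_one]) (fun l l' => by
    rw [evL_mul, hx.comul_eq_tmul_self]
    simp [evL_apply])

@[simp] lemma ev_apply (x : S ⊗[R] A) (hx : IsGroupLikeElem S x) (l : WithConv (A →ₗ[R] R)) :
    ev x hx l = evL x l := rfl

end ev

section E

variable {R A S : Type u} [CommRing R] [CommRing A] [HopfAlgebra R A] [CommRing S] [Algebra R S]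
  {M : Type*} [CommGroup M] (g : GBasis S (S ⊗[R] A) M) (n : ℕ)

/-- the base change of a linear form killing the torsion ideal kills its extension -/
lemma evL_eq_zero {l : WithConv (A →ₗ[R] R)} (hl : ∀ j ∈ SGA3b.torsionIdeal R A n, l j = 0) {x : S ⊗[R] A}
    (hx : x ∈ (SGA3b.torsionIdeal R A n).map (Algebra.TensorProduct.includeRight : A →ₐ[R] S ⊗[R] A)) :
    evL x l = 0 := by
  have key : ∀ y : S ⊗[R] A, evL (y * x) l = 0 := by
    rw [Ideal.map] at hx
    induction hx using Submodule.span_induction with
    | mem z hz =>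
      obtain ⟨j, hj, rfl⟩ := hz
      intro y
      induction y using TensorProduct.induction_on with
      | zero => simp [evL_apply]
      | tmul s a =>
        rw [Algebra.TensorProduct.includeRight_apply, Algebra.TensorProduct.tmul_mul_tmul, evL_tmul,
          hl _ (Ideal.mul_mem_left _ a hj), zero_smul]
      | add y y' hy hy' => rw [add_mul, evL_apply, map_add, ← evL_apply, ← evL_apply, hy, hy', add_zero]
    | zero => simp [evL_apply]
    | add x x' _ _ hx hx' =>
      intro y
      rw [mul_add, evL_apply, map_add, ← evL_apply, ← evL_apply, hx, hx', add_zero]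
    | smul z x _ hx =>
      intro y
      rw [smul_eq_mul, ← mul_assoc]
      exact hx _
  simpa using key 1

/-- the linear form on `S ⊗ A` given by a function on `M/n` -/
noncomputable def hL (h : Q M n → S) : S ⊗[R] A →ₗ[S] S :=
  ((MonoidAlgebra.basis (Q M n) S).constr S h) ∘ₗ (toQ g n).toLinearMap

@[simp] lemma hL_b (h : Q M n → S) (m : M) : hL g n h (g.b m) = h (QuotientGroup.mk m) := by
  rw [hL, LinearMap.comp_apply, AlgHom.toLinearMap_apply, toQ_b, ← MonoidAlgebra.basis_apply,
    Module.Basis.constr_basis]

lemma hL_one_tmul (h : Q M n → S) {j : A} (hj : j ∈ SGA3b.torsionIdeal R A n) : hL g n h (1 ⊗ₜ j) = 0 := by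
  have h1 : toQ g n (1 ⊗ₜ j) = 0 := by
    rw [← bcQuotToQ_proj]
    have h2 : proj R A S n (1 ⊗ₜ j) = 0 := proj_eq_zero n (Ideal.mem_map_of_mem
      (Algebra.TensorProduct.includeRight : A →ₐ[R] S ⊗[R] A) hj)
    rw [h2, map_zero]
  rw [hL, LinearMap.comp_apply, AlgHom.toLinearMap_apply, h1, map_zero]

/-- a linear form kills the torsion ideal iff its values at group-likes only depend on the class mod `n` -/
lemma mem_iff [Module.FaithfullyFlat R S] (l : WithConv (A →ₗ[R] R)) :
    (∀ j ∈ SGA3b.torsionIdeal R A n, l j = 0) ↔ ∀ m m' : M, evL (g.b (m * m' ^ n)) l = evL (g.b m) l := by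
  constructor
  · intro hl m m'
    have h1 : g.b (m * m' ^ n) = g.b m * (g.b m' ^ n - 1) + g.b m := by
      have : g.b (m' ^ n) = g.b m' ^ n := map_pow g.hom m' n
      rw [g.mul, this]
      ring
    have h2 := evL_eq_zero n hl (Ideal.mul_mem_left _ (g.b m) (pow_sub_one_mem S g n m'))
    rw [h1, evL_apply, map_add, ← evL_apply, ← evL_apply, h2, zero_add]
  · intro h j hj
    let h0 : Q M n → S := fun x => Quotient.liftOn' x (fun m => evL (g.b m) l) (by
      intro m m' hmm
      rw [QuotientGroup.leftRel_apply] at hmm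
      obtain ⟨k, hk⟩ := hmm
      have : m' = m * k ^ n := by
        rw [powMonoidHom_apply] at hk
        rw [hk]; group
      rw [this, h])
    have h1 : Module.Dual.baseChange S l.ofConv = hL g n h0 := by
      apply g.b.ext
      intro m
      rw [hL_b]
      rfl
    have h2 := hL_one_tmul g n h0 hj
    rw [← h1, Module.Dual.baseChange_apply_tmul, Algebra.smul_def, mul_one] at h2
    exact FaithfulSMul.algebraMap_injective R S (by rw [h2, map_zero])

/-- the Cartier dual of the `n`-torsion, as a subalgebra of the convolution algebra -/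
noncomputable def E [Module.FaithfullyFlat R S] : Subalgebra R (WithConv (A →ₗ[R] R)) where
  carrier := {l | ∀ j ∈ SGA3b.torsionIdeal R A n, l j = 0}
  mul_mem' {l l'} hl hl' := by
    rw [Set.mem_ofPred_eq, mem_iff g] at *
    intro m m'
    have e1 := map_mul (ev (g.b (m * m' ^ n)) (g.gl _)) l l'
    have e2 := map_mul (ev (g.b m) (g.gl _)) l l'
    simp only [ev_apply] at e1 e2
    rw [e1, e2, hl, hl']
  add_mem' {l l'} hl hl' := by
    intro j hj
    have h1 := hl j hj
    have h2 := hl' j hj
    simp only [WithConv.ofConv_add, LinearMap.add_apply, h1, h2, add_zero]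
  algebraMap_mem' r := by
    rw [Set.mem_ofPred_eq, mem_iff g]
    intro m m'
    have e1 := AlgHom.commutes (ev (g.b (m * m' ^ n)) (g.gl _)) r
    have e2 := AlgHom.commutes (ev (g.b m) (g.gl _)) r
    simp only [ev_apply] at e1 e2
    rw [e1, e2]

lemma mem_E [Module.FaithfullyFlat R S] (l : WithConv (A →ₗ[R] R)) :
    l ∈ E g n ↔ ∀ j ∈ SGA3b.torsionIdeal R A n, l j = 0 := Iff.rfl

/-- evaluation `S ⊗ E → (M/n → S)` -/
noncomputable def Theta [Module.FaithfullyFlat R S] : S ⊗[R] E g n →ₐ[S] (Q M n → S) :=
  Algebra.TensorProduct.lift (Algebra.ofId S _)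
    ((AlgHom.pi fun x : Q M n => (ev (g.b x.out) (g.gl _))).comp (E g n).val) (fun _ _ => .all _ _)

lemma evL_out [Module.FaithfullyFlat R S] {l : WithConv (A →ₗ[R] R)} (hl : l ∈ E g n) (m : M) :
    evL (g.b (QuotientGroup.mk m : Q M n).out) l = evL (g.b m) l := by
  obtain ⟨⟨y, hy⟩, hk⟩ := QuotientGroup.mk_out_eq_mul (powMonoidHom n : M →* M).range m
  obtain ⟨k, hk'⟩ := hy
  have : (QuotientGroup.mk m : Q M n).out = m * k ^ n := by
    rw [hk, ← powMonoidHom_apply, hk']
  rw [this]
  exact (mem_iff g n l).mp hl m k

lemma Theta_tmul [Module.FaithfullyFlat R S] (s : S) (l : E g n) (m : M) :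
    Theta g n (s ⊗ₜ l) (QuotientGroup.mk m) = s * evL (g.b m) l.1 := by
  rw [← evL_out g n l.2 m]
  simp [Theta]

/-- the pairing `S ⊗ E → Hom_S(S ⊗ A, S)` -/
noncomputable def pairing [Module.FaithfullyFlat R S] : S ⊗[R] E g n →ₗ[S] Module.Dual S (S ⊗[R] A) :=
  TensorProduct.AlgebraTensorModule.lift (LinearMap.toSpanSingleton S _
    ((Module.Dual.baseChange S) ∘ₗ (WithConv.linearEquiv R _).toLinearMap ∘ₗ (E g n).val.toLinearMap))

lemma pairing_tmul [Module.FaithfullyFlat R S] (s : S) (l : E g n) (y : S ⊗[R] A) :
    pairing g n (s ⊗ₜ l) y = s * evL y l.1 := rfl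

lemma pairing_b [Module.FaithfullyFlat R S] (z : S ⊗[R] E g n) (m : M) :
    pairing g n z (g.b m) = Theta g n z (QuotientGroup.mk m) := by
  induction z using TensorProduct.induction_on with
  | zero => simp
  | tmul s l => rw [pairing_tmul, Theta_tmul]
  | add x y hx hy => rw [map_add, map_add, LinearMap.add_apply, hx, hy, Pi.add_apply]

lemma Theta_bijective [Module.FaithfullyFlat R S] [Group.FG M] (hn : 0 < n) :
    Function.Bijective (Theta g n) := by
  obtain ⟨k, b, β, hβ, hb⟩ := exists_dualBasis g n hn
  let β' : Fin k → E g n := fun i => ⟨WithConv.toConv (β i), hβ i⟩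
  constructor
  · rw [injective_iff_map_eq_zero]
    intro z hz
    have h1 : ∀ z : S ⊗[R] E g n, z = ∑ i, (pairing g n z (1 ⊗ₜ b i)) ⊗ₜ[R] β' i := by
      intro z
      induction z using TensorProduct.induction_on with
      | zero => simp
      | tmul s l =>
        have h2 : l = ∑ i, (l.1 (b i)) • β' i := by
          apply Subtype.ext
          apply WithConv.ext
          apply LinearMap.ext
          intro a
          have h3 := l.2 _ (hb a)
          rw [map_sub, sub_eq_zero, map_sum] at h3
          simp only [map_smul, smul_eq_mul] at h3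
          rw [h3]
          simp only [AddSubmonoidClass.coe_finsetSum, WithConv.ofConv_sum, LinearMap.sum_apply]
          refine Finset.sum_congr rfl fun i _ => ?_
          simp [β', mul_comm]
        conv_lhs => rw [h2, TensorProduct.tmul_sum]
        refine Finset.sum_congr rfl fun i _ => ?_
        rw [pairing_tmul, evL_tmul, TensorProduct.tmul_smul, TensorProduct.smul_tmul', Algebra.smul_def,
          Algebra.smul_def, mul_one, mul_comm]
      | add x y hx hy =>
        conv_lhs => rw [hx, hy]
        rw [← Finset.sum_add_distrib]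
        refine Finset.sum_congr rfl fun i _ => ?_
        rw [map_add, LinearMap.add_apply, TensorProduct.add_tmul]
    have h2 : pairing g n z = 0 := by
      apply g.b.ext
      intro m
      rw [pairing_b, hz]
      rfl
    rw [h1 z, h2]
    simp
  · intro h
    refine ⟨∑ i, (hL g n h (1 ⊗ₜ b i)) ⊗ₜ β' i, ?_⟩
    have h1 : ∀ y : S ⊗[R] A, hL g n h y = ∑ i, hL g n h (1 ⊗ₜ b i) * evL y (β' i).1 := by
      intro y
      induction y using TensorProduct.induction_on with
      | zero => simp [evL_apply]
      | tmul s a =>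
        have h3 := hL_one_tmul g n h (hb a)
        rw [TensorProduct.tmul_sub, map_sub, sub_eq_zero, TensorProduct.tmul_sum, map_sum] at h3
        have h4 : s ⊗ₜ[R] a = s • ((1 : S) ⊗ₜ[R] a) := by simp [TensorProduct.smul_tmul']
        rw [h4, map_smul, h3, Finset.smul_sum]
        refine Finset.sum_congr rfl fun i _ => ?_
        rw [← h4, evL_tmul]
        have h5 : (1 : S) ⊗ₜ[R] ((β i) a • b i) = (algebraMap R S (β i a)) • ((1 : S) ⊗ₜ[R] b i) := by
          rw [TensorProduct.tmul_smul, algebraMap_smul]
        rw [h5, map_smul, smul_eq_mul, smul_eq_mul, Algebra.smul_def]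
        simp only [β']
        ring
      | add x y hx hy =>
        rw [map_add, hx, hy, ← Finset.sum_add_distrib]
        refine Finset.sum_congr rfl fun i _ => ?_
        rw [evL_apply, evL_apply, evL_apply, map_add, mul_add]
    ext x
    obtain ⟨m, rfl⟩ := QuotientGroup.mk_surjective x
    rw [map_sum, Finset.sum_apply]
    simp only [Theta_tmul]
    rw [← h1, hL_b]

/-- `S ⊗ E = (M/n → S)` -/
noncomputable def ThetaEquiv [Module.FaithfullyFlat R S] [Group.FG M] (hn : 0 < n) :
    S ⊗[R] E g n ≃ₐ[S] (Q M n → S) :=
  AlgEquiv.ofBijective (Theta g n) (Theta_bijective g n hn)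

section etale

variable [Module.FaithfullyFlat R S]

/-- `E` is a commutative ring. -/
noncomputable instance [Coalgebra.IsCocomm R A] : CommRing (E g n) := inferInstance

lemma etale_E [Coalgebra.IsCocomm R A] [Group.FG M] (hn : 0 < n) : Algebra.Etale R (E g n) := by
  have := finite_Q M n hn
  have : Algebra.Etale S (Q M n → S) := inferInstance
  have : Algebra.Etale S (S ⊗[R] E g n) := Algebra.Etale.of_equiv (ThetaEquiv g n hn).symm
  exact Algebra.Etale.of_etale_tensorProduct_of_faithfullyFlat S

lemma finite_E [Coalgebra.IsCocomm R A] [Group.FG M] (hn : 0 < n) : Module.Finite R (E g n) := by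
  have := finite_Q M n hn
  have : Module.Finite S (S ⊗[R] E g n) :=
    Module.Finite.of_surjective (ThetaEquiv g n hn).symm.toLinearEquiv.toLinearMap (ThetaEquiv g n hn).symm.surjective
  exact Module.Finite.of_finite_tensorProduct_of_faithfullyFlat S

lemma rank_E [Coalgebra.IsCocomm R A] [Group.FG M] (hn : 0 < n) :
    Module.rankAtStalk (R := R) (E g n) = Nat.card (Q M n) := by
  have := finite_Q M n hn
  have := finite_E g n hn
  have := etale_E g n hn
  have : Module.Flat R (E g n) := inferInstance
  ext p
  obtain ⟨q, rfl⟩ := PrimeSpectrum.comap_surjective_of_faithfullyFlat (A := R) (B := S) p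
  rw [← Module.rankAtStalk_baseChange]
  rw [Module.rankAtStalk_eq_of_equiv (ThetaEquiv g n hn).toLinearEquiv]
  have : Nontrivial S := q.nontrivial
  cases nonempty_fintype (Q M n)
  rw [Module.rankAtStalk_eq_finrank_of_free, Module.finrank_fintype_fun_eq_card, Nat.card_eq_fintype_card]
  rfl

/-- a finite étale cover splitting the Cartier dual of the `n`-torsion -/
lemma exists_split [Coalgebra.IsCocomm R A] [Group.FG M] (hn : 0 < n) :
    ∃ (T : Type u) (_ : CommRing T) (_ : Algebra R T)
      (_ : Module.FaithfullyFlat R T) (_ : Module.Finite R T) (_ : Algebra.Etale R T),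
      Algebra.IsFiniteSplit T (T ⊗[R] E g n) := by
  have := finite_E g n hn
  have := etale_E g n hn
  exact Algebra.IsFiniteSplit.exists_tensorProduct_of_etale (rank_E g n hn)

end etale

end E

end Groth.Agent.Sga3A.MTDual
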