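import Groth.Agent.Sga3A.MTNormal
import Groth.Agent.Sga3A.LiftHens
import Groth.Agent.S2987

/-!
# Henselian pairs: a group of multiplicative type which is Zariski-locally split and split modulo `I` is split
-/

set_option autoImplicit false

open TensorProduct

namespace Groth.Agent.Sga3A.MTHens

open MTBasis MTTorsion MTDual MTKey MTConst SGA3b TypeLemma MultBC MTQuasi MTNormal

universe u

/-- over a connected ring every group-like element is in the basis -/
lemma exists_eq_of_connected {S B M : Type*} [CommRing S] [CommRing B] [Bialgebra S B] [CommGroup M] [Nontrivial S]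
    (hS : ∀ e : S, IsIdempotentElem e → e = 0 ∨ e = 1) (g : GBasis S B M) {x : B} (hx : IsGroupLikeElem S x) :
    ∃ m, x = g.b m := by
  classical
  by_contra hcon
  push Not at hcon
  have h1 : ∀ m, g.b.repr x m = 0 := by
    intro m
    have h2 := g.repr_mul_repr hx m m
    rw [if_pos rfl] at h2
    rcases hS _ h2 with h3 | h3
    · exact h3
    · exact absurd (g.eq_of_repr_eq_one hx h3) (hcon m)
  have h2 := g.sum_repr hx
  rw [Finsupp.sum, Finset.sum_eq_zero (fun m _ => h1 m)] at h2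
  exact zero_ne_one h2

section glue

variable {T : Type u} [CommRing T] (J₁ J₂ : Ideal T)

/-- the quotient map -/
noncomputable abbrev fac {J K : Ideal T} (h : J ≤ K) : T ⧸ J →ₐ[T] T ⧸ K := Ideal.Quotient.factorₐ T h

lemma exact_fac : Function.Exact
    ((fac (inf_le_left : J₁ ⊓ J₂ ≤ J₁)).toLinearMap.prod (fac (inf_le_right : J₁ ⊓ J₂ ≤ J₂)).toLinearMap)
    ((fac (le_sup_left : J₁ ≤ J₁ ⊔ J₂)).toLinearMap ∘ₗ LinearMap.fst T (T ⧸ J₁) (T ⧸ J₂) -
      (fac (le_sup_right : J₂ ≤ J₁ ⊔ J₂)).toLinearMap ∘ₗ LinearMap.snd T (T ⧸ J₁) (T ⧸ J₂)) := by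
  rintro ⟨x, y⟩
  obtain ⟨a, rfl⟩ := Ideal.Quotient.mk_surjective x
  obtain ⟨b, rfl⟩ := Ideal.Quotient.mk_surjective y
  constructor
  · intro h
    have h1 : Ideal.Quotient.mk (J₁ ⊔ J₂) a - Ideal.Quotient.mk (J₁ ⊔ J₂) b = 0 := h
    rw [← map_sub, Ideal.Quotient.eq_zero_iff_mem] at h1
    obtain ⟨c, hc, d, hd, hcd⟩ := Submodule.mem_sup.mp h1
    refine ⟨Ideal.Quotient.mk _ (a - c), Prod.ext ?_ ?_⟩
    · change Ideal.Quotient.mk J₁ (a - c) = Ideal.Quotient.mk J₁ a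
      rw [map_sub, Ideal.Quotient.eq_zero_iff_mem.mpr hc, sub_zero]
    · change Ideal.Quotient.mk J₂ (a - c) = Ideal.Quotient.mk J₂ b
      rw [Ideal.Quotient.eq]
      have : a - c - b = d := by rw [sub_right_comm, ← hcd, add_sub_cancel_left]
      rwa [this]
  · rintro ⟨z, hz⟩
    obtain ⟨c, rfl⟩ := Ideal.Quotient.mk_surjective z
    have h1 : Ideal.Quotient.mk J₁ c = Ideal.Quotient.mk J₁ a := congrArg Prod.fst hz
    have h2 : Ideal.Quotient.mk J₂ c = Ideal.Quotient.mk J₂ b := congrArg Prod.snd hz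
    change Ideal.Quotient.mk (J₁ ⊔ J₂) a - Ideal.Quotient.mk (J₁ ⊔ J₂) b = 0
    rw [← map_sub, Ideal.Quotient.eq_zero_iff_mem]
    rw [Ideal.Quotient.eq] at h1 h2
    have : a - b = -(c - a) + (c - b) := by ring
    rw [this]
    exact Submodule.add_mem_sup (neg_mem h1) h2

lemma injective_fac : Function.Injective
    ((fac (inf_le_left : J₁ ⊓ J₂ ≤ J₁)).toLinearMap.prod (fac (inf_le_right : J₁ ⊓ J₂ ≤ J₂)).toLinearMap) := by
  rw [← LinearMap.ker_eq_bot, LinearMap.ker_eq_bot']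
  intro z hz
  obtain ⟨c, rfl⟩ := Ideal.Quotient.mk_surjective z
  have h1 : Ideal.Quotient.mk J₁ c = 0 := congrArg Prod.fst hz
  have h2 : Ideal.Quotient.mk J₂ c = 0 := congrArg Prod.snd hz
  rw [Ideal.Quotient.eq_zero_iff_mem] at h1 h2
  exact Ideal.Quotient.eq_zero_iff_mem.mpr ⟨h1, h2⟩

variable {J₁ J₂} {N : Type*} [AddCommGroup N] [Module T N] [Module.Flat T N]

lemma rTensor_ext {x y : (T ⧸ (J₁ ⊓ J₂)) ⊗[T] N}
    (h1 : (fac (inf_le_left : J₁ ⊓ J₂ ≤ J₁)).toLinearMap.rTensor N x =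
      (fac (inf_le_left : J₁ ⊓ J₂ ≤ J₁)).toLinearMap.rTensor N y)
    (h2 : (fac (inf_le_right : J₁ ⊓ J₂ ≤ J₂)).toLinearMap.rTensor N x =
      (fac (inf_le_right : J₁ ⊓ J₂ ≤ J₂)).toLinearMap.rTensor N y) : x = y := by
  have hinj := Module.Flat.rTensor_preserves_injective_linearMap (M := N) _ (injective_fac J₁ J₂)
  apply hinj
  have key : ∀ z : (T ⧸ (J₁ ⊓ J₂)) ⊗[T] N,
      ((fac (inf_le_left : J₁ ⊓ J₂ ≤ J₁)).toLinearMap.prod
        (fac (inf_le_right : J₁ ⊓ J₂ ≤ J₂)).toLinearMap).rTensor N z =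
      (LinearMap.inl T (T ⧸ J₁) (T ⧸ J₂)).rTensor N ((fac (inf_le_left : J₁ ⊓ J₂ ≤ J₁)).toLinearMap.rTensor N z) +
      (LinearMap.inr T (T ⧸ J₁) (T ⧸ J₂)).rTensor N ((fac (inf_le_right : J₁ ⊓ J₂ ≤ J₂)).toLinearMap.rTensor N z) := by
    intro z
    rw [← LinearMap.comp_apply, ← LinearMap.comp_apply, ← LinearMap.rTensor_comp, ← LinearMap.rTensor_comp,
      ← LinearMap.add_apply, ← LinearMap.rTensor_add]
    congr 2
    ext <;> simp
  rw [key, key, h1, h2]

lemma exists_rTensor {x : (T ⧸ J₁) ⊗[T] N} {y : (T ⧸ J₂) ⊗[T] N}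
    (h : (fac (le_sup_left : J₁ ≤ J₁ ⊔ J₂)).toLinearMap.rTensor N x =
      (fac (le_sup_right : J₂ ≤ J₁ ⊔ J₂)).toLinearMap.rTensor N y) :
    ∃ z : (T ⧸ (J₁ ⊓ J₂)) ⊗[T] N, (fac (inf_le_left : J₁ ⊓ J₂ ≤ J₁)).toLinearMap.rTensor N z = x ∧
      (fac (inf_le_right : J₁ ⊓ J₂ ≤ J₂)).toLinearMap.rTensor N z = y := by
  have hex := Module.Flat.rTensor_exact N (exact_fac J₁ J₂)
  obtain ⟨z, hz⟩ := (hex ((LinearMap.inl T (T ⧸ J₁) (T ⧸ J₂)).rTensor N x + (LinearMap.inr T (T ⧸ J₁) (T ⧸ J₂)).rTensor N y)).mp (by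
    rw [map_add, ← LinearMap.comp_apply, ← LinearMap.comp_apply, ← LinearMap.rTensor_comp, ← LinearMap.rTensor_comp]
    have e1 : ((fac (le_sup_left : J₁ ≤ J₁ ⊔ J₂)).toLinearMap ∘ₗ LinearMap.fst T (T ⧸ J₁) (T ⧸ J₂) -
      (fac (le_sup_right : J₂ ≤ J₁ ⊔ J₂)).toLinearMap ∘ₗ LinearMap.snd T (T ⧸ J₁) (T ⧸ J₂)) ∘ₗ LinearMap.inl T (T ⧸ J₁) (T ⧸ J₂) =
        (fac (le_sup_left : J₁ ≤ J₁ ⊔ J₂)).toLinearMap := by ext; simp
    have e2 : ((fac (le_sup_left : J₁ ≤ J₁ ⊔ J₂)).toLinearMap ∘ₗ LinearMap.fst T (T ⧸ J₁) (T ⧸ J₂) -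
      (fac (le_sup_right : J₂ ≤ J₁ ⊔ J₂)).toLinearMap ∘ₗ LinearMap.snd T (T ⧸ J₁) (T ⧸ J₂)) ∘ₗ LinearMap.inr T (T ⧸ J₁) (T ⧸ J₂) =
        -(fac (le_sup_right : J₂ ≤ J₁ ⊔ J₂)).toLinearMap := by ext; simp
    rw [e1, e2, LinearMap.rTensor_neg, LinearMap.neg_apply, h, add_neg_cancel])
  refine ⟨z, ?_, ?_⟩
  · have := congrArg ((LinearMap.fst T (T ⧸ J₁) (T ⧸ J₂)).rTensor N) hz
    rw [map_add, ← LinearMap.comp_apply, ← LinearMap.comp_apply, ← LinearMap.comp_apply, ← LinearMap.rTensor_comp,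
      ← LinearMap.rTensor_comp, ← LinearMap.rTensor_comp, LinearMap.fst_prod, LinearMap.fst_comp_inl,
      LinearMap.fst_comp_inr, LinearMap.rTensor_id, LinearMap.rTensor_zero, LinearMap.id_apply,
      LinearMap.zero_apply, add_zero] at this
    exact this
  · have := congrArg ((LinearMap.snd T (T ⧸ J₁) (T ⧸ J₂)).rTensor N) hz
    rw [map_add, ← LinearMap.comp_apply, ← LinearMap.comp_apply, ← LinearMap.comp_apply, ← LinearMap.rTensor_comp,
      ← LinearMap.rTensor_comp, ← LinearMap.rTensor_comp, LinearMap.snd_prod, LinearMap.snd_comp_inl,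
      LinearMap.snd_comp_inr, LinearMap.rTensor_id, LinearMap.rTensor_zero, LinearMap.id_apply,
      LinearMap.zero_apply, zero_add] at this
    exact this

end glue

section gl

variable {T S S' B : Type u} [CommRing T] [CommRing S] [CommRing S'] [CommRing B] [Algebra T S] [Algebra T S']
  [Bialgebra T B]

/-- `Δ` on `S ⊗ B` in terms of `S ⊗ (B ⊗ B)` -/
lemma comul_eq_distrib (x : S ⊗[T] B) :
    Coalgebra.comul (R := S) x =
      TensorProduct.AlgebraTensorModule.distribBaseChange T S B B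
        ((Coalgebra.comul (R := T) (A := B)).lTensor S x) := by
  induction x using TensorProduct.induction_on with
  | zero => simp
  | add x y hx hy => rw [map_add, map_add, map_add, hx, hy]
  | tmul s b =>
    have h1 : s ⊗ₜ[T] b = s • ((1 : S) ⊗ₜ[T] b) := by simp [TensorProduct.smul_tmul']
    have h2 : s ⊗ₜ[T] (Coalgebra.comul (R := T) b) = s • ((1 : S) ⊗ₜ[T] (Coalgebra.comul (R := T) b)) := by
      simp [TensorProduct.smul_tmul']
    rw [LinearMap.lTensor_tmul, h2, map_smul, ← comul_one_tmul, h1, map_smul]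

lemma lTensor_bc (φ : S →ₐ[T] S') (x : S ⊗[T] B) :
    (Coalgebra.comul (R := T) (A := B)).lTensor S' (bc B φ x) =
      φ.toLinearMap.rTensor (B ⊗[T] B) ((Coalgebra.comul (R := T) (A := B)).lTensor S x) := by
  induction x using TensorProduct.induction_on with
  | zero => simp
  | add x y hx hy => rw [map_add, map_add, map_add, map_add, hx, hy]
  | tmul s b => simp

lemma rTensor_distrib_symm (φ : S →ₐ[T] S') (x y : S ⊗[T] B) :
    φ.toLinearMap.rTensor (B ⊗[T] B)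
      ((TensorProduct.AlgebraTensorModule.distribBaseChange T S B B).symm (x ⊗ₜ[S] y)) =
      (TensorProduct.AlgebraTensorModule.distribBaseChange T S' B B).symm (bc B φ x ⊗ₜ[S'] bc B φ y) := by
  induction x using TensorProduct.induction_on with
  | zero => simp
  | add x x' hx hx' => rw [TensorProduct.add_tmul, map_add, map_add, map_add, TensorProduct.add_tmul, map_add, hx, hx']
  | tmul s b =>
    induction y using TensorProduct.induction_on with
    | zero => simp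
    | add x x' hx hx' =>
      rw [TensorProduct.tmul_add, map_add, map_add, map_add, TensorProduct.tmul_add, map_add, hx, hx']
    | tmul s' b' =>
      simp

lemma counit_bc (φ : S →ₐ[T] S') (x : S ⊗[T] B) :
    Coalgebra.counit (R := S') (bc B φ x) = φ (Coalgebra.counit (R := S) x) := by
  induction x using TensorProduct.induction_on with
  | zero => simp
  | add x y hx hy => rw [map_add, map_add, map_add, map_add, hx, hy]
  | tmul s b => simp [TensorProduct.counit_tmul, Algebra.smul_def]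

end gl

section gluebasis

variable {T B : Type u} [CommRing T] [CommRing B] [Bialgebra T B] [Module.Flat T B] {J₁ J₂ : Ideal T}

lemma bc_ext {x y : (T ⧸ (J₁ ⊓ J₂)) ⊗[T] B}
    (h1 : bc B (fac (inf_le_left : J₁ ⊓ J₂ ≤ J₁)) x = bc B (fac (inf_le_left : J₁ ⊓ J₂ ≤ J₁)) y)
    (h2 : bc B (fac (inf_le_right : J₁ ⊓ J₂ ≤ J₂)) x = bc B (fac (inf_le_right : J₁ ⊓ J₂ ≤ J₂)) y) : x = y :=
  rTensor_ext h1 h2

lemma isGroupLikeElem_of_bc {x : (T ⧸ (J₁ ⊓ J₂)) ⊗[T] B}
    (h1 : IsGroupLikeElem (T ⧸ J₁) (bc B (fac (inf_le_left : J₁ ⊓ J₂ ≤ J₁)) x))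
    (h2 : IsGroupLikeElem (T ⧸ J₂) (bc B (fac (inf_le_right : J₁ ⊓ J₂ ≤ J₂)) x)) :
    IsGroupLikeElem (T ⧸ (J₁ ⊓ J₂)) x where
  counit_eq_one := by
    apply injective_fac J₁ J₂
    have e1 := h1.counit_eq_one
    have e2 := h2.counit_eq_one
    rw [counit_bc] at e1 e2
    refine Prod.ext ?_ ?_
    · exact e1.trans (map_one (fac (inf_le_left : J₁ ⊓ J₂ ≤ J₁))).symm
    · exact e2.trans (map_one (fac (inf_le_right : J₁ ⊓ J₂ ≤ J₂))).symm
  comul_eq_tmul_self := by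
    have key : ∀ {J : Ideal T} (h : J₁ ⊓ J₂ ≤ J), IsGroupLikeElem (T ⧸ J) (bc B (fac h) x) →
        (fac h).toLinearMap.rTensor (B ⊗[T] B) ((Coalgebra.comul (R := T) (A := B)).lTensor _ x) =
        (fac h).toLinearMap.rTensor (B ⊗[T] B)
          ((TensorProduct.AlgebraTensorModule.distribBaseChange T (T ⧸ (J₁ ⊓ J₂)) B B).symm (x ⊗ₜ x)) := by
      intro J h hx
      rw [rTensor_distrib_symm, ← lTensor_bc]
      have := hx.comul_eq_tmul_self
      rw [comul_eq_distrib] at this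
      rw [← this, LinearEquiv.symm_apply_apply]
    have := rTensor_ext (key inf_le_left h1) (key inf_le_right h2)
    rw [comul_eq_distrib, this, LinearEquiv.apply_symm_apply]

/-- glueing of group-like bases along `T/(J₁ ∩ J₂) = T/J₁ ×_{T/(J₁ + J₂)} T/J₂` -/
theorem glue_gbasis {M : Type*} [CommGroup M] (g₁ : GBasis (T ⧸ J₁) ((T ⧸ J₁) ⊗[T] B) M)
    (g₂ : GBasis (T ⧸ J₂) ((T ⧸ J₂) ⊗[T] B) M)
    (h : ∀ m, bc B (fac (le_sup_left : J₁ ≤ J₁ ⊔ J₂)) (g₁.b m) =
      bc B (fac (le_sup_right : J₂ ≤ J₁ ⊔ J₂)) (g₂.b m)) :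
    ∃ g : GBasis (T ⧸ (J₁ ⊓ J₂)) ((T ⧸ (J₁ ⊓ J₂)) ⊗[T] B) M,
      (∀ m, bc B (fac (inf_le_left : J₁ ⊓ J₂ ≤ J₁)) (g.b m) = g₁.b m) ∧
      (∀ m, bc B (fac (inf_le_right : J₁ ⊓ J₂ ≤ J₂)) (g.b m) = g₂.b m) := by
  classical
  have h0 : ∀ m, ∃ z : (T ⧸ (J₁ ⊓ J₂)) ⊗[T] B, bc B (fac (inf_le_left : J₁ ⊓ J₂ ≤ J₁)) z = g₁.b m ∧
      bc B (fac (inf_le_right : J₁ ⊓ J₂ ≤ J₂)) z = g₂.b m := fun m => exists_rTensor (h m)
  choose x hx1 hx2 using h0
  have hl1 : ∀ l : M →₀ (T ⧸ (J₁ ⊓ J₂)), bc B (fac (inf_le_left : J₁ ⊓ J₂ ≤ J₁)) (Finsupp.linearCombination _ x l) =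
      Finsupp.linearCombination _ g₁.b (l.mapRange (fac (inf_le_left : J₁ ⊓ J₂ ≤ J₁)) (map_zero _)) := by
    intro l
    rw [Finsupp.linearCombination_apply, Finsupp.linearCombination_apply, Finsupp.sum_mapRange_index (by simp),
      Finsupp.sum, Finsupp.sum, map_sum]
    exact Finset.sum_congr rfl fun m _ => by rw [bc_smul, hx1]
  have hl2 : ∀ l : M →₀ (T ⧸ (J₁ ⊓ J₂)), bc B (fac (inf_le_right : J₁ ⊓ J₂ ≤ J₂)) (Finsupp.linearCombination _ x l) =
      Finsupp.linearCombination _ g₂.b (l.mapRange (fac (inf_le_right : J₁ ⊓ J₂ ≤ J₂)) (map_zero _)) := by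
    intro l
    rw [Finsupp.linearCombination_apply, Finsupp.linearCombination_apply, Finsupp.sum_mapRange_index (by simp),
      Finsupp.sum, Finsupp.sum, map_sum]
    exact Finset.sum_congr rfl fun m _ => by rw [bc_smul, hx2]
  have hli : LinearIndependent (T ⧸ (J₁ ⊓ J₂)) x := by
    rw [linearIndependent_iff]
    intro l hl
    have h1 := hl1 l
    have h2 := hl2 l
    rw [hl, map_zero] at h1 h2
    have h3 := (linearIndependent_iff.mp g₁.b.linearIndependent) _ h1.symm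
    have h4 := (linearIndependent_iff.mp g₂.b.linearIndependent) _ h2.symm
    ext m
    apply injective_fac J₁ J₂
    exact Prod.ext ((DFunLike.congr_fun h3 m).trans (map_zero _).symm)
      ((DFunLike.congr_fun h4 m).trans (map_zero _).symm)
  have hsp : Submodule.span (T ⧸ (J₁ ⊓ J₂)) (Set.range x) = ⊤ := by
    rw [eq_top_iff]
    rintro y -
    let y1 := bc B (fac (inf_le_left : J₁ ⊓ J₂ ≤ J₁)) y
    let y2 := bc B (fac (inf_le_right : J₁ ⊓ J₂ ≤ J₂)) y
    have hc : ∀ m, ∃ c : T ⧸ (J₁ ⊓ J₂), fac (inf_le_left : J₁ ⊓ J₂ ≤ J₁) c = g₁.b.repr y1 m ∧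
        fac (inf_le_right : J₁ ⊓ J₂ ≤ J₂) c = g₂.b.repr y2 m := by
      intro m
      have e1 := g₁.bc_repr (fac (le_sup_left : J₁ ≤ J₁ ⊔ J₂)) y1 m
      have e2 := g₂.bc_repr (fac (le_sup_right : J₂ ≤ J₁ ⊔ J₂)) y2 m
      have e3 : (g₁.bc (fac (le_sup_left : J₁ ≤ J₁ ⊔ J₂))).b = (g₂.bc (fac (le_sup_right : J₂ ≤ J₁ ⊔ J₂))).b := by
        apply Module.Basis.eq_of_apply_eq
        intro m
        rw [GBasis.bc_b, GBasis.bc_b, h]
      have e4 : bc B (fac (le_sup_left : J₁ ≤ J₁ ⊔ J₂)) y1 = bc B (fac (le_sup_right : J₂ ≤ J₁ ⊔ J₂)) y2 := by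
        rw [bc_bc, bc_bc]
        congr 1
        congr 1
        exact Ideal.Quotient.algHom_ext _ (by ext)
      rw [e3, e4, e2] at e1
      obtain ⟨c, hc⟩ := (exact_fac J₁ J₂ (g₁.b.repr y1 m, g₂.b.repr y2 m)).mp (by
        change fac (le_sup_left : J₁ ≤ J₁ ⊔ J₂) (g₁.b.repr y1 m) -
          fac (le_sup_right : J₂ ≤ J₁ ⊔ J₂) (g₂.b.repr y2 m) = 0
        rw [e1, sub_self])
      exact ⟨c, congrArg Prod.fst hc, congrArg Prod.snd hc⟩
    choose c hc1 hc2 using hc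
    have hcf : ∀ m, c m ≠ 0 → m ∈ (g₁.b.repr y1).support ∪ (g₂.b.repr y2).support := by
      intro m hm
      by_contra hcon
      rw [Finset.mem_union, not_or, Finsupp.notMem_support_iff, Finsupp.notMem_support_iff] at hcon
      apply hm
      apply injective_fac J₁ J₂
      exact Prod.ext ((hc1 m).trans (hcon.1.trans (map_zero _).symm))
        ((hc2 m).trans (hcon.2.trans (map_zero _).symm))
    let l : M →₀ (T ⧸ (J₁ ⊓ J₂)) := Finsupp.onFinset _ c hcf
    have hy : y = Finsupp.linearCombination _ x l := by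
      apply bc_ext
      · rw [hl1]
        apply g₁.b.repr.injective
        rw [Module.Basis.repr_linearCombination]
        ext m
        rw [Finsupp.mapRange_apply, Finsupp.onFinset_apply, hc1]
      · rw [hl2]
        apply g₂.b.repr.injective
        rw [Module.Basis.repr_linearCombination]
        ext m
        rw [Finsupp.mapRange_apply, Finsupp.onFinset_apply, hc2]
    rw [hy, ← Finsupp.range_linearCombination]
    exact ⟨l, rfl⟩
  refine ⟨⟨Module.Basis.mk hli hsp.ge, ?_, ?_, ?_⟩, ?_, ?_⟩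
  · rw [Module.Basis.mk_apply]
    apply bc_ext
    · rw [hx1, g₁.one, map_one]
    · rw [hx2, g₂.one, map_one]
  · intro m n
    simp only [Module.Basis.mk_apply]
    apply bc_ext
    · rw [map_mul, hx1, hx1, hx1, g₁.mul]
    · rw [map_mul, hx2, hx2, hx2, g₂.mul]
  · intro m
    rw [Module.Basis.mk_apply]
    apply isGroupLikeElem_of_bc
    · rw [hx1]; exact g₁.gl m
    · rw [hx2]; exact g₂.gl m
  · intro m
    rw [Module.Basis.mk_apply, hx1]
  · intro m
    rw [Module.Basis.mk_apply, hx2]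

end gluebasis

section good

variable {T B : Type u} [CommRing T] [CommRing B] [HopfAlgebra T B] {M : Type u} [CommGroup M] {I : Ideal T}

/-- `Good g₀ J`: over `T/J` there is a group-like basis which agrees with `g₀` over all fields over `T/J` and
`T/I`. -/
def Good (g₀ : GBasis (T ⧸ I) ((T ⧸ I) ⊗[T] B) M) (J : Ideal T) : Prop :=
  ∃ g : GBasis (T ⧸ J) ((T ⧸ J) ⊗[T] B) M, ∀ (F : Type u) [Field F] [Algebra T F] (a : (T ⧸ J) →ₐ[T] F)
    (b : (T ⧸ I) →ₐ[T] F) (m : M), bc B a (g.b m) = bc B b (g₀.b m)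

/-- two idempotents which agree at all maximal ideals are equal -/
lemma idem_ext {S : Type u} [CommRing S] {e f : S} (he : e * e = e) (hf : f * f = f)
    (h : ∀ Q : Ideal S, Q.IsMaximal → e - f ∈ Q) : e = f := by
  have h1 : e - f ∈ Ideal.jacobson (⊥ : Ideal S) := by
    rw [Ideal.jacobson, Submodule.mem_sInf]
    rintro Q ⟨-, hQ⟩
    exact h Q hQ
  rw [Ideal.mem_jacobson_bot] at h1
  have h2 := h1 (-(e - f))
  have h3 : (e - f) * ((e - f) * -(e - f) + 1) = 0 := by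
    have : (e - f) * ((e - f) * -(e - f) + 1) =
      (e - f) - (e * e) * e + 3 * (e * e) * f - 3 * e * (f * f) + (f * f) * f := by ring
    rw [this, he, hf, he, hf]
    ring
  rw [mul_comm] at h3
  exact sub_eq_zero.mp (h2.mul_right_eq_zero.mp h3)

lemma eq_of_field {S : Type u} [CommRing S] [Algebra T S] (g : GBasis S (S ⊗[T] B) M) {x y : S ⊗[T] B}
    (hx : IsGroupLikeElem S x) (hy : IsGroupLikeElem S y)
    (h : ∀ (F : Type u) [Field F] [Algebra T F] (a : S →ₐ[T] F), Function.Surjective a → bc B a x = bc B a y) :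
    x = y := by
  classical
  apply g.b.repr.injective
  ext m
  have h1 := g.repr_mul_repr hx m m
  have h2 := g.repr_mul_repr hy m m
  rw [if_pos rfl] at h1 h2
  apply idem_ext h1 h2
  intro Q hQ
  let _ := Ideal.Quotient.field Q
  have h3 := h (S ⧸ Q) (Ideal.Quotient.mkₐ T Q) (Ideal.Quotient.mkₐ_surjective T Q)
  have h4 := g.bc_repr (Ideal.Quotient.mkₐ T Q) x m
  have h5 := g.bc_repr (Ideal.Quotient.mkₐ T Q) y m
  rw [h3, h5] at h4
  exact (Ideal.Quotient.eq.mp h4.symm)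

variable (g₀ : GBasis (T ⧸ I) ((T ⧸ I) ⊗[T] B) M)

lemma Good.top : Good g₀ ⊤ := by
  refine ⟨g₀.bc (fac le_top), ?_⟩
  intro F _ _ a b m
  exfalso
  have h1 : (1 : T ⧸ (⊤ : Ideal T)) = 0 := by
    rw [← map_one (Ideal.Quotient.mk (⊤ : Ideal T)), Ideal.Quotient.eq_zero_iff_mem]
    trivial
  have h2 := congrArg a h1
  rw [map_one, map_zero] at h2
  exact one_ne_zero h2

variable {g₀}

lemma Good.inf [Module.Flat T B] (hI : I ≤ Ideal.jacobson ⊥) {J₁ J₂ : Ideal T} (h1 : Good g₀ J₁) (h2 : Good g₀ J₂) :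
    Good g₀ (J₁ ⊓ J₂) := by
  obtain ⟨g₁, hg₁⟩ := h1
  obtain ⟨g₂, hg₂⟩ := h2
  have hfield : ∀ {J : Ideal T} (F : Type u) [Field F] [Algebra T F] (a : (T ⧸ J) →ₐ[T] F), Function.Surjective a →
      ∃ b : (T ⧸ I) →ₐ[T] F, True := by
    intro J F _ _ a ha
    refine ⟨Ideal.Quotient.liftₐ I (Algebra.ofId T F) ?_, trivial⟩
    intro t ht
    have hs : Function.Surjective (algebraMap T F) := by
      intro y
      obtain ⟨x, rfl⟩ := ha y
      obtain ⟨t, rfl⟩ := Ideal.Quotient.mk_surjective x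
      exact ⟨t, (a.commutes t).symm⟩
    have hm : (RingHom.ker (algebraMap T F)).IsMaximal := RingHom.ker_isMaximal_of_surjective _ hs
    exact (Ideal.mem_sInf.mp (hI ht)) ⟨bot_le, hm⟩
  obtain ⟨g, hg1, hg2⟩ := glue_gbasis g₁ g₂ (by
    intro m
    apply eq_of_field (g₁.bc (fac (le_sup_left : J₁ ≤ J₁ ⊔ J₂))) (isGroupLikeElem_bc _ (g₁.gl m))
      (isGroupLikeElem_bc _ (g₂.gl m))
    intro F _ _ a ha
    obtain ⟨b, -⟩ := hfield F a ha
    rw [bc_bc, bc_bc, hg₁ F _ b, hg₂ F _ b])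
  refine ⟨g, ?_⟩
  intro F _ _ a b m
  -- the kernel of `T → F` is prime and contains `J₁ ⊓ J₂`
  have hle : J₁ ⊓ J₂ ≤ RingHom.ker (algebraMap T F) := by
    intro t ht
    rw [RingHom.mem_ker, ← a.commutes]
    change a (Ideal.Quotient.mk _ t) = 0
    rw [Ideal.Quotient.eq_zero_iff_mem.mpr ht, map_zero]
  have hprime : (RingHom.ker (algebraMap T F)).IsPrime := RingHom.ker_isPrime _
  rcases hprime.inf_le.mp hle with h | h
  · let a' : (T ⧸ J₁) →ₐ[T] F := Ideal.Quotient.liftₐ J₁ (Algebra.ofId T F) (fun t ht => h ht)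
    have : a = a'.comp (fac inf_le_left) := Ideal.Quotient.algHom_ext _ (by ext)
    rw [this, ← bc_bc, hg1, hg₁ F a' b]
  · let a' : (T ⧸ J₂) →ₐ[T] F := Ideal.Quotient.liftₐ J₂ (Algebra.ofId T F) (fun t ht => h ht)
    have : a = a'.comp (fac inf_le_right) := Ideal.Quotient.algHom_ext _ (by ext)
    rw [this, ← bc_bc, hg2, hg₂ F a' b]

lemma Good.finset_inf [Module.Flat T B] (hI : I ≤ Ideal.jacobson ⊥) (s : Finset (Ideal T))
    (h : ∀ J ∈ s, Good g₀ J) : Good g₀ (s.inf id) := by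
  classical
  induction s using Finset.induction_on with
  | empty => exact Good.top g₀
  | insert a s _ ih =>
    rw [Finset.inf_insert]
    exact Good.inf hI (h a (Finset.mem_insert_self _ _)) (ih fun J hJ => h J (Finset.mem_insert_of_mem hJ))

lemma Good.prime [Module.Flat T B] [HenselianRing T I]
    (hloc : ∀ q : PrimeSpectrum T, ∃ w ∉ q.asIdeal,
      Nonempty (GBasis (Localization.Away w) (Localization.Away w ⊗[T] B) M)) (J : Ideal T) [J.IsPrime] :
    Good g₀ J := by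
  have hI : I ≤ Ideal.jacobson ⊥ := HenselianRing.jac
  obtain ⟨g'⟩ := nonempty_gbasis_of_local_tower (R := T) (T := T) (T' := T ⧸ J) (A := B) hloc
  let K : Ideal (T ⧸ J) := I.map (algebraMap T (T ⧸ J))
  have hb := (Groth.Agent.S0521.result T I).mp inferInstance (T ⧸ J) inferInstance
  have hidem : ∀ e : (T ⧸ J) ⧸ K, IsIdempotentElem e → e = 0 ∨ e = 1 := by
    intro e he
    obtain ⟨x, hx, rfl⟩ := hb.surjOn he
    rcases IsIdempotentElem.iff_eq_zero_or_one.mp hx with h | h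
    · left; rw [h, map_zero]
    · right; rw [h, map_one]
  have hnt : Nontrivial ((T ⧸ J) ⧸ K) := by
    rw [Ideal.Quotient.nontrivial_iff]
    intro htop
    obtain ⟨m, hm, hJm⟩ := Ideal.exists_le_maximal J (Ideal.IsPrime.ne_top ‹_›)
    have h1 : I ≤ m := fun t ht => (Ideal.mem_sInf.mp (hI ht)) ⟨bot_le, hm⟩
    have h2 : K.comap (Ideal.Quotient.mk J) ≤ m := by
      have h3 : K = I.map (Ideal.Quotient.mk J) := rfl
      rw [h3, Ideal.comap_map_of_surjective _ Ideal.Quotient.mk_surjective]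
      refine sup_le h1 ?_
      intro t ht
      apply hJm
      exact Ideal.Quotient.eq_zero_iff_mem.mp (by simpa using ht)
    rw [htop, Ideal.comap_top] at h2
    exact hm.ne_top (top_le_iff.mp h2)
  let a₀ : (T ⧸ J) →ₐ[T] ((T ⧸ J) ⧸ K) := Ideal.Quotient.mkₐ T K
  let b₀ : (T ⧸ I) →ₐ[T] ((T ⧸ J) ⧸ K) := Ideal.Quotient.liftₐ I (Algebra.ofId T _) (by
    intro t ht
    change Ideal.Quotient.mk K (algebraMap T (T ⧸ J) t) = 0
    rw [Ideal.Quotient.eq_zero_iff_mem]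
    exact Ideal.mem_map_of_mem _ ht)
  let g1 := g'.bc a₀
  let g2 := g₀.bc b₀
  have hσ0 : ∀ m, ∃ n, g2.b m = g1.b n := fun m => exists_eq_of_connected hidem g1 (g2.gl m)
  have hτ0 : ∀ n, ∃ m, g1.b n = g2.b m := fun n => exists_eq_of_connected hidem g2 (g1.gl n)
  choose σ hσ using hσ0
  choose τ hτ using hτ0
  let σe : M ≃* M :=
    { toFun := σ
      invFun := τ
      left_inv := fun m => g2.b.injective (by rw [← hτ, ← hσ])
      right_inv := fun n => g1.b.injective (by rw [← hσ, ← hτ])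
      map_mul' := fun m n => g1.b.injective (by rw [← hσ, g2.mul, g1.mul, hσ, hσ]) }
  refine ⟨g'.reindex σe.symm, ?_⟩
  intro F _ _ a b m
  have hk : ∀ t ∈ K, a t = 0 := by
    have h1 : K ≤ RingHom.ker a.toRingHom := by
      apply Ideal.map_le_iff_le_comap.mpr
      intro t ht
      rw [Ideal.mem_comap, RingHom.mem_ker]
      change a (algebraMap T (T ⧸ J) t) = 0
      rw [a.commutes, ← b.commutes]
      change b (Ideal.Quotient.mk I t) = 0
      rw [Ideal.Quotient.eq_zero_iff_mem.mpr ht, map_zero]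
    exact fun t ht => h1 ht
  let a' : ((T ⧸ J) ⧸ K) →ₐ[T] F := Ideal.Quotient.liftₐ K a hk
  have ha : a = a'.comp a₀ := Ideal.Quotient.algHom_ext _ (by ext)
  have hb' : b = a'.comp b₀ := Ideal.Quotient.algHom_ext _ (by ext)
  rw [GBasis.reindex_b, ha, hb', ← bc_bc, ← bc_bc]
  have h3 := hσ m
  rw [GBasis.bc_b, GBasis.bc_b] at h3
  rw [h3]
  rfl

/-- **Main theorem.** `(T, I)` a henselian pair, `T` Noetherian, `B` a flat Hopf algebra over `T`, Zariski-locally
diagonalisable of type `M` and diagonalisable over `T/I`. Then `B` is diagonalisable. -/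
theorem isDiag_of_henselian [IsNoetherianRing T] [Module.Flat T B] [HenselianRing T I]
    (g₀ : GBasis (T ⧸ I) ((T ⧸ I) ⊗[T] B) M)
    (hloc : ∀ q : PrimeSpectrum T, ∃ w ∉ q.asIdeal,
      Nonempty (GBasis (Localization.Away w) (Localization.Away w ⊗[T] B) M)) : IsDiag T B := by
  have hI : I ≤ Ideal.jacobson ⊥ := HenselianRing.jac
  have hfin : (minimalPrimes T).Finite := minimalPrimes.finite_of_isNoetherianRing T
  have h1 : Good g₀ (hfin.toFinset.inf id) := Good.finset_inf hI _ (by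
    intro J hJ
    rw [Set.Finite.mem_toFinset] at hJ
    have : J.IsPrime := hJ.1.1
    exact Good.prime hloc J)
  have h2 : hfin.toFinset.inf id = nilradical T := by
    rw [Finset.inf_id_eq_sInf, Set.Finite.coe_toFinset]
    exact Ideal.sInf_minimalPrimes
  rw [h2] at h1
  obtain ⟨g, -⟩ := h1
  refine Groth.Agent.S2987.isDiag_of_nilpotent (S := T) (T := T ⧸ nilradical T) Ideal.Quotient.mk_surjective ?_
    (isDiag_of_gbasis g)
  change IsNilpotent (RingHom.ker (Ideal.Quotient.mk (nilradical T)))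
  rw [Ideal.mk_ker]
  exact IsNoetherianRing.isNilpotent_nilradical T

end good

end Groth.Agent.Sga3A.MTHens
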