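import Groth.Agent.Sga3A.MTDual
import Mathlib.RingTheory.Localization.AtPrime.Basic
import Mathlib.RingTheory.Flat.Localization

/-!
# Splitting over local rings over a finite étale cover
-/

set_option autoImplicit false

open TensorProduct

namespace Groth.Agent.Sga3A.MTKey

open MTBasis MTTorsion MTDual

universe u

section resfin

/-- a finitely generated abelian group: given `x ≠ 1` there is `n > 0` such that `x` is not an `n`-th power -/
lemma exists_not_mem_range_pow_aux (G : Type*) [AddCommGroup G] [AddGroup.FG G] (x : G) (hx : x ≠ 0) :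
    ∃ n : ℕ, 0 < n ∧ ∀ y : G, n • y ≠ x := by
  obtain ⟨r, ι, _, p, hp, e, ⟨f⟩⟩ := AddCommGroup.equiv_free_prod_directSum_zmod G
  by_cases h1 : (f x).1 = 0
  · refine ⟨∏ i, (p i) ^ (e i), Finset.prod_pos fun i _ => pow_pos (hp i).pos _, ?_⟩
    intro y hy
    have h2 : f x = 0 := by
      apply Prod.ext h1
      rw [← hy, map_nsmul, Prod.smul_snd]
      refine DFinsupp.ext fun i => ?_
      have h3 : ((∏ i, (p i) ^ (e i) : ℕ) : ZMod (p i ^ e i)) = 0 := by
        rw [ZMod.natCast_eq_zero_iff]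
        exact Finset.dvd_prod_of_mem _ (Finset.mem_univ i)
      have h4 : ((∏ i, (p i) ^ (e i)) • (f y).2) i = (∏ i, (p i) ^ (e i)) • ((f y).2 i) :=
        DFinsupp.smul_apply _ _ _
      rw [h4, nsmul_eq_mul, h3, zero_mul]
      rfl
    exact hx (f.injective (by rw [h2, map_zero]))
  · obtain ⟨i, hi⟩ : ∃ i, (f x).1 i ≠ 0 := by
      by_contra hcon
      push Not at hcon
      exact h1 (Finsupp.ext hcon)
    refine ⟨((f x).1 i).natAbs + 1, Nat.succ_pos _, ?_⟩
    intro y hy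
    have h2 : (f x).1 i = (((f x).1 i).natAbs + 1 : ℕ) * (f y).1 i := by
      conv_lhs => rw [← hy, map_nsmul, Prod.smul_fst]
      simp
    have h3 := congrArg Int.natAbs h2
    rw [Int.natAbs_mul, Int.natAbs_natCast] at h3
    rcases Nat.eq_zero_or_pos ((f y).1 i).natAbs with h4 | h4
    · rw [h4, mul_zero] at h3
      exact hi (Int.natAbs_eq_zero.mp h3)
    · have : (((f x).1 i).natAbs + 1) * 1 ≤ (((f x).1 i).natAbs + 1) * ((f y).1 i).natAbs :=
        Nat.mul_le_mul_left _ h4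
      omega

lemma exists_not_mem_range_pow (M : Type*) [CommGroup M] [Group.FG M] (x : M) (hx : x ≠ 1) :
    ∃ n : ℕ, 0 < n ∧ ∀ y : M, y ^ n ≠ x := by
  obtain ⟨n, hn, h⟩ := exists_not_mem_range_pow_aux (Additive M) (Additive.ofMul x) hx
  exact ⟨n, hn, fun y hy => h (Additive.ofMul y) (by rw [← hy]; rfl)⟩

/-- for a finite set of elements `≠ 1` there is `n > 0` such that none of them is an `n`-th power -/
lemma exists_pow_finset (M : Type*) [CommGroup M] [Group.FG M] (F : Set M) (hF : F.Finite) :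
    ∃ n : ℕ, 0 < n ∧ ∀ x ∈ F, x ≠ 1 → ∀ y : M, y ^ n ≠ x := by
  induction F, hF using Set.Finite.induction_on with
  | empty => exact ⟨1, one_pos, by simp⟩
  | @insert a F _ _ ih =>
    obtain ⟨n, hn, h⟩ := ih
    by_cases ha : a = 1
    · refine ⟨n, hn, ?_⟩
      rintro x (rfl | hx) hx1
      · exact absurd ha hx1
      · exact h x hx hx1
    · obtain ⟨k, hk, h'⟩ := exists_not_mem_range_pow M a ha
      refine ⟨n * k, Nat.mul_pos hn hk, ?_⟩
      rintro x (rfl | hx) hx1 y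
      · rw [pow_mul]
        exact h' _
      · rw [mul_comm, pow_mul]
        exact h x hx hx1 _

end resfin

section split

/-- algebra maps out of a split algebra into a local ring -/
lemma mem_range_of_isFiniteSplit {R T E S₁ : Type*} [CommRing R] [CommRing T] [CommRing E] [CommRing S₁]
    [Algebra R T] [Algebra R E] [Algebra R S₁] [Algebra T S₁] [IsScalarTower R T S₁] [IsLocalRing S₁]
    [Algebra.IsFiniteSplit T (T ⊗[R] E)] (θ : E →ₐ[R] S₁) (l : E) :
    θ l ∈ Set.range (algebraMap T S₁) := by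
  obtain ⟨k, ⟨e⟩⟩ := Algebra.IsFiniteSplit.nonempty_algEquiv_fun T (T ⊗[R] E)
  let Θ : T ⊗[R] E →ₐ[T] S₁ := Algebra.TensorProduct.lift (Algebra.ofId T S₁) θ (fun _ _ => .all _ _)
  let ψ : (Fin k → T) →ₐ[T] S₁ := Θ.comp e.symm.toAlgHom
  have h1 : ∑ i, ψ (Pi.single i 1) = 1 := by
    rw [← map_sum, Finset.univ_sum_single (fun _ : Fin k => (1 : T))]
    exact map_one ψ
  obtain ⟨i, hi⟩ : ∃ i, IsUnit (ψ (Pi.single i 1)) := by
    by_contra hcon
    push Not at hcon
    have h2 : ∑ i, ψ (Pi.single i 1) ∈ IsLocalRing.maximalIdeal S₁ :=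
      Submodule.sum_mem _ fun i _ => (IsLocalRing.mem_maximalIdeal _).mpr (hcon i)
    rw [h1] at h2
    exact (IsLocalRing.mem_maximalIdeal _).mp h2 isUnit_one
  have h3 : ψ (Pi.single i 1) = 1 := by
    have h4 : ψ (Pi.single i 1) * ψ (Pi.single i 1) = ψ (Pi.single i 1) := by
      rw [← map_mul, ← Pi.single_mul, one_mul]
    exact hi.mul_left_cancel (by rw [h4, mul_one])
  have h5 : ∀ v : Fin k → T, ψ v = algebraMap T S₁ (v i) := by
    intro v
    rw [← mul_one (ψ v), ← h3, ← map_mul]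
    have : v * Pi.single i 1 = v i • Pi.single i 1 := by
      ext j
      by_cases hj : j = i
      · subst hj; simp
      · simp [hj]
    rw [this, map_smul, h3, Algebra.smul_def, mul_one]
  refine ⟨e (1 ⊗ₜ l) i, ?_⟩
  rw [← h5]
  simp [ψ, Θ]

end split

section cover

/-- a local faithfully flat cover of a local ring dominating a given faithfully flat algebra -/
lemma exists_local_cover (R : Type u) [CommRing R] (R₁ : Type u) [CommRing R₁] [IsLocalRing R₁] [Algebra R R₁]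
    (S : Type u) [CommRing S] [Algebra R S] [Module.FaithfullyFlat R S] :
    ∃ (S₁ : Type u) (_ : CommRing S₁) (_ : Algebra R₁ S₁) (_ : Algebra R S₁) (_ : IsScalarTower R R₁ S₁)
      (_ : IsLocalRing S₁) (_ : Module.FaithfullyFlat R₁ S₁), Nonempty (S →ₐ[R] S₁) := by
  obtain ⟨P, hP⟩ := PrimeSpectrum.comap_surjective_of_faithfullyFlat (A := R₁) (B := R₁ ⊗[R] S)
    (IsLocalRing.closedPoint R₁)
  have hP' : P.asIdeal.comap (algebraMap R₁ (R₁ ⊗[R] S)) = IsLocalRing.maximalIdeal R₁ :=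
    congrArg PrimeSpectrum.asIdeal hP
  have : Module.Flat R₁ (Localization.AtPrime P.asIdeal) := Module.Flat.trans R₁ (R₁ ⊗[R] S) _
  have hloc : IsLocalHom (algebraMap R₁ (Localization.AtPrime P.asIdeal)) := by
    constructor
    intro a ha
    by_contra hcon
    have h1 : a ∈ IsLocalRing.maximalIdeal R₁ := (IsLocalRing.mem_maximalIdeal _).mpr hcon
    rw [← hP', Ideal.mem_comap] at h1
    rw [IsScalarTower.algebraMap_apply R₁ (R₁ ⊗[R] S) (Localization.AtPrime P.asIdeal)] at ha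
    exact (IsLocalization.AtPrime.isUnit_to_map_iff _ P.asIdeal _).mp ha h1
  refine ⟨Localization.AtPrime P.asIdeal, inferInstance, inferInstance, inferInstance, inferInstance, inferInstance,
    Module.FaithfullyFlat.of_flat_of_isLocalHom, ⟨?_⟩⟩
  exact (IsScalarTower.toAlgHom R (R₁ ⊗[R] S) (Localization.AtPrime P.asIdeal)).comp Algebra.TensorProduct.includeRight

end cover

section key

variable {R A S : Type u} [CommRing R] [CommRing A] [HopfAlgebra R A] [CommRing S] [Algebra R S]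
  {M : Type*} [CommGroup M] (g : GBasis S (S ⊗[R] A) M)

/-- the comparison elements `u_m` -/
noncomputable def uElt (m : M) : (S ⊗[R] S) ⊗[R] A :=
  bc A (Algebra.TensorProduct.includeLeft : S →ₐ[R] S ⊗[R] S) (g.b m) *
    bc A (Algebra.TensorProduct.includeRight : S →ₐ[R] S ⊗[R] S) (g.b m⁻¹)

lemma exists_level [Group.FG M] : ∃ (n : ℕ) (X : Set M), 0 < n ∧ Subgroup.closure X = ⊤ ∧
    ∀ m ∈ X, ∀ x, (g.bc (Algebra.TensorProduct.includeRight : S →ₐ[R] S ⊗[R] S)).b.repr (uElt g m) x ≠ 0 →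
      x ≠ 1 → ∀ y : M, y ^ n ≠ x := by
  obtain ⟨X, hX⟩ := Group.fg_def.mp ‹Group.FG M›
  let F : Set M := ⋃ m ∈ X,
    ↑((g.bc (Algebra.TensorProduct.includeRight : S →ₐ[R] S ⊗[R] S)).b.repr (uElt g m)).support
  have hF : F.Finite := Set.Finite.biUnion X.finite_toSet fun m _ => Finset.finite_toSet _
  obtain ⟨n, hn, h⟩ := exists_pow_finset M F hF
  refine ⟨n, X, hn, hX, ?_⟩
  intro m hm x hx hx1 y
  apply h x _ hx1
  simp only [F, Set.mem_iUnion]
  exact ⟨m, hm, by simpa using hx⟩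

lemma bc_evL {S₁ S₂ : Type*} [CommRing S₁] [CommRing S₂] [Algebra R S₁] [Algebra R S₂] (φ : S₁ →ₐ[R] S₂)
    (x : S₁ ⊗[R] A) (l : WithConv (A →ₗ[R] R)) : evL (bc A φ x) l = φ (evL x l) := by
  induction x using TensorProduct.induction_on with
  | zero => simp [evL_apply]
  | tmul s a => simp
  | add x y hx hy =>
    rw [map_add, evL_apply, map_add, ← evL_apply, ← evL_apply, hx, hy, evL_apply, evL_apply, evL_apply,
      map_add, map_add]

/-- the projection to `S₂ ⊗ (A/J)` is determined by the linear forms in `E` -/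
lemma proj_eq_of_evL [Module.FaithfullyFlat R S] [Group.FG M] (n : ℕ) (hn : 0 < n)
    {S₂ : Type u} [CommRing S₂] [Algebra R S₂] {x y : S₂ ⊗[R] A}
    (h : ∀ l ∈ E g n, evL x l = evL y l) : proj R A S₂ n x = proj R A S₂ n y := by
  obtain ⟨k, b, β, hβ, hb⟩ := exists_dualBasis g n hn
  have key : ∀ z : S₂ ⊗[R] A, proj R A S₂ n z = ∑ i, evL z (WithConv.toConv (β i)) • proj R A S₂ n (1 ⊗ₜ b i) := by
    intro z
    induction z using TensorProduct.induction_on with
    | zero => simp [evL_apply]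
    | tmul s a =>
      have h1 : proj R A S₂ n (1 ⊗ₜ (a - ∑ i, β i a • b i)) = 0 :=
        proj_eq_zero n (Ideal.mem_map_of_mem (Algebra.TensorProduct.includeRight : A →ₐ[R] S₂ ⊗[R] A) (hb a))
      rw [TensorProduct.tmul_sub, map_sub, sub_eq_zero, TensorProduct.tmul_sum, map_sum] at h1
      have h4 : s ⊗ₜ[R] a = s • ((1 : S₂) ⊗ₜ[R] a) := by simp [TensorProduct.smul_tmul']
      conv_lhs => rw [h4, map_smul, h1, Finset.smul_sum]
      refine Finset.sum_congr rfl fun i _ => ?_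
      have h5 : (1 : S₂) ⊗ₜ[R] ((β i) a • b i) = (algebraMap R S₂ (β i a)) • ((1 : S₂) ⊗ₜ[R] b i) := by
        rw [TensorProduct.tmul_smul, algebraMap_smul]
      rw [h5, map_smul, smul_smul, evL_tmul, Algebra.smul_def, mul_comm]
    | add x y hx hy =>
      rw [map_add, hx, hy, ← Finset.sum_add_distrib]
      refine Finset.sum_congr rfl fun i _ => ?_
      rw [evL_apply, evL_apply, evL_apply, map_add, add_smul]
  rw [key x, key y]
  refine Finset.sum_congr rfl fun i _ => ?_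
  rw [h (WithConv.toConv (β i)) (hβ i)]

/-- two pullbacks of the basis agree as soon as they agree modulo `J_n`. -/
lemma bc_eq_of_proj_eq [Group.FG M] (n : ℕ) (X : Set M) (hX : Subgroup.closure X = ⊤)
    (hlev : ∀ m ∈ X, ∀ x,
      (g.bc (Algebra.TensorProduct.includeRight : S →ₐ[R] S ⊗[R] S)).b.repr (uElt g m) x ≠ 0 →
        x ≠ 1 → ∀ y : M, y ^ n ≠ x)
    {S₂ : Type u} [CommRing S₂] [Algebra R S₂] (j₁ j₂ : S →ₐ[R] S₂)
    (h : ∀ m ∈ X, proj R A S₂ n (bc A j₁ (g.b m)) = proj R A S₂ n (bc A j₂ (g.b m))) (m : M) :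
    bc A j₁ (g.b m) = bc A j₂ (g.b m) := by
  let τ : S ⊗[R] S →ₐ[R] S₂ := Algebra.TensorProduct.lift j₁ j₂ (fun _ _ => .all _ _)
  have hτ1 : τ.comp (Algebra.TensorProduct.includeLeft : S →ₐ[R] S ⊗[R] S) = j₁ := by
    ext s; simp [τ]
  have hτ2 : τ.comp (Algebra.TensorProduct.includeRight : S →ₐ[R] S ⊗[R] S) = j₂ := by
    ext s; simp [τ]
  have hmul : ∀ m, bc A j₂ (g.b m) * bc A j₂ (g.b m⁻¹) = 1 := by
    intro m
    rw [← map_mul, ← g.mul, mul_inv_cancel, g.one, map_one]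
  -- main claim on the generators
  have key : ∀ m ∈ X, bc A j₁ (g.b m) = bc A j₂ (g.b m) := by
    intro m hm
    have hu : bc A τ (uElt g m) = bc A j₁ (g.b m) * bc A j₂ (g.b m⁻¹) := by
      rw [uElt, map_mul, bc_bc, bc_bc, hτ1, hτ2]
    have hgl : IsGroupLikeElem S₂ (bc A τ (uElt g m)) := by
      rw [hu]
      exact (isGroupLikeElem_bc j₁ (g.gl m)).mul (isGroupLikeElem_bc j₂ (g.gl _))
    have hp : proj R A S₂ n (bc A τ (uElt g m)) = 1 := by
      rw [hu, map_mul, h m hm, ← map_mul, hmul, map_one]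
    -- the basis over S₂
    let g₂ : GBasis S₂ (S₂ ⊗[R] A) M := g.bc j₂
    have hrepr : ∀ x, g₂.b.repr (bc A τ (uElt g m)) x =
        τ ((g.bc (Algebra.TensorProduct.includeRight : S →ₐ[R] S ⊗[R] S)).b.repr (uElt g m) x) := by
      intro x
      rw [← GBasis.bc_repr]
      have : g₂.b = ((g.bc (Algebra.TensorProduct.includeRight : S →ₐ[R] S ⊗[R] S)).bc τ).b := by
        apply Module.Basis.eq_of_apply_eq
        intro m
        rw [GBasis.bc_b, GBasis.bc_b, GBasis.bc_b, bc_bc, hτ2]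
      rw [this]
    have h1 : toQ g₂ n (bc A τ (uElt g m)) = 1 := by
      rw [← bcQuotToQ_proj, hp, map_one]
    have h2 : bc A τ (uElt g m) = (g₂.b.repr (bc A τ (uElt g m))).sum fun i a => a • g₂.b i :=
      (g₂.b.linearCombination_repr _).symm
    have h3 : g₂.b.repr (bc A τ (uElt g m)) 1 = 1 := by
      have h4 := congrArg (fun z : MonoidAlgebra S₂ (Q M n) => z.coeff 1) h1
      rw [h2, Finsupp.sum, map_sum, MonoidAlgebra.one_def, MonoidAlgebra.coeff_sum] at h4
      simp only [map_smul, toQ_b, Finsupp.finsetSum_apply] at h4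
      rw [Finset.sum_eq_single 1] at h4
      · simpa using h4
      · intro i hi hi1
        have hne : ((i : M) : Q M n) ≠ 1 := by
          intro hcon
          obtain ⟨y, hy⟩ := (QuotientGroup.eq_one_iff _).mp hcon
          refine hlev m hm i ?_ hi1 y hy
          intro h0
          rw [Finsupp.mem_support_iff, hrepr, h0, map_zero] at hi
          exact hi rfl
        rw [MonoidAlgebra.coeff_smul, MonoidAlgebra.coeff_single, Finsupp.smul_apply,
          Finsupp.single_eq_of_ne hne.symm, smul_zero]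
      · intro hi
        rw [Finsupp.notMem_support_iff] at hi
        rw [hi, zero_smul]
        rfl
    have h5 := g₂.eq_of_repr_eq_one hgl h3
    rw [g₂.one, hu] at h5
    calc bc A j₁ (g.b m) = bc A j₁ (g.b m) * (bc A j₂ (g.b m) * bc A j₂ (g.b m⁻¹)) := by rw [hmul, mul_one]
      _ = (bc A j₁ (g.b m) * bc A j₂ (g.b m⁻¹)) * bc A j₂ (g.b m) := by ring
      _ = bc A j₂ (g.b m) := by rw [h5, one_mul]
  have h6 : ((bc A j₁ : _ →* S₂ ⊗[R] A).comp g.hom) = ((bc A j₂ : _ →* S₂ ⊗[R] A).comp g.hom) :=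
    MonoidHom.eq_of_eqOn_dense hX (fun m hm => key m hm)
  exact DFunLike.congr_fun h6 m

include g in
lemma flat_of_gbasis [Module.FaithfullyFlat R S] : Module.Flat R A := by
  have : Module.Free S (S ⊗[R] A) := Module.Free.of_basis g.b
  exact Module.Flat.of_flat_tensorProduct R A S

/-- descent of a basis whose two pullbacks agree -/
lemma nonempty_gbasis_of_bc_eq [Module.Flat R A] {R₁ S₁ : Type u} [CommRing R₁] [CommRing S₁] [Algebra R R₁]
    [Algebra R S₁] [Algebra R₁ S₁] [IsScalarTower R R₁ S₁] [Module.FaithfullyFlat R₁ S₁]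
    (g₁ : GBasis S₁ (S₁ ⊗[R] A) M)
    (h : ∀ m, bc A ((Algebra.TensorProduct.includeLeft : S₁ →ₐ[R₁] S₁ ⊗[R₁] S₁).restrictScalars R) (g₁.b m) =
      bc A ((Algebra.TensorProduct.includeRight : S₁ →ₐ[R₁] S₁ ⊗[R₁] S₁).restrictScalars R) (g₁.b m)) :
    ∃ g₀ : GBasis R₁ (R₁ ⊗[R] A) M, ∀ m, bc A (IsScalarTower.toAlgHom R R₁ S₁) (g₀.b m) = g₁.b m := by
  let g₂ : GBasis S₁ (S₁ ⊗[R₁] (R₁ ⊗[R] A)) M := g₁.map (cancelBC R R₁ S₁ A).symm
  have hc : ∀ (j : S₁ →ₐ[R₁] S₁ ⊗[R₁] S₁) (y : S₁ ⊗[R₁] (R₁ ⊗[R] A)),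
      cancelBC R R₁ (S₁ ⊗[R₁] S₁) A (bc (R₁ ⊗[R] A) j y) = bc A (j.restrictScalars R) (cancelBC R R₁ S₁ A y) := by
    intro j y
    induction y using TensorProduct.induction_on with
    | zero => simp
    | add x y hx hy => rw [map_add, map_add, map_add, map_add, hx, hy]
    | tmul s z =>
      induction z using TensorProduct.induction_on with
      | zero => simp
      | add x y hx hy => rw [TensorProduct.tmul_add, map_add, map_add, map_add, map_add, hx, hy]
      | tmul r a => simp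
  have h1 : ∀ m, ∃ a : R₁ ⊗[R] A, (1 : S₁) ⊗ₜ[R₁] a = g₂.b m := by
    intro m
    apply exists_of_bc_eq
    have h2 : cancelBC R R₁ S₁ A (g₂.b m) = g₁.b m := by
      rw [GBasis.map_b]
      exact (cancelBC R R₁ S₁ A).apply_symm_apply _
    have h3 := hc Algebra.TensorProduct.includeLeft (g₂.b m)
    have h4 := hc Algebra.TensorProduct.includeRight (g₂.b m)
    rw [h2, h] at h3
    rw [h2] at h4
    exact (cancelBC R R₁ (S₁ ⊗[R₁] S₁) A).injective (h3.trans h4.symm)
  choose a ha using h1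
  obtain ⟨g₀, hg₀⟩ := GBasis.exists_of_one_tmul g₂ a ha
  refine ⟨g₀, fun m => ?_⟩
  rw [hg₀, ← cancelBC_one_tmul, ha, GBasis.map_b]
  exact (cancelBC R R₁ S₁ A).apply_symm_apply _

/-- **Key theorem.** If the Cartier dual of the `n`-torsion splits over `T`, then `A` is split over every
local `T`-algebra (`n` sufficiently divisible). -/
theorem nonempty_gbasis_of_local [Module.FaithfullyFlat R S] [Group.FG M] [Coalgebra.IsCocomm R A]
    (n : ℕ) (hn : 0 < n) (X : Set M) (hX : Subgroup.closure X = ⊤)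
    (hlev : ∀ m ∈ X, ∀ x,
      (g.bc (Algebra.TensorProduct.includeRight : S →ₐ[R] S ⊗[R] S)).b.repr (uElt g m) x ≠ 0 →
        x ≠ 1 → ∀ y : M, y ^ n ≠ x)
    (T : Type u) [CommRing T] [Algebra R T] [Algebra.IsFiniteSplit T (T ⊗[R] E g n)]
    (R₁ : Type u) [CommRing R₁] [IsLocalRing R₁] [Algebra R R₁] [Algebra T R₁] [IsScalarTower R T R₁] :
    Nonempty (GBasis R₁ (R₁ ⊗[R] A) M) := by
  have := flat_of_gbasis g
  obtain ⟨S₁, _, _, _, _, _, _, ⟨σ⟩⟩ := exists_local_cover R R₁ S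
  let _ : Algebra T S₁ := ((algebraMap R₁ S₁).comp (algebraMap T R₁)).toAlgebra
  have : IsScalarTower T R₁ S₁ := .of_algebraMap_eq' rfl
  have : IsScalarTower R T S₁ := by
    apply IsScalarTower.of_algebraMap_eq'
    rw [IsScalarTower.algebraMap_eq T R₁ S₁, RingHom.comp_assoc, ← IsScalarTower.algebraMap_eq R T R₁,
      ← IsScalarTower.algebraMap_eq R R₁ S₁]
  let g₁ : GBasis S₁ (S₁ ⊗[R] A) M := g.bc σ
  have hrange : ∀ m, ∀ l ∈ E g n, evL (g₁.b m) l ∈ Set.range (algebraMap R₁ S₁) := by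
    intro m l hl
    have := mem_range_of_isFiniteSplit (R := R) (T := T) (E := E g n) (S₁ := S₁)
      ((ev (g₁.b m) (g₁.gl m)).comp (E g n).val) ⟨l, hl⟩
    obtain ⟨t, ht⟩ := this
    refine ⟨algebraMap T R₁ t, ?_⟩
    rw [← IsScalarTower.algebraMap_apply, ht]
    rfl
  let j₁ : S₁ →ₐ[R] S₁ ⊗[R₁] S₁ := (Algebra.TensorProduct.includeLeft : S₁ →ₐ[R₁] S₁ ⊗[R₁] S₁).restrictScalars R
  let j₂ : S₁ →ₐ[R] S₁ ⊗[R₁] S₁ := (Algebra.TensorProduct.includeRight : S₁ →ₐ[R₁] S₁ ⊗[R₁] S₁).restrictScalars R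
  have hkey := bc_eq_of_proj_eq g n X hX hlev (j₁.comp σ) (j₂.comp σ) (by
    intro m _
    apply proj_eq_of_evL g n hn
    intro l hl
    rw [← bc_bc, ← bc_bc, bc_evL j₁, bc_evL j₂]
    obtain ⟨r, hr⟩ := hrange m l hl
    rw [GBasis.bc_b] at hr
    rw [← hr]
    change (Algebra.TensorProduct.includeLeft : S₁ →ₐ[R₁] S₁ ⊗[R₁] S₁) _ =
      (Algebra.TensorProduct.includeRight : S₁ →ₐ[R₁] S₁ ⊗[R₁] S₁) _
    rw [AlgHom.commutes, AlgHom.commutes])
  obtain ⟨g₀, _⟩ := nonempty_gbasis_of_bc_eq (R := R) (R₁ := R₁) g₁ (by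
    intro m
    rw [GBasis.bc_b, bc_bc, bc_bc]
    exact hkey m)
  exact ⟨g₀⟩

include g in
/-- **Key theorem**, existence form: there is a finite étale faithfully flat `T` such that `A` is split over every
local `T`-algebra. -/
theorem exists_etale_cover [Module.FaithfullyFlat R S] [Group.FG M] :
    ∃ (T : Type u) (_ : CommRing T) (_ : Algebra R T)
      (_ : Module.FaithfullyFlat R T) (_ : Module.Finite R T) (_ : Algebra.Etale R T),
      ∀ (R₁ : Type u) [CommRing R₁] [IsLocalRing R₁] [Algebra R R₁] [Algebra T R₁] [IsScalarTower R T R₁],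
        Nonempty (GBasis R₁ (R₁ ⊗[R] A) M) := by
  have := isCocomm_of_gbasis g
  obtain ⟨n, X, hn, hX, hlev⟩ := exists_level g
  obtain ⟨T, i1, i2, i3, i4, i5, i6⟩ := exists_split g n hn
  exact ⟨T, i1, i2, i3, i4, i5, fun R₁ _ _ _ _ _ => nonempty_gbasis_of_local g n hn X hX hlev T R₁⟩

end key

end Groth.Agent.Sga3A.MTKey
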