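import Groth.Agent.Sga3A.MTQuasi
import Groth.Agent.Etcore.NormalEtale

/-!
# Isotriviality over normal domains
-/

set_option autoImplicit false

open TensorProduct

namespace Groth.Agent.Sga3A.MTNormal

open MTBasis MTTorsion MTDual MTKey MTConst SGA3b TypeLemma MultBC MTQuasi

universe u

/-- local-global principle for ranges: denominators avoiding every prime -/
lemma mem_range_of_forall_prime {T B N : Type*} [CommRing T] [AddCommGroup B] [Module T B] [AddCommGroup N]
    [Module T N] (f : B →ₗ[T] N) (y : N) (h : ∀ q : PrimeSpectrum T, ∃ w ∉ q.asIdeal, w • y ∈ LinearMap.range f) :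
    y ∈ LinearMap.range f := by
  let I : Ideal T := (LinearMap.range f).comap (LinearMap.toSpanSingleton T N y)
  have hI : I = ⊤ := by
    by_contra hne
    obtain ⟨m, hm, hIm⟩ := Ideal.exists_le_maximal I hne
    obtain ⟨w, hw, hwy⟩ := h ⟨m, hm.isPrime⟩
    exact hw (hIm hwy)
  have h1 : (1 : T) ∈ I := by rw [hI]; trivial
  simpa [I] using h1

lemma exists_pow_smul {T B : Type*} [CommRing T] [AddCommGroup B] [Module T B] (w : T)
    (z : Localization.Away w ⊗[T] B) : ∃ (k : ℕ) (b : B), w ^ k • z = (1 : Localization.Away w) ⊗ₜ[T] b := by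
  obtain ⟨⟨b, ⟨_, k, rfl⟩⟩, hb⟩ := IsLocalizedModule.surj (Submonoid.powers w)
    (TensorProduct.mk T (Localization.Away w) B 1) z
  exact ⟨k, b, hb⟩

lemma isGroupLikeElem_of_injective {R : Type*} (S : Type*) {A : Type*} [CommRing R] [CommRing S] [CommRing A]
    [Algebra R S] [Bialgebra R A] (h0 : Function.Injective (algebraMap R S))
    (hinj : Function.Injective (fun a : A ⊗[R] A => (1 : S) ⊗ₜ[R] a)) {a : A}
    (h : IsGroupLikeElem S ((1 : S) ⊗ₜ[R] a)) : IsGroupLikeElem R a where
  counit_eq_one := by
    have h1 := h.counit_eq_one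
    rw [TensorProduct.counit_tmul, Bialgebra.counit_one, Algebra.smul_def, mul_one] at h1
    exact h0 (by rw [h1, map_one])
  comul_eq_tmul_self := by
    have h1 := h.comul_eq_tmul_self
    rw [comul_one_tmul] at h1
    have h2 : ((1 : S) ⊗ₜ[R] a) ⊗ₜ[S] ((1 : S) ⊗ₜ[R] a) =
      TensorProduct.AlgebraTensorModule.distribBaseChange R S A A (1 ⊗ₜ (a ⊗ₜ a)) := by simp
    rw [h2] at h1
    exact hinj ((LinearEquiv.injective _) h1)

lemma repr_eq_of_apply_eq {L V ι : Type*} [CommRing L] [Nontrivial L] [AddCommGroup V] [Module L V]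
    (b b' : Module.Basis ι L V) (σ : ι → ι) (h : ∀ m, b m = b' (σ m)) (z : V) (m : ι) :
    b.repr z m = b'.repr z (σ m) := by
  classical
  have hσ : Function.Injective σ := fun x y hxy => b.injective (by rw [h, h, hxy])
  have h1 : b'.repr z (σ m) = b'.repr (Finsupp.linearCombination L b (b.repr z)) (σ m) := by
    rw [b.linearCombination_repr]
  rw [h1, Finsupp.linearCombination_apply, Finsupp.sum, map_sum, Finsupp.finsetSum_apply]
  simp only [map_smul, h, Module.Basis.repr_self, Finsupp.smul_apply, Finsupp.single_apply, smul_eq_mul, mul_ite,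
    mul_one, mul_zero, hσ.eq_iff]
  rw [Finset.sum_ite_eq' (b.repr z).support m (fun i => b.repr z i)]
  split_ifs with h
  · rfl
  · simpa using h

section

variable {T B : Type u} [CommRing T] [IsDomain T] [CommRing B] [Bialgebra T B] [Module.Flat T B]
  {M : Type u} [CommGroup M]

lemma one_tmul_inj (N : Type*) [AddCommGroup N] [Module T N] [Module.Flat T N] :
    Function.Injective (fun a : N => (1 : FractionRing T) ⊗ₜ[T] a) := by
  have h := Module.Flat.rTensor_preserves_injective_linearMap (M := N) (Algebra.linearMap T (FractionRing T))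
    (IsFractionRing.injective T (FractionRing T))
  intro a b hab
  have h1 : (Algebra.linearMap T (FractionRing T)).rTensor N (1 ⊗ₜ a) =
      (Algebra.linearMap T (FractionRing T)).rTensor N (1 ⊗ₜ b) := by
    simpa using hab
  have h2 := h h1
  simpa using congrArg (TensorProduct.lid T N) h2

/-- Over a domain, a flat bialgebra which is Zariski-locally diagonalisable of constant type is diagonalisable. -/
theorem nonempty_gbasis_of_local
    (h : ∀ q : PrimeSpectrum T, ∃ w ∉ q.asIdeal, Nonempty (GBasis (Localization.Away w) (Localization.Away w ⊗[T] B) M)) :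
    Nonempty (GBasis T B M) := by
  classical
  choose w hw hg using h
  have g := fun q => (hg q).some
  clear hg
  let L := FractionRing T
  have hu : ∀ q, IsUnit (algebraMap T L (w q)) := fun q => by
    refine (map_ne_zero_iff (algebraMap T L) (IsFractionRing.injective T L)).mpr ?_ |>.isUnit
    intro h0
    exact hw q (by rw [h0]; exact zero_mem _)
  let φ : ∀ q, Localization.Away (w q) →ₐ[T] L := fun q => MTSpread.aw (w q) L (hu q)
  let gL : GBasis L (L ⊗[T] B) M := (g ⊥).bc (φ ⊥)
  have key1 : ∀ q m, ∃ n, gL.b m = bc B (φ q) ((g q).b n) := fun q m => by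
    obtain ⟨n, hn⟩ := ((g q).bc (φ q)).exists_eq (gL.gl m)
    exact ⟨n, by rw [hn, GBasis.bc_b]⟩
  have key2 : ∀ q n, ∃ m, bc B (φ q) ((g q).b n) = gL.b m := fun q n =>
    gL.exists_eq (isGroupLikeElem_bc (φ q) ((g q).gl n))
  -- the group-like elements descend
  have hx : ∀ m, ∃ b : B, (1 : L) ⊗ₜ[T] b = gL.b m := by
    intro m
    have := mem_range_of_forall_prime (TensorProduct.mk T L B 1) (gL.b m) (fun q => ?_)
    · obtain ⟨b, hb⟩ := this
      exact ⟨b, hb⟩
    · obtain ⟨n, hn⟩ := key1 q m
      obtain ⟨k, b, hb⟩ := exists_pow_smul (w q) ((g q).b n)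
      refine ⟨w q ^ k, fun hc => hw q (q.2.mem_of_pow_mem k hc), b, ?_⟩
      rw [hn, ← map_smul (bc B (φ q)), hb]
      simp
  choose x hx using hx
  have hinjT : Function.Injective (algebraMap T L) := IsFractionRing.injective T L
  have hinj : Function.Injective (fun a : B => (1 : L) ⊗ₜ[T] a) := one_tmul_inj B
  have hinj2 : Function.Injective (fun a : B ⊗[T] B => (1 : L) ⊗ₜ[T] a) := one_tmul_inj (B ⊗[T] B)
  have hlc : ∀ l : M →₀ T, (1 : L) ⊗ₜ[T] (Finsupp.linearCombination T x l) =
      Finsupp.linearCombination L gL.b (l.mapRange (algebraMap T L) (map_zero _)) := by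
    intro l
    rw [Finsupp.linearCombination_apply, Finsupp.linearCombination_apply, Finsupp.sum_mapRange_index (by simp),
      Finsupp.sum, Finsupp.sum, TensorProduct.tmul_sum]
    refine Finset.sum_congr rfl fun m _ => ?_
    rw [← hx, TensorProduct.tmul_smul, algebraMap_smul]
  have hli : LinearIndependent T x := by
    rw [linearIndependent_iff]
    intro l hl
    have h1 := hlc l
    rw [hl, TensorProduct.tmul_zero] at h1
    have h2 := (linearIndependent_iff.mp gL.b.linearIndependent) _ h1.symm
    ext m
    have h3 := DFunLike.congr_fun h2 m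
    simp only [Finsupp.mapRange_apply, Finsupp.coe_zero, Pi.zero_apply] at h3
    exact hinjT (by rw [h3, Finsupp.coe_zero, Pi.zero_apply, map_zero])
  have hsp : Submodule.span T (Set.range x) = ⊤ := by
    rw [eq_top_iff]
    rintro y -
    -- coordinates of `y`
    have hc : ∀ m, ∃ t : T, algebraMap T L t = gL.b.repr (1 ⊗ₜ y) m := by
      intro m
      have := mem_range_of_forall_prime (Algebra.linearMap T L) (gL.b.repr (1 ⊗ₜ y) m) (fun q => ?_)
      · obtain ⟨b, hb⟩ := this
        exact ⟨b, hb⟩
      · obtain ⟨n, hn⟩ := key1 q m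
        have h1 : (gL.b.repr (1 ⊗ₜ y) m) = φ q ((g q).b.repr (1 ⊗ₜ y) n) := by
          choose σ hσ using fun m' => key1 q m'
          have h2 := repr_eq_of_apply_eq gL.b ((g q).bc (φ q)).b σ (fun m' => (hσ m').trans (GBasis.bc_b _ _ _).symm) (1 ⊗ₜ y) m
          have h3 := GBasis.bc_repr (g q) (φ q) (1 ⊗ₜ y) (σ m)
          rw [bc_tmul, map_one] at h3
          have h4 : σ m = n := by
            apply ((g q).bc (φ q)).b.injective
            rw [GBasis.bc_b, GBasis.bc_b, ← hσ, ← hn]
          rw [h2, h3, h4]
        obtain ⟨⟨b, ⟨_, k, rfl⟩⟩, hb⟩ := IsLocalization.surj (Submonoid.powers (w q)) ((g q).b.repr (1 ⊗ₜ y) n)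
        refine ⟨w q ^ k, fun hc => hw q (q.2.mem_of_pow_mem k hc), b, ?_⟩
        rw [h1, ← map_smul (φ q), Algebra.smul_def, mul_comm]
        change _ = φ q ((g q).b.repr (1 ⊗ₜ y) n * algebraMap _ _ (w q ^ k))
        rw [hb, AlgHom.commutes, Algebra.linearMap_apply]
    choose t ht using hc
    have htf : ∀ m, m ∉ (gL.b.repr (1 ⊗ₜ y)).support → t m = 0 := by
      intro m hm
      rw [Finsupp.notMem_support_iff] at hm
      exact hinjT (by rw [ht, hm, map_zero])
    let l : M →₀ T := Finsupp.onFinset (gL.b.repr (1 ⊗ₜ y)).support t (fun m hm => by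
      by_contra hcon
      exact hm (htf m hcon))
    have hy : y = Finsupp.linearCombination T x l := by
      apply hinj
      change (1 : L) ⊗ₜ[T] y = (1 : L) ⊗ₜ[T] _
      rw [hlc]
      apply gL.b.repr.injective
      rw [Module.Basis.repr_linearCombination]
      ext m
      rw [Finsupp.mapRange_apply, Finsupp.onFinset_apply, ht]
    rw [hy, ← Finsupp.range_linearCombination]
    exact ⟨l, rfl⟩
  refine ⟨⟨Module.Basis.mk hli hsp.ge, ?_, ?_, ?_⟩⟩
  · apply hinj
    simp only [Module.Basis.mk_apply, hx, gL.one]
    rfl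
  · intro m n
    apply hinj
    simp only [Module.Basis.mk_apply, hx, gL.mul]
    rw [← hx, ← hx, Algebra.TensorProduct.tmul_mul_tmul, one_mul]
  · intro m
    apply isGroupLikeElem_of_injective L hinjT hinj2
    rw [Module.Basis.mk_apply, hx]
    exact gL.gl m

end

section

variable {R A : Type u} [CommRing R] [CommRing A] [HopfAlgebra R A]

lemma nontrivial_tensor [IsDomain R] (S S' : Type u) [CommRing S] [CommRing S'] [Algebra R S] [Algebra R S']
    [Module.Flat R S] [Module.Flat R S'] [Nontrivial S] [Nontrivial S'] : Nontrivial (S ⊗[R] S') := by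
  have h0 : Function.Injective (algebraMap R S') := by
    have : Module.IsTorsionFree R S' := Module.Flat.isTorsionFree
    exact FaithfulSMul.algebraMap_injective R S'
  have h1 := Module.Flat.lTensor_preserves_injective_linearMap (M := S) (Algebra.linearMap R S') h0
  exact (h1.comp (TensorProduct.rid R S).symm.injective).nontrivial

/-- over a domain a group of multiplicative type has constant type -/
lemma exists_gbasis_of_isDomain [IsDomain R] [Algebra.FiniteType R A] (h : IsMultType R A) :
    ∃ (S : Type u) (_ : CommRing S) (_ : Algebra R S) (_ : Module.FaithfullyFlat R S) (M : Type u) (_ : CommGroup M)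
      (_ : Group.FG M), Nonempty (GBasis S (S ⊗[R] A) M) := by
  apply exists_gbasis
  obtain ⟨ι, _, S, _, _, hflat, hsurj, hd⟩ := IsMultType.exists_family h
  choose X hX e using hd
  obtain ⟨i₀, q₀, -⟩ := hsurj ⊥
  have hn : Nontrivial (S i₀) := q₀.nontrivial
  have hX' : ∀ i, Nonempty (S i ⊗[R] A ≃ₐc[S i] MonoidAlgebra (S i) (X i₀)) := by
    intro i
    obtain ⟨ei⟩ := e i
    cases subsingleton_or_nontrivial (S i) with
    | inl hs =>
      obtain ⟨e'⟩ := diag_of_subsingleton (S i) (X i) (X i₀)
      exact ⟨ei.trans e'⟩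
    | inr hs =>
      have := nontrivial_tensor (S i) (S i₀) (R := R)
      obtain ⟨σ⟩ := mulEquiv_of_common (R := R) (B := A)
        (Algebra.TensorProduct.includeLeft : S i →ₐ[R] S i ⊗[R] S i₀)
        (Algebra.TensorProduct.includeRight : S i₀ →ₐ[R] S i ⊗[R] S i₀) (e i) (e i₀)
      exact ⟨((GBasis.ofBialgEquiv ei).reindex σ).bialgEquiv.symm⟩
  have := faithfullyFlat_pi S hsurj
  exact ⟨∀ i, S i, inferInstance, inferInstance, inferInstance, X i₀, hX i₀,
    ⟨DiagPi.diagPi fun i => (hX' i).some⟩⟩

/-- A nonempty finite étale algebra over a normal domain has a component which is a domain, finite étale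
and faithfully flat. -/
lemma exists_component [IsDomain R] [IsIntegrallyClosed R] (T : Type u) [CommRing T] [Algebra R T] [Nontrivial T]
    [Algebra.Etale R T] [Module.Finite R T] :
    ∃ e : T, IsDomain (Localization.Away e) ∧ IsIntegrallyClosed (Localization.Away e) ∧
      Algebra.Etale R (Localization.Away e) ∧ Module.Finite R (Localization.Away e) ∧
      Module.FaithfullyFlat R (Localization.Away e) ∧
      Function.Surjective (algebraMap T (Localization.Away e)) := by
  obtain ⟨p, hp⟩ := Ideal.exists_maximal T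
  have := hp.isPrime
  obtain ⟨e, he, hep, hd, hic⟩ := Etcore.NormalEtale.exists_idempotent_notMem R T p
  have hs : Function.Surjective (algebraMap T (Localization.Away e)) := by
    have h1 : algebraMap T (Localization.Away e) e = 1 := by
      have hu : IsUnit (algebraMap T (Localization.Away e) e) := IsLocalization.Away.algebraMap_isUnit e
      exact hu.mul_left_cancel (by rw [← map_mul, he, mul_one])
    intro z
    obtain ⟨⟨t, ⟨_, k, rfl⟩⟩, ht⟩ := IsLocalization.surj (Submonoid.powers e) z
    refine ⟨t, ?_⟩
    rw [← ht]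
    simp [h1]
  have het : Algebra.Etale R (Localization.Away e) := by
    have : Algebra.Etale T (Localization.Away e) := Algebra.Etale.of_isLocalizationAway e
    exact Algebra.Etale.comp R T (Localization.Away e)
  have hfin : Module.Finite R (Localization.Away e) :=
    Module.Finite.of_surjective (IsScalarTower.toAlgHom R T (Localization.Away e)).toLinearMap hs
  have hff : Module.FaithfullyFlat R (Localization.Away e) := by
    apply Module.FaithfullyFlat.of_comap_surjective
    have h0 : Function.Injective (algebraMap R (Localization.Away e)) := by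
      have : Module.IsTorsionFree R (Localization.Away e) := Module.Flat.isTorsionFree
      exact FaithfulSMul.algebraMap_injective R _
    have : FaithfulSMul R (Localization.Away e) := (faithfulSMul_iff_algebraMap_injective R _).mpr h0
    exact Algebra.IsIntegral.comap_surjective _ _
  exact ⟨e, hd, hic, het, hfin, hff, hs⟩

lemma nonempty_gbasis_of_local_tower {T T' : Type u} [CommRing T] [CommRing T'] [IsDomain T'] [Algebra R T]
    [Algebra R T'] [Algebra T T'] [IsScalarTower R T T'] [Module.Flat R A] {M : Type u} [CommGroup M]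
    (hT : ∀ q : PrimeSpectrum T, ∃ w ∉ q.asIdeal,
      Nonempty (GBasis (Localization.Away w) (Localization.Away w ⊗[R] A) M)) :
    Nonempty (GBasis T' (T' ⊗[R] A) M) := by
  apply nonempty_gbasis_of_local
  intro q'
  obtain ⟨w, hw, ⟨g⟩⟩ := hT (PrimeSpectrum.comap (algebraMap T T') q')
  refine ⟨algebraMap T T' w, hw, ?_⟩
  have hu : IsUnit (algebraMap T (Localization.Away (algebraMap T T' w)) w) := by
    rw [IsScalarTower.algebraMap_apply T T' (Localization.Away (algebraMap T T' w))]
    exact IsLocalization.Away.algebraMap_isUnit _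
  have φ : Localization.Away w →ₐ[R] Localization.Away (algebraMap T T' w) :=
    (MTSpread.aw w (Localization.Away (algebraMap T T' w)) hu).restrictScalars R
  exact ⟨(g.bc φ).map (cancelBC R T' (Localization.Away (algebraMap T T' w)) A).symm⟩

/-- SGA 3 X 5.16 over a normal domain -/
theorem isIsotrivial_of_normal [IsDomain R] [IsIntegrallyClosed R] [Algebra.FiniteType R A]
    (h : IsMultType R A) : IsIsotrivial R A := by
  obtain ⟨S, _, _, _, M, _, _, ⟨g⟩⟩ := exists_gbasis_of_isDomain h
  have := flat_of_gbasis g
  obtain ⟨T, _, _, _, _, _, hT⟩ := exists_etale_local' g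
  have : Nontrivial T := (FaithfulSMul.algebraMap_injective R T).nontrivial
  obtain ⟨e, hd, hic, het, hfin, hff, hs⟩ := exists_component (R := R) T
  obtain ⟨g'⟩ := nonempty_gbasis_of_local_tower (T' := Localization.Away e) hT
  exact ⟨Localization.Away e, inferInstance, inferInstance, het, hfin, hff, isDiag_of_gbasis g'⟩

end

end Groth.Agent.Sga3A.MTNormal
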