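import Mathlib.RingTheory.Flat.Basic
import Mathlib.LinearAlgebra.TensorProduct.Pi
import Mathlib.LinearAlgebra.TensorProduct.Tower
import Mathlib.RingTheory.TensorProduct.Basic

/-!
# Flat descent of modules, in family form (team sga3-a)

Let `S i` (`i` in a finite type) be flat `R`-algebras, `V i` an `S i`-module and
`θ i j : V i → S i ⊗[R] V j` an `S i`-linear family (a coaction), satisfying the counit and the cocycle condition.
Then the `R`-module `N` of the families `v` with `θ i j (v i) = 1 ⊗ v j` satisfies `S i ⊗[R] N ≃ V i`.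
-/

set_option autoImplicit false

open TensorProduct

namespace Groth.Agent.Sga3A.ModDesc

universe u v w

section

variable {R : Type u} [CommRing R] {ι : Type v} {S : ι → Type w} [∀ i, CommRing (S i)] [∀ i, Algebra R (S i)]
  {V : ι → Type*} [∀ i, AddCommGroup (V i)] [∀ i, Module R (V i)] [∀ i, Module (S i) (V i)]
  [∀ i, IsScalarTower R (S i) (V i)]

/-- The families compatible with the coaction. -/
def inv (θ : ∀ i j, V i →ₗ[S i] S i ⊗[R] V j) : Submodule R (∀ i, V i) where
  carrier := {v | ∀ i j, θ i j (v i) = 1 ⊗ₜ[R] v j}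
  add_mem' {a b} ha hb i j := by
    simp only [Pi.add_apply, map_add, TensorProduct.tmul_add]
    rw [ha i j, hb i j]
  zero_mem' i j := by simp
  smul_mem' r a ha i j := by
    simp only [Pi.smul_apply, TensorProduct.tmul_smul]
    rw [← ha i j, LinearMap.map_smul_of_tower]

variable (θ : ∀ i j, V i →ₗ[S i] S i ⊗[R] V j)

lemma mem_inv {v : ∀ i, V i} : v ∈ inv θ ↔ ∀ i j, θ i j (v i) = 1 ⊗ₜ[R] v j := Iff.rfl

/-- multiplication `S ⊗[R] V → V` -/
noncomputable def act (R : Type*) [CommRing R] (S : Type*) [CommRing S] [Algebra R S] (V : Type*) [AddCommGroup V]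
    [Module R V] [Module S V] [IsScalarTower R S V] : S ⊗[R] V →ₗ[S] V :=
  TensorProduct.AlgebraTensorModule.lift
    { toFun := fun s => (LinearMap.id : V →ₗ[R] V).restrictScalars R |>.comp (Algebra.lsmul R R V s : V →ₗ[R] V)
      map_add' := fun s t => by ext v; simp [add_smul]
      map_smul' := fun s t => by ext v; simp [mul_smul] }

@[simp] lemma act_tmul {R : Type*} [CommRing R] {S : Type*} [CommRing S] [Algebra R S] {V : Type*} [AddCommGroup V]
    [Module R V] [Module S V] [IsScalarTower R S V] (s : S) (v : V) : act R S V (s ⊗ₜ v) = s • v := rfl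

/-- `S i ⊗ N → V i` -/
noncomputable def toV (i : ι) : S i ⊗[R] inv θ →ₗ[S i] V i :=
  (act R (S i) (V i)) ∘ₗ (TensorProduct.AlgebraTensorModule.lTensor (S i) (S i)
    ((LinearMap.proj i).comp (inv θ).subtype))

@[simp] lemma toV_tmul (i : ι) (s : S i) (n : inv θ) : toV θ i (s ⊗ₜ n) = s • (n : ∀ i, V i) i := rfl

/-- the difference map whose kernel is `inv θ` -/
noncomputable def diff : (∀ i, V i) →ₗ[R] ∀ i j, S i ⊗[R] V j :=
  LinearMap.pi fun i => LinearMap.pi fun j =>
    ((θ i j).restrictScalars R) ∘ₗ LinearMap.proj i - (TensorProduct.mk R (S i) (V j) 1) ∘ₗ LinearMap.proj j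

lemma diff_apply (v : ∀ i, V i) (i j : ι) : diff θ v i j = θ i j (v i) - 1 ⊗ₜ v j := rfl

lemma exact_subtype_diff : Function.Exact (inv θ).subtype (diff θ) := by
  intro v
  constructor
  · intro h
    refine ⟨⟨v, fun i j => ?_⟩, rfl⟩
    have := congrFun (congrFun h i) j
    rw [diff_apply] at this
    exact sub_eq_zero.mp this
  · rintro ⟨n, rfl⟩
    ext i j
    rw [diff_apply]
    exact sub_eq_zero.mpr (n.2 i j)

/-- Flat descent of modules, family form. -/
theorem toV_bijective [Finite ι] [∀ i, Module.Flat R (S i)]
    (hμ : ∀ i v, act R (S i) (V i) (θ i i v) = v)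
    (hco : ∀ i j k (v : V i), ((θ j k).restrictScalars R).lTensor (S i) (θ i j v) =
      (TensorProduct.mk R (S j) (V k) 1).lTensor (S i) (θ i k v)) (i : ι) :
    Function.Bijective (toV θ i) := by
  classical
  have := Fintype.ofFinite ι
  -- the components of an element of `S i ⊗ ∏ V j`
  have hcomp : ∀ (z : S i ⊗[R] inv θ) (j : ι),
      θ i j (toV θ i z) =
        TensorProduct.piRight R R (S i) V ((inv θ).subtype.lTensor (S i) z) j := by
    intro z j
    induction z using TensorProduct.induction_on with
    | zero => simp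
    | tmul s n =>
      rw [toV_tmul, map_smul, n.2 i j]
      simp [TensorProduct.smul_tmul']
    | add x y hx hy => rw [map_add, map_add, hx, hy, map_add, map_add]; rfl
  constructor
  · rw [injective_iff_map_eq_zero]
    intro z hz
    apply Module.Flat.lTensor_preserves_injective_linearMap (M := S i) (inv θ).subtype
      (inv θ).injective_subtype
    rw [map_zero]
    apply (TensorProduct.piRight R R (S i) V).injective
    rw [map_zero]
    ext j
    rw [← hcomp, hz, map_zero]; rfl
  · intro v
    obtain ⟨y, hy⟩ := (TensorProduct.piRight R R (S i) V).surjective (fun j => θ i j v)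
    have hy0 : (diff θ).lTensor (S i) y = 0 := by
      apply (TensorProduct.piRight R R (S i) (fun j => ∀ k, S j ⊗[R] V k)).injective
      rw [map_zero]
      ext j
      apply (TensorProduct.piRight R R (S i) (fun k => S j ⊗[R] V k)).injective
      rw [Pi.zero_apply, map_zero]
      ext k
      rw [Pi.zero_apply]
      have key : ∀ y : S i ⊗[R] (∀ j, V j),
          (TensorProduct.piRight R R (S i) (fun k => S j ⊗[R] V k))
            ((TensorProduct.piRight R R (S i) (fun j => ∀ k, S j ⊗[R] V k)) ((diff θ).lTensor (S i) y) j) k =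
          ((θ j k).restrictScalars R).lTensor (S i) (TensorProduct.piRight R R (S i) V y j) -
            (TensorProduct.mk R (S j) (V k) 1).lTensor (S i) (TensorProduct.piRight R R (S i) V y k) := by
        intro y
        induction y using TensorProduct.induction_on with
        | zero => simp
        | tmul s n => simp [diff_apply, TensorProduct.tmul_sub]
        | add x y hx hy =>
          simp only [map_add, Pi.add_apply] at hx hy ⊢
          rw [hx, hy]
          abel
      rw [key, hy, hco, sub_self]
    obtain ⟨z, hz⟩ := ((Module.Flat.lTensor_exact (S i) (exact_subtype_diff θ)) y).mp hy0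
    refine ⟨z, ?_⟩
    rw [← hμ i (toV θ i z), hcomp, hz, hy, hμ]

end

end Groth.Agent.Sga3A.ModDesc
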