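import Groth.Agent.Sga3A.NormField

set_option autoImplicit false
open CategoryTheory MonoidalCategory CartesianMonoidalCategory MonObj GrpObj AlgebraicGeometry Limits
universe u

/-! A smooth closed subgroup scheme is its own normaliser if this holds for the geometric points and
the tangent vectors of the geometric fibres. -/

namespace Groth.Agent.Sga3A.NormBase

open NormDefs NormRing NormInf NormMain NormField

variable {S : Scheme.{u}} {G P : Over S} [GrpObj G] [GrpObj P]

omit [GrpObj G] [GrpObj P] in
/-- Lying in a closed subscheme is a Zariski local condition. -/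
theorem inP_of_cover (i : P ⟶ G) [IsClosedImmersion i.left] {X : Over S} (g : X ⟶ G)
    (h : ∀ (A : Type u) [CommRing A] (a : Spec (.of A) ⟶ S) (t : Over.mk a ⟶ X), InP i (t ≫ g)) : InP i g := by
  rw [inP_iff_left]
  let 𝒰 := X.left.affineCover
  have h1 : ∀ j : 𝒰.I₀, ∃ z : 𝒰.X j ⟶ P.left, z ≫ i.left = 𝒰.f j ≫ g.left := by
    intro j
    let t : Over.mk (𝒰.f j ≫ X.hom) ⟶ X := Over.homMk (𝒰.f j) rfl
    have h2 := h _ (𝒰.f j ≫ X.hom) t
    rw [inP_iff_left] at h2
    exact h2
  choose z hz using h1
  have hm : Mono i.left := inferInstance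
  refine ⟨𝒰.glueMorphisms z ?_, ?_⟩
  · intro j k
    rw [← cancel_mono i.left, Category.assoc, Category.assoc, hz, hz, pullback.condition_assoc]
  · apply 𝒰.hom_ext
    intro j
    rw [← Category.assoc, Scheme.Cover.ι_glueMorphisms, hz]

theorem inP_of_nor (i : P ⟶ G) (hi : IsMonHom i) (hcl : IsClosedImmersion i.left) (hG : IsAffineHom G.hom)
    (hGs : Smooth G.hom) (hPs : Smooth P.hom)
    (hpts : ∀ (s : S) (g : 𝟙_ (Over (Spec (CommRingCat.of (AlgebraicClosure (S.residueField s))))) ⟶
        Red.geomFibre s G),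
      Nor ((Over.pullback (Red.geomPt s)).map i) g → InP ((Over.pullback (Red.geomPt s)).map i) g)
    (hinf : ∀ s : S, InfNor ((Over.pullback (Red.geomPt s)).map i))
    {X : Over S} (g : X ⟶ G) (hN : Nor i g) : InP i g := by
  have hPa : IsAffineHom P.hom := by
    rw [← Over.w i]
    infer_instance
  have hlfp : LocallyOfFinitePresentation i.left := by
    have : LocallyOfFinitePresentation (i.left ≫ G.hom) := by
      rw [Over.w i]; infer_instance
    exact Ega43.FPOfComp.locallyOfFinitePresentation_of_comp i.left G.hom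
  exact inP_of_cover i g fun A _ a t => inP_of_affine i (inP_of_field i hpts) hinf (t ≫ g) (hN.comp t)

/-- **A smooth closed subgroup scheme `P` of a smooth affine group scheme `G` is its own normaliser** as soon as
on the geometric fibres this holds for rational points and for tangent vectors at the origin. -/
theorem isNormalizerOf (i : P ⟶ G) (hi : IsMonHom i) (hcl : IsClosedImmersion i.left) (hG : IsAffineHom G.hom)
    (hGs : Smooth G.hom) (hPs : Smooth P.hom)
    (hpts : ∀ (s : S) (g : 𝟙_ (Over (Spec (CommRingCat.of (AlgebraicClosure (S.residueField s))))) ⟶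
        Red.geomFibre s G),
      Nor ((Over.pullback (Red.geomPt s)).map i) g → InP ((Over.pullback (Red.geomPt s)).map i) g)
    (hinf : ∀ s : S, InfNor ((Over.pullback (Red.geomPt s)).map i)) : Red.IsNormalizerOf i i := by
  have hm : Mono i.left := inferInstance
  refine ⟨hi, Over.mono_of_mono_left i, fun X g => ⟨fun h => ?_, fun h => ?_⟩⟩
  · intro X' x k
    obtain ⟨z, hz⟩ := InP.nor (i := i) h X' x k
    obtain ⟨w, hw⟩ := InP.nor (i := i) (InP.inv h) X' x k
    refine ⟨⟨z, hz.symm⟩, ⟨w, ?_⟩⟩
    rw [hw, GrpObj.comp_inv, _root_.inv_inv]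
  · refine inP_of_nor i hi hcl hG hGs hPs hpts hinf g fun X' x k => ?_
    obtain ⟨z, hz⟩ := (h X' x k).1
    exact ⟨z, hz.symm⟩

end Groth.Agent.Sga3A.NormBase
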