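import Groth.Prelude.Def_Red2
import Groth.Agent.Sga3B.BcPts

set_option autoImplicit false
open CategoryTheory MonoidalCategory CartesianMonoidalCategory MonObj GrpObj AlgebraicGeometry
universe u

/-! Points of a group scheme normalising a subgroup: basic calculus. -/

namespace Groth.Agent.Sga3A.NormDefs

variable {S : Scheme.{u}} {G P : Over S} [GrpObj G] [GrpObj P]

/-- the point `g` lies in `P`. -/
def InP (i : P ⟶ G) {Y : Over S} (g : Y ⟶ G) : Prop := ∃ z : Y ⟶ P, z ≫ i = g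

/-- the point `g` conjugates `P` into itself. -/
def Nor (i : P ⟶ G) {Y : Over S} (g : Y ⟶ G) : Prop :=
  ∀ (X : Over S) (x : X ⟶ Y) (h : X ⟶ P), InP i ((x ≫ g) * (h ≫ i) * (x ≫ g)⁻¹)

variable {i : P ⟶ G}

omit [GrpObj G] [GrpObj P] in
lemma InP.comp {Y Y' : Over S} {g : Y ⟶ G} (h : InP i g) (y : Y' ⟶ Y) : InP i (y ≫ g) := by
  obtain ⟨z, rfl⟩ := h
  exact ⟨y ≫ z, by simp⟩

omit [GrpObj P] in
lemma Nor.comp {Y Y' : Over S} {g : Y ⟶ G} (h : Nor i g) (y : Y' ⟶ Y) : Nor i (y ≫ g) := by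
  intro X x k
  have := h X (x ≫ y) k
  simpa using this

variable [IsMonHom i]

lemma InP.mul {Y : Over S} {g h : Y ⟶ G} (hg : InP i g) (hh : InP i h) : InP i (g * h) := by
  obtain ⟨z, rfl⟩ := hg
  obtain ⟨w, rfl⟩ := hh
  exact ⟨z * w, MonObj.mul_comp z w i⟩

lemma InP.one {Y : Over S} : InP i (1 : Y ⟶ G) := ⟨1, MonObj.one_comp i⟩

lemma InP.inv {Y : Over S} {g : Y ⟶ G} (hg : InP i g) : InP i g⁻¹ := by
  obtain ⟨z, rfl⟩ := hg
  exact ⟨z⁻¹, GrpObj.inv_comp z i⟩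

omit [GrpObj P] [IsMonHom i] in
lemma comp_conj {Y Y' : Over S} (y : Y' ⟶ Y) (g h : Y ⟶ G) :
    y ≫ (g * h * g⁻¹) = (y ≫ g) * (y ≫ h) * (y ≫ g)⁻¹ := by
  simp [MonObj.comp_mul, GrpObj.comp_inv]

lemma InP.nor {Y : Over S} {g : Y ⟶ G} (hg : InP i g) : Nor i g := fun _ x k =>
  ((hg.comp x).mul ⟨k, rfl⟩).mul (hg.comp x).inv

omit [GrpObj P] [IsMonHom i] in
lemma Nor.mul {Y : Over S} {g h : Y ⟶ G} (hg : Nor i g) (hh : Nor i h) : Nor i (g * h) := by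
  intro X x k
  obtain ⟨k', hk'⟩ := hh X x k
  have := hg X x k'
  rw [hk'] at this
  have e : (x ≫ (g * h)) * (k ≫ i) * (x ≫ (g * h))⁻¹ =
      (x ≫ g) * ((x ≫ h) * (k ≫ i) * (x ≫ h)⁻¹) * (x ≫ g)⁻¹ := by
    rw [MonObj.comp_mul, _root_.mul_inv_rev]
    simp only [_root_.mul_assoc]
  rw [e]
  exact this

lemma Nor.one {Y : Over S} : Nor i (1 : Y ⟶ G) := InP.one.nor

/-- the universal conjugate -/
noncomputable def uconj (i : P ⟶ G) {Y : Over S} (g : Y ⟶ G) : Y ⊗ P ⟶ G :=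
  (fst Y P ≫ g) * (snd Y P ≫ i) * (fst Y P ≫ g)⁻¹

omit [GrpObj P] [IsMonHom i] in
lemma nor_iff {Y : Over S} {g : Y ⟶ G} : Nor i g ↔ InP i (uconj i g) := by
  refine ⟨fun h => h _ _ _, fun h X x k => ?_⟩
  have := h.comp (lift x k)
  rw [uconj, comp_conj] at this
  simpa using this

omit [GrpObj P] [IsMonHom i] in
lemma lift_uconj {Y X : Over S} (g : Y ⟶ G) (x : X ⟶ Y) (k : X ⟶ P) :
    lift x k ≫ uconj i g = (x ≫ g) * (k ≫ i) * (x ≫ g)⁻¹ := by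
  rw [uconj, comp_conj]
  simp

section bc

open Groth.Agent.Sga3B.BcPts

variable {S' : Scheme.{u}} (f : S' ⟶ S)

omit [GrpObj G] [GrpObj P] [IsMonHom i] in
lemma inP_bc_iff {T : Over S'} (x : (Over.map f).obj T ⟶ G) :
    InP ((Over.pullback f).map i) (bcEquiv f T G x) ↔ InP i x := by
  constructor
  · rintro ⟨z, hz⟩
    refine ⟨(bcEquiv f T P).symm z, ?_⟩
    rw [← bcEquiv_symm_comp, hz, Equiv.symm_apply_apply]
  · rintro ⟨z, rfl⟩
    exact ⟨bcEquiv f T P z, by rw [bcEquiv_comp]⟩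

omit [GrpObj P] [IsMonHom i] in
/-- a point of the base change which normalises the base change of `P` -/
lemma nor_bc {T : Over S'} {x : (Over.map f).obj T ⟶ G} (h : Nor i x) :
    Nor ((Over.pullback f).map i) (bcEquiv f T G x) := by
  intro X y k
  obtain ⟨k, rfl⟩ := (bcEquiv f X P).surjective k
  have h1 := h _ ((Over.map f).map y) k
  rw [← comp_bcEquiv, ← bcEquiv_comp]
  have h2 := (inP_bc_iff (i := i) f _).2 h1
  convert h2 using 1
  have h3 : (bcEquiv f X G ((Over.map f).map y ≫ x))⁻¹ =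
      bcEquiv f X G ((Over.map f).map y ≫ x)⁻¹ :=
    ((bcMulEquiv f X G).map_inv _).symm
  rw [h3, ← bcEquiv_mul, ← bcEquiv_mul]

end bc

end Groth.Agent.Sga3A.NormDefs
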