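import Groth.Agent.Sga3A.NormMain
import Groth.Agent.Books.PointsAC

set_option autoImplicit false
open CategoryTheory MonoidalCategory CartesianMonoidalCategory MonObj GrpObj AlgebraicGeometry Limits
universe u

/-! Points with values in fields: reduction to the geometric fibres. -/

namespace Groth.Agent.Sga3A.NormField

open NormDefs NormRing NormInf Groth.Agent.Sga3B.BcPts

variable {S : Scheme.{u}} {G P : Over S} [GrpObj G] [GrpObj P]

/-- points over an algebraically closed field, in terms of points over a smaller one. -/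
theorem inP_of_ext (i : P ⟶ G) [IsMonHom i]
    [IsClosedImmersion i.left] [LocallyOfFinitePresentation i.left] [IsAffineHom G.hom]
    [LocallyOfFiniteType G.hom] [IsAffineHom P.hom] [Flat P.hom]
    {K : Type u} [Field K] [IsAlgClosed K] (f : Spec (.of K) ⟶ S)
    (hpts : ∀ g : 𝟙_ (Over (Spec (CommRingCat.of K))) ⟶ Red.bc f G,
      Nor ((Over.pullback f).map i) g → InP ((Over.pullback f).map i) g)
    {L : Type u} [Field L] (j : K →+* L) {l : Spec (.of L) ⟶ S}
    (hl : Spec.map (CommRingCat.ofHom j) ≫ f = l) (g : Over.mk l ⟶ G) (hN : Nor i g) : InP i g := by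
  subst hl
  have haff : IsAffine (pullback G.hom f) := isAffine_of_isAffineHom (pullback.snd G.hom f)
  let E : Type u := Γ(pullback G.hom f, ⊤)
  obtain ⟨κ, hκ⟩ := Spec.map_surjective ((pullback G.hom f).isoSpec.inv ≫ pullback.snd G.hom f)
  have hκft : κ.hom.FiniteType := by
    have : LocallyOfFiniteType (Spec.map κ) := by
      rw [hκ]; infer_instance
    exact (HasRingHomProperty.Spec_iff (P := @LocallyOfFiniteType)).1 this
  let x : Spec (.of L) ⟶ pullback G.hom f := pullback.lift g.left (Spec.map (CommRingCat.ofHom j)) (by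
    simp)
  obtain ⟨α, hα⟩ := Spec.map_surjective (x ≫ (pullback G.hom f).isoSpec.hom)
  have hακ : α.hom.comp κ.hom = j := by
    have : κ ≫ α = CommRingCat.ofHom j := by
      apply Spec.map_injective
      rw [Spec.map_comp, hα, hκ]
      simp only [Category.assoc, Iso.hom_inv_id_assoc]
      exact pullback.lift_snd _ _ _
    exact congrArg CommRingCat.Hom.hom this
  let C : Subring L := α.hom.range
  let α' : E →+* C := α.hom.rangeRestrict
  let κC : K →+* C := α'.comp κ.hom
  let c : Spec (.of C) ⟶ S := Spec.map (CommRingCat.ofHom κC) ≫ f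
  let gC : Over.mk c ⟶ G := Over.homMk (Spec.map (CommRingCat.ofHom α') ≫ (pullback G.hom f).isoSpec.inv ≫
    pullback.fst G.hom f) (by
      simp only [Category.assoc, pullback.condition, Over.mk_hom, c, κC]
      rw [← Category.assoc _ (pullback.snd G.hom f), ← hκ, ← Category.assoc, ← Spec.map_comp]
      rfl)
  have hsub : Spec.map (CommRingCat.ofHom C.subtype) ≫ c = Spec.map (CommRingCat.ofHom j) ≫ f := by
    simp only [c]
    rw [← Category.assoc, ← Spec.map_comp, ← CommRingCat.ofHom_comp]
    congr 3
  have hgC : res C.subtype hsub ≫ gC = g := by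
    ext1
    simp only [Over.comp_left, res_left, gC, Over.homMk_left]
    rw [← Category.assoc, ← Spec.map_comp]
    have : CommRingCat.ofHom α' ≫ CommRingCat.ofHom C.subtype = α := by
      ext y; rfl
    rw [this, hα]
    simp only [Category.assoc, Iso.hom_inv_id_assoc]
    exact pullback.lift_fst _ _ _
  have hCN : Nor i gC := nor_of_injective i gC C.subtype Subtype.val_injective hsub (by rw [hgC]; exact hN)
  suffices h : InP i gC by
    rw [← hgC]
    exact h.comp _
  refine inP_of_family i gC fun y hy => ?_
  let := κC.toAlgebra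
  have hft : Algebra.FiniteType K C := by
    have h1 : κC.FiniteType := RingHom.FiniteType.comp (RingHom.FiniteType.of_surjective α'
      α.hom.rangeRestrict_surjective) hκft
    exact h1
  obtain ⟨τ, hτ⟩ : ∃ τ : C →ₐ[K] K, τ y ≠ 0 := by
    by_contra hcon
    push Not at hcon
    exact hy (Books.PointsAC.eq_zero_of_forall_point K C y hcon)
  have hτκ : τ.toRingHom.comp κC = RingHom.id K := by
    ext z
    exact τ.commutes z
  have hτc : Spec.map (CommRingCat.ofHom τ.toRingHom) ≫ c = f := by
    simp only [c]
    rw [← Category.assoc, ← Spec.map_comp, ← CommRingCat.ofHom_comp, hτκ]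
    exact (congrArg (· ≫ f) (Spec.map_id _)).trans (Category.id_comp _)
  refine ⟨K, inferInstance, f, τ.toRingHom, hτc, hτ, ?_⟩
  let e : (Over.map f).obj (𝟙_ (Over (Spec (CommRingCat.of K)))) ≅ Over.mk f :=
    Over.isoMk (Iso.refl _) (by simp)
  suffices h : InP i (e.hom ≫ res τ.toRingHom hτc ≫ gC) by
    have := h.comp e.inv
    rwa [Iso.inv_hom_id_assoc] at this
  rw [← inP_bc_iff (i := i) f]
  exact hpts _ (nor_bc _ ((hCN.comp _).comp _))

theorem inP_of_field (i : P ⟶ G) [IsMonHom i]
    [IsClosedImmersion i.left] [LocallyOfFinitePresentation i.left] [IsAffineHom G.hom]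
    [LocallyOfFiniteType G.hom] [IsAffineHom P.hom] [Flat P.hom]
    (hpts : ∀ (s : S) (g : 𝟙_ (Over (Spec (CommRingCat.of (AlgebraicClosure (S.residueField s))))) ⟶
        Red.geomFibre s G),
      Nor ((Over.pullback (Red.geomPt s)).map i) g → InP ((Over.pullback (Red.geomPt s)).map i) g)
    (K : Type u) [Field K] (k : Spec (.of K) ⟶ S) (g : Over.mk k ⟶ G) (hN : Nor i g) : InP i g := by
  refine inP_of_injective i g (algebraMap K (AlgebraicClosure K))
    (algebraMap K (AlgebraicClosure K)).injective rfl ?_
  obtain ⟨s, α, hα⟩ : ∃ (s : S) (α : S.residueField s ⟶ .of K), k = Spec.map α ≫ S.fromSpecResidueField s := by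
    refine ⟨_, (Scheme.SpecToEquivOfField K S k).2, ?_⟩
    exact ((Scheme.SpecToEquivOfField K S).symm_apply_apply k).symm
  let β : S.residueField s →+* AlgebraicClosure K := (algebraMap K (AlgebraicClosure K)).comp α.hom
  let := β.toAlgebra
  let j : AlgebraicClosure (S.residueField s) →ₐ[S.residueField s] AlgebraicClosure K := IsAlgClosed.lift
  refine inP_of_ext i (Red.geomPt s) (hpts s) j.toRingHom ?_ _ (hN.comp _)
  have hj : j.toRingHom.comp (algebraMap (S.residueField s) (AlgebraicClosure (S.residueField s))) = β :=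
    j.comp_algebraMap
  rw [hα]
  simp only [Red.geomPt]
  rw [← Category.assoc, ← Category.assoc, ← Spec.map_comp, ← Spec.map_comp, ← CommRingCat.ofHom_comp, hj]
  rfl

end Groth.Agent.Sga3A.NormField
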