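import Groth.Agent.Sga3A.NormRing
import Mathlib.Algebra.DualNumber

set_option autoImplicit false
open CategoryTheory MonoidalCategory CartesianMonoidalCategory MonObj GrpObj AlgebraicGeometry Limits
universe u

/-! Infinitesimal part of the normaliser of a smooth subgroup. -/

namespace Groth.Agent.Sga3A.NormInf

open NormDefs NormRing Groth.Agent.Sga3B.BcPts

/-- Every tangent vector of `H` at the origin which normalises `Q` is a tangent vector of `Q`. -/
def InfNor {K : Type u} [Field K] {H Q : Over (Spec (CommRingCat.of K))} [GrpObj H] (j : Q ⟶ H) : Prop :=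
  ∀ (h : Over.mk (Spec.map (CommRingCat.ofHom (algebraMap K (DualNumber K)))) ⟶ H),
    (res (TrivSqZeroExt.fstHom K K K).toRingHom (a := Spec.map (CommRingCat.ofHom (algebraMap K (DualNumber K))))
      (c := 𝟙 _) (by
        rw [← Spec.map_comp, ← CommRingCat.ofHom_comp]
        exact Spec.map_id _) ≫ h = 1) → Nor j h → InP j h

lemma exists_lam {R A K : Type u} [CommRing R] [IsLocalRing R] [CommRing A] [Field K] (φ : R →+* A) (I : Ideal A)
    (hI : ∀ r ∈ IsLocalRing.maximalIdeal R, ∀ x ∈ I, φ r * x = 0) (θ : R →+* K)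
    (hθ : ∀ r ∈ IsLocalRing.maximalIdeal R, θ r = 0) (x : I) (hx : x ≠ 0) :
    ∃ l : I →+ K, (∀ (r : R) (y : I), l (φ r • y) = θ r * l y) ∧ l x ≠ 0 := by
  let := φ.toAlgebra
  have ht : Module.IsTorsionBySet R I (IsLocalRing.maximalIdeal R) := by
    intro y r
    ext
    have := hI r.1 r.2 y.1 y.2
    rw [Submodule.coe_smul_of_tower]
    exact (Algebra.smul_def _ _).trans this
  let := ht.module
  let := Ideal.Quotient.field (IsLocalRing.maximalIdeal R)
  obtain ⟨f, hf⟩ : ∃ f : Module.Dual (R ⧸ IsLocalRing.maximalIdeal R) I, f x ≠ 0 := by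
    by_contra hcon
    push Not at hcon
    exact hx ((Module.forall_dual_apply_eq_zero_iff (R ⧸ IsLocalRing.maximalIdeal R) x).1 hcon)
  let κ : (R ⧸ IsLocalRing.maximalIdeal R) →+* K := Ideal.Quotient.lift _ θ hθ
  refine ⟨κ.toAddMonoidHom.comp f.toAddMonoidHom, fun r y => ?_, ?_⟩
  · have h1 : φ r • y = (Ideal.Quotient.mk (IsLocalRing.maximalIdeal R) r) • y := rfl
    change κ (f (φ r • y)) = θ r * κ (f y)
    rw [h1, map_smul, smul_eq_mul, map_mul]
    rfl
  · change κ (f x) ≠ 0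
    rwa [Ne, map_eq_zero]

section Ring

variable {R A K : Type u} [CommRing R] [CommRing A] [Field K] (φ : R →+* A) (I : Ideal A)

/-- the fibre product `R ×_{A/I} A` -/
abbrev Bp : Subring (R × A) :=
  RingHom.eqLocus (((Ideal.Quotient.mk I).comp φ).comp (RingHom.fst R A))
    ((Ideal.Quotient.mk I).comp (RingHom.snd R A))

lemma mem_Bp {x : R × A} : x ∈ Bp φ I ↔ x.2 - φ x.1 ∈ I := by
  rw [RingHom.mem_eqLocus, ← neg_mem_iff, neg_sub, ← Ideal.Quotient.eq_zero_iff_mem, map_sub, sub_eq_zero]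
  rfl

/-- the section `R → R ×_{A/I} A` -/
def bet : R →+* Bp φ I := ((RingHom.id R).prod φ).codRestrict (Bp φ I) fun r => by
  rw [mem_Bp]; simp

def p1 : Bp φ I →+* R := (RingHom.fst R A).comp (Bp φ I).subtype
def p2 : Bp φ I →+* A := (RingHom.snd R A).comp (Bp φ I).subtype

@[simp] lemma p1_bet : (p1 φ I).comp (bet φ I) = RingHom.id R := rfl
@[simp] lemma p2_bet : (p2 φ I).comp (bet φ I) = φ := rfl

/-- the component in `I` -/
def dif (x : Bp φ I) : I := ⟨x.1.2 - φ x.1.1, (mem_Bp φ I).1 x.2⟩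

lemma dif_one : dif φ I 1 = 0 := by ext; simp [dif]
lemma dif_zero : dif φ I 0 = 0 := by ext; simp [dif]
lemma dif_add (x y : Bp φ I) : dif φ I (x + y) = dif φ I x + dif φ I y := by
  ext; simp [dif]; ring
lemma dif_mul (hI : ∀ x ∈ I, ∀ y ∈ I, x * y = 0) (x y : Bp φ I) :
    dif φ I (x * y) = φ x.1.1 • dif φ I y + φ y.1.1 • dif φ I x := by
  have h1 := hI _ (dif φ I x).2 _ (dif φ I y).2
  ext
  simp only [dif] at h1 ⊢
  simp
  linear_combination h1
lemma dif_bet (r : R) : dif φ I (bet φ I r) = 0 := by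
  ext
  exact sub_self (φ r)

/-- specialisation to the dual numbers -/
def spec (hI : ∀ x ∈ I, ∀ y ∈ I, x * y = 0) (θ : R →+* K) (l : I →+ K)
    (hl : ∀ (r : R) (y : I), l (φ r • y) = θ r * l y) : Bp φ I →+* DualNumber K where
  toFun x := TrivSqZeroExt.inl (θ x.1.1) + TrivSqZeroExt.inr (l (dif φ I x))
  map_one' := by
    rw [dif_one]
    ext <;> simp
  map_zero' := by
    rw [dif_zero]
    ext <;> simp
  map_add' x y := by
    rw [dif_add]
    ext <;> simp
  map_mul' x y := by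
    rw [dif_mul φ I hI, map_add, hl, hl]
    ext
    · simp
    · simp
      ring

variable (hI : ∀ x ∈ I, ∀ y ∈ I, x * y = 0) (θ : R →+* K) (l : I →+ K)
    (hl : ∀ (r : R) (y : I), l (φ r • y) = θ r * l y)

lemma spec_apply (x : Bp φ I) : spec φ I hI θ l hl x =
    TrivSqZeroExt.inl (θ x.1.1) + TrivSqZeroExt.inr (l (dif φ I x)) := rfl

lemma spec_bet : (spec φ I hI θ l hl).comp (bet φ I) = (algebraMap K (DualNumber K)).comp θ := by
  ext1 r
  rw [RingHom.comp_apply, spec_apply, dif_bet]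
  ext
  · simp [bet, TrivSqZeroExt.algebraMap_eq_inl]
  · simp [bet, TrivSqZeroExt.algebraMap_eq_inl]

lemma fst_spec : (TrivSqZeroExt.fstHom K K K).toRingHom.comp (spec φ I hI θ l hl) = θ.comp (p1 φ I) := by
  ext x
  simp [spec_apply, p1]

lemma spec_snd (x : Bp φ I) (hx : x.1.1 = 0) (y : I) (hy : x.1.2 = y.1) :
    (spec φ I hI θ l hl x).snd = l y := by
  have : dif φ I x = y := by ext; simp [dif, hx, hy]
  simp [spec_apply, this]

end Ring

lemma exists_glue {R A : Type u} [CommRing R] [CommRing A] (φ : R →+* A) (I : Ideal A) (X : Scheme.{u})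
    [IsAffine X] (x₁ : Spec (.of R) ⟶ X) (x₂ : Spec (.of A) ⟶ X)
    (h : Spec.map (CommRingCat.ofHom ((Ideal.Quotient.mk I).comp φ)) ≫ x₁ =
      Spec.map (CommRingCat.ofHom (Ideal.Quotient.mk I)) ≫ x₂) :
    ∃ x : Spec (.of (Bp φ I)) ⟶ X, Spec.map (CommRingCat.ofHom (p1 φ I)) ≫ x = x₁ ∧
      Spec.map (CommRingCat.ofHom (p2 φ I)) ≫ x = x₂ := by
  obtain ⟨α₁, hα₁⟩ := Spec.map_surjective (x₁ ≫ X.isoSpec.hom)
  obtain ⟨α₂, hα₂⟩ := Spec.map_surjective (x₂ ≫ X.isoSpec.hom)
  have h1 : α₁ ≫ CommRingCat.ofHom ((Ideal.Quotient.mk I).comp φ) = α₂ ≫ CommRingCat.ofHom (Ideal.Quotient.mk I) := by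
    apply Spec.map_injective
    rw [Spec.map_comp, Spec.map_comp, hα₁, hα₂, ← Category.assoc, ← Category.assoc, h]
  let α : Γ(X, ⊤) →+* Bp φ I := (α₁.hom.prod α₂.hom).codRestrict (Bp φ I) fun y =>
    congr(CommRingCat.Hom.hom $h1 y)
  refine ⟨Spec.map (CommRingCat.ofHom α) ≫ X.isoSpec.inv, ?_, ?_⟩
  · rw [← Category.assoc, ← Spec.map_comp, Iso.comp_inv_eq, ← hα₁]
    rfl
  · rw [← Category.assoc, ← Spec.map_comp, Iso.comp_inv_eq, ← hα₂]
    rfl

variable {S : Scheme.{u}} {G P : Over S} [GrpObj G] [GrpObj P]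

theorem inP_of_inf (i : P ⟶ G) [IsMonHom i]
    [IsClosedImmersion i.left] [LocallyOfFinitePresentation i.left] [IsAffineHom G.hom]
    [IsAffineHom P.hom] [Flat P.hom]
    (s : S) (hinf : InfNor ((Over.pullback (Red.geomPt s)).map i))
    {A : Type u} [CommRing A] (φ : S.presheaf.stalk s →+* A) (I : Ideal A)
    (hI : ∀ x ∈ I, ∀ y ∈ I, x * y = 0)
    (hmI : ∀ r ∈ IsLocalRing.maximalIdeal (S.presheaf.stalk s), ∀ x ∈ I, φ r * x = 0)
    {a : Spec (.of A) ⟶ S} (ha : Spec.map (CommRingCat.ofHom φ) ≫ S.fromSpecStalk s = a)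
    (h : Over.mk a ⟶ G) {c : Spec (.of (A ⧸ I)) ⟶ S}
    (hc : Spec.map (CommRingCat.ofHom (Ideal.Quotient.mk I)) ≫ a = c)
    (h1 : res (Ideal.Quotient.mk I) hc ≫ h = 1)
    (hN : Nor i h) : InP i h := by
  let R : Type u := S.presheaf.stalk s
  let ρ : Spec (.of R) ⟶ S := S.fromSpecStalk s
  have haff : IsAffine (pullback G.hom ρ) := isAffine_of_isAffineHom (pullback.snd G.hom ρ)
  let x₁ : Spec (.of R) ⟶ pullback G.hom ρ := pullback.lift (1 : Over.mk ρ ⟶ G).left (𝟙 _) (by
    rw [Over.w (1 : Over.mk ρ ⟶ G)]; simp)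
  let x₂ : Spec (.of A) ⟶ pullback G.hom ρ := pullback.lift h.left (Spec.map (CommRingCat.ofHom φ)) (by
    rw [Over.w h]; exact ha.symm)
  have hcompat : Spec.map (CommRingCat.ofHom ((Ideal.Quotient.mk I).comp φ)) ≫ x₁ =
      Spec.map (CommRingCat.ofHom (Ideal.Quotient.mk I)) ≫ x₂ := by
    apply pullback.hom_ext
    · simp only [x₁, x₂, Category.assoc, pullback.lift_fst]
      have h2 : res ((Ideal.Quotient.mk I).comp φ) (a := ρ) (c := c) (by
          rw [← hc, ← ha, CommRingCat.ofHom_comp, Spec.map_comp, Category.assoc]) ≫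
          (1 : Over.mk ρ ⟶ G) = res (Ideal.Quotient.mk I) hc ≫ h := by
        rw [h1, MonObj.comp_one]
      exact congr(($h2).left)
    · simp only [x₁, x₂, Category.assoc, pullback.lift_snd, CommRingCat.ofHom_comp, Spec.map_comp]
      erw [Category.comp_id]
  obtain ⟨x, hx1, hx2⟩ := exists_glue φ I (pullback G.hom ρ) x₁ x₂ hcompat
  have hxsnd : x ≫ pullback.snd G.hom ρ = Spec.map (CommRingCat.ofHom (bet φ I)) := by
    obtain ⟨β, hβ⟩ := Spec.map_surjective (x ≫ pullback.snd G.hom ρ)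
    have e1 : β ≫ CommRingCat.ofHom (p1 φ I) = 𝟙 _ := by
      apply Spec.map_injective
      rw [Spec.map_comp, hβ, ← Category.assoc, hx1, pullback.lift_snd, Spec.map_id]
    have e2 : β ≫ CommRingCat.ofHom (p2 φ I) = CommRingCat.ofHom φ := by
      apply Spec.map_injective
      rw [Spec.map_comp, hβ, ← Category.assoc, hx2, pullback.lift_snd]
    rw [← hβ]
    congr 1
    ext r
    · exact congr(CommRingCat.Hom.hom $e1 r)
    · exact congr(CommRingCat.Hom.hom $e2 r)
  let b : Spec (.of (Bp φ I)) ⟶ S := Spec.map (CommRingCat.ofHom (bet φ I)) ≫ ρ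
  let g : Over.mk b ⟶ G := Over.homMk (x ≫ pullback.fst G.hom ρ) (by
    simp only [b, Category.assoc, pullback.condition, Over.mk_hom]
    rw [← Category.assoc, hxsnd])
  have hb1 : Spec.map (CommRingCat.ofHom (p1 φ I)) ≫ b = ρ := by
    simp only [b]
    rw [← Category.assoc, ← Spec.map_comp, ← CommRingCat.ofHom_comp, p1_bet]
    exact (congrArg (· ≫ ρ) (Spec.map_id _)).trans (Category.id_comp _)
  have hb2 : Spec.map (CommRingCat.ofHom (p2 φ I)) ≫ b = a := by
    simp only [b]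
    rw [← Category.assoc, ← Spec.map_comp, ← CommRingCat.ofHom_comp, p2_bet, ← ha]
  have hg1 : res (p1 φ I) hb1 ≫ g = 1 := by
    ext1
    simp only [Over.comp_left, res_left, g, Over.homMk_left]
    rw [← Category.assoc, hx1, pullback.lift_fst]
  have hg2 : res (p2 φ I) hb2 ≫ g = h := by
    ext1
    simp only [Over.comp_left, res_left, g, Over.homMk_left]
    rw [← Category.assoc, hx2, pullback.lift_fst]
  have hgN : Nor i g := nor_of_pair i g (p1 φ I) (p2 φ I) (fun y h1 h2 => by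
      ext
      · exact h1
      · exact h2) hb1 hb2 (by rw [hg1]; exact Nor.one) (by rw [hg2]; exact hN)
  suffices hg : InP i g by
    rw [← hg2]
    exact hg.comp _
  let K : Type u := AlgebraicClosure (S.residueField s)
  let θ : R →+* K := (algebraMap (S.residueField s) K).comp (S.residue s).hom
  have hθ : ∀ r ∈ IsLocalRing.maximalIdeal R, θ r = 0 := by
    intro r hr
    have : (S.residue s).hom r = 0 := by
      exact (IsLocalRing.residue_eq_zero_iff r).2 hr
    simp [θ, this]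
  have hρ : Spec.map (CommRingCat.ofHom θ) ≫ ρ = Red.geomPt s := by
    simp only [Red.geomPt, Scheme.fromSpecResidueField, ρ, θ]
    rw [CommRingCat.ofHom_comp, Spec.map_comp, Category.assoc]
    rfl
  refine inP_of_family i g fun y hy => ?_
  by_cases hy1 : y.1.1 = 0
  · have hmem : y.1.2 ∈ I := by
      have := (mem_Bp φ I).1 y.2
      rwa [hy1, map_zero, sub_zero] at this
    have hne : (⟨y.1.2, hmem⟩ : I) ≠ 0 := by
      intro h0
      apply hy
      ext
      · exact hy1
      · exact congr(($h0).1)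
    obtain ⟨l, hl, hlx⟩ := exists_lam φ I hmI θ hθ _ hne
    let sp := spec φ I hI θ l hl
    have hsp : Spec.map (CommRingCat.ofHom sp) ≫ b =
        Spec.map (CommRingCat.ofHom (algebraMap K (DualNumber K))) ≫ Red.geomPt s := by
      simp only [b]
      rw [← hρ, ← Category.assoc, ← Category.assoc, ← Spec.map_comp, ← Spec.map_comp,
        ← CommRingCat.ofHom_comp, ← CommRingCat.ofHom_comp, spec_bet]
    refine ⟨DualNumber K, inferInstance, _, sp, hsp, ?_, ?_⟩
    · intro h0
      apply hlx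
      rw [← spec_snd φ I hI θ l hl y hy1 ⟨y.1.2, hmem⟩ rfl]
      change (sp y).snd = 0
      rw [h0]
      rfl
    · let T : Over (Spec (CommRingCat.of K)) := Over.mk (Spec.map (CommRingCat.ofHom (algebraMap K (DualNumber K))))
      let gl : (Over.map (Red.geomPt s)).obj T ⟶ G := res sp hsp ≫ g
      change InP i gl
      rw [← inP_bc_iff (i := i) (Red.geomPt s)]
      refine hinf _ ?_ (nor_bc _ (hgN.comp _))
      rw [← comp_bcEquiv, ← bcEquiv_one]
      congr 1
      let w : (Over.map (Red.geomPt s)).obj (Over.mk (𝟙 _)) ⟶ Over.mk ρ :=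
        Over.homMk (Spec.map (CommRingCat.ofHom θ)) (by simpa using hρ)
      have hw : ∀ t : Over.mk (𝟙 _) ⟶ T, t.left = Spec.map (CommRingCat.ofHom (TrivSqZeroExt.fstHom K K K).toRingHom) →
          (Over.map (Red.geomPt s)).map t ≫ res sp hsp = w ≫ res (p1 φ I) hb1 := by
        intro t ht
        ext1
        simp only [Over.comp_left, res_left, Over.map_map_left, w, Over.homMk_left]
        rw [ht, ← Spec.map_comp, ← Spec.map_comp, ← CommRingCat.ofHom_comp, ← CommRingCat.ofHom_comp]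
        congr 2
        exact fst_spec φ I hI θ l hl
      simp only [gl]
      rw [← Category.assoc, hw _ rfl, Category.assoc, hg1, MonObj.comp_one]
  · exact ⟨R, inferInstance, ρ, p1 φ I, hb1, hy1, by rw [hg1]; exact InP.one⟩

end Groth.Agent.Sga3A.NormInf
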