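import Groth.Agent.Sga3A.NormInf
import Groth.Agent.Flat2H.FSSmoothHom

set_option autoImplicit false
open CategoryTheory MonoidalCategory CartesianMonoidalCategory MonObj GrpObj AlgebraicGeometry Limits
universe u

/-! A smooth closed subgroup is its own normaliser if this holds on geometric points and infinitesimally. -/

namespace Groth.Agent.Sga3A.NormMain

open NormDefs NormRing NormInf Groth.Agent.Sga3B.BcPts

variable {S : Scheme.{u}} {G P : Over S} [GrpObj G] [GrpObj P]

/-- local step -/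
theorem inP_of_local (i : P ⟶ G) [IsMonHom i]
    [IsClosedImmersion i.left] [LocallyOfFinitePresentation i.left] [IsAffineHom G.hom]
    [IsAffineHom P.hom] [Smooth P.hom]
    (hinf : ∀ s : S, InfNor ((Over.pullback (Red.geomPt s)).map i))
    {A : Type u} [CommRing A] [IsLocalRing A] (I : Ideal A)
    (hImax : I ≤ IsLocalRing.maximalIdeal A)
    (hI : ∀ x ∈ IsLocalRing.maximalIdeal A, ∀ y ∈ I, x * y = 0)
    {a : Spec (.of A) ⟶ S} (g : Over.mk a ⟶ G) {c : Spec (.of (A ⧸ I)) ⟶ S}
    (hc : Spec.map (CommRingCat.ofHom (Ideal.Quotient.mk I)) ≫ a = c)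
    (h1 : InP i (res (Ideal.Quotient.mk I) hc ≫ g))
    (hN : Nor i g) : InP i g := by
  obtain ⟨z₀, hz₀⟩ := h1
  have hI2 : I ^ 2 = ⊥ := by
    rw [pow_two, eq_bot_iff, Ideal.mul_le]
    intro x hx y hy
    rw [hI x (hImax hx) y hy]
    exact zero_mem _
  obtain ⟨l, hl1, hl2⟩ := Flat2H.FSSmoothHom.isFormallySmoothHom_of_smooth P.hom A I hI2 z₀.left a (by
    rw [hc]
    exact (Over.w z₀).symm)
  let z : Over.mk a ⟶ P := Over.homMk l hl2
  have hz : res (Ideal.Quotient.mk I) hc ≫ z = z₀ := by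
    ext1
    exact hl1
  let h : Over.mk a ⟶ G := (z ≫ i)⁻¹ * g
  have hg : g = (z ≫ i) * h := by simp [h]
  have hres : res (Ideal.Quotient.mk I) hc ≫ h = 1 := by
    simp only [h]
    rw [MonObj.comp_mul, GrpObj.comp_inv, ← Category.assoc, hz, hz₀]
    exact inv_mul_cancel _
  have hzN : Nor i (z ≫ i)⁻¹ := (InP.inv ⟨z, rfl⟩).nor
  have hhN : Nor i h := hzN.mul hN
  rw [hg]
  refine InP.mul ⟨z, rfl⟩ ?_
  let s : S := a (IsLocalRing.closedPoint A)
  have hloc : IsLocalHom (Scheme.stalkClosedPointTo a).hom := inferInstance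
  refine inP_of_inf i s (hinf s) (Scheme.stalkClosedPointTo a).hom I
    (fun x hx y hy => hI x (hImax hx) y hy) (fun r hr x hx => hI _ ?_ x hx)
    (a := a) (Scheme.Spec_stalkClosedPointTo_fromSpecStalk a) h hc hres hhN
  exact (IsLocalRing.mem_maximalIdeal _).2
    (fun hu => (IsLocalRing.mem_maximalIdeal r).1 hr (hloc.map_nonunit r hu))

/-- The affine case. -/
theorem inP_of_affine (i : P ⟶ G) [IsMonHom i]
    [IsClosedImmersion i.left] [LocallyOfFinitePresentation i.left] [IsAffineHom G.hom]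
    [IsAffineHom P.hom] [Smooth P.hom]
    (hfield : ∀ (K : Type u) [Field K] (k : Spec (.of K) ⟶ S) (g : Over.mk k ⟶ G), Nor i g → InP i g)
    (hinf : ∀ s : S, InfNor ((Over.pullback (Red.geomPt s)).map i))
    {A : Type u} [CommRing A] {a : Spec (.of A) ⟶ S} (g : Over.mk a ⟶ G) (hN : Nor i g) :
    InP i g := by
  obtain ⟨I, hfg, hI⟩ := exists_ideal_over i g
  suffices h0 : I = ⊥ by
    have h1 := (hI A a (RingHom.id A) (by simp)).2 (h0 ▸ bot_le)
    rwa [res_id, Category.id_comp] at h1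
  have hprime : ∀ p : Ideal A, [p.IsPrime] → I ≤ p := by
    intro p _
    have h1 := (hI p.ResidueField _ (algebraMap A p.ResidueField) rfl).1 (hfield _ _ _ (hN.comp _))
    rwa [Ideal.ker_algebraMap_residueField] at h1
  apply ideal_eq_bot_of_localization' I
  intro m hm
  let L : Type u := Localization.AtPrime m
  let J : Ideal L := I.map (algebraMap A L)
  have hJfg : J.FG := hfg.map _
  have hJmax : J ≤ IsLocalRing.maximalIdeal L := by
    rw [Ideal.map_le_iff_le_comap]
    exact (hprime m).trans (IsLocalization.AtPrime.under_maximalIdeal L m).ge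
  change J = ⊥
  refine Submodule.eq_bot_of_le_smul_of_le_jacobson_bot (IsLocalRing.maximalIdeal L) J hJfg ?_
    (IsLocalRing.maximalIdeal_le_jacobson _)
  let N : Ideal L := IsLocalRing.maximalIdeal L • J
  change J ≤ N
  have hNJ : N ≤ J := Ideal.mul_le_right
  have hNmax : N ≤ IsLocalRing.maximalIdeal L := hNJ.trans hJmax
  have hnt : Nontrivial (L ⧸ N) := Ideal.Quotient.nontrivial_iff.2
    (fun h => (IsLocalRing.maximalIdeal.isMaximal L).ne_top (top_le_iff.1 (h ▸ hNmax)))
  have hloc : IsLocalRing (L ⧸ N) := IsLocalRing.of_surjective' (Ideal.Quotient.mk N) Ideal.Quotient.mk_surjective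
  let ψ : A →+* L ⧸ N := (Ideal.Quotient.mk N).comp (algebraMap A L)
  let I' : Ideal (L ⧸ N) := J.map (Ideal.Quotient.mk N)
  have hmax : IsLocalRing.maximalIdeal (L ⧸ N) = (IsLocalRing.maximalIdeal L).map (Ideal.Quotient.mk N) := by
    have := Ideal.IsMaximal.map_of_surjective_of_ker_le (f := Ideal.Quotient.mk N)
      Ideal.Quotient.mk_surjective (m := IsLocalRing.maximalIdeal L) (by simpa using hNmax)
    exact (IsLocalRing.eq_maximalIdeal this).symm
  have h1 : InP i (res ψ rfl ≫ g) := by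
    refine inP_of_local i hinf I' ?_ ?_ (res ψ rfl ≫ g) rfl ?_ (hN.comp _)
    · rw [hmax]
      exact Ideal.map_mono hJmax
    · rw [hmax]
      intro x hx y hy
      obtain ⟨x', hx', rfl⟩ := (Ideal.mem_map_iff_of_surjective _ Ideal.Quotient.mk_surjective).1 hx
      obtain ⟨y', hy', rfl⟩ := (Ideal.mem_map_iff_of_surjective _ Ideal.Quotient.mk_surjective).1 hy
      rw [← map_mul, Ideal.Quotient.eq_zero_iff_mem]
      exact Ideal.mul_mem_mul hx' hy'
    · have h5 := res_comp (S := S) (D := (L ⧸ N) ⧸ I') ψ (Ideal.Quotient.mk I') (a := a) rfl rfl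
      have h6 := congr($h5 ≫ g)
      rw [Category.assoc] at h6
      rw [h6, hI]
      intro x hx
      rw [RingHom.mem_ker, RingHom.comp_apply, Ideal.Quotient.eq_zero_iff_mem]
      exact Ideal.mem_map_of_mem _ (Ideal.mem_map_of_mem _ hx)
  have h2 := (hI _ _ _ _).1 h1
  change I.map (algebraMap A L) ≤ N
  rw [Ideal.map_le_iff_le_comap]
  intro x hx
  have h3 : ψ x = 0 := h2 hx
  exact (Ideal.Quotient.eq_zero_iff_mem (I := N)).1 h3

end Groth.Agent.Sga3A.NormMain
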