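import Groth.Agent.Sga3A.NormTorus
import Groth.Agent.Sga3B.RG.BrTorus
import Groth.Agent.Sga3B.RG.BrMax
import Groth.Agent.Sga3B.ParBc

set_option autoImplicit false
universe u

open CategoryTheory MonoidalCategory CartesianMonoidalCategory MonObj GrpObj AlgebraicGeometry

/-! SGA 3 XXII 5.8.5: a parabolic subgroup is its own normaliser, from the statement for rational points and the
existence of a torus whose centraliser is contained in the parabolic subgroup over algebraically closed fields. -/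

namespace Groth.Agent.Sga3A.NormParab

open NormDefs

/-- Every parabolic subgroup over an algebraically closed field contains a torus together with its centraliser. -/
def TorusInParab : Prop :=
  ∀ (K : Type u) [Field K] [IsAlgClosed K] (H Q : Over (Spec (CommRingCat.of K))) [GrpObj H] [GrpObj Q]
    (j : Q ⟶ H), Red.IsReductiveOver K H → Red.IsParabolicOver K j →
    ∃ (T : Over (Spec (CommRingCat.of K))) (_ : GrpObj T) (t : T ⟶ Q), IsMonHom t ∧ Red.IsTorus T ∧
      ∀ (X : Over (Spec (CommRingCat.of K))) (x : X ⟶ H),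
        (∀ (X' : Over (Spec (CommRingCat.of K))) (y : X' ⟶ X) (s : X' ⟶ T),
          (y ≫ x) * (s ≫ t ≫ j) = (s ≫ t ≫ j) * (y ≫ x)) → ∃ z : X ⟶ Q, z ≫ j = x

/-- over an algebraically closed field the absolute notion gives the relative one -/
theorem isReductive_of_over {K : Type u} [Field K] [IsAlgClosed K] {H : Over (Spec (CommRingCat.of K))} [GrpObj H]
    (h : Red.IsReductiveOver K H) : Red.IsReductive H := by
  have h1 := h.1
  refine ⟨(HasAffineProperty.iff_of_isAffine (P := @IsAffineHom)).2 h1, h.2.1, fun s => ?_⟩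
  exact Sga3B.RedIso.isReductiveOver_bc (Red.geomPt s) h

theorem isParabolic_of_over {K : Type u} [Field K] [IsAlgClosed K] {H Q : Over (Spec (CommRingCat.of K))} [GrpObj H]
    [GrpObj Q] {j : Q ⟶ H} (h : Red.IsParabolicOver K j) : Red.IsParabolic j :=
  ⟨h.1, h.2.1, h.2.2.1, fun s => Sga3B.ParBc.isParabolicOver_bc (Red.geomPt s) h⟩

theorem isBorel_of_over {K : Type u} [Field K] [IsAlgClosed K] {H Q : Over (Spec (CommRingCat.of K))} [GrpObj H]
    [GrpObj Q] {j : Q ⟶ H} (h : Red.IsBorelOver K j) : Red.IsBorel j :=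
  ⟨h.1, h.2.1, h.2.2.1, fun s => Sga3B.ParBc.isBorelOver_bc (Red.geomPt s) h⟩

theorem parabolic_eq_normalizer (htor : TorusInParab.{u})
    (hBible : ∀ (K : Type u) [Field K] [IsAlgClosed K] (H Q : Over (Spec (CommRingCat.of K))) [GrpObj H] [GrpObj Q]
      (j : Q ⟶ H), Red.IsReductive H → Red.IsParabolic j → ∀ g : 𝟙_ (Over (Spec (CommRingCat.of K))) ⟶ H,
        (∀ (Y : Over (Spec (CommRingCat.of K))) (q : Y ⟶ Q), ∃ q' : Y ⟶ Q,
          (toUnit Y ≫ g) * (q ≫ j) * (toUnit Y ≫ g)⁻¹ = q' ≫ j) →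
        ∃ q : 𝟙_ (Over (Spec (CommRingCat.of K))) ⟶ Q, q ≫ j = g)
    {S : Scheme.{u}} {G P : Over S} [GrpObj G] [GrpObj P] (hG : Red.IsReductive G)
    (i : P ⟶ G) (hP : Red.IsParabolic i) : Red.IsNormalizerOf i i := by
  refine NormBase.isNormalizerOf i hP.1 hP.2.1 hG.1 hG.2.1 hP.2.2.1 ?_ ?_
  · intro s g hg
    have hred := isReductive_of_over (hG.2.2 s)
    have hpar := isParabolic_of_over (hP.2.2.2 s)
    obtain ⟨q, hq⟩ := hBible _ _ _ _ hred hpar g (fun Y q => by
      obtain ⟨q', hq'⟩ := hg Y (toUnit Y) q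
      exact ⟨q', hq'.symm⟩)
    exact ⟨q, hq⟩
  · intro s
    have hred := hG.2.2 s
    have hpar := hP.2.2.2 s
    obtain ⟨T, _, t, ht, hT, hcent⟩ := htor _ _ _ _ hred hpar
    obtain ⟨n, e, he⟩ := Sga3B.RG.BrTorus.isTorus_iff.1 hT
    have := hred.1
    have := hpar.1
    have := hpar.2.1
    exact NormTorus.infNor_of_torus _ e t hcent

end Groth.Agent.Sga3A.NormParab
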