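import Groth.Agent.Sga3A.NormDefs
import Groth.Agent.Ega43.FPOfComp

set_option autoImplicit false
open CategoryTheory MonoidalCategory CartesianMonoidalCategory MonObj GrpObj AlgebraicGeometry Limits
universe u
open scoped TensorProduct

/-! Points of a group scheme normalising a closed subgroup: descent along injective ring maps. -/

namespace Groth.Agent.Sga3A.NormRing

open NormDefs

variable {S : Scheme.{u}}

/-- the morphism of `S`-schemes attached to a ring map -/
noncomputable def res {A C : Type u} [CommRing A] [CommRing C] (φ : A →+* C) {a : Spec (.of A) ⟶ S}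
    {c : Spec (.of C) ⟶ S} (h : Spec.map (CommRingCat.ofHom φ) ≫ a = c) : Over.mk c ⟶ Over.mk a :=
  Over.homMk (Spec.map (CommRingCat.ofHom φ)) h

@[simp] lemma res_left {A C : Type u} [CommRing A] [CommRing C] (φ : A →+* C) {a : Spec (.of A) ⟶ S}
    {c : Spec (.of C) ⟶ S} (h : Spec.map (CommRingCat.ofHom φ) ≫ a = c) :
    (res φ h).left = Spec.map (CommRingCat.ofHom φ) := rfl

lemma res_comp {A C D : Type u} [CommRing A] [CommRing C] [CommRing D] (φ : A →+* C) (ψ : C →+* D)
    {a : Spec (.of A) ⟶ S} {c : Spec (.of C) ⟶ S} {d : Spec (.of D) ⟶ S}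
    (h : Spec.map (CommRingCat.ofHom φ) ≫ a = c) (h' : Spec.map (CommRingCat.ofHom ψ) ≫ c = d) :
    res ψ h' ≫ res φ h = res (ψ.comp φ) (by rw [← h', ← h, ← Category.assoc, ← Spec.map_comp,
      ← CommRingCat.ofHom_comp]) := by
  ext1
  simp [← Spec.map_comp, ← CommRingCat.ofHom_comp]

/-- the ideal of the closed subscheme where a point lies in a closed subscheme -/
theorem exists_ideal {A : Type u} [CommRing A] {X Y : Scheme.{u}} (j : X ⟶ Y) [IsClosedImmersion j]
    [LocallyOfFinitePresentation j] (w : Spec (.of A) ⟶ Y) :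
    ∃ I : Ideal A, I.FG ∧ ∀ (C : Type u) [CommRing C] (φ : A →+* C),
      (∃ z : Spec (.of C) ⟶ X, z ≫ j = Spec.map (CommRingCat.ofHom φ) ≫ w) ↔ I ≤ RingHom.ker φ := by
  obtain ⟨I, e, he⟩ := IsClosedImmersion.Spec_iff.mp (inferInstance : IsClosedImmersion (pullback.fst w j))
  refine ⟨I, ?_, fun C _ φ => ⟨?_, ?_⟩⟩
  · have h1 : LocallyOfFinitePresentation (Spec.map (CommRingCat.ofHom (Ideal.Quotient.mk I))) := by
      have : Spec.map (CommRingCat.ofHom (Ideal.Quotient.mk I)) = e.inv ≫ pullback.fst w j := by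
        rw [he, Iso.inv_hom_id_assoc]
      rw [this]
      infer_instance
    rw [LocallyOfFinitePresentation.SpecMap_iff] at h1
    have h2 : (Ideal.Quotient.mk I).FinitePresentation := h1
    algebraize [Ideal.Quotient.mk I]
    have h3 : Algebra.FinitePresentation A (A ⧸ I) := ‹_›
    have := Algebra.FinitePresentation.ker_fG_of_surjective
      (Ideal.Quotient.mkₐ A I) (Ideal.Quotient.mkₐ_surjective A I)
    simpa using this
  · rintro ⟨z, hz⟩
    let y : Spec (.of C) ⟶ Spec (.of (A ⧸ I)) :=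
      pullback.lift (Spec.map (CommRingCat.ofHom φ)) z hz.symm ≫ e.hom
    obtain ⟨ψ, hψ⟩ := Spec.map_surjective y
    have h1 : y ≫ Spec.map (CommRingCat.ofHom (Ideal.Quotient.mk I)) = Spec.map (CommRingCat.ofHom φ) := by
      have h0 : y ≫ Spec.map (CommRingCat.ofHom (Ideal.Quotient.mk I)) =
          pullback.lift (Spec.map (CommRingCat.ofHom φ)) z hz.symm ≫ pullback.fst w j := by
        rw [he]
        exact Category.assoc _ _ _
      rw [h0, pullback.lift_fst]
    rw [← hψ, ← Spec.map_comp] at h1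
    have h2 := Spec.map_injective h1
    intro x hx
    have h3 := congr(CommRingCat.Hom.hom $h2 x)
    simp only [CommRingCat.hom_comp, CommRingCat.hom_ofHom, RingHom.comp_apply] at h3
    rw [RingHom.mem_ker, ← h3, Ideal.Quotient.eq_zero_iff_mem.mpr hx, map_zero]
  · intro h
    let ψ : A ⧸ I →+* C := Ideal.Quotient.lift I φ (fun x hx => h hx)
    have hψ : ψ.comp (Ideal.Quotient.mk I) = φ := by ext x; rfl
    have h1 : e.inv ≫ pullback.fst w j = Spec.map (CommRingCat.ofHom (Ideal.Quotient.mk I)) := by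
      rw [he, Iso.inv_hom_id_assoc]
    refine ⟨Spec.map (CommRingCat.ofHom ψ) ≫ e.inv ≫ pullback.snd w j, ?_⟩
    have h2 : (Spec.map (CommRingCat.ofHom ψ) ≫ e.inv ≫ pullback.snd w j) ≫ j =
        Spec.map (CommRingCat.ofHom ψ) ≫ (e.inv ≫ pullback.fst w j) ≫ w := by
      simp only [Category.assoc, pullback.condition]
    rw [h2, h1, ← Category.assoc, ← Spec.map_comp]
    erw [← CommRingCat.ofHom_comp]
    rw [hψ]

variable {G P : Over S}

lemma inP_iff_left {i : P ⟶ G} {Y : Over S} (g : Y ⟶ G) :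
    InP i g ↔ ∃ z : Y.left ⟶ P.left, z ≫ i.left = g.left := by
  constructor
  · rintro ⟨z, rfl⟩
    exact ⟨z.left, rfl⟩
  · rintro ⟨z, hz⟩
    refine ⟨Over.homMk z ?_, ?_⟩
    · rw [← Over.w i, ← Category.assoc, hz, Over.w g]
    · ext1
      exact hz

theorem exists_ideal_over (i : P ⟶ G) [IsClosedImmersion i.left] [LocallyOfFinitePresentation i.left]
    {A : Type u} [CommRing A] {a : Spec (.of A) ⟶ S} (g : Over.mk a ⟶ G) :
    ∃ I : Ideal A, I.FG ∧ ∀ (C : Type u) [CommRing C] (c : Spec (.of C) ⟶ S) (φ : A →+* C)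
      (h : Spec.map (CommRingCat.ofHom φ) ≫ a = c), InP i (res φ h ≫ g) ↔ I ≤ RingHom.ker φ := by
  obtain ⟨I, hI, h⟩ := exists_ideal i.left g.left
  refine ⟨I, hI, fun C _ c φ hc => ?_⟩
  rw [inP_iff_left, ← h C φ]
  rfl

lemma res_id {A : Type u} [CommRing A] {a : Spec (.of A) ⟶ S} (h) :
    res (RingHom.id A) (a := a) (c := a) h = 𝟙 _ := by
  ext1
  simp [res]

theorem inP_of_family (i : P ⟶ G) [IsClosedImmersion i.left] [LocallyOfFinitePresentation i.left]
    {A : Type u} [CommRing A] {a : Spec (.of A) ⟶ S} (g : Over.mk a ⟶ G)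
    (h : ∀ x : A, x ≠ 0 → ∃ (C : Type u) (_ : CommRing C) (c : Spec (.of C) ⟶ S) (φ : A →+* C)
      (hc : Spec.map (CommRingCat.ofHom φ) ≫ a = c), φ x ≠ 0 ∧ InP i (res φ hc ≫ g)) : InP i g := by
  obtain ⟨I, -, hI⟩ := exists_ideal_over i g
  have h0 : I = ⊥ := by
    rw [eq_bot_iff]
    intro x hx
    by_contra hne
    obtain ⟨C, _, c, φ, hc, h1, h2⟩ := h x hne
    exact h1 (((hI C c φ hc).1 h2) hx)
  have h1 := (hI A a (RingHom.id A) (by simp)).2 (h0 ▸ bot_le)
  rwa [res_id, Category.id_comp] at h1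

theorem inP_of_injective (i : P ⟶ G) [IsClosedImmersion i.left] [LocallyOfFinitePresentation i.left]
    {A : Type u} [CommRing A] {a : Spec (.of A) ⟶ S} (g : Over.mk a ⟶ G) {C : Type u} [CommRing C]
    (φ : A →+* C) (hφ : Function.Injective φ) {c : Spec (.of C) ⟶ S}
    (hc : Spec.map (CommRingCat.ofHom φ) ≫ a = c) (h : InP i (res φ hc ≫ g)) : InP i g :=
  inP_of_family i g fun x hx => ⟨C, _, c, φ, hc, fun h0 => hx (hφ (by rw [h0, map_zero])), h⟩

lemma tmul_jointly_inj {B O C₁ C₂ : Type u} [CommRing B] [CommRing O] [CommRing C₁] [CommRing C₂]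
    [Algebra B O] [Module.Flat B O] [Algebra B C₁] [Algebra B C₂]
    (hinj : ∀ b : B, algebraMap B C₁ b = 0 → algebraMap B C₂ b = 0 → b = 0) (x : O)
    (h1 : (x ⊗ₜ[B] (1 : C₁)) = 0) (h2 : (x ⊗ₜ[B] (1 : C₂)) = 0) : x = 0 := by
  let f : B →ₗ[B] C₁ × C₂ := (Algebra.linearMap B C₁).prod (Algebra.linearMap B C₂)
  have hf : Function.Injective f := by
    rw [injective_iff_map_eq_zero]
    intro b hb
    exact hinj b congr(($hb).1) congr(($hb).2)
  have h3 : Function.Injective (f.lTensor O) := Module.Flat.lTensor_preserves_injective_linearMap f hf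
  have h4 : f.lTensor O (x ⊗ₜ[B] 1) = 0 := by
    apply (TensorProduct.prodRight B B O C₁ C₂).injective
    rw [LinearMap.lTensor_tmul, map_zero]
    have : f 1 = (1, 1) := by simp [f]
    rw [this, TensorProduct.prodRight_tmul, h1, h2]
    rfl
  have h5 : x ⊗ₜ[B] (1 : B) = 0 := h3 (by rw [h4, map_zero])
  have h6 := congr(TensorProduct.rid B O $h5)
  simpa using h6

variable [GrpObj G]

/-- the condition `Nor` descends along jointly injective pairs of ring maps -/
theorem nor_of_pair (i : P ⟶ G) [IsClosedImmersion i.left] [LocallyOfFinitePresentation i.left]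
    [IsAffineHom P.hom] [Flat P.hom]
    {B : Type u} [CommRing B] {b : Spec (.of B) ⟶ S} (g : Over.mk b ⟶ G)
    {C₁ C₂ : Type u} [CommRing C₁] [CommRing C₂] (φ₁ : B →+* C₁) (φ₂ : B →+* C₂)
    (hinj : ∀ x : B, φ₁ x = 0 → φ₂ x = 0 → x = 0)
    {c₁ : Spec (.of C₁) ⟶ S} {c₂ : Spec (.of C₂) ⟶ S}
    (hc₁ : Spec.map (CommRingCat.ofHom φ₁) ≫ b = c₁) (hc₂ : Spec.map (CommRingCat.ofHom φ₂) ≫ b = c₂)
    (h₁ : Nor i (res φ₁ hc₁ ≫ g)) (h₂ : Nor i (res φ₂ hc₂ ≫ g)) : Nor i g := by
  rw [nor_iff]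
  let Y : Over S := Over.mk b
  have haff : IsAffine (Y ⊗ P).left := by
    have : IsAffineHom (pullback.fst b P.hom) := inferInstance
    exact isAffine_of_isAffineHom (pullback.fst b P.hom)
  let O : Type u := Γ((Y ⊗ P).left, ⊤)
  let e0 : (Y ⊗ P).left ≅ Spec (.of O) := (Y ⊗ P).left.isoSpec
  let o : Spec (.of O) ⟶ S := e0.inv ≫ (Y ⊗ P).hom
  let e : Over.mk o ≅ Y ⊗ P := Over.isoMk e0.symm (by simp [o])
  suffices h : InP i (e.hom ≫ uconj i g) by
    have := h.comp e.inv
    rwa [Iso.inv_hom_id_assoc] at this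
  obtain ⟨β, hβ⟩ := Spec.map_surjective ((e.hom ≫ fst Y P).left)
  have hflat : β.hom.Flat := by
    rw [← Flat.SpecMap_iff, hβ]
    have : Flat (fst Y P).left := by
      change Flat (pullback.fst b P.hom)
      infer_instance
    have : Flat e.hom.left := inferInstance
    rw [Over.comp_left]
    infer_instance
  have key : ∀ (C : Type u) [CommRing C] (φ : B →+* C) (c : Spec (.of C) ⟶ S)
      (hc : Spec.map (CommRingCat.ofHom φ) ≫ b = c) (hN : Nor i (res φ hc ≫ g))
      (D : Type u) [CommRing D] (α : O →+* D) (γ : C →+* D) (hαγ : α.comp β.hom = γ.comp φ),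
      InP i (res α (rfl : Spec.map (CommRingCat.ofHom α) ≫ o = _) ≫ e.hom ≫ uconj i g) := by
    intro C _ φ c hc hN D _ α γ hαγ
    let d : Spec (.of D) ⟶ S := Spec.map (CommRingCat.ofHom α) ≫ o
    have hd : Spec.map (CommRingCat.ofHom γ) ≫ c = d := by
      have h1 : o = Spec.map β ≫ b := by
        rw [hβ]
        exact (Over.w (e.hom ≫ fst Y P)).symm
      have h2 : d = Spec.map (CommRingCat.ofHom (α.comp β.hom)) ≫ b := by
        simp only [d, h1]
        rw [← Category.assoc, ← Spec.map_comp]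
        rfl
      rw [h2, hαγ, ← hc, ← Category.assoc, ← Spec.map_comp]
      rfl
    let t : Over.mk d ⟶ Y ⊗ P := res α rfl ≫ e.hom
    have ht : t ≫ fst Y P = res γ hd ≫ res φ hc := by
      ext1
      have h3 : (t ≫ fst Y P).left = Spec.map (CommRingCat.ofHom α) ≫ (e.hom ≫ fst Y P).left := by
        simp only [t, Over.comp_left, Category.assoc]
        rfl
      rw [h3, ← hβ, ← Spec.map_comp]
      simp only [Over.comp_left, res_left]
      rw [← Spec.map_comp]
      congr 1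
      ext x
      exact congr($hαγ x)
    have h4 := hN _ (res γ hd) (t ≫ snd Y P)
    have h5 : t ≫ uconj i g = ((t ≫ fst Y P) ≫ g) * ((t ≫ snd Y P) ≫ i) * ((t ≫ fst Y P) ≫ g)⁻¹ := by
      rw [← lift_uconj]
      congr 1
      ext <;> simp
    have h6 : res α (rfl : Spec.map (CommRingCat.ofHom α) ≫ o = _) ≫ e.hom ≫ uconj i g = t ≫ uconj i g := by
      simp only [t, Category.assoc]
    rw [h6, h5, ht]
    simpa using h4
  obtain ⟨I, -, hI⟩ := exists_ideal_over i (e.hom ≫ uconj i g)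
  letI : Algebra B O := β.hom.toAlgebra
  letI : Algebra B C₁ := φ₁.toAlgebra
  letI : Algebra B C₂ := φ₂.toAlgebra
  haveI : Module.Flat B O := hflat
  have hI1 := (hI _ _ _ _).1 (key C₁ φ₁ c₁ hc₁ h₁ (O ⊗[B] C₁)
    (Algebra.TensorProduct.includeLeft (R := B) (S := B) (A := O) (B := C₁)).toRingHom
    (Algebra.TensorProduct.includeRight (R := B) (A := O) (B := C₁)).toRingHom (by
      ext x
      change (algebraMap B O x) ⊗ₜ[B] (1 : C₁) = (1 : O) ⊗ₜ[B] (algebraMap B C₁ x)
      rw [Algebra.algebraMap_eq_smul_one, TensorProduct.smul_tmul, ← Algebra.algebraMap_eq_smul_one]))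
  have hI2 := (hI _ _ _ _).1 (key C₂ φ₂ c₂ hc₂ h₂ (O ⊗[B] C₂)
    (Algebra.TensorProduct.includeLeft (R := B) (S := B) (A := O) (B := C₂)).toRingHom
    (Algebra.TensorProduct.includeRight (R := B) (A := O) (B := C₂)).toRingHom (by
      ext x
      change (algebraMap B O x) ⊗ₜ[B] (1 : C₂) = (1 : O) ⊗ₜ[B] (algebraMap B C₂ x)
      rw [Algebra.algebraMap_eq_smul_one, TensorProduct.smul_tmul, ← Algebra.algebraMap_eq_smul_one]))
  have h0 : I = ⊥ := by
    rw [eq_bot_iff]
    intro x hx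
    exact tmul_jointly_inj (B := B) (C₁ := C₁) (C₂ := C₂) (fun y h1 h2 => hinj y h1 h2) x (hI1 hx) (hI2 hx)
  have h1 := (hI O o (RingHom.id O) (by simp)).2 (h0 ▸ bot_le)
  rwa [res_id, Category.id_comp] at h1

theorem nor_of_injective (i : P ⟶ G) [IsClosedImmersion i.left] [LocallyOfFinitePresentation i.left]
    [IsAffineHom P.hom] [Flat P.hom]
    {B : Type u} [CommRing B] {b : Spec (.of B) ⟶ S} (g : Over.mk b ⟶ G)
    {C : Type u} [CommRing C] (φ : B →+* C) (hφ : Function.Injective φ)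
    {c : Spec (.of C) ⟶ S} (hc : Spec.map (CommRingCat.ofHom φ) ≫ b = c)
    (h : Nor i (res φ hc ≫ g)) : Nor i g :=
  nor_of_pair i g φ φ (fun x hx _ => hφ (by rw [hx, map_zero])) hc hc h h

end Groth.Agent.Sga3A.NormRing
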