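import Groth.Agent.Sga3A.NormBase
import Groth.Agent.Sga3B.RG.BrCent

set_option autoImplicit false
universe u

/-! The infinitesimal condition for the normaliser follows from a torus whose centraliser lies in the subgroup. -/

open WithConv TensorProduct Coalgebra

namespace Groth.Agent.Sga3A.NormTorus

open Groth.Agent.Books.DynBasic (mapPt ptGroup mapPt_apply inv_def)
open Groth.Agent.Sga3B.RG.ConjGrade

section alg

variable {k : Type u} [CommRing k] {A : Type u} [CommRing A] [HopfAlgebra k A]
variable {R : Type u} [CommRing R] [Algebra k R]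

lemma mul_apply_repr (g h : WithConv (A →ₐ[k] R)) {a : A} {κ : Type*} (r : Coalgebra.Repr k a κ) :
    (g * h).ofConv a = ∑ i ∈ r.index, g.ofConv (r.left i) * h.ofConv (r.right i) := by
  have h1 : (g * h).ofConv a = Algebra.TensorProduct.lift g.ofConv h.ofConv (fun _ _ => Commute.all _ _)
      (comul (R := k) a) := by
    rw [AlgHom.convMul_def]
    change (Algebra.TensorProduct.lmul' k (S := R)) (Algebra.TensorProduct.map g.ofConv h.ofConv (comul (R := k) a)) = _
    rw [← r.eq, map_sum, map_sum, map_sum]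
    simp
  rw [h1, ← r.eq, map_sum]
  simp

/-- Convolution of points which are trivial modulo an ideal of square zero. -/
lemma mul_apply_of_sq (N : Ideal R) (hN : ∀ x ∈ N, ∀ y ∈ N, x * y = 0) (g h : WithConv (A →ₐ[k] R))
    (hg : ∀ a, g.ofConv a - algebraMap k R (counit a) ∈ N)
    (hh : ∀ a, h.ofConv a - algebraMap k R (counit a) ∈ N) (a : A) :
    (g * h).ofConv a = g.ofConv a + h.ofConv a - algebraMap k R (counit a) := by
  let r := Coalgebra.Repr.arbitrary k a
  rw [mul_apply_repr g h r]
  have h1 : ∀ i ∈ r.index, g.ofConv (r.left i) * h.ofConv (r.right i) =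
      algebraMap k R (counit (r.left i)) * h.ofConv (r.right i) +
      g.ofConv (r.left i) * algebraMap k R (counit (r.right i)) -
      algebraMap k R (counit (r.left i)) * algebraMap k R (counit (r.right i)) := by
    intro i _
    have := hN _ (hg (r.left i)) _ (hh (r.right i))
    linear_combination this
  rw [Finset.sum_congr rfl h1, Finset.sum_sub_distrib, Finset.sum_add_distrib]
  have e1 : ∑ i ∈ r.index, counit (R := k) (r.left i) • r.right i = a := sum_counit_smul r
  have e2 : ∑ i ∈ r.index, counit (R := k) (r.right i) • r.left i = a := by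
    have := congr(TensorProduct.rid k A $(sum_tmul_counit_eq (R := k) r))
    rw [map_sum] at this
    simpa only [TensorProduct.rid_tmul, one_smul] using this
  have s1 : ∑ i ∈ r.index, algebraMap k R (counit (r.left i)) * h.ofConv (r.right i) = h.ofConv a := by
    conv_rhs => rw [← e1, map_sum]
    refine Finset.sum_congr rfl fun i _ => ?_
    rw [map_smul, Algebra.smul_def]
  have s2 : ∑ i ∈ r.index, g.ofConv (r.left i) * algebraMap k R (counit (r.right i)) = g.ofConv a := by
    conv_rhs => rw [← e2, map_sum]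
    refine Finset.sum_congr rfl fun i _ => ?_
    rw [map_smul, Algebra.smul_def, mul_comm]
  have s3 : ∑ i ∈ r.index, algebraMap k R (counit (r.left i)) * algebraMap k R (counit (r.right i)) =
      algebraMap k R (counit a) := by
    conv_rhs => rw [← e1, map_sum, map_sum]
    refine Finset.sum_congr rfl fun i _ => ?_
    rw [map_smul, smul_eq_mul, map_mul]
  rw [s1, s2, s3]
  ring

lemma inv_mem_of_sq (N : Ideal R) (g : WithConv (A →ₐ[k] R))
    (hg : ∀ a, g.ofConv a - algebraMap k R (counit a) ∈ N) (a : A) :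
    g⁻¹.ofConv a - algebraMap k R (counit a) ∈ N := by
  have h1 : mapPt (Ideal.Quotient.mkₐ k N) g = 1 := by
    apply WithConv.ofConv_injective
    ext b
    rw [mapPt_apply, AlgHom.convOne_def]
    have := hg b
    rw [← Ideal.Quotient.eq_zero_iff_mem, map_sub, sub_eq_zero] at this
    exact this
  have h2 : mapPt (Ideal.Quotient.mkₐ k N) g⁻¹ = 1 := by rw [map_inv, h1, inv_one]
  have h3 := DFunLike.congr_fun (congrArg WithConv.ofConv h2) a
  rw [mapPt_apply, AlgHom.convOne_def] at h3
  rw [← Ideal.Quotient.eq_zero_iff_mem, map_sub, sub_eq_zero]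
  exact h3

lemma inv_apply_of_sq (N : Ideal R) (hN : ∀ x ∈ N, ∀ y ∈ N, x * y = 0) (g : WithConv (A →ₐ[k] R))
    (hg : ∀ a, g.ofConv a - algebraMap k R (counit a) ∈ N) (a : A) :
    g⁻¹.ofConv a = 2 * algebraMap k R (counit a) - g.ofConv a := by
  have h1 := mul_apply_of_sq N hN g g⁻¹ hg (inv_mem_of_sq N g hg) a
  rw [mul_inv_cancel, AlgHom.convOne_def] at h1
  have h2 : (toConv ((Algebra.ofId k R).comp (Bialgebra.counitAlgHom k A)) : WithConv (A →ₐ[k] R)).ofConv a =
    algebraMap k R (counit a) := rfl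
  rw [h2] at h1
  linear_combination -h1

end alg

section main

variable {K : Type u} [Field K] {A : Type u} [CommRing A] [HopfAlgebra K A]
variable {G : Type} [CommGroup G] (π : A →ₐc[K] MonoidAlgebra K G)
variable {E : Type u} [CommRing E] [Algebra K E] (q : E →ₐ[K] K) (hq : ∀ x y, q x = 0 → q y = 0 → x * y = 0)

include hq in
lemma pr_mul (g : A →ₐ[K] E) (hg : ∀ a, q (g a) = counit (R := K) a) (a b : A) :
    g (pr π 1 (a * b)) = g (pr π 1 a) * g (pr π 1 b) := by
  refine induction_gr π (P := fun a => g (pr π 1 (a * b)) = g (pr π 1 a) * g (pr π 1 b)) ?_ ?_ ?_ a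
  · simp
  · intro x y hx hy
    rw [add_mul, map_add, map_add, hx, hy, map_add, map_add, add_mul]
  · intro m x hx
    refine induction_gr π (P := fun b => g (pr π 1 (x * b)) = g (pr π 1 x) * g (pr π 1 b)) ?_ ?_ ?_ b
    · simp
    · intro y z hy hz
      rw [mul_add, map_add, map_add, hy, hz, map_add, map_add, mul_add]
    · intro n y hy
      by_cases hm : m = 1
      · subst hm
        by_cases hn : n = 1
        · subst hn
          rw [pr_of_mem_same π hx, pr_of_mem_same π hy, pr_of_mem_same π (by simpa using mul_mem_gr π hx hy), map_mul]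
        · rw [pr_of_mem_ne π hy hn, pr_of_mem_ne π (mul_mem_gr π hx hy) (by simpa using hn), map_zero, mul_zero]
      · rw [pr_of_mem_ne π hx hm, map_zero, zero_mul]
        by_cases hmn : m * n = 1
        · rw [pr_of_mem_same π (by simpa [hmn] using mul_mem_gr π hx hy), map_mul]
          have hn : n ≠ 1 := by
            rintro rfl
            exact hm (by simpa using hmn)
          exact hq _ _ (by rw [hg, counit_of_mem_gr π hm hx]) (by rw [hg, counit_of_mem_gr π hn hy])
        · rw [pr_of_mem_ne π (mul_mem_gr π hx hy) hmn, map_zero]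

/-- The weight zero part of a tangent vector. -/
noncomputable def wt0 (g : A →ₐ[K] E) (hg : ∀ a, q (g a) = counit (R := K) a) : A →ₐ[K] E where
  toFun a := g (pr π 1 a)
  map_one' := by rw [pr_of_mem_same π (one_mem_gr π), map_one]
  map_zero' := by rw [map_zero, map_zero]
  map_add' a b := by rw [map_add, map_add]
  map_mul' a b := pr_mul π q hq g hg a b
  commutes' r := by
    rw [pr_of_mem_same π (algebraMap_mem_gr π r), AlgHom.commutes]

lemma wt0_apply (g : A →ₐ[K] E) (hg : ∀ a, q (g a) = counit (R := K) a) (a : A) :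
    wt0 π q hq g hg a = g (pr π 1 a) := rfl

lemma wt0_mem_cent (g : A →ₐ[K] E) (hg : ∀ a, q (g a) = counit (R := K) a) :
    toConv (wt0 π q hq g hg) ∈ cent π E := by
  rw [mem_cent_iff]
  intro m hm a ha
  change g (pr π 1 a) = 0
  rw [pr_of_mem_ne π ha hm, map_zero]

/-- Key computation. -/
theorem apply_eq_wt0 (g : WithConv (A →ₐ[K] E)) (hg : ∀ a, q (g.ofConv a) = counit (R := K) a)
    (a : A) (ha : counit (R := K) a = 0)
    (hnor : (mapPt (cst K G E) g * tau π (MonoidAlgebra.of E G) *
      (mapPt (cst K G E) g)⁻¹ * (tau π (MonoidAlgebra.of E G))⁻¹).ofConv a = 0) :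
    g.ofConv a = wt0 π q hq g.ofConv hg a := by
  classical
  let g' := mapPt (cst K G E) g
  let t := tau π (MonoidAlgebra.of E G)
  let qG : MonoidAlgebra E G →ₐ[K] MonoidAlgebra K G := MonoidAlgebra.mapAlgHom G q
  let N : Ideal (MonoidAlgebra E G) := RingHom.ker qG
  have hmem : ∀ x : MonoidAlgebra E G, x ∈ N ↔ ∀ m, q (x.coeff m) = 0 := by
    intro x
    rw [RingHom.mem_ker]
    constructor
    · intro h m
      exact congrArg (fun f => MonoidAlgebra.coeff f m) h
    · intro h
      ext m
      exact h m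
  have hN : ∀ x ∈ N, ∀ y ∈ N, x * y = 0 := by
    intro x hx y hy
    rw [hmem] at hx hy
    rw [MonoidAlgebra.mul_def]
    refine Finset.sum_eq_zero fun m _ => Finset.sum_eq_zero fun n _ => ?_
    change MonoidAlgebra.single (m * n) (x.coeff m * y.coeff n) = 0
    rw [hq _ _ (hx m) (hy n), MonoidAlgebra.single_zero]
  have hg' : ∀ b, g'.ofConv b - algebraMap K _ (counit b) ∈ N := by
    intro b
    rw [hmem]
    intro m
    change q ((MonoidAlgebra.single 1 (g.ofConv b) - MonoidAlgebra.single 1 (algebraMap K E (counit b)) :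
      MonoidAlgebra E G).coeff m) = 0
    rw [← MonoidAlgebra.single_sub, MonoidAlgebra.coeff_single, Finsupp.single_apply]
    split_ifs
    · rw [map_sub, hg, AlgHom.commutes]
      exact sub_self _
    · exact map_zero q
  have hc : ∀ b, (t * g' * t⁻¹).ofConv b = (rho π b).coeff.sum fun m c => MonoidAlgebra.single m (g.ofConv c) := by
    intro b
    rw [conj_apply]
    refine Finset.sum_congr rfl fun m _ => ?_
    change MonoidAlgebra.single 1 (g.ofConv _) * MonoidAlgebra.single m 1 = _
    rw [MonoidAlgebra.single_mul_single, one_mul, mul_one]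
  have hcN : ∀ b, (t * g' * t⁻¹).ofConv b - algebraMap K _ (counit b) ∈ N := by
    intro b
    have e1 : mapPt qG g' = 1 := by
      apply WithConv.ofConv_injective
      ext c : 1
      rw [mapPt_apply, AlgHom.convOne_def]
      have e2 : qG (g'.ofConv c - algebraMap K _ (counit c)) = 0 := hg' c
      rw [map_sub, sub_eq_zero, AlgHom.commutes] at e2
      exact e2
    have e3 : mapPt qG (t * g' * t⁻¹) = 1 := by
      rw [map_mul, map_mul, e1, mul_one, map_inv, mul_inv_cancel]
    have e4 := DFunLike.congr_fun (congrArg WithConv.ofConv e3) b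
    rw [mapPt_apply, AlgHom.convOne_def] at e4
    change qG _ = 0
    rw [map_sub, e4, AlgHom.commutes, sub_eq_zero]
    rfl
  have h1 : mapPt (cst K G E) g * tau π (MonoidAlgebra.of E G) *
      (mapPt (cst K G E) g)⁻¹ * (tau π (MonoidAlgebra.of E G))⁻¹ =
      g' * (t * g' * t⁻¹)⁻¹ := by
    simp only [mul_inv_rev, inv_inv, g', t, mul_assoc]
  rw [h1, mul_apply_of_sq N hN _ _ hg' (inv_mem_of_sq N _ hcN), inv_apply_of_sq N hN _ hcN, ha, map_zero] at hnor
  have h2 : g'.ofConv a = (t * g' * t⁻¹).ofConv a := by linear_combination hnor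
  rw [hc] at h2
  have h3 := congrArg (fun f => MonoidAlgebra.coeff f 1) h2
  have h4 : (g'.ofConv a).coeff 1 = g.ofConv a := by
    change (MonoidAlgebra.single 1 (g.ofConv a) : MonoidAlgebra E G).coeff 1 = _
    rw [MonoidAlgebra.coeff_single, Finsupp.single_eq_same]
  have h5 : ((rho π a).coeff.sum fun m c => (MonoidAlgebra.single m (g.ofConv c) : MonoidAlgebra E G)).coeff 1 =
      g.ofConv (pr π 1 a) := by
    rw [Finsupp.sum, MonoidAlgebra.coeff_sum, Finset.sum_apply']
    have : ∀ m, (MonoidAlgebra.single m (g.ofConv ((rho π a).coeff m)) : MonoidAlgebra E G).coeff 1 =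
        if m = 1 then g.ofConv ((rho π a).coeff 1) else 0 := by
      intro m
      rw [MonoidAlgebra.coeff_single, Finsupp.single_apply]
      split_ifs with hm
      · rw [hm]
      · rfl
    simp only [this]
    rw [Finset.sum_ite_eq']
    split_ifs with hm
    · rfl
    · rw [Finsupp.notMem_support_iff] at hm
      rw [pr_def, hm, map_zero]
  rw [wt0_apply, ← h5, ← h4]
  exact h3

end main

section scheme

open CategoryTheory MonoidalCategory CartesianMonoidalCategory MonObj GrpObj AlgebraicGeometry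
open Groth.Agent.Books.AffBridge Groth.Agent.Books.AffBridge2
open Groth.Agent.Sga3B.RG.BrCent Groth.Agent.Sga3B.RG.BrPts
open NormDefs NormRing NormInf

variable {K : Type u} [Field K]

/-- Points of a closed subgroup of an affine group, in terms of ideals. -/
lemma exists_ideal_inP {A : Type u} [CommRing A] [HopfAlgebra K A] {H Q : Over (Spec (CommRingCat.of K))}
    [GrpObj H] [GrpObj Q] (j : Q ⟶ H) [IsMonHom j] [IsClosedImmersion j.left] (eG : H ≅ SpecOver K A)
    [IsMonHom eG.hom] :
    ∃ J : Ideal A, (∀ a ∈ J, counit (R := K) a = 0) ∧ ∀ (R : Type u) [CommRing R] [Algebra K R]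
      (x : SpecOver K R ⟶ H), InP j x ↔ ∀ a ∈ J, specPreimage K (x ≫ eG.hom) a = 0 := by
  have hHaff : IsAffine H.left := .of_isIso eG.hom.left
  have hQaff : IsAffine Q.left := isAffine_of_isAffineHom j.left
  obtain ⟨B, _, _, eQ, heQ⟩ := exists_hopf K Q
  obtain ⟨φ, hφ⟩ := exists_bialgHom_of_isMonHom K (eQ.inv ≫ j ≫ eG.hom)
  have hsurj : Function.Surjective φ := by
    have : IsClosedImmersion (specMap K (φ : A →ₐ[K] B)).left := by
      rw [hφ, Over.comp_left, Over.comp_left]
      infer_instance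
    exact (isClosedImmersion_specMap_iff K _).1 this
  refine ⟨RingHom.ker (φ : A →ₐ[K] B), ?_, ?_⟩
  · intro a ha
    have h1 : counit (R := K) (φ a) = counit (R := K) a := CoalgHomClass.counit_comp_apply φ a
    have h2 : φ a = 0 := ha
    rw [← h1, h2, map_zero]
  · intro R _ _ x
    constructor
    · rintro ⟨z, rfl⟩ a ha
      have h1 : (z ≫ j) ≫ eG.hom = specMap K (specPreimage K (z ≫ eQ.hom)) ≫ specMap K (φ : A →ₐ[K] B) := by
        rw [hφ, specMap_specPreimage]
        simp
      rw [h1, ← specMap_comp, specPreimage_specMap]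
      have h2 : φ a = 0 := ha
      change specPreimage K (z ≫ eQ.hom) (φ a) = 0
      rw [h2, map_zero]
    · intro h
      let E := Ideal.quotientKerAlgEquivOfSurjective (f := (φ : A →ₐ[K] B)) hsurj
      let f : B →ₐ[K] R := (Ideal.Quotient.liftₐ _ (specPreimage K (x ≫ eG.hom)) h).comp (E.symm : B →ₐ[K] _)
      have hf : f.comp (φ : A →ₐ[K] B) = specPreimage K (x ≫ eG.hom) := by
        refine AlgHom.ext fun a => ?_
        change Ideal.Quotient.liftₐ _ _ h (E.symm (φ a)) = _
        have : E.symm (φ a) = Ideal.Quotient.mk _ a := by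
          rw [AlgEquiv.symm_apply_eq]
          rfl
        rw [this]
        rfl
      refine ⟨specMap K f ≫ eQ.inv, ?_⟩
      have h5 : specMap K f ≫ specMap K (φ : A →ₐ[K] B) = x ≫ eG.hom := by
        rw [← specMap_comp, hf, specMap_specPreimage]
      rw [hφ] at h5
      rw [← cancel_mono eG.hom, ← h5]
      simp

theorem inP_of_torus_sq {H Q T : Over (Spec (CommRingCat.of K))} [GrpObj H] [GrpObj Q] [GrpObj T]
    [IsAffine H.left] (j : Q ⟶ H) [IsMonHom j] [IsClosedImmersion j.left] {M : Type} [CommGroup M]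
    (e : T ≅ SpecOver K (MonoidAlgebra K M)) [IsMonHom e.hom] (t : T ⟶ Q) [IsMonHom t]
    (hcent : ∀ (X : Over (Spec (CommRingCat.of K))) (x : X ⟶ H),
      (∀ (X' : Over (Spec (CommRingCat.of K))) (y : X' ⟶ X) (s : X' ⟶ T),
        (y ≫ x) * (s ≫ t ≫ j) = (s ≫ t ≫ j) * (y ≫ x)) → InP j x)
    {E : Type u} [CommRing E] [Algebra K E] (q : E →ₐ[K] K) (hq : ∀ x y, q x = 0 → q y = 0 → x * y = 0)
    (h : SpecOver K E ⟶ H) (h1 : specMap K q ≫ h = 1) (hN : Nor j h) : InP j h := by
  obtain ⟨A, _, _, eG, heG⟩ := exists_hopf K H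
  have heinv : IsMonHom e.inv := inferInstance
  obtain ⟨π, hπ⟩ := exists_bialgHom_of_isMonHom K (e.inv ≫ t ≫ j ≫ eG.hom)
  obtain ⟨J, hJ, hInP⟩ := exists_ideal_inP j eG
  let g : WithConv (A →ₐ[K] E) := toConv (specPreimage K (h ≫ eG.hom))
  have hgh : specMap K g.ofConv = h ≫ eG.hom := specMap_specPreimage K _
  have hg : ∀ a, q (g.ofConv a) = counit (R := K) a := by
    have h2 : specMap K (q.comp g.ofConv) = specMap K ((1 : WithConv (A →ₐ[K] K)).ofConv) := by
      rw [specMap_comp, hgh, ← Category.assoc, h1, MonObj.one_comp]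
      exact (map_one (rptEquiv K A K)).symm
    have h3 := specMap_injective K h2
    intro a
    have h4 := DFunLike.congr_fun h3 a
    rw [AlgHom.convOne_def] at h4
    exact h4
  rw [hInP]
  intro a ha
  change g.ofConv a = 0
  rw [apply_eq_wt0 π q hq g hg a (hJ a ha) ?_]
  · -- the weight zero part centralises the torus
    have h2 := wt0_mem_cent π q hq g.ofConv hg
    obtain ⟨z, hz⟩ := (exists_comp_cincl_iff π _).2 h2
    have h3 := (isCentralizerOf_cincl π _ rfl).2.2 _ (specMap K (wt0 π q hq g.ofConv hg))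
    have h4 := h3.1 ⟨z, hz⟩
    have h5 := hcent (SpecOver K E) (specMap K (wt0 π q hq g.ofConv hg) ≫ eG.inv) (by
      intro X' y s
      rw [← cancel_mono eG.hom, MonObj.mul_comp, MonObj.mul_comp]
      have h6 := h4 X' y (s ≫ e.hom)
      rw [hπ] at h6
      simpa using h6)
    rw [hInP] at h5
    have h7 := h5 a ha
    rw [Category.assoc, Iso.inv_hom_id, Category.comp_id, specPreimage_specMap] at h7
    exact h7
  · -- normalisation
    let x : SpecOver K (MonoidAlgebra E M) ⟶ SpecOver K E := specMap K (cst K M E)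
    let lft : MonoidAlgebra K M →ₐ[K] MonoidAlgebra E M := MonoidAlgebra.lift K (MonoidAlgebra E M) M (MonoidAlgebra.of E M)
    let s : SpecOver K (MonoidAlgebra E M) ⟶ Q := specMap K lft ≫ e.inv ≫ t
    have h2 : InP j ((x ≫ h) * (s ≫ j) * (x ≫ h)⁻¹ * (s ≫ j)⁻¹) :=
      (hN _ x s).mul (InP.inv ⟨s, rfl⟩)
    rw [hInP] at h2
    have h3 := h2 a ha
    have e1 : rptEquiv K A (MonoidAlgebra E M) (mapPt (cst K M E) g) = (x ≫ h) ≫ eG.hom := by
      change specMap K ((cst K M E).comp g.ofConv) = _
      rw [specMap_comp, hgh, Category.assoc]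
    have e2 : rptEquiv K A (MonoidAlgebra E M) (tau π (MonoidAlgebra.of E M)) = (s ≫ j) ≫ eG.hom := by
      change specMap K (lft.comp (π : A →ₐ[K] MonoidAlgebra K M)) = _
      rw [specMap_comp, hπ]
      simp [s]
    have e3 : ((x ≫ h) * (s ≫ j) * (x ≫ h)⁻¹ * (s ≫ j)⁻¹) ≫ eG.hom =
        rptEquiv K A (MonoidAlgebra E M) (mapPt (cst K M E) g * tau π (MonoidAlgebra.of E M) *
          (mapPt (cst K M E) g)⁻¹ * (tau π (MonoidAlgebra.of E M))⁻¹) := by
      rw [map_mul, map_mul, map_mul, map_inv, map_inv, e1, e2]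
      simp only [MonObj.mul_comp, GrpObj.inv_comp]
    rw [e3, rptEquiv_apply, specPreimage_specMap] at h3
    exact h3

lemma dual_mul_eq_zero (x y : DualNumber K) (hx : TrivSqZeroExt.fstHom K K K x = 0)
    (hy : TrivSqZeroExt.fstHom K K K y = 0) : x * y = 0 := by
  have hx' : x.fst = 0 := hx
  have hy' : y.fst = 0 := hy
  ext
  · simp [hx']
  · simp [hx', hy']

/-- **The infinitesimal condition from a torus.** -/
theorem infNor_of_torus {H Q T : Over (Spec (CommRingCat.of K))} [GrpObj H] [GrpObj Q] [GrpObj T]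
    [IsAffine H.left] (j : Q ⟶ H) [IsMonHom j] [IsClosedImmersion j.left] {M : Type} [CommGroup M]
    (e : T ≅ SpecOver K (MonoidAlgebra K M)) [IsMonHom e.hom] (t : T ⟶ Q) [IsMonHom t]
    (hcent : ∀ (X : Over (Spec (CommRingCat.of K))) (x : X ⟶ H),
      (∀ (X' : Over (Spec (CommRingCat.of K))) (y : X' ⟶ X) (s : X' ⟶ T),
        (y ≫ x) * (s ≫ t ≫ j) = (s ≫ t ≫ j) * (y ≫ x)) → InP j x) : InfNor j := by
  intro h h1 hN
  refine inP_of_torus_sq j e t hcent (E := DualNumber K) (TrivSqZeroExt.fstHom K K K) dual_mul_eq_zero h ?_ hN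
  let w : SpecOver K K ⟶ Over.mk (𝟙 (Spec (CommRingCat.of K))) := Over.homMk (𝟙 _) (by
    exact (Category.comp_id _).trans (Spec.map_id (CommRingCat.of K)).symm)
  have h2 : w ≫ (res (TrivSqZeroExt.fstHom K K K).toRingHom (a := Spec.map (CommRingCat.ofHom (algebraMap K (DualNumber K))))
      (c := 𝟙 _) (by
        rw [← Spec.map_comp, ← CommRingCat.ofHom_comp]
        exact Spec.map_id _) ≫ h) = 1 := by
    rw [h1, MonObj.comp_one]
  ext1
  have h3 := congr(($h2).left)
  simp only [Over.comp_left, w, Over.homMk_left] at h3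
  erw [Category.id_comp] at h3
  exact h3

end scheme

end Groth.Agent.Sga3A.NormTorus
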