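import Mathlib.RingTheory.Smooth.NoetherianDescent
import Mathlib.RingTheory.Smooth.Flat
import Mathlib.RingTheory.FiniteStability

/-!
# Noetherian descent of a smooth algebra with a section and finitely many elements
-/

set_option autoImplicit false

open TensorProduct

namespace Groth.Agent.Sga3A.SmoothDescent

universe u v w

/-- Every element of `R ⊗ B₀` comes from `A ⊗ B₀` for any subalgebra `A` containing a suitable finite set. -/
theorem exists_finset_mem_range {A₀ : Type u} [CommRing A₀] {R : Type u} [CommRing R] [Algebra A₀ R]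
    {B₀ : Type u} [CommRing B₀] [Algebra A₀ B₀] (z : R ⊗[A₀] B₀) :
    ∃ S : Finset R, ∀ A : Subalgebra A₀ R, (S : Set R) ⊆ A →
      ∃ z₁ : A ⊗[A₀] B₀, Algebra.TensorProduct.map A.val (AlgHom.id A₀ B₀) z₁ = z := by
  classical
  induction z with
  | zero => exact ⟨∅, fun A _ => ⟨0, map_zero _⟩⟩
  | add x y hx hy =>
    obtain ⟨S, hS⟩ := hx
    obtain ⟨T, hT⟩ := hy
    refine ⟨S ∪ T, fun A hA => ?_⟩
    rw [Finset.coe_union, Set.union_subset_iff] at hA
    obtain ⟨x₁, hx₁⟩ := hS A hA.1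
    obtain ⟨y₁, hy₁⟩ := hT A hA.2
    exact ⟨x₁ + y₁, by rw [map_add, hx₁, hy₁]⟩
  | tmul x y =>
    refine ⟨{x}, fun A hA => ⟨(⟨x, hA (by simp)⟩ : A) ⊗ₜ y, ?_⟩⟩
    simp

/-- Noetherian descent of a smooth algebra together with a section and a finite set of elements. -/
theorem exists_model (R : Type u) [CommRing R] (B : Type u) [CommRing B] [Algebra R B] [Algebra.Smooth R B]
    (e : B →ₐ[R] R) (F : Finset B) :
    ∃ (A : Type u) (_ : CommRing A) (_ : IsNoetherianRing A) (_ : Algebra A R)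
      (B₁ : Type u) (_ : CommRing B₁) (_ : Algebra A B₁) (_ : Algebra.Smooth A B₁)
      (ι : R ⊗[A] B₁ ≃ₐ[R] B) (e₁ : B₁ →ₐ[A] A),
      Function.Injective (algebraMap A R) ∧ (∀ x : B₁, e (ι (1 ⊗ₜ x)) = algebraMap A R (e₁ x)) ∧
      ∀ x ∈ F, ∃ x₁ : B₁, ι (1 ⊗ₜ x₁) = x := by
  classical
  obtain ⟨A₀, B₀, _, _, hA₀, hsm, ⟨ι₀⟩⟩ := Algebra.Smooth.exists_subalgebra_fg ℤ R B
  have hNA₀ : IsNoetherianRing A₀ := by
    have : Algebra.FiniteType ℤ A₀ := (Subalgebra.fg_iff_finiteType A₀).mp hA₀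
    exact Algebra.FiniteType.isNoetherianRing ℤ A₀
  let e' : R ⊗[A₀] B₀ →ₐ[R] R := e.comp ι₀.symm.toAlgHom
  let e'' : B₀ →ₐ[A₀] R := (e'.restrictScalars A₀).comp Algebra.TensorProduct.includeRight
  obtain ⟨T, hT⟩ : (⊤ : Subalgebra A₀ B₀).FG := (inferInstance : Algebra.FiniteType A₀ B₀).out
  choose S hS using fun z : R ⊗[A₀] B₀ => exists_finset_mem_range z
  let S' : Finset R := (F.biUnion fun x => S (ι₀ x)) ∪ T.image e''
  let A : Subalgebra A₀ R := Algebra.adjoin A₀ (S' : Set R)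
  have hSA : (S' : Set R) ⊆ A := Algebra.subset_adjoin
  have hNA : IsNoetherianRing A := by
    have : Algebra.FiniteType A₀ A := (Subalgebra.fg_iff_finiteType A).mp ⟨S', rfl⟩
    exact Algebra.FiniteType.isNoetherianRing A₀ A
  have he'' : ∀ b : B₀, e'' b ∈ A := by
    intro b
    have hb : b ∈ (⊤ : Subalgebra A₀ B₀) := trivial
    rw [← hT] at hb
    have h1 : Subalgebra.map e'' (Algebra.adjoin A₀ (T : Set B₀)) ≤ A := by
      rw [AlgHom.map_adjoin, Algebra.adjoin_le_iff]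
      intro x hx
      obtain ⟨t, ht, rfl⟩ := hx
      apply hSA
      simp only [S', Finset.coe_union, Finset.coe_image]
      exact Or.inr ⟨t, ht, rfl⟩
    exact h1 ⟨b, hb, rfl⟩
  let e₀ : B₀ →ₐ[A₀] A := e''.codRestrict A he''
  let ε : R ⊗[A] (A ⊗[A₀] B₀) ≃ₐ[R] R ⊗[A₀] B₀ := Algebra.TensorProduct.cancelBaseChange A₀ A R R B₀
  refine ⟨A, inferInstance, hNA, inferInstance, A ⊗[A₀] B₀, inferInstance, inferInstance, inferInstance,
    ε.trans ι₀.symm, Algebra.TensorProduct.lift (AlgHom.id A A) e₀ (fun _ _ => Commute.all _ _), ?_, ?_, ?_⟩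
  · exact Subtype.val_injective
  · intro x
    induction x with
    | zero => simp
    | add x y hx hy =>
      rw [TensorProduct.tmul_add, map_add, map_add, hx, hy, map_add, map_add]
    | tmul a b =>
      have h1 : ε ((1 : R) ⊗ₜ[A] (a ⊗ₜ[A₀] b)) = (a : R) ⊗ₜ[A₀] b := by
        simp only [ε, Algebra.TensorProduct.cancelBaseChange_tmul]
        rw [Algebra.smul_def, mul_one]
        rfl
      have h2 : (a : R) ⊗ₜ[A₀] b = (a : R) • ((1 : R) ⊗ₜ[A₀] b) := by
        rw [TensorProduct.smul_tmul', smul_eq_mul, mul_one]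
      have h3 : e (ι₀.symm ((a : R) ⊗ₜ[A₀] b)) = (a : R) * e'' b := by
        rw [h2, map_smul, map_smul, smul_eq_mul]
        rfl
      rw [AlgEquiv.trans_apply, h1, h3]
      simp only [Algebra.TensorProduct.lift_tmul, AlgHom.coe_id, id_eq]
      rw [map_mul]
      rfl
  · intro x hx
    obtain ⟨z₁, hz₁⟩ := hS (ι₀ x) A (by
      refine Set.Subset.trans ?_ hSA
      intro y hy
      simp only [S', Finset.coe_union]
      left
      simp only [Finset.coe_biUnion, Set.mem_iUnion]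
      exact ⟨x, hx, hy⟩)
    refine ⟨z₁, ?_⟩
    rw [AlgEquiv.trans_apply]
    have h1 : ∀ z₁ : A ⊗[A₀] B₀, ε ((1 : R) ⊗ₜ[A] z₁) = Algebra.TensorProduct.map A.val (AlgHom.id A₀ B₀) z₁ := by
      intro z₁
      induction z₁ with
      | zero => simp
      | add x y hx hy => rw [TensorProduct.tmul_add, map_add, map_add, hx, hy]
      | tmul a b =>
        simp only [ε, Algebra.TensorProduct.cancelBaseChange_tmul, Algebra.TensorProduct.map_tmul]
        rw [Algebra.smul_def, mul_one]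
        rfl
    rw [h1, hz₁, AlgEquiv.symm_apply_apply]

end Groth.Agent.Sga3A.SmoothDescent
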