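import Groth.Agent.Sga3A.BCIso
import Groth.Agent.Sga3A.GLBasic
import Groth.Agent.Etbase.SpreadAlg
import Mathlib.RingTheory.Localization.BaseChange
import Mathlib.RingTheory.FiniteStability
import Mathlib.GroupTheory.Finiteness

/-!
# Spreading out isomorphisms of finitely presented bialgebras from a localization

* `exists_bialgEquiv`: `B` a ring, `T` a submonoid, `L = T⁻¹ B`, `X`, `Y` finitely presented commutative
  `B`-bialgebras, `L ⊗ Y ≃ L ⊗ X` as bialgebras ⇒ there is `t ∈ T` such that `B' ⊗ Y ≃ B' ⊗ X` for all `B`-algebras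
  `B'` in which `t` is invertible.
* `exists_isDiag`: the case `X = B[M]`.
-/

set_option autoImplicit false
universe u
open TensorProduct

namespace Groth.Agent.Sga3A.SpreadDiag

open Groth.Agent.Etbase.SpreadAlg Groth.Agent.Sga3A.BCIso Groth.Agent.Sga3A.GLBasic

variable {B : Type u} [CommRing B] (T : Submonoid B) (L : Type u) [CommRing L] [Algebra B L] [IsLocalization T L]

include T in
lemma exists_smul_eq_zero {Y : Type u} [AddCommGroup Y] [Module B Y] (y : Y)
    (h : (1 : L) ⊗ₜ[B] y = 0) : ∃ t ∈ T, t • y = 0 := by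
  have : IsLocalizedModule T (TensorProduct.mk B L Y 1) := inferInstance
  obtain ⟨⟨t, ht⟩, h1⟩ := (IsLocalizedModule.eq_zero_iff T (TensorProduct.mk B L Y 1) (m := y)).mp h
  exact ⟨t, ht, h1⟩

/-- two maps from a finite type algebra which agree over `L` agree over `B[1/t]` -/
lemma exists_eq {X Y : Type u} [CommRing X] [Algebra B X] [CommRing Y] [Algebra B Y] [Algebra.FiniteType B X]
    (f g : X →ₐ[B] Y) (h : ∀ x, (1 : L) ⊗ₜ[B] f x = (1 : L) ⊗ₜ[B] g x) :
    ∃ t ∈ T, ∀ (B' : Type u) [CommRing B'] [Algebra B B'], IsUnit (algebraMap B B' t) →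
      ∀ x, (1 : B') ⊗ₜ[B] f x = (1 : B') ⊗ₜ[B] g x := by
  classical
  obtain ⟨S, hS⟩ := Algebra.FiniteType.out (R := B) (A := X)
  have h1 : ∀ x : X, ∃ t ∈ T, t • (f x - g x) = 0 := fun x =>
    exists_smul_eq_zero T L _ (by rw [TensorProduct.tmul_sub, h x, sub_self])
  choose t ht htx using h1
  refine ⟨∏ x ∈ S, t x, T.prod_mem fun x _ => ht x, ?_⟩
  intro B' _ _ hu x
  let F : X →ₐ[B] B' ⊗[B] Y := (Algebra.TensorProduct.includeRight : Y →ₐ[B] B' ⊗[B] Y).comp f
  let G : X →ₐ[B] B' ⊗[B] Y := (Algebra.TensorProduct.includeRight : Y →ₐ[B] B' ⊗[B] Y).comp g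
  have h2 : F = G := by
    apply AlgHom.ext_of_adjoin_eq_top hS
    intro x hx
    have h3 : IsUnit (algebraMap B B' (t x)) := by
      rw [map_prod] at hu
      exact isUnit_of_dvd_unit (Finset.dvd_prod_of_mem (fun x => algebraMap B B' (t x)) hx) hu
    have h4 : (algebraMap B B' (t x)) • ((1 : B') ⊗ₜ[B] f x - (1 : B') ⊗ₜ[B] g x) = 0 := by
      rw [← TensorProduct.tmul_sub, algebraMap_smul, ← TensorProduct.tmul_smul, htx x, TensorProduct.tmul_zero]
    have h5 := (h3.smul_eq_zero).mp h4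
    exact sub_eq_zero.mp h5
  exact DFunLike.congr_fun h2 x

/-- the map of `B`-algebras `B[1/t] → B'` -/
lemma awayTo_comp (B' : Type u) [CommRing B'] [Algebra B B'] (m : B)
    (f g : Localization.Away m →ₐ[B] B') : f = g := by
  apply AlgHom.coe_ringHom_injective
  apply IsLocalization.ringHom_ext (Submonoid.powers m)
  ext r
  simp

/-- maps from a finitely presented algebra spread out -/
lemma exists_lift {X Y : Type u} [CommRing X] [Algebra B X] [CommRing Y] [Algebra B Y]
    [Algebra.FinitePresentation B X] (φ : X →ₐ[B] L ⊗[B] Y) :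
    ∃ (t : B) (ht : t ∈ T) (ψ : X →ₐ[B] Localization.Away t ⊗[B] Y),
      ∀ x, Algebra.TensorProduct.map (awayTo T L t ht) (AlgHom.id B Y) (ψ x) = φ x := by
  let φ1 : Y ⊗[B] X →ₐ[Y] Y ⊗[B] L := Algebra.TensorProduct.lift (Algebra.ofId Y _)
    (((Algebra.TensorProduct.comm B L Y) : L ⊗[B] Y →ₐ[B] Y ⊗[B] L).comp φ) (fun _ _ => .all _ _)
  obtain ⟨m, hm, ψ, hψ⟩ := exists_lift_away (R := Y) (A := Y ⊗[B] X) (Algebra.algebraMapSubmonoid Y T)
    (Y ⊗[B] L) φ1
  obtain ⟨t, ht, rfl⟩ := hm
  let ε : Localization.Away (algebraMap B Y t) →ₐ[Y] Y ⊗[B] Localization.Away t :=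
    IsLocalization.liftAlgHom (M := Submonoid.powers (algebraMap B Y t))
      (f := Algebra.ofId Y (Y ⊗[B] Localization.Away t)) (by
        rintro ⟨_, n, rfl⟩
        change IsUnit (algebraMap Y (Y ⊗[B] Localization.Away t) (algebraMap B Y t ^ n))
        rw [map_pow, ← IsScalarTower.algebraMap_apply B Y]
        apply IsUnit.pow
        have h1 : algebraMap B (Y ⊗[B] Localization.Away t) t =
            (Algebra.TensorProduct.includeRight : Localization.Away t →ₐ[B] Y ⊗[B] Localization.Away t)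
              (algebraMap B _ t) := (AlgHom.commutes _ t).symm
        rw [h1]
        exact (IsLocalization.Away.algebraMap_isUnit t).map _)
  refine ⟨t, ht, (((Algebra.TensorProduct.comm B (Y) (Localization.Away t)) :
    Y ⊗[B] Localization.Away t →ₐ[B] Localization.Away t ⊗[B] Y).comp
      (((ε.comp ψ).restrictScalars B).comp Algebra.TensorProduct.includeRight)), ?_⟩
  intro x
  have h1 : ((Algebra.TensorProduct.map (AlgHom.id Y Y) (awayTo T L t ht)).comp ε) =
      awayTo (Algebra.algebraMapSubmonoid Y T) (Y ⊗[B] L) (algebraMap B Y t)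
        (Algebra.mem_algebraMapSubmonoid_of_mem ⟨t, ht⟩) := by
    apply AlgHom.coe_ringHom_injective
    apply IsLocalization.ringHom_ext (Submonoid.powers (algebraMap B Y t))
    ext r
    simp
  have h2 : ∀ z : Y ⊗[B] Localization.Away t,
      Algebra.TensorProduct.map (awayTo T L t ht) (AlgHom.id B Y) (Algebra.TensorProduct.comm B _ _ z) =
      Algebra.TensorProduct.comm B _ _ (Algebra.TensorProduct.map (AlgHom.id Y Y) (awayTo T L t ht) z) := by
    intro z
    induction z using TensorProduct.induction_on with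
    | zero => simp
    | tmul a b => simp
    | add a b ha hb => simp only [map_add, ha, hb]
  change Algebra.TensorProduct.map (awayTo T L t ht) (AlgHom.id B Y)
    (Algebra.TensorProduct.comm B _ _ (ε (ψ (1 ⊗ₜ x)))) = φ x
  rw [h2]
  have h3 : Algebra.TensorProduct.map (AlgHom.id Y Y) (awayTo T L t ht) (ε (ψ (1 ⊗ₜ[B] x))) =
      φ1 (1 ⊗ₜ x) := by
    have h4 := DFunLike.congr_fun h1 (ψ (1 ⊗ₜ[B] x))
    have h5 := DFunLike.congr_fun hψ (1 ⊗ₜ[B] x)
    exact h4.trans h5
  rw [h3]
  have h6 : φ1 (1 ⊗ₜ x) = Algebra.TensorProduct.comm B L Y (φ x) := by simp [φ1, ← Algebra.TensorProduct.one_def]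
  rw [h6]
  exact (Algebra.TensorProduct.comm B L Y).symm_apply_apply (φ x)

/-- the core: algebra maps in both directions over `B` inducing mutually inverse bialgebra isomorphisms over `L` -/
lemma core {X Y : Type u} [CommRing X] [CommRing Y] [Bialgebra B X] [Bialgebra B Y]
    [Algebra.FiniteType B X] [Algebra.FiniteType B Y] (ψ : X →ₐ[B] Y) (φ : Y →ₐ[B] X)
    (e : L ⊗[B] Y ≃ₐc[L] L ⊗[B] X) (hφ : ∀ y, (1 : L) ⊗ₜ[B] φ y = e (1 ⊗ₜ y))
    (hψ : ∀ x, (1 : L) ⊗ₜ[B] ψ x = e.symm (1 ⊗ₜ x)) :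
    ∃ t ∈ T, ∀ (B' : Type u) [CommRing B'] [Algebra B B'], IsUnit (algebraMap B B' t) →
      Nonempty (B' ⊗[B] X ≃ₐc[B'] B' ⊗[B] Y) := by
  -- four equalities
  have hφL : ∀ (z : L ⊗[B] Y), Algebra.TensorProduct.map (AlgHom.id L L) φ z = e z := by
    intro z
    induction z using TensorProduct.induction_on with
    | zero => simp
    | tmul a b =>
      have : a ⊗ₜ[B] b = a • ((1 : L) ⊗ₜ[B] b) := by simp [TensorProduct.smul_tmul']
      rw [this, map_smul, map_smul]
      simp only [Algebra.TensorProduct.map_tmul, AlgHom.id_apply]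
      rw [hφ]
    | add a b ha hb => rw [map_add, map_add, ha, hb]
  have hψL : ∀ (z : L ⊗[B] X), Algebra.TensorProduct.map (AlgHom.id L L) ψ z = e.symm z := by
    intro z
    induction z using TensorProduct.induction_on with
    | zero => simp
    | tmul a b =>
      have : a ⊗ₜ[B] b = a • ((1 : L) ⊗ₜ[B] b) := by simp [TensorProduct.smul_tmul']
      rw [this, map_smul, map_smul]
      simp only [Algebra.TensorProduct.map_tmul, AlgHom.id_apply]
      rw [hψ]
    | add a b ha hb => rw [map_add, map_add, ha, hb]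
  obtain ⟨t1, ht1, H1⟩ := exists_eq T L (φ.comp ψ) (AlgHom.id B X) (by
    intro x
    rw [AlgHom.comp_apply, hφ, hψ, AlgHom.id_apply]
    exact e.apply_symm_apply _)
  obtain ⟨t2, ht2, H2⟩ := exists_eq T L (ψ.comp φ) (AlgHom.id B Y) (by
    intro x
    rw [AlgHom.comp_apply, hψ, hφ, AlgHom.id_apply]
    exact e.symm_apply_apply _)
  obtain ⟨t3, ht3, H3⟩ := exists_eq T L ((Bialgebra.counitAlgHom B Y).comp ψ) (Bialgebra.counitAlgHom B X) (by
    intro x
    simp only [AlgHom.comp_apply, Bialgebra.counitAlgHom_apply]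
    have h1 : Coalgebra.counit (R := L) ((1 : L) ⊗ₜ[B] ψ x) = Coalgebra.counit (R := L) ((1 : L) ⊗ₜ[B] x) := by
      rw [hψ]
      exact CoalgHomClass.counit_comp_apply e.symm _
    rw [counit_one_tmul, counit_one_tmul] at h1
    have h2 : ∀ b : B, (1 : L) ⊗ₜ[B] b = (algebraMap B L b) ⊗ₜ[B] (1 : B) := by
      intro b
      rw [Algebra.algebraMap_eq_smul_one, TensorProduct.smul_tmul, smul_eq_mul, mul_one]
    rw [h2, h2, h1])
  obtain ⟨t4, ht4, H4⟩ := exists_eq T L ((Bialgebra.comulAlgHom B Y).comp ψ)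
    ((Algebra.TensorProduct.map ψ ψ).comp (Bialgebra.comulAlgHom B X)) (by
    intro x
    simp only [AlgHom.comp_apply, Bialgebra.comulAlgHom_apply]
    apply (TensorProduct.AlgebraTensorModule.distribBaseChange B L Y Y).injective
    rw [← comul_one_tmul, hψ]
    have h1 := CoalgHomClass.map_comp_comul_apply e.symm ((1 : L) ⊗ₜ[B] x)
    rw [← h1, comul_one_tmul]
    generalize Coalgebra.comul (R := B) x = z
    induction z using TensorProduct.induction_on with
    | zero => simp
    | tmul a b =>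
      simp [hψ]
    | add a b ha hb => simp only [TensorProduct.tmul_add, map_add, ha, hb])
  refine ⟨t1 * t2 * (t3 * t4), T.mul_mem (T.mul_mem ht1 ht2) (T.mul_mem ht3 ht4), ?_⟩
  intro B' _ _ hu
  rw [map_mul, map_mul, map_mul] at hu
  have hu1 := isUnit_of_mul_isUnit_left (isUnit_of_mul_isUnit_left hu)
  have hu2 := isUnit_of_mul_isUnit_right (isUnit_of_mul_isUnit_left hu)
  have hu3 := isUnit_of_mul_isUnit_left (isUnit_of_mul_isUnit_right hu)
  have hu4 := isUnit_of_mul_isUnit_right (isUnit_of_mul_isUnit_right hu)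
  have K1 := H1 B' hu1
  have K2 := H2 B' hu2
  have K3 := H3 B' hu3
  have K4 := H4 B' hu4
  let Ψ : B' ⊗[B] X →ₐ[B'] B' ⊗[B] Y := Algebra.TensorProduct.map (AlgHom.id B' B') ψ
  let Φ : B' ⊗[B] Y →ₐ[B'] B' ⊗[B] X := Algebra.TensorProduct.map (AlgHom.id B' B') φ
  let E : B' ⊗[B] X ≃ₐ[B'] B' ⊗[B] Y := AlgEquiv.ofAlgHom Ψ Φ
    (by
      apply Algebra.TensorProduct.ext
      · ext
      · ext y
        simpa [Ψ, Φ] using K2 y)
    (by
      apply Algebra.TensorProduct.ext
      · ext
      · ext y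
        simpa [Ψ, Φ] using K1 y)
  refine ⟨BialgEquiv.ofAlgEquiv E ?_ ?_⟩
  · apply Algebra.TensorProduct.ext
    · ext
    · ext x
      have h1 := K3 x
      simp only [AlgHom.comp_apply, Bialgebra.counitAlgHom_apply] at h1
      have h2 : Coalgebra.counit (R := B') ((1 : B') ⊗ₜ[B] ψ x) = Coalgebra.counit (R := B') ((1 : B') ⊗ₜ[B] x) := by
        rw [counit_one_tmul, counit_one_tmul]
        have h3 : ∀ b : B, (TensorProduct.rid B B') ((1 : B') ⊗ₜ[B] b) = algebraMap B B' b := by
          intro b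
          simp [Algebra.algebraMap_eq_smul_one]
        rw [← h3, ← h3, h1]
      exact h2
  · apply Algebra.TensorProduct.ext
    · ext
    · ext x
      have h1 := K4 x
      simp only [AlgHom.comp_apply, Bialgebra.comulAlgHom_apply] at h1
      have h2 : Coalgebra.comul (R := B') ((1 : B') ⊗ₜ[B] ψ x) =
          Algebra.TensorProduct.map Ψ Ψ (Coalgebra.comul (R := B') ((1 : B') ⊗ₜ[B] x)) := by
        rw [comul_one_tmul, comul_one_tmul, h1]
        generalize Coalgebra.comul (R := B) x = z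
        induction z using TensorProduct.induction_on with
        | zero => simp
        | tmul a b => simp [Ψ]
        | add a b ha hb => simp only [TensorProduct.tmul_add, map_add, ha, hb]
      exact h2.symm

/-- Spreading out isomorphisms of finitely presented bialgebras from a localization. -/
theorem exists_bialgEquiv {X Y : Type u} [CommRing X] [CommRing Y] [Bialgebra B X] [Bialgebra B Y]
    [Algebra.FinitePresentation B X] [Algebra.FinitePresentation B Y] (e : L ⊗[B] Y ≃ₐc[L] L ⊗[B] X) :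
    ∃ t ∈ T, ∀ (B' : Type u) [CommRing B'] [Algebra B B'], IsUnit (algebraMap B B' t) →
      Nonempty (B' ⊗[B] X ≃ₐc[B'] B' ⊗[B] Y) := by
  obtain ⟨t1, ht1, φ', hφ'⟩ := exists_lift T L
    (((e : L ⊗[B] Y →ₐ[L] L ⊗[B] X).restrictScalars B).comp (Algebra.TensorProduct.includeRight : Y →ₐ[B] L ⊗[B] Y))
  obtain ⟨t2, ht2, ψ', hψ'⟩ := exists_lift T L
    (((e.symm : L ⊗[B] X →ₐ[L] L ⊗[B] Y).restrictScalars B).comp
      (Algebra.TensorProduct.includeRight : X →ₐ[B] L ⊗[B] X))
  have ht : t1 * t2 ∈ T := T.mul_mem ht1 ht2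
  let B1 := Localization.Away (t1 * t2)
  have hu : IsUnit (algebraMap B B1 (t1 * t2)) := IsLocalization.Away.algebraMap_isUnit _
  have hu1 : IsUnit (algebraMap B B1 t1) := by
    rw [map_mul] at hu
    exact isUnit_of_mul_isUnit_left hu
  have hu2 : IsUnit (algebraMap B B1 t2) := by
    rw [map_mul] at hu
    exact isUnit_of_mul_isUnit_right hu
  let τ1 : Localization.Away t1 →ₐ[B] B1 :=
    IsLocalization.liftAlgHom (M := Submonoid.powers t1) (f := Algebra.ofId B B1) (by
      rintro ⟨_, n, rfl⟩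
      change IsUnit (algebraMap B B1 (t1 ^ n))
      rw [map_pow]
      exact hu1.pow n)
  let τ2 : Localization.Away t2 →ₐ[B] B1 :=
    IsLocalization.liftAlgHom (M := Submonoid.powers t2) (f := Algebra.ofId B B1) (by
      rintro ⟨_, n, rfl⟩
      change IsUnit (algebraMap B B1 (t2 ^ n))
      rw [map_pow]
      exact hu2.pow n)
  let : Algebra B1 L := (awayTo T L (t1 * t2) ht).toRingHom.toAlgebra
  have : IsScalarTower B B1 L := IsScalarTower.of_algebraMap_eq fun r => ((awayTo T L (t1 * t2) ht).commutes r).symm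
  have hloc : IsLocalization (T.map (algebraMap B B1)) L :=
    IsLocalization.isLocalization_of_submonoid_le B1 L (Submonoid.powers (t1 * t2)) T
      (by rw [Submonoid.powers_le]; exact ht)
  let φ1 : B1 ⊗[B] Y →ₐ[B1] B1 ⊗[B] X := Algebra.TensorProduct.lift (Algebra.ofId B1 _)
    ((Algebra.TensorProduct.map τ1 (AlgHom.id B X)).comp φ') (fun _ _ => .all _ _)
  let ψ1 : B1 ⊗[B] X →ₐ[B1] B1 ⊗[B] Y := Algebra.TensorProduct.lift (Algebra.ofId B1 _)
    ((Algebra.TensorProduct.map τ2 (AlgHom.id B Y)).comp ψ') (fun _ _ => .all _ _)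
  let e1 : L ⊗[B1] (B1 ⊗[B] Y) ≃ₐc[L] L ⊗[B1] (B1 ⊗[B] X) :=
    ((cancelBialg B B1 L Y).trans e).trans (cancelBialg B B1 L X).symm
  have key1 : ∀ v : Localization.Away t1 ⊗[B] X,
      cancelBialg B B1 L X ((1 : L) ⊗ₜ[B1] Algebra.TensorProduct.map τ1 (AlgHom.id B X) v) =
        Algebra.TensorProduct.map (awayTo T L t1 ht1) (AlgHom.id B X) v := by
    intro v
    have h0 : awayTo T L t1 ht1 = ((Algebra.ofId B1 L).restrictScalars B).comp τ1 := awayTo_comp _ _ _ _
    induction v using TensorProduct.induction_on with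
    | zero => simp
    | tmul a b =>
      rw [h0]
      simp only [Algebra.TensorProduct.map_tmul, cancelBialg_tmul, one_mul, AlgHom.comp_apply]
      rfl
    | add a b ha hb => rw [map_add, TensorProduct.tmul_add, map_add, map_add, ha, hb]
  have key2 : ∀ v : Localization.Away t2 ⊗[B] Y,
      cancelBialg B B1 L Y ((1 : L) ⊗ₜ[B1] Algebra.TensorProduct.map τ2 (AlgHom.id B Y) v) =
        Algebra.TensorProduct.map (awayTo T L t2 ht2) (AlgHom.id B Y) v := by
    intro v
    have h0 : awayTo T L t2 ht2 = ((Algebra.ofId B1 L).restrictScalars B).comp τ2 := awayTo_comp _ _ _ _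
    induction v using TensorProduct.induction_on with
    | zero => simp
    | tmul a b =>
      rw [h0]
      simp only [Algebra.TensorProduct.map_tmul, cancelBialg_tmul, one_mul, AlgHom.comp_apply]
      rfl
    | add a b ha hb => rw [map_add, TensorProduct.tmul_add, map_add, map_add, ha, hb]
  have hφ1 : ∀ y, (1 : L) ⊗ₜ[B1] φ1 y = e1 (1 ⊗ₜ y) := by
    intro y
    apply (EquivLike.injective (cancelBialg B B1 L X))
    change _ = cancelBialg B B1 L X ((cancelBialg B B1 L X).symm (e (cancelBialg B B1 L Y (1 ⊗ₜ y))))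
    rw [BialgEquiv.apply_symm_apply]
    induction y using TensorProduct.induction_on with
    | zero => simp
    | tmul b y =>
      have h1 : φ1 (b ⊗ₜ y) = b • Algebra.TensorProduct.map τ1 (AlgHom.id B X) (φ' y) := by
        simp only [φ1, Algebra.TensorProduct.lift_tmul, Algebra.smul_def, Algebra.ofId_apply]; rfl
      have h2 : ∀ w : B1 ⊗[B] X, cancelBialg B B1 L X ((1 : L) ⊗ₜ[B1] (b • w)) =
          (algebraMap B1 L b) • cancelBialg B B1 L X ((1 : L) ⊗ₜ[B1] w) := by
        intro w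
        rw [← map_smul, TensorProduct.smul_tmul', TensorProduct.tmul_smul, TensorProduct.smul_tmul',
          Algebra.smul_def, smul_eq_mul]
      rw [h1, h2, key1, hφ']
      simp only [cancelBialg_tmul, one_mul, AlgHom.comp_apply]
      have h3 : (algebraMap B1 L b) ⊗ₜ[B] y = (algebraMap B1 L b) • ((1 : L) ⊗ₜ[B] y) := by
        rw [TensorProduct.smul_tmul', smul_eq_mul, mul_one]
      rw [h3, map_smul]
      rfl
    | add a b ha hb => simp only [map_add, TensorProduct.tmul_add, ha, hb]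
  have hψ1 : ∀ y, (1 : L) ⊗ₜ[B1] ψ1 y = e1.symm (1 ⊗ₜ y) := by
    intro y
    apply (EquivLike.injective (cancelBialg B B1 L Y))
    change _ = cancelBialg B B1 L Y ((cancelBialg B B1 L Y).symm (e.symm (cancelBialg B B1 L X (1 ⊗ₜ y))))
    rw [BialgEquiv.apply_symm_apply]
    induction y using TensorProduct.induction_on with
    | zero => simp
    | tmul b y =>
      have h1 : ψ1 (b ⊗ₜ y) = b • Algebra.TensorProduct.map τ2 (AlgHom.id B Y) (ψ' y) := by
        simp only [ψ1, Algebra.TensorProduct.lift_tmul, Algebra.smul_def, Algebra.ofId_apply]; rfl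
      have h2 : ∀ w : B1 ⊗[B] Y, cancelBialg B B1 L Y ((1 : L) ⊗ₜ[B1] (b • w)) =
          (algebraMap B1 L b) • cancelBialg B B1 L Y ((1 : L) ⊗ₜ[B1] w) := by
        intro w
        rw [← map_smul, TensorProduct.smul_tmul', TensorProduct.tmul_smul, TensorProduct.smul_tmul',
          Algebra.smul_def, smul_eq_mul]
      rw [h1, h2, key2, hψ']
      simp only [cancelBialg_tmul, one_mul, AlgHom.comp_apply]
      have h3 : (algebraMap B1 L b) ⊗ₜ[B] y = (algebraMap B1 L b) • ((1 : L) ⊗ₜ[B] y) := by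
        rw [TensorProduct.smul_tmul', smul_eq_mul, mul_one]
      rw [h3, map_smul]
      rfl
    | add a b ha hb => simp only [map_add, TensorProduct.tmul_add, ha, hb]
  obtain ⟨t', ht', H⟩ := core (T.map (algebraMap B B1)) L ψ1 φ1 e1 hφ1 hψ1
  obtain ⟨s, hs, rfl⟩ := ht'
  refine ⟨t1 * t2 * s, T.mul_mem ht hs, ?_⟩
  intro B' _ _ hB'
  rw [map_mul] at hB'
  have hB1 := isUnit_of_mul_isUnit_left hB'
  have hB2 := isUnit_of_mul_isUnit_right hB'
  let : Algebra B1 B' := (IsLocalization.Away.lift (S := B1) (t1 * t2) hB1).toAlgebra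
  have : IsScalarTower B B1 B' := by
    refine IsScalarTower.of_algebraMap_eq fun r => ?_
    change _ = IsLocalization.Away.lift (S := B1) (t1 * t2) hB1 (algebraMap B _ r)
    rw [IsLocalization.Away.lift_eq]
  obtain ⟨E⟩ := H B' (by rw [← IsScalarTower.algebraMap_apply]; exact hB2)
  exact ⟨((cancelBialg B B1 B' X).symm.trans E).trans (cancelBialg B B1 B' Y)⟩

end Groth.Agent.Sga3A.SpreadDiag
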